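import Mathlib

/-!
# Generic exactness of fibre sequences

Given generic freeness of `(H / im v) × (G / im u) × H`, exactness of `F → G → H` on the generic
fibre spreads out to all fibres over a nonempty basic open.
-/

set_option autoImplicit false
set_option linter.style.haveILetI false
set_option linter.unusedSectionVars false

open TensorProduct

namespace Groth.Agent.H73.GenExact

universe u

/-- If `Q_f` is flat over `R_f`, then an exact sequence `0 → A → B → Q → 0` stays left exact
after tensoring with any `R`-algebra in which `f` is invertible. -/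
theorem lTensor_injective_of_flat_away {R : Type*} [CommRing R] (f : R) {A B Q : Type*}
    [AddCommGroup A] [AddCommGroup B] [AddCommGroup Q] [Module R A] [Module R B] [Module R Q]
    (j : A →ₗ[R] B) (q : B →ₗ[R] Q) (hj : Function.Injective j)
    (hq : Function.Surjective q) (hex : Function.Exact j q)
    [Module.Flat (Localization.Away f) (Localization.Away f ⊗[R] Q)]
    (k : Type*) [CommRing k] [Algebra R k] (hf : IsUnit (algebraMap R k f)) :
    Function.Injective (j.lTensor k) := by
  letI : Algebra (Localization.Away f) k := (IsLocalization.Away.lift f hf).toAlgebra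
  haveI : IsScalarTower R (Localization.Away f) k :=
    IsScalarTower.of_algebraMap_eq (fun x => (IsLocalization.Away.lift_eq f hf x).symm)
  have hj' : Function.Injective (j.baseChange (Localization.Away f)) := by
    rw [LinearMap.baseChange_eq_ltensor]
    exact Module.Flat.lTensor_preserves_injective_linearMap j hj
  have hq' : Function.Surjective (q.baseChange (Localization.Away f)) := by
    rw [LinearMap.baseChange_eq_ltensor]
    exact LinearMap.lTensor_surjective _ hq
  have hex' : Function.Exact (j.baseChange (Localization.Away f))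
      (q.baseChange (Localization.Away f)) := by
    rw [LinearMap.baseChange_eq_ltensor, LinearMap.baseChange_eq_ltensor]
    exact lTensor_exact _ hex hq
  have hinj : Function.Injective ((j.baseChange (Localization.Away f)).lTensor k) :=
    LinearMap.lTensor_injective_of_exact_of_flat _ hq' _ hj' hex' k
  have hcomm : ∀ z, AlgebraTensorModule.cancelBaseChange R (Localization.Away f)
      (Localization.Away f) k B (((j.baseChange (Localization.Away f)).lTensor k) z) =
      (j.lTensor k) (AlgebraTensorModule.cancelBaseChange R (Localization.Away f)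
        (Localization.Away f) k A z) := by
    intro z
    induction z using TensorProduct.induction_on with
    | zero => simp
    | tmul x w =>
      induction w using TensorProduct.induction_on with
      | zero => simp
      | tmul a m => simp
      | add w w' hw hw' => simp only [tmul_add, map_add, hw, hw']
    | add z z' hz hz' => simp only [map_add, hz, hz']
  intro x y hxy
  obtain ⟨x, rfl⟩ := (AlgebraTensorModule.cancelBaseChange R (Localization.Away f)
    (Localization.Away f) k A).surjective x
  obtain ⟨y, rfl⟩ := (AlgebraTensorModule.cancelBaseChange R (Localization.Away f)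
    (Localization.Away f) k A).surjective y
  rw [← hcomm, ← hcomm] at hxy
  exact congrArg _ (hinj ((AlgebraTensorModule.cancelBaseChange R (Localization.Away f)
    (Localization.Away f) k B).injective hxy))

theorem tmul_eq_scale {R : Type*} [CommRing R] (f : R) {k : Type*} [Field k] [Algebra R k]
    (hf : algebraMap R k f ≠ 0) {M : Type*} [AddCommGroup M] [Module R M] (y : k) (m : M)
    (n : ℕ) : y ⊗ₜ[R] m = (((algebraMap R k f)⁻¹) ^ n * y) ⊗ₜ[R] (f ^ n • m) := by
  rw [TensorProduct.tmul_smul, TensorProduct.smul_tmul', Algebra.smul_def, map_pow, ← mul_assoc,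
    ← mul_pow, mul_inv_cancel₀ hf, one_pow, one_mul]

theorem fibre_exact {R : Type*} [CommRing R] (f : R) {F G H Q : Type*} [AddCommGroup F]
    [AddCommGroup G] [AddCommGroup H] [AddCommGroup Q] [Module R F] [Module R G] [Module R H]
    [Module R Q] (u : F →ₗ[R] G) (v : G →ₗ[R] H) (q : H →ₗ[R] Q) (hq : Function.Surjective q)
    (hvq : Function.Exact v q)
    (h1 : ∀ x, ∃ n : ℕ, f ^ n • v (u x) = 0)
    (h2 : ∀ t, v t = 0 → ∃ n : ℕ, f ^ n • t ∈ LinearMap.range u)
    [Module.Flat (Localization.Away f) (Localization.Away f ⊗[R] Q)]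
    (k : Type*) [Field k] [Algebra R k] (hf : algebraMap R k f ≠ 0) :
    Function.Exact (u.lTensor k) (v.lTensor k) := by
  have hfu : IsUnit (algebraMap R k f) := isUnit_iff_ne_zero.mpr hf
  have hιv : (LinearMap.range v).subtype ∘ₗ v.rangeRestrict = v := LinearMap.ext fun _ => rfl
  have hιq : Function.Exact (LinearMap.range v).subtype q := by
    intro h
    rw [hvq h]
    constructor
    · rintro ⟨g, rfl⟩
      exact ⟨⟨v g, LinearMap.mem_range_self v g⟩, rfl⟩
    · rintro ⟨⟨_, g, rfl⟩, rfl⟩
      exact ⟨g, rfl⟩
  have hιinj : Function.Injective ((LinearMap.range v).subtype.lTensor k) :=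
    lTensor_injective_of_flat_away f _ q (Submodule.injective_subtype _) hq hιq k hfu
  have hexT : Function.Exact ((LinearMap.ker v).subtype.lTensor k) (v.rangeRestrict.lTensor k) := by
    refine lTensor_exact k ?_ (LinearMap.surjective_rangeRestrict v)
    intro g
    constructor
    · intro hg
      exact ⟨⟨g, by rw [LinearMap.mem_ker]; exact congrArg Subtype.val hg⟩, rfl⟩
    · rintro ⟨⟨t, ht⟩, rfl⟩
      exact Subtype.ext ht
  have hkey : ∀ w, ((LinearMap.ker v).subtype.lTensor k) w ∈ LinearMap.range (u.lTensor k) := by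
    intro w
    induction w using TensorProduct.induction_on with
    | zero => simp
    | tmul y t =>
      obtain ⟨n, x, hx⟩ := h2 t.1 (LinearMap.mem_ker.mp t.2)
      rw [LinearMap.lTensor_tmul, Submodule.subtype_apply, tmul_eq_scale f hf y (t : G) n, ← hx,
        ← LinearMap.lTensor_tmul]
      exact LinearMap.mem_range_self _ _
    | add w w' hw hw' =>
      rw [map_add]
      exact Submodule.add_mem _ hw hw'
  intro z
  constructor
  · intro hz
    have hz1 : ((LinearMap.range v).subtype.lTensor k) ((v.rangeRestrict.lTensor k) z) = 0 := by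
      rw [← LinearMap.comp_apply, ← LinearMap.lTensor_comp, hιv]
      exact hz
    have hz2 : (v.rangeRestrict.lTensor k) z = 0 := hιinj (by rw [hz1, map_zero])
    obtain ⟨w, rfl⟩ := (hexT z).mp hz2
    exact hkey w
  · rintro ⟨w, rfl⟩
    rw [← LinearMap.comp_apply, ← LinearMap.lTensor_comp]
    induction w using TensorProduct.induction_on with
    | zero => simp
    | tmul y x =>
      obtain ⟨n, hn⟩ := h1 x
      rw [LinearMap.lTensor_tmul, LinearMap.comp_apply, tmul_eq_scale f hf y _ n, hn, tmul_zero]
    | add w w' hw hw' => rw [map_add, hw, hw', add_zero]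

theorem exists_smul_eq_zero_of_one_tmul_eq_zero {R : Type*} [CommRing R] [IsDomain R] {M : Type*}
    [AddCommGroup M] [Module R M] {m : M} (h : (1 : FractionRing R) ⊗ₜ[R] m = 0) :
    ∃ r : R, r ≠ 0 ∧ r • m = 0 := by
  obtain ⟨⟨r, hr⟩, hrm⟩ := (IsLocalizedModule.eq_zero_iff (nonZeroDivisors R)
    (TensorProduct.mk R (FractionRing R) M 1)).mp h
  exact ⟨r, nonZeroDivisors.ne_zero hr, hrm⟩

theorem exists_pow_smul_eq_zero_of_free {R : Type*} [CommRing R] [IsDomain R] {f : R}
    (hf : f ≠ 0) {Z : Type*} [AddCommGroup Z] [Module R Z]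
    [Module.Free (Localization.Away f) (Localization.Away f ⊗[R] Z)] {r : R} (hr : r ≠ 0) {z : Z}
    (hz : r • z = 0) : ∃ n : ℕ, f ^ n • z = 0 := by
  have hle : Submonoid.powers f ≤ nonZeroDivisors R := powers_le_nonZeroDivisors_of_noZeroDivisors hf
  have hinj : Function.Injective (algebraMap R (Localization.Away f)) :=
    IsLocalization.injective _ hle
  haveI : IsDomain (Localization.Away f) := IsLocalization.isDomain_localization hle
  have hr' : algebraMap R (Localization.Away f) r ∈ nonZeroDivisors (Localization.Away f) :=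
    mem_nonZeroDivisors_of_ne_zero ((map_ne_zero_iff _ hinj).mpr hr)
  have hreg := Module.Flat.isSMulRegular_of_nonZeroDivisors
    (M := Localization.Away f ⊗[R] Z) hr'
  have h0 : (1 : Localization.Away f) ⊗ₜ[R] z = 0 := by
    refine hreg ?_
    change algebraMap R (Localization.Away f) r • ((1 : Localization.Away f) ⊗ₜ[R] z) =
      algebraMap R (Localization.Away f) r • 0
    rw [smul_zero, algebraMap_smul, ← TensorProduct.tmul_smul, hz, tmul_zero]
  obtain ⟨⟨_, n, rfl⟩, hn⟩ := (IsLocalizedModule.eq_zero_iff (Submonoid.powers f)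
    (TensorProduct.mk R (Localization.Away f) Z 1)).mp h0
  exact ⟨n, hn⟩

theorem main {R B : Type u} [CommRing R] [IsDomain R] [CommRing B] [Algebra R B]
    {F G H : Type u} [AddCommGroup F] [Module B F] [Module R F] [IsScalarTower R B F]
    [AddCommGroup G] [Module B G] [Module R G] [IsScalarTower R B G]
    [AddCommGroup H] [Module B H] [Module R H] [IsScalarTower R B H]
    (u : F →ₗ[B] G) (v : G →ₗ[B] H)
    (hgen : Function.Exact ((u.restrictScalars R).baseChange (FractionRing R))
      ((v.restrictScalars R).baseChange (FractionRing R)))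
    (hgf : ∃ f : R, f ≠ 0 ∧ Module.Free (Localization.Away f) (Localization.Away f ⊗[R]
      ((H ⧸ LinearMap.range v) × (G ⧸ LinearMap.range u) × H))) :
    ∃ f : R, f ≠ 0 ∧ ∀ p : PrimeSpectrum R, f ∉ p.asIdeal →
      Function.Exact ((u.restrictScalars R).baseChange p.asIdeal.ResidueField)
        ((v.restrictScalars R).baseChange p.asIdeal.ResidueField) := by
  obtain ⟨f, hf0, hfree⟩ := hgf
  refine ⟨f, hf0, fun p hp => ?_⟩
  haveI := hfree
  -- torsion facts on the generic fibre
  have hi' : ∀ x : F, ∃ r : R, r ≠ 0 ∧ r • v (u x) = 0 := by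
    intro x
    have := hgen.apply_apply_eq_zero ((1 : FractionRing R) ⊗ₜ[R] x)
    rw [LinearMap.baseChange_tmul, LinearMap.baseChange_tmul] at this
    exact exists_smul_eq_zero_of_one_tmul_eq_zero this
  have hii' : ∀ t : G, v t = 0 → ∃ r : R, r ≠ 0 ∧ ∃ y : F, u y = r • t := by
    intro t ht
    have h : ((v.restrictScalars R).baseChange (FractionRing R)) ((1 : FractionRing R) ⊗ₜ[R] t)
        = 0 := by
      rw [LinearMap.baseChange_tmul]
      change (1 : FractionRing R) ⊗ₜ[R] v t = 0
      rw [ht, tmul_zero]
    obtain ⟨w, hw⟩ := (hgen _).mp h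
    obtain ⟨⟨y, s⟩, hs⟩ := IsLocalizedModule.surj (nonZeroDivisors R)
      (TensorProduct.mk R (FractionRing R) F 1) w
    have hs' : (s : R) • w = (1 : FractionRing R) ⊗ₜ[R] y := hs
    have h0 : (1 : FractionRing R) ⊗ₜ[R] ((s : R) • t - u y) = 0 := by
      have e1 : (1 : FractionRing R) ⊗ₜ[R] ((s : R) • t) =
          ((u.restrictScalars R).baseChange (FractionRing R)) ((s : R) • w) := by
        rw [LinearMap.map_smul_of_tower, hw, tmul_smul]
      rw [tmul_sub, e1, hs', LinearMap.baseChange_tmul]
      exact sub_self _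
    obtain ⟨r, hr, hrm⟩ := exists_smul_eq_zero_of_one_tmul_eq_zero h0
    refine ⟨r * s, mul_ne_zero hr (nonZeroDivisors.ne_zero s.2), r • y, ?_⟩
    rw [smul_sub, sub_eq_zero] at hrm
    rw [mul_smul, hrm]
    exact (LinearMap.map_smul_of_tower u r y)
  -- spreading out over `D(f)`
  have hi : ∀ x : F, ∃ n : ℕ, f ^ n • (v.restrictScalars R) ((u.restrictScalars R) x) = 0 := by
    intro x
    obtain ⟨r, hr, hrx⟩ := hi' x
    obtain ⟨n, hn⟩ := exists_pow_smul_eq_zero_of_free hf0 hr
      (z := ((0 : H ⧸ LinearMap.range v), (0 : G ⧸ LinearMap.range u), v (u x)))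
      (by rw [Prod.smul_mk, Prod.smul_mk, smul_zero, smul_zero, hrx]; rfl)
    refine ⟨n, ?_⟩
    have := congrArg (fun z => z.2.2) hn
    exact this
  have hii : ∀ t : G, (v.restrictScalars R) t = 0 →
      ∃ n : ℕ, f ^ n • t ∈ LinearMap.range (u.restrictScalars R) := by
    intro t ht
    obtain ⟨r, hr, y, hy⟩ := hii' t ht
    obtain ⟨n, hn⟩ := exists_pow_smul_eq_zero_of_free hf0 hr
      (z := ((0 : H ⧸ LinearMap.range v), (Submodule.Quotient.mk t : G ⧸ LinearMap.range u),
        (0 : H)))
      (by
        rw [Prod.smul_mk, Prod.smul_mk, smul_zero, smul_zero, ← Submodule.Quotient.mk_smul,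
          (Submodule.Quotient.mk_eq_zero (LinearMap.range u)).mpr (LinearMap.mem_range.mpr ⟨y, hy⟩)]
        rfl)
    refine ⟨n, ?_⟩
    have h1 := congrArg (fun z => z.2.1) hn
    simp only [Prod.smul_snd, Prod.smul_fst] at h1
    rw [← Submodule.Quotient.mk_smul] at h1
    obtain ⟨x, hx⟩ := (Submodule.Quotient.mk_eq_zero _).mp h1
    exact ⟨x, hx⟩
  -- flatness of the cokernel of `v`
  haveI : Module.Flat (Localization.Away f) (Localization.Away f ⊗[R] (H ⧸ LinearMap.range v)) := by
    refine Module.Flat.of_retract
      ((LinearMap.inl R (H ⧸ LinearMap.range v) ((G ⧸ LinearMap.range u) × H)).baseChange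
        (Localization.Away f))
      ((LinearMap.fst R (H ⧸ LinearMap.range v) ((G ⧸ LinearMap.range u) × H)).baseChange
        (Localization.Away f)) ?_
    rw [← LinearMap.baseChange_comp, LinearMap.fst_comp_inl, LinearMap.baseChange_id]
  have hfp : algebraMap R p.asIdeal.ResidueField f ≠ 0 := by
    rw [Ne, Ideal.algebraMap_residueField_eq_zero]
    exact hp
  have := fibre_exact f (u.restrictScalars R) (v.restrictScalars R)
    ((LinearMap.range v).mkQ.restrictScalars R) (Submodule.mkQ_surjective _)
    (by
      intro h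
      change Submodule.Quotient.mk h = 0 ↔ _
      rw [Submodule.Quotient.mk_eq_zero]
      rfl) hi hii p.asIdeal.ResidueField hfp
  rw [LinearMap.baseChange_eq_ltensor, LinearMap.baseChange_eq_ltensor]
  exact this

end Groth.Agent.H73.GenExact
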