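import Groth.Agent.S4546
import Groth.Agent.H96.CartierRel
import Groth.Agent.H13.PBasisKaehler

/-!
# Derivations detecting non-`p`-th powers in finite extensions (Stacks 07PH, field step) (helper73)
-/

set_option autoImplicit false
set_option linter.unusedSectionVars false
set_option linter.style.haveILetI false
universe u

namespace Groth.Agent.H73.GRDeriv

open KaehlerDifferential

variable (p : ℕ) [Fact p.Prime]

theorem exists_derivation_of_not_mem {F L : Type u} [Field F] [Field L] [Algebra F L]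
    [CharP F p] [CharP L p] (f : L) (hnot : f ∉ EGA41.pPowerSubalgebra p F L) :
    ∃ D₁ : Derivation F L L, D₁ f ≠ 0 := by
  classical
  have hD : D F L f ≠ 0 := by
    intro h0
    apply hnot
    have h1 : f ∈ Algebra.adjoin (EGA41.pPowerSubalgebra p F L) (∅ : Set L) := by
      rw [Groth.Agent.H13.PB.mem_adjoin_iff_D_mem_span, h0]
      exact Submodule.zero_mem _
    rw [Algebra.adjoin_empty, Algebra.mem_bot] at h1
    obtain ⟨r, hr⟩ := h1
    rw [← hr]
    exact r.2
  obtain ⟨φ, hφ⟩ : ∃ φ : Module.Dual L (Ω[L⁄F]), φ (D F L f) ≠ 0 := by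
    by_contra hall
    push Not at hall
    exact hD ((Module.forall_dual_apply_eq_zero_iff L _).1 hall)
  exact ⟨φ.compDer (D F L), hφ⟩

variable {K L : Type u} [Field K] [Field L] [Algebra K L] [CharP K p]
  [CharP L p] [Algebra.EssFiniteType K L]
  {ι : Type u} [Preorder ι] [IsDirected ι (· ≤ ·)] [Nonempty ι]

theorem exists_derivation_field (E : ι → Subfield K) (hE : Antitone E)
    (hpow : ∀ i (y : K), y ^ p ∈ E i)
    (hinter : ∀ x : K, (∀ i, x ∈ E i) → ∃ y : K, y ^ p = x)
    (f : L) (hf : ∀ y : L, y ^ p ≠ f) :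
    ∃ (i : ι) (D₁ : Derivation ℤ L L), D₁ f ≠ 0 ∧ ∀ c ∈ E i, D₁ (algebraMap K L c) = 0 := by
  classical
  -- the base field `k₀ = K^p`
  set k₀ : Subfield K := (frobenius K p).fieldRange with hk₀
  have hk₀mem : ∀ x : K, x ∈ k₀ ↔ ∃ y : K, y ^ p = x := fun x => by
    rw [hk₀, RingHom.mem_fieldRange]
    simp only [frobenius_def]
  letI : Algebra k₀ L := ((algebraMap K L).comp k₀.subtype).toAlgebra
  haveI : @IsScalarTower k₀ K L Algebra.toSMul Algebra.toSMul Algebra.toSMul :=
    IsScalarTower.of_algebraMap_eq (fun _ => rfl)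
  let kI : ι → IntermediateField k₀ K := fun i =>
    Subfield.toIntermediateField (E i) (fun x => by
      obtain ⟨y, hy⟩ := (hk₀mem x.1).1 x.2
      show x.1 ∈ E i
      rw [← hy]
      exact hpow i y)
  have hanti : Antitone kI := fun i j hij x hx => hE hij hx
  have hbotK : IntermediateField.adjoin k₀ (Set.range fun y : K => y ^ p) = ⊥ := by
    rw [IntermediateField.adjoin_eq_bot_iff]
    rintro _ ⟨y, rfl⟩
    exact ⟨⟨y ^ p, (hk₀mem _).2 ⟨y, rfl⟩⟩, rfl⟩
  have h : (⨅ i, kI i ⊔ IntermediateField.adjoin k₀ (Set.range fun y : K => y ^ p)) =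
      IntermediateField.adjoin k₀ (Set.range fun y : K => y ^ p) := by
    rw [hbotK]
    simp only [sup_bot_eq]
    rw [eq_bot_iff]
    intro x hx
    have hx' : ∀ i, x ∈ E i := by
      intro i
      have := (iInf_le kI i) hx
      exact this
    obtain ⟨y, hy⟩ := hinter x hx'
    exact ⟨⟨x, (hk₀mem _).2 ⟨y, hy⟩⟩, rfl⟩
  haveI : Module.Finite L (EGA41.imperfection k₀ K L) :=
    (Groth.Agent.H96.Cartier.cartier_rel k₀ K L).2.1
  have hconc := Groth.Agent.S4546.result p kI hanti h (L := L)
  -- `f ∉ k₀(L^p)`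
  have hfnot : f ∉ IntermediateField.adjoin k₀ (Set.range fun y : L => y ^ p) := by
    intro hfm
    let Lp : IntermediateField k₀ L :=
      Subfield.toIntermediateField (frobenius L p).fieldRange (fun x => by
        obtain ⟨y, hy⟩ := (hk₀mem x.1).1 x.2
        refine ⟨algebraMap K L y, ?_⟩
        rw [frobenius_def, ← map_pow, hy]
        rfl)
    have hle : IntermediateField.adjoin k₀ (Set.range fun y : L => y ^ p) ≤ Lp := by
      rw [IntermediateField.adjoin_le_iff]
      rintro _ ⟨y, rfl⟩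
      exact ⟨y, rfl⟩
    obtain ⟨y, hy⟩ := hle hfm
    exact hf y hy
  rw [← hconc] at hfnot
  have hex : ∃ i, f ∉ (kI i).map (IsScalarTower.toAlgHom k₀ K L) ⊔
      IntermediateField.adjoin k₀ (Set.range fun y : L => y ^ p) := by
    by_contra hall
    push Not at hall
    apply hfnot
    rw [← SetLike.mem_coe, IntermediateField.coe_iInf, Set.mem_iInter]
    exact hall
  obtain ⟨i, hi⟩ := hex
  refine ⟨i, ?_⟩
  -- the field `F_i = E i` as base
  have hgen : ∀ x : L, x ∈ EGA41.pPowerSubalgebra p (kI i) L →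
      x ∈ (kI i).map (IsScalarTower.toAlgHom k₀ K L) ⊔
        IntermediateField.adjoin k₀ (Set.range fun y : L => y ^ p) := by
    intro x hx
    unfold EGA41.pPowerSubalgebra at hx
    induction hx using Algebra.adjoin_induction with
    | mem x hx =>
      exact (le_sup_right : _ ≤ (kI i).map (IsScalarTower.toAlgHom k₀ K L) ⊔
        IntermediateField.adjoin k₀ (Set.range fun y : L => y ^ p))
        (IntermediateField.subset_adjoin _ _ hx)
    | algebraMap c =>
      exact (le_sup_left : _ ≤ (kI i).map (IsScalarTower.toAlgHom k₀ K L) ⊔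
        IntermediateField.adjoin k₀ (Set.range fun y : L => y ^ p))
        ⟨c.1, c.2, rfl⟩
    | add x y _ _ hx hy => exact add_mem hx hy
    | mul x y _ _ hx hy => exact mul_mem hx hy
  have hnot : f ∉ EGA41.pPowerSubalgebra p (kI i) L := fun hfm => hi (hgen f hfm)
  obtain ⟨D₁, hD₁⟩ := exists_derivation_of_not_mem p (F := kI i) f hnot
  have h2 : ∀ c ∈ E i, D₁ (algebraMap K L c) = 0 := by
    intro c hc
    have : algebraMap K L c = algebraMap (kI i) L ⟨c, hc⟩ := rfl
    rw [this]
    exact Derivation.map_algebraMap _ _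
  exact ⟨D₁.restrictScalars ℤ, hD₁, h2⟩

end Groth.Agent.H73.GRDeriv
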