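import Groth.Agent.H73.GRFamily
import Groth.Agent.H73.GRDerivField

/-!
# Derivations detecting non-`p`-th powers on finite extensions of `k[[x₁..xₙ]]` (Stacks 07PH) (helper73)

`exists_derivation`: if `B` is a domain, finite over `A = k[[x₁, …, xₙ]]` (`char k = p`,
`A → B` injective), and `f ∈ B` is not a `p`-th power in `Frac B`, then there is a derivation
`D : B → B` with `D f ≠ 0`.
-/

set_option autoImplicit false
set_option linter.unusedSectionVars false
set_option linter.style.haveILetI false
universe u

namespace Groth.Agent.H73.GRDeriv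

open Groth.Agent.H73.PFam

/-- A derivation of `Frac B` killing a ring `R` over which `B` is module-finite restricts,
after multiplication by a nonzero element of `B`, to a derivation of `B`. -/
theorem exists_restrict {R B L : Type*} [CommRing R] [CommRing B] [IsDomain B] [Field L]
    [Algebra R B] [Module.Finite R B] [Algebra B L] [IsFractionRing B L]
    (D₁ : Derivation ℤ L L) (hR : ∀ r : R, D₁ (algebraMap B L (algebraMap R B r)) = 0) :
    ∃ (g : B) (D : Derivation ℤ B B), g ≠ 0 ∧
      ∀ b, algebraMap B L (D b) = algebraMap B L g * D₁ (algebraMap B L b) := by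
  classical
  have hψinj : Function.Injective (algebraMap B L) := IsFractionRing.injective B L
  obtain ⟨T, hT⟩ := (Module.Finite.fg_top : (⊤ : Submodule R B).FG)
  obtain ⟨g, hg⟩ := IsLocalization.exist_integer_multiples_of_finset (nonZeroDivisors B)
    (T.image (fun t => D₁ (algebraMap B L t)))
  have key : ∀ b : B, ∃ c : B, algebraMap B L c = algebraMap B L g * D₁ (algebraMap B L b) := by
    intro b
    have hb : b ∈ Submodule.span R (T : Set B) := by rw [hT]; trivial
    induction hb using Submodule.span_induction with
    | mem x hx =>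
      obtain ⟨c, hc⟩ := hg _ (Finset.mem_image_of_mem _ hx)
      refine ⟨c, ?_⟩
      rw [hc, Algebra.smul_def]
    | zero => exact ⟨0, by simp⟩
    | add x y _ _ hx hy =>
      obtain ⟨c, hc⟩ := hx
      obtain ⟨d, hd⟩ := hy
      exact ⟨c + d, by rw [map_add, map_add, map_add, mul_add, hc, hd]⟩
    | smul r x _ hx =>
      obtain ⟨c, hc⟩ := hx
      refine ⟨algebraMap R B r * c, ?_⟩
      rw [Algebra.smul_def, map_mul, map_mul, hc, Derivation.leibniz, hR, smul_zero, add_zero,
        smul_eq_mul]
      ring
  choose δ hδ using key
  let δa : B →+ B :=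
    { toFun := δ
      map_zero' := hψinj (by rw [hδ]; simp)
      map_add' := fun x y => hψinj (by rw [hδ, map_add, map_add, map_add, mul_add, hδ, hδ]) }
  refine ⟨g, { toLinearMap := δa.toIntLinearMap, map_one_eq_zero' := ?_, leibniz' := ?_ },
    nonZeroDivisors.coe_ne_zero g, fun b => hδ b⟩
  · apply hψinj
    show algebraMap B L (δ 1) = algebraMap B L 0
    rw [hδ, map_one, Derivation.map_one_eq_zero, mul_zero, map_zero]
  · intro a b
    apply hψinj
    show algebraMap B L (δ (a * b)) = algebraMap B L (a • δ b + b • δ a)
    rw [hδ, map_add, smul_eq_mul, smul_eq_mul, map_mul (algebraMap B L) a b,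
      map_mul (algebraMap B L) a (δ b), map_mul (algebraMap B L) b (δ a), hδ, hδ,
      Derivation.leibniz, smul_eq_mul, smul_eq_mul]
    ring

/-- Stacks 07PH, key step. -/
theorem exists_derivation (p : ℕ) [Fact p.Prime] (k : Type u) [Field k] [CharP k p] (n : ℕ)
    (B : Type u) [CommRing B] [IsDomain B] [Algebra (MvPowerSeries (Fin n) k) B]
    [Module.Finite (MvPowerSeries (Fin n) k) B]
    (hinj : Function.Injective (algebraMap (MvPowerSeries (Fin n) k) B)) (f : B)
    (hf : ∀ x : FractionRing B, x ^ p ≠ algebraMap B (FractionRing B) f) :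
    ∃ D : Derivation ℤ B B, D f ≠ 0 := by
  classical
  haveI : FaithfulSMul (MvPowerSeries (Fin n) k) B :=
    (faithfulSMul_iff_algebraMap_injective _ _).2 hinj
  have hinjL : Function.Injective (algebraMap (MvPowerSeries (Fin n) k) (FractionRing B)) := by
    rw [IsScalarTower.algebraMap_eq (MvPowerSeries (Fin n) k) B (FractionRing B)]
    exact (IsFractionRing.injective B (FractionRing B)).comp hinj
  haveI : FaithfulSMul (MvPowerSeries (Fin n) k) (FractionRing B) :=
    (faithfulSMul_iff_algebraMap_injective _ _).2 hinjL
  letI : Algebra (FractionRing (MvPowerSeries (Fin n) k)) (FractionRing B) :=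
    FractionRing.liftAlgebra (MvPowerSeries (Fin n) k) (FractionRing B)
  haveI : IsScalarTower (MvPowerSeries (Fin n) k) (FractionRing (MvPowerSeries (Fin n) k))
      (FractionRing B) := FractionRing.isScalarTower_liftAlgebra _ _
  haveI : CharP (FractionRing (MvPowerSeries (Fin n) k)) p :=
    charP_of_injective_algebraMap
      (algebraMap k (FractionRing (MvPowerSeries (Fin n) k))).injective p
  haveI : CharP (FractionRing B) p :=
    charP_of_injective_algebraMap
      (algebraMap (FractionRing (MvPowerSeries (Fin n) k)) (FractionRing B)).injective p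
  haveI : Algebra.EssFiniteType B (FractionRing B) :=
    Algebra.EssFiniteType.of_isLocalization (FractionRing B) (nonZeroDivisors B)
  haveI : Algebra.EssFiniteType (MvPowerSeries (Fin n) k) (FractionRing B) :=
    Algebra.EssFiniteType.comp (MvPowerSeries (Fin n) k) B (FractionRing B)
  haveI : Algebra.EssFiniteType (FractionRing (MvPowerSeries (Fin n) k)) (FractionRing B) :=
    Algebra.EssFiniteType.of_comp (MvPowerSeries (Fin n) k) _ (FractionRing B)
  obtain ⟨J, D₁, hD₁, hkill⟩ := exists_derivation_field p
    (K := FractionRing (MvPowerSeries (Fin n) k)) (L := FractionRing B)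
    (ι := Finset k) (fun J => KJ p k n J) (fun J J' h => KJ_antitone p k n h)
    (fun J y => pow_mem_KJ p k n J y) (exists_pow_eq_of_forall_mem_KJ p k n)
    (algebraMap B (FractionRing B) f) hf
  haveI := finite_F p k J
  haveI : Module.Finite (S p (F p k J) (σ := Fin n)) (MvPowerSeries (Fin n) k) := finite_S p _
  haveI : Module.Finite (S p (F p k J) (σ := Fin n)) B :=
    Module.Finite.trans (MvPowerSeries (Fin n) k) B
  obtain ⟨g, D, hg0, hD⟩ := exists_restrict (R := S p (F p k J) (σ := Fin n)) (B := B)
    (L := FractionRing B) D₁ (fun s => by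
      have h1 : algebraMap B (FractionRing B) (algebraMap (S p (F p k J) (σ := Fin n)) B s) =
          algebraMap (FractionRing (MvPowerSeries (Fin n) k)) (FractionRing B)
            (algebraMap (MvPowerSeries (Fin n) k) (FractionRing (MvPowerSeries (Fin n) k)) s.1) := by
        rw [← IsScalarTower.algebraMap_apply (MvPowerSeries (Fin n) k)
          (FractionRing (MvPowerSeries (Fin n) k)) (FractionRing B),
          IsScalarTower.algebraMap_apply (MvPowerSeries (Fin n) k) B (FractionRing B)]
        rfl
      rw [h1]
      exact hkill _ (algebraMap_mem_KJ p k n J s.2))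
  refine ⟨D, fun h0 => hD₁ ?_⟩
  have h2 := hD f
  rw [h0, map_zero] at h2
  have hgL : algebraMap B (FractionRing B) g ≠ 0 := fun h =>
    hg0 (IsFractionRing.injective B (FractionRing B) (by rw [h, map_zero]))
  exact (mul_eq_zero.1 h2.symm).resolve_left hgL

end Groth.Agent.H73.GRDeriv
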