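import Mathlib
import Groth.Prelude.Def_QFDual
import Groth.Agent.H31.Support
import Groth.Agent.S6283

/-!
helper73: the "different" `QFDual.different R τ = Ann (M / Rτ)` of an element `τ` of a module under
base change `R → R'`, `M → M' = R' ⊗ M` (general module-theoretic part of S8966 / S8967 / S8968).

* `map_different_le` : `𝔇 R' ≤ 𝔇'`.
* `isBaseChange_quotMap` : `M'/R'τ'` is the base change of `M/Rτ`.
* `radical_map_different_eq` : same radical when `M` is finite (uses helper31's support base change).
* `map_different_eq_of_flat` : equality when `R → R'` is flat and `M` finite (uses S6283).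
* `invertible_swap` : `φ x • y = φ y • x` for an invertible module (rank one identity).
* `map_different_eq_of_invertible` : equality when `M` is invertible.
* `isBaseChange_of_isPushout` : in a pushout square `A → A'`, `B → B'`, a `B`-linear map which is an
  `A → A'` base change is a `B → B'` base change.
-/

set_option autoImplicit false
universe u

namespace Groth.Agent.H73.DiffBC

open TensorProduct

section General

variable {R R' M M' : Type u} [CommRing R] [CommRing R'] [Algebra R R']
  [AddCommGroup M] [Module R M] [AddCommGroup M'] [Module R' M'] [Module R M']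
  [IsScalarTower R R' M'] (β : M →ₗ[R] M') (hβ : IsBaseChange R' β) (τ : M)

include hβ in
theorem map_different_le :
    Ideal.map (algebraMap R R') (QFDual.different R τ) ≤ QFDual.different R' (β τ) := by
  rw [Ideal.map_le_iff_le_comap]
  intro b hb
  rw [Ideal.mem_comap, QFDual.mem_different_iff]
  rw [QFDual.mem_different_iff] at hb
  intro m'
  refine hβ.inductionOn m' _ ⟨0, by simp⟩ ?_ ?_ ?_
  · intro m
    obtain ⟨c, hc⟩ := hb m
    refine ⟨algebraMap R R' c, ?_⟩
    rw [algebraMap_smul, algebraMap_smul, ← map_smul, ← map_smul, hc]
  · rintro s n ⟨c, hc⟩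
    exact ⟨s * c, by rw [mul_smul, hc, smul_comm]⟩
  · rintro x y ⟨c, hc⟩ ⟨d, hd⟩
    exact ⟨c + d, by rw [add_smul, hc, hd, smul_add]⟩

variable (R') in
/-- The map `M / Rτ → M' / R'τ'` induced by `β`. -/
noncomputable def quotMap : (M ⧸ (R ∙ τ)) →ₗ[R] (M' ⧸ (R' ∙ β τ)) :=
  Submodule.liftQ (R ∙ τ) (((R' ∙ β τ).mkQ.restrictScalars R).comp β) (by
    rw [Submodule.span_singleton_le_iff_mem, LinearMap.mem_ker]
    simp only [LinearMap.coe_comp, LinearMap.coe_restrictScalars, Function.comp_apply,
      Submodule.mkQ_apply, Submodule.Quotient.mk_eq_zero]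
    exact Submodule.mem_span_singleton_self _)

include hβ in
theorem isBaseChange_quotMap : IsBaseChange R' (quotMap R' β τ) := by
  refine IsBaseChange.of_right_exact R' (Algebra.linearMap R R') β (quotMap R' β τ)
    (f := LinearMap.toSpanSingleton R M τ) (g := (R ∙ τ).mkQ)
    (f' := LinearMap.toSpanSingleton R' M' (β τ)) (g' := (R' ∙ β τ).mkQ)
    ?_ ?_ (IsBaseChange.linearMap R R') hβ ?_ (Submodule.mkQ_surjective _) ?_
    (Submodule.mkQ_surjective _)
  · apply LinearMap.ext_ring
    simp
  · ext x
    rfl
  · rw [LinearMap.exact_iff, Submodule.ker_mkQ, LinearMap.span_singleton_eq_range]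
  · rw [LinearMap.exact_iff, Submodule.ker_mkQ, LinearMap.span_singleton_eq_range]

theorem different_eq_annihilator :
    QFDual.different R τ = Module.annihilator R (M ⧸ (R ∙ τ)) :=
  Submodule.annihilator_quotient.symm

include hβ in
theorem radical_map_different_eq [Module.Finite R M] :
    (Ideal.map (algebraMap R R') (QFDual.different R τ)).radical =
      (QFDual.different R' (β τ)).radical := by
  have hQ := isBaseChange_quotMap β hβ τ
  have hfin' : Module.Finite R' (M' ⧸ (R' ∙ β τ)) :=
    Module.Finite.equiv hQ.equiv
  rw [different_eq_annihilator, different_eq_annihilator]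
  rw [← PrimeSpectrum.vanishingIdeal_zeroLocus_eq_radical,
    ← PrimeSpectrum.vanishingIdeal_zeroLocus_eq_radical]
  congr 1
  rw [← Module.support_eq_zeroLocus, ← hQ.equiv.support_eq,
    Groth.Agent.H31.support_baseChange_eq_preimage, Module.support_eq_zeroLocus,
    PrimeSpectrum.preimage_comap_zeroLocus, Ideal.map, PrimeSpectrum.zeroLocus_span]

include hβ in
theorem map_different_eq_of_flat [Module.Flat R R'] [Module.Finite R M] :
    Ideal.map (algebraMap R R') (QFDual.different R τ) = QFDual.different R' (β τ) := by
  have hQ := isBaseChange_quotMap β hβ τ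
  rw [different_eq_annihilator, different_eq_annihilator,
    (Groth.Agent.S6283.result (R := R) (S := R') (M ⧸ (R ∙ τ))).2 inferInstance]
  exact hQ.equiv.annihilator_eq

end General

section Invertible

variable {R : Type u} [CommRing R] {M : Type u} [AddCommGroup M] [Module R M]
  [Module.Invertible R M]

/-- Up to multiplication by `r = ψ z`, the rank one identity `ψ y • z = ψ z • y`. -/
theorem invertible_swap_aux (ψ : Module.Dual R M) (z y : M) :
    ψ z • (ψ y • z) = ψ z • (ψ z • y) := by
  obtain ⟨s, hs⟩ := (Module.Invertible.toModuleEnd_bijective R M).2 (LinearMap.smulRight ψ z)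
  have h1 : ∀ y, s • y = ψ y • z := fun y => by
    have := LinearMap.congr_fun hs y
    simpa using this
  have h2 : s * ψ z = ψ z * ψ z := by
    have := congrArg ψ (h1 z)
    simpa using this
  rw [← h1 y, smul_smul, smul_smul, mul_comm, h2]

/-- In an invertible module, `φ x • y = φ y • x` (the module is locally free of rank one). -/
theorem invertible_swap (φ : Module.Dual R M) (x y : M) : φ x • y = φ y • x := by
  rw [← sub_eq_zero]
  set d := φ x • y - φ y • x with hd
  have hmem : ∀ t : Module.Dual R M ⊗[R] M,
      contractLeft R M t ∈ (Ideal.torsionOf R M d).radical := by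
    intro t
    induction t using TensorProduct.induction_on with
    | zero => simp
    | tmul ψ z =>
      refine ⟨4, ?_⟩
      rw [contractLeft_apply, Ideal.mem_torsionOf_iff]
      set r := ψ z with hr
      have e1 : ∀ y, (r * r) • y = (r * ψ y) • z := fun y => by
        rw [mul_smul, mul_smul]; exact (invertible_swap_aux ψ z y).symm
      have e2 : ∀ y, (r * r) * φ y = (r * ψ y) * φ z := fun y => by
        have := congrArg φ (e1 y)
        simpa using this
      have : r ^ 4 • d = ((r * r) * φ x) • ((r * r) • y) - ((r * r) * φ y) • ((r * r) • x) := by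
        rw [hd, smul_sub, smul_smul, smul_smul, smul_smul, smul_smul]
        congr 2 <;> ring
      rw [this, e1 x, e1 y, e2 x, e2 y, smul_smul, smul_smul, sub_eq_zero]
      congr 1
      ring
    | add a b ha hb => rw [map_add]; exact Ideal.add_mem _ ha hb
  obtain ⟨t, ht⟩ := (Module.Invertible.bijective (R := R) (M := M)).2 1
  have h1 := hmem t
  rw [ht, ← Ideal.eq_top_iff_one, Ideal.radical_eq_top, Ideal.eq_top_iff_one,
    Ideal.mem_torsionOf_iff, one_smul] at h1
  exact h1

theorem apply_mem_different (ψ : Module.Dual R M) (τ : M) : ψ τ ∈ QFDual.different R τ := by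
  rw [QFDual.mem_different_iff]
  intro m
  exact ⟨ψ m, invertible_swap ψ m τ⟩

end Invertible

section General2

variable {R R' M M' : Type u} [CommRing R] [CommRing R'] [Algebra R R']
  [AddCommGroup M] [Module R M] [AddCommGroup M'] [Module R' M'] [Module R M']
  [IsScalarTower R R' M'] (β : M →ₗ[R] M') (hβ : IsBaseChange R' β) (τ : M)

include hβ in
theorem different_le_map_of_invertible [Module.Invertible R M] :
    QFDual.different R' (β τ) ≤ Ideal.map (algebraMap R R') (QFDual.different R τ) := by
  intro b' hb'
  rw [QFDual.mem_different_iff] at hb'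
  have key : ∀ t : Module.Dual R M ⊗[R] M,
      b' * algebraMap R R' (contractLeft R M t) ∈
        Ideal.map (algebraMap R R') (QFDual.different R τ) := by
    intro t
    induction t using TensorProduct.induction_on with
    | zero => simp
    | tmul ψ z =>
      obtain ⟨c', hc'⟩ := hb' (β z)
      let ψ' : M' →ₗ[R'] R' := hβ.lift ((Algebra.linearMap R R').comp ψ)
      have hψ' : ∀ m, ψ' (β m) = algebraMap R R' (ψ m) := fun m => hβ.lift_eq _ m
      have h1 := congrArg ψ' hc'
      rw [map_smul, map_smul, hψ', hψ', smul_eq_mul, smul_eq_mul] at h1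
      rw [contractLeft_apply, ← h1]
      exact Ideal.mul_mem_left _ _ (Ideal.mem_map_of_mem _ (apply_mem_different ψ τ))
    | add x y hx hy => rw [map_add, map_add, mul_add]; exact Ideal.add_mem _ hx hy
  obtain ⟨t, ht⟩ := (Module.Invertible.bijective (R := R) (M := M)).2 1
  have h2 := key t
  rwa [ht, map_one, mul_one] at h2

include hβ in
theorem map_different_eq_of_invertible [Module.Invertible R M] :
    Ideal.map (algebraMap R R') (QFDual.different R τ) = QFDual.different R' (β τ) :=
  le_antisymm (map_different_le β hβ τ) (different_le_map_of_invertible β hβ τ)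

end General2

section Square

variable {A A' B B' : Type*} [CommRing A] [CommRing A'] [CommRing B] [CommRing B']
  [Algebra A A'] [Algebra A B] [Algebra A' B'] [Algebra B B'] [Algebra A B']
  [IsScalarTower A A' B'] [IsScalarTower A B B'] [Algebra.IsPushout A A' B B']
  {M M' : Type*} [AddCommGroup M] [Module A M] [Module B M] [IsScalarTower A B M]
  [AddCommGroup M'] [Module A M'] [Module A' M'] [Module B M'] [Module B' M']
  [IsScalarTower A A' M'] [IsScalarTower A B M'] [IsScalarTower B B' M']
  [IsScalarTower A' B' M']

/-- In a pushout square of rings `A → A'`, `B → B'`, a `B`-linear map `M → M'` to a `B'`-module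
which is an `A → A'` base change is a `B → B'` base change. -/
theorem isBaseChange_of_isPushout (β : M →ₗ[B] M')
    (hβ : IsBaseChange A' (β.restrictScalars A)) : IsBaseChange B' β := by
  let c := Algebra.IsPushout.cancelBaseChange A A' B B' M
  have key : ∀ z : B' ⊗[B] M, LinearMap.liftBaseChange B' β z = hβ.equiv (c z) := by
    intro z
    obtain ⟨w, rfl⟩ := c.symm.surjective z
    rw [LinearEquiv.apply_symm_apply]
    induction w using TensorProduct.induction_on with
    | zero => simp
    | tmul a m =>
      rw [Algebra.IsPushout.cancelBaseChange_symm_tmul, LinearMap.liftBaseChange_tmul,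
        hβ.equiv_tmul, algebraMap_smul]
      rfl
    | add x y hx hy => simp only [map_add, hx, hy]
  have hbij : Function.Bijective (LinearMap.liftBaseChange B' β) := by
    have : (LinearMap.liftBaseChange B' β : B' ⊗[B] M → M') = hβ.equiv ∘ c := funext key
    rw [this]
    exact hβ.equiv.bijective.comp c.bijective
  refine IsBaseChange.of_equiv (LinearEquiv.ofBijective _ hbij) fun x => ?_
  rw [LinearEquiv.ofBijective_apply, LinearMap.liftBaseChange_tmul, one_smul]

end Square

end Groth.Agent.H73.DiffBC
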