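import Mathlib
import Groth.Prelude.Def_QFDual
import Groth.Agent.H73.DiffBC

/-!
helper73: for a finite free `A → B` and a pushout square `A → A'`, `B → B'`, the prelude's
`QFDual.bcFin : Ω_{B/A} → Ω_{B'/A'}` is a `B → B'` base change of modules and carries the trace
element to the trace element; consequences for the different (S8966, S8967, S8968).
-/

set_option autoImplicit false
set_option linter.style.haveILetI false
universe u

namespace Groth.Agent.H73.DiffBCOmega

open TensorProduct

section Mod

/-- Restriction of scalars of `Ω_{B/A}` to `A`. -/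
@[reducible] noncomputable def iA (A B : Type u) [CommRing A] [CommRing B] [Algebra A B] :
    Module A (Disc.Omega A B) := Module.compHom _ (algebraMap A B)

/-- Restriction of scalars of `Ω_{B'/A'}` along `B → B'`. -/
@[reducible] noncomputable def iB (B A' B' : Type u) [CommRing B] [CommRing A'] [CommRing B']
    [Algebra A' B'] [Algebra B B'] : Module B (Disc.Omega A' B') :=
  Module.compHom _ (algebraMap B B')

/-- Restriction of scalars of `Ω_{B'/A'}` along `A → B'`. -/
@[reducible] noncomputable def iA2 (A A' B' : Type u) [CommRing A] [CommRing A'] [CommRing B']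
    [Algebra A' B'] [Algebra A B'] : Module A (Disc.Omega A' B') :=
  Module.compHom _ (algebraMap A B')

end Mod

attribute [local instance] iA iB iA2

section Concrete

variable {A B A' B' : Type u} [CommRing A] [CommRing B] [CommRing A'] [CommRing B'] [Algebra A B]
  [Algebra A A'] [Algebra B B'] [Algebra A' B'] [Algebra A B'] [IsScalarTower A A' B']
  [IsScalarTower A B B']

theorem tA (A B : Type u) [CommRing A] [CommRing B] [Algebra A B] :
    IsScalarTower A B (Disc.Omega A B) :=
  IsScalarTower.of_algebraMap_smul fun _ _ => rfl

theorem tB : IsScalarTower B B' (Disc.Omega A' B') :=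
  IsScalarTower.of_algebraMap_smul fun _ _ => rfl

theorem tAA' : IsScalarTower A A' (Disc.Omega A' B') :=
  IsScalarTower.of_algebraMap_smul fun a x => by
    change algebraMap A' B' (algebraMap A A' a) • x = algebraMap A B' a • x
    rw [← IsScalarTower.algebraMap_apply]

omit [Algebra A A'] [IsScalarTower A A' B'] in
theorem tAB : IsScalarTower A B (Disc.Omega A' B') :=
  IsScalarTower.of_algebraMap_smul fun a x => by
    change algebraMap B B' (algebraMap A B a) • x = algebraMap A B' a • x
    rw [← IsScalarTower.algebraMap_apply]

attribute [local instance] tA tB tAA' tAB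

/-- `Ω_{B/A}` is `Hom_A(B, A)` as an `A`-module. -/
noncomputable def eΩ (A B : Type u) [CommRing A] [CommRing B] [Algebra A B] :
    Disc.Omega A B ≃ₗ[A] Module.Dual A B where
  toFun := Disc.Omega.toLinearMap
  invFun := Disc.Omega.mk
  map_add' _ _ := rfl
  map_smul' a φ := LinearMap.ext fun x => by
    change φ.toLinearMap (algebraMap A B a * x) = a • φ.toLinearMap x
    rw [← Algebra.smul_def, map_smul]
  left_inv _ := rfl
  right_inv _ := rfl

/-- `QFDual.bcFin` as a `B`-linear map. -/
noncomputable def bcLin (hB : Algebra.IsPushout A A' B B') :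
    Disc.Omega A B →ₗ[B] Disc.Omega A' B' where
  toFun := QFDual.bcFin hB
  map_add' := map_add _
  map_smul' b φ := (QFDual.bcFin hB).map_smulₛₗ b φ

theorem isBaseChange_bcLin (hB : Algebra.IsPushout A A' B B') [Module.Free A B]
    [Module.Finite A B] : IsBaseChange B' (bcLin hB) := by
  haveI := hB
  apply DiffBC.isBaseChange_of_isPushout (A := A) (A' := A')
  refine (IsBaseChange.iff_of_equiv_comm (eΩ A B) (eΩ A' B') ?_).mpr hB.out.dual
  ext φ : 1
  rfl

theorem trace_algebraMap (hB : Algebra.IsPushout A A' B B') [Module.Free A B] [Module.Finite A B]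
    (x : B) :
    Algebra.trace A' B' (algebraMap B B' x) = algebraMap A A' (Algebra.trace A B x) := by
  classical
  let b := Module.Free.chooseBasis A B
  rw [Algebra.trace_eq_matrix_trace b, Algebra.trace_eq_matrix_trace (hB.out.basis b),
    Matrix.trace, Matrix.trace, map_sum]
  refine Finset.sum_congr rfl fun i _ => ?_
  rw [Matrix.diag_apply, Matrix.diag_apply, Algebra.leftMulMatrix_eq_repr_mul,
    Algebra.leftMulMatrix_eq_repr_mul, IsBaseChange.basis_apply]
  change (hB.out.basis b).repr (algebraMap B B' x * algebraMap B B' (b i)) i = _
  rw [← map_mul]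
  exact hB.out.basis_repr_comp_apply b (x * b i) i

theorem bcLin_trace (hB : Algebra.IsPushout A A' B B') [Module.Free A B] [Module.Finite A B]
    [Module.Free A' B'] [Module.Finite A' B'] :
    bcLin hB (Disc.Omega.trace A B) = Disc.Omega.trace A' B' := by
  apply Disc.Omega.ext
  refine hB.out.algHom_ext _ _ fun x => ?_
  change (QFDual.bcFin hB (Disc.Omega.trace A B)).toLinearMap (algebraMap B B' x) =
    Algebra.trace A' B' (algebraMap B B' x)
  rw [QFDual.bcFin_apply_algebraMap, trace_algebraMap hB]
  rfl

theorem finite_omega [Module.Free A B] [Module.Finite A B] : Module.Finite B (Disc.Omega A B) := by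
  haveI : Module.Finite A (Disc.Omega A B) := Module.Finite.equiv (eΩ A B).symm
  exact Module.Finite.of_restrictScalars_finite A B (Disc.Omega A B)

variable (A B A' B')

theorem main_le_radical (hB : Algebra.IsPushout A A' B B') [Module.Free A B] [Module.Finite A B]
    [Module.Free A' B'] [Module.Finite A' B'] :
    Ideal.map (algebraMap B B') (QFDual.different B (Disc.Omega.trace A B)) ≤
        QFDual.different B' (Disc.Omega.trace A' B') ∧
      (Ideal.map (algebraMap B B') (QFDual.different B (Disc.Omega.trace A B))).radical =
        (QFDual.different B' (Disc.Omega.trace A' B')).radical := by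
  haveI := finite_omega (A := A) (B := B)
  rw [← bcLin_trace hB]
  exact ⟨DiffBC.map_different_le _ (isBaseChange_bcLin hB) _,
    DiffBC.radical_map_different_eq _ (isBaseChange_bcLin hB) _⟩

theorem main_flat (hB : Algebra.IsPushout A A' B B') [Module.Free A B] [Module.Finite A B]
    [Module.Free A' B'] [Module.Finite A' B'] [Module.Flat A A'] :
    Ideal.map (algebraMap B B') (QFDual.different B (Disc.Omega.trace A B)) =
      QFDual.different B' (Disc.Omega.trace A' B') := by
  haveI := finite_omega (A := A) (B := B)
  haveI : Module.Flat B B' := Module.Flat.isBaseChange A B A' B' hB.symm.out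
  rw [← bcLin_trace hB]
  exact DiffBC.map_different_eq_of_flat _ (isBaseChange_bcLin hB) _

theorem main_invertible (hB : Algebra.IsPushout A A' B B') [Module.Free A B] [Module.Finite A B]
    [Module.Free A' B'] [Module.Finite A' B'] [Module.Invertible B (Disc.Omega A B)] :
    Ideal.map (algebraMap B B') (QFDual.different B (Disc.Omega.trace A B)) =
      QFDual.different B' (Disc.Omega.trace A' B') := by
  rw [← bcLin_trace hB]
  exact DiffBC.map_different_eq_of_invertible _ (isBaseChange_bcLin hB) _

end Concrete

end Groth.Agent.H73.DiffBCOmega
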