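import Mathlib

set_option autoImplicit false

open CategoryTheory Limits

namespace Groth.Agent.H73

universe v u

lemma quasiIso_iff_acyclic_mappingCone {C : Type u} [Category.{v} C] [Abelian C]
    {K L : CochainComplex C ℤ} (φ : K ⟶ L) :
    QuasiIso φ ↔ (CochainComplex.mappingCone φ).Acyclic := by
  rw [← HomologicalComplex.mem_quasiIso_iff, ← HomotopyCategory.quotient_map_mem_quasiIso_iff,
    HomotopyCategory.quasiIso_eq_trW_subcategoryAcyclic,
    ← HomotopyCategory.quotient_obj_mem_subcategoryAcyclic_iff_acyclic]
  exact (HomotopyCategory.subcategoryAcyclic C).trW_iff_of_distinguished _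
    (HomotopyCategory.mappingCone_triangleh_distinguished φ)

end Groth.Agent.H73
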