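import Mathlib
import Groth.Prelude.Def_CohB1

namespace Groth.Agent.H73.Dehom

open MvPolynomial

universe u

variable (n : ℕ) (R : Type u) [CommRing R] (i : Fin (n + 1))

/-- the dehomogenization map of the statement -/
noncomputable def psi : MvPolynomial {j : Fin (n + 1) // j ≠ i} R →+*
    HomogeneousLocalization.Away (CohB1.polyGrading n R) (X i) :=
  MvPolynomial.eval₂Hom
    ((HomogeneousLocalization.fromZeroRingHom (CohB1.polyGrading n R) (Submonoid.powers (MvPolynomial.X i))).comp
      (algebraMap R (CohB1.polyGrading n R 0)))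
    (fun j : {j : Fin (n + 1) // j ≠ i} =>
      (HomogeneousLocalization.mk ⟨1, ⟨MvPolynomial.X j.1, MvPolynomial.isHomogeneous_X R j.1⟩,
        ⟨MvPolynomial.X i, MvPolynomial.isHomogeneous_X R i⟩, ⟨1, pow_one _⟩⟩ :
        HomogeneousLocalization.Away (CohB1.polyGrading n R) (MvPolynomial.X i)))

/-- set `T_i = 1` -/
noncomputable def theta : MvPolynomial (Fin (n + 1)) R →+* MvPolynomial {j : Fin (n + 1) // j ≠ i} R :=
  (MvPolynomial.aeval (fun j => if h : j = i then (1 : MvPolynomial {j : Fin (n + 1) // j ≠ i} R)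
    else X ⟨j, h⟩)).toRingHom

theorem theta_X_self : theta n R i (X i) = 1 := by
  simp [theta]

theorem theta_X_ne (j : Fin (n + 1)) (h : j ≠ i) : theta n R i (X j) = X ⟨j, h⟩ := by
  simp [theta, h]

theorem theta_C (r : R) : theta n R i (C r) = C r := by
  simp [theta]

/-- the localization -/
abbrev LL := Localization (Submonoid.powers (X i : MvPolynomial (Fin (n + 1)) R))

/-- `Θ = val ∘ ψ ∘ θ` -/
noncomputable def Theta : MvPolynomial (Fin (n + 1)) R →+* LL n R i :=
  (algebraMap (HomogeneousLocalization.Away (CohB1.polyGrading n R) (X i)) (LL n R i)).comp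
    ((psi n R i).comp (theta n R i))

theorem val_psi_C (r : R) :
    (psi n R i (C r)).val = algebraMap (MvPolynomial (Fin (n + 1)) R) (LL n R i) (C r) := by
  rw [psi, MvPolynomial.coe_eval₂Hom, MvPolynomial.eval₂_C, RingHom.comp_apply]
  change Localization.mk ((algebraMap R (CohB1.polyGrading n R 0) r : MvPolynomial (Fin (n + 1)) R)) 1 = _
  rw [Localization.mk_one_eq_algebraMap]
  rfl

theorem val_psi_X (j : {j : Fin (n + 1) // j ≠ i}) :
    (psi n R i (X j)).val = Localization.mk (X j.1)
      (⟨X i, ⟨1, pow_one _⟩⟩ : Submonoid.powers (X i : MvPolynomial (Fin (n + 1)) R)) := by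
  rw [psi, MvPolynomial.coe_eval₂Hom, MvPolynomial.eval₂_X]
  rfl

theorem Theta_C (r : R) :
    Theta n R i (C r) = algebraMap (MvPolynomial (Fin (n + 1)) R) (LL n R i) (C r) := by
  rw [Theta, RingHom.comp_apply, RingHom.comp_apply, theta_C,
    HomogeneousLocalization.algebraMap_apply, val_psi_C]

theorem Theta_X_mul (j : Fin (n + 1)) :
    Theta n R i (X j) * algebraMap (MvPolynomial (Fin (n + 1)) R) (LL n R i) (X i) =
      algebraMap (MvPolynomial (Fin (n + 1)) R) (LL n R i) (X j) := by
  rw [Theta, RingHom.comp_apply, RingHom.comp_apply, HomogeneousLocalization.algebraMap_apply]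
  by_cases h : j = i
  · subst h
    rw [theta_X_self, map_one, HomogeneousLocalization.val_one, one_mul]
  · rw [theta_X_ne n R i j h, val_psi_X, Localization.mk_eq_mk']
    exact IsLocalization.mk'_spec _ _ _

theorem Theta_monomial (e : Fin (n + 1) →₀ ℕ) (c : R) :
    Theta n R i (monomial e c) *
        (algebraMap (MvPolynomial (Fin (n + 1)) R) (LL n R i) (X i)) ^ (∑ j, e j) =
      algebraMap (MvPolynomial (Fin (n + 1)) R) (LL n R i) (monomial e c) := by
  rw [MvPolynomial.monomial_eq, Finsupp.prod_fintype _ _ (fun j => pow_zero _), map_mul, map_mul,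
    map_prod, map_prod, Theta_C, mul_assoc, ← Finset.prod_pow_eq_pow_sum, ← Finset.prod_mul_distrib]
  congr 1
  refine Finset.prod_congr rfl (fun j _ => ?_)
  rw [map_pow, map_pow, ← mul_pow, Theta_X_mul]

theorem Theta_homogeneous (a : MvPolynomial (Fin (n + 1)) R) (k : ℕ) (ha : a.IsHomogeneous k) :
    Theta n R i a * (algebraMap (MvPolynomial (Fin (n + 1)) R) (LL n R i) (X i)) ^ k =
      algebraMap (MvPolynomial (Fin (n + 1)) R) (LL n R i) a := by
  conv_lhs => rw [a.as_sum]
  conv_rhs => rw [a.as_sum]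
  rw [map_sum, map_sum, Finset.sum_mul]
  refine Finset.sum_congr rfl (fun e he => ?_)
  have hk : ∑ j, e j = k := by
    rw [← Finsupp.degree_eq_sum]
    have := ha (MvPolynomial.mem_support_iff.mp he)
    rw [← this, Finsupp.degree_eq_weight_one]
    rfl
  rw [← hk, Theta_monomial]

end Groth.Agent.H73.Dehom
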