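import Mathlib
import Groth.Agent.H73.Dehom
import Groth.Agent.Lead.Coh.ProjSpaceCover

namespace Groth.Agent.H73.Dehom

open MvPolynomial AlgebraicGeometry

universe u

variable (n : ℕ) (R : Type u) [CommRing R] (i : Fin (n + 1))

/-- the retraction of the localization onto the polynomial ring -/
noncomputable def thetaLoc : LL n R i →+* MvPolynomial {j : Fin (n + 1) // j ≠ i} R :=
  IsLocalization.lift (M := Submonoid.powers (X i : MvPolynomial (Fin (n + 1)) R))
    (g := theta n R i) (by
      rintro ⟨_, ⟨m, rfl⟩⟩
      rw [map_pow, theta_X_self, one_pow]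
      exact isUnit_one)

theorem psi_injective : Function.Injective (psi n R i) := by
  have h : ((thetaLoc n R i).comp
      (algebraMap (HomogeneousLocalization.Away (CohB1.polyGrading n R) (X i)) (LL n R i))).comp
      (psi n R i) = RingHom.id _ := by
    apply MvPolynomial.ringHom_ext
    · intro r
      simp only [RingHom.comp_apply, HomogeneousLocalization.algebraMap_apply, val_psi_C,
        RingHom.id_apply]
      rw [thetaLoc, IsLocalization.lift_eq, theta_C]
    · intro j
      simp only [RingHom.comp_apply, HomogeneousLocalization.algebraMap_apply, val_psi_X,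
        RingHom.id_apply]
      rw [thetaLoc, Localization.mk_eq_mk', IsLocalization.lift_mk'_spec]
      simp only [theta_X_self, one_mul]
      exact theta_X_ne n R i j.1 j.2
  intro a b hab
  have := congrArg (fun z => (thetaLoc n R i)
    (algebraMap (HomogeneousLocalization.Away (CohB1.polyGrading n R) (X i)) (LL n R i) z)) hab
  have ha := RingHom.congr_fun h a
  have hb := RingHom.congr_fun h b
  simp only [RingHom.comp_apply, RingHom.id_apply] at ha hb
  rw [ha, hb] at this
  exact this

theorem psi_surjective : Function.Surjective (psi n R i) := by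
  intro x
  have hXi : (X i : MvPolynomial (Fin (n + 1)) R) ∈ CohB1.polyGrading n R 1 :=
    (MvPolynomial.mem_homogeneousSubmodule _ _).mpr (MvPolynomial.isHomogeneous_X R i)
  obtain ⟨k, a, ha, rfl⟩ := HomogeneousLocalization.Away.mk_surjective (CohB1.polyGrading n R)
    hXi x
  refine ⟨theta n R i a, ?_⟩
  apply HomogeneousLocalization.val_injective
  rw [HomogeneousLocalization.Away.val_mk, Localization.mk_eq_mk', IsLocalization.eq_mk'_iff_mul_eq]
  have hk : a.IsHomogeneous k := by
    have := (MvPolynomial.mem_homogeneousSubmodule _ _).mp ha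
    simpa using this
  have := Theta_homogeneous n R i a k hk
  rw [Theta, RingHom.comp_apply, RingHom.comp_apply, HomogeneousLocalization.algebraMap_apply] at this
  rw [← this, map_pow]

theorem main : (⨆ i : Fin (n + 1), Proj.basicOpen (CohB1.polyGrading n R) (MvPolynomial.X i)) = ⊤ ∧
      ∀ i : Fin (n + 1), Function.Bijective
        (MvPolynomial.eval₂Hom
          ((HomogeneousLocalization.fromZeroRingHom (CohB1.polyGrading n R) (Submonoid.powers (MvPolynomial.X i))).comp
            (algebraMap R (CohB1.polyGrading n R 0)))
          (fun j : {j : Fin (n + 1) // j ≠ i} =>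
            (HomogeneousLocalization.mk ⟨1, ⟨MvPolynomial.X j.1, MvPolynomial.isHomogeneous_X R j.1⟩,
              ⟨MvPolynomial.X i, MvPolynomial.isHomogeneous_X R i⟩, ⟨1, pow_one _⟩⟩ :
              HomogeneousLocalization.Away (CohB1.polyGrading n R) (MvPolynomial.X i)))) :=
  ⟨Groth.Agent.Lead.Coh.iSup_stdOpen n R, fun i => ⟨psi_injective n R i, psi_surjective n R i⟩⟩

end Groth.Agent.H73.Dehom
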