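import Mathlib.AlgebraicGeometry.ValuativeCriterion
import Groth.Prelude.Def_W4c2submetdescSubtr

set_option autoImplicit false

universe u

namespace Groth.Agent.H73

open CategoryTheory CategoryTheory.Limits AlgebraicGeometry IsLocalRing

/-- Any specialization `y' ⤳ y` in a scheme is realized by a morphism from the spectrum of a
valuation ring, sending the closed point to `y` and the generic point to `y'`. -/
theorem exists_valuationRing_of_specializes {Y : Scheme.{u}} {y y' : Y} (h : y' ⤳ y) :
    ∃ (V : Type u) (_ : CommRing V) (_ : IsDomain V) (_ : ValuationRing V)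
      (g : Spec (CommRingCat.of V) ⟶ Y),
      g (closedPoint V) = y ∧ g (⟨⊥, Ideal.isPrime_bot⟩ : PrimeSpectrum V) = y' := by
  let φ : Y.presheaf.stalk y ⟶ Y.residueField y' :=
    Y.presheaf.stalkSpecializes h ≫ Y.residue y'
  obtain ⟨A, hA, hA_local⟩ := exists_factor_valuationRing φ.hom
  let ψ : Y.presheaf.stalk y ⟶ .of A :=
    CommRingCat.ofHom (φ.hom.codRestrict _ hA)
  refine ⟨A, inferInstance, inferInstance, inferInstance, Spec.map ψ ≫ Y.fromSpecStalk y, ?_, ?_⟩
  · simp only [Scheme.Hom.comp_base, TopCat.coe_comp, Function.comp_apply]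
    have : Spec.map ψ (closedPoint A) = closedPoint (Y.presheaf.stalk y) :=
      comap_closedPoint (S := A) (φ.hom.codRestrict A.toSubring hA)
    rw [this, Y.fromSpecStalk_closedPoint]
  · have w : Y.fromSpecResidueField y' =
        Spec.map (CommRingCat.ofHom (algebraMap A (Y.residueField y'))) ≫
          Spec.map ψ ≫ Y.fromSpecStalk y := by
      rw [Scheme.fromSpecResidueField, ← Scheme.SpecMap_stalkSpecializes_fromSpecStalk h]
      simp_rw [← Spec.map_comp_assoc]
      rfl
    have hgen : Spec.map (CommRingCat.ofHom (algebraMap A (Y.residueField y')))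
        (closedPoint (Y.residueField y')) = (⟨⊥, Ideal.isPrime_bot⟩ : PrimeSpectrum A) := by
      apply PrimeSpectrum.ext
      show Ideal.comap (algebraMap A (Y.residueField y')) (maximalIdeal (Y.residueField y')) = ⊥
      rw [IsLocalRing.maximalIdeal_eq_bot]
      rw [← RingHom.ker_eq_comap_bot, ← RingHom.injective_iff_ker_eq_bot]
      exact Subtype.val_injective
    rw [← hgen, ← Scheme.Hom.comp_apply, ← w, Scheme.fromSpecResidueField_apply]

end Groth.Agent.H73

namespace Groth.Agent.H73

open CategoryTheory CategoryTheory.Limits AlgebraicGeometry IsLocalRing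

lemma bot_specializes_closedPoint (V : Type u) [CommRing V] [IsDomain V] [IsLocalRing V] :
    (⟨⊥, Ideal.isPrime_bot⟩ : PrimeSpectrum V) ⤳ closedPoint V := by
  rw [← PrimeSpectrum.le_iff_specializes]
  exact bot_le (a := (closedPoint V).asIdeal)

theorem univSSubtrusive_iff_valuationRing {X Y : Scheme.{u}} (f : X ⟶ Y) :
    Subtr.UnivSSubtrusive f ↔
      ∀ (V : Type u) [CommRing V] [IsDomain V] [ValuationRing V] (g : Spec (CommRingCat.of V) ⟶ Y),
        Subtr.IsSSubtrusive (pullback.snd f g) := by
  constructor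
  · intro H V _ _ _ g
    exact H _ _ _ (IsPullback.of_hasPullback f g).flip
  · intro H X' Y' i₁ i₂ f' hsq y y' hyy'
    obtain ⟨V, _, _, _, g, hg1, hg2⟩ := exists_valuationRing_of_specializes hyy'
    obtain ⟨z, z', hzz', hz, hz'⟩ := H V (g ≫ i₂) (bot_specializes_closedPoint V)
    let u : pullback f (g ≫ i₂) ⟶ X' :=
      hsq.lift (pullback.snd f (g ≫ i₂) ≫ g) (pullback.fst f (g ≫ i₂))
        (by rw [Category.assoc, pullback.condition])
    have hu : u ≫ f' = pullback.snd f (g ≫ i₂) ≫ g := hsq.lift_fst _ _ _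
    refine ⟨u z, u z', hzz'.map u.continuous, ?_, ?_⟩
    · rw [← Scheme.Hom.comp_apply, hu, Scheme.Hom.comp_apply, hz, hg1]
    · rw [← Scheme.Hom.comp_apply, hu, Scheme.Hom.comp_apply, hz', hg2]

end Groth.Agent.H73
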