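import Mathlib.AlgebraicGeometry.Morphisms.Affine
import Mathlib.AlgebraicGeometry.Morphisms.QuasiCompact

set_option autoImplicit false

universe u

namespace Groth.Agent.H73

open CategoryTheory CategoryTheory.Limits AlgebraicGeometry

/-- A basic open of a global section that is stable under specialization is closed. -/
theorem isClosed_basicOpen_of_stableUnderSpecialization {X : Scheme.{u}} (t : Γ(X, ⊤))
    (h : StableUnderSpecialization ((X.basicOpen t : X.Opens) : Set X)) :
    IsClosed ((X.basicOpen t : X.Opens) : Set X) := by
  have hr : Set.range (X.basicOpen t).ι = ((X.basicOpen t : X.Opens) : Set X) :=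
    Scheme.Opens.range_ι _
  have hspec : SpecializingMap (X.basicOpen t).ι :=
    (X.basicOpen t).ι.isOpenEmbedding.isInducing.specializingMap (by rw [hr]; exact h)
  have hcl : IsClosedMap (X.basicOpen t).ι := (isClosedMap_iff_specializingMap _).mpr hspec
  rw [← hr]
  exact hcl.isClosed_range

end Groth.Agent.H73
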