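import Groth.Agent.H73.ValSpec
import Mathlib.RingTheory.Flat.TorsionFree
import Mathlib.RingTheory.Flat.FaithfullyFlat.Algebra

set_option autoImplicit false

universe u

namespace Groth.Agent.H73

open CategoryTheory CategoryTheory.Limits AlgebraicGeometry IsLocalRing

/-- An injective local homomorphism from a valuation ring to a local domain is surjective on
spectra (the target is torsion-free, hence flat, hence faithfully flat). -/
lemma comap_surjective_of_valuationRing {V W : Type u} [CommRing V] [IsDomain V] [ValuationRing V]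
    [CommRing W] [IsDomain W] [IsLocalRing W] (φ : V →+* W) (hinj : Function.Injective φ)
    [IsLocalHom φ] : Function.Surjective (PrimeSpectrum.comap φ) := by
  let _ : Algebra V W := φ.toAlgebra
  have htors : Submodule.torsion V W = ⊥ := by
    rw [eq_bot_iff]
    rintro w ⟨⟨r, hr⟩, h⟩
    have hr0 : r ≠ 0 := nonZeroDivisors.ne_zero hr
    have h' : φ r * w = 0 := h
    rcases mul_eq_zero.mp h' with h1 | h1
    · exact absurd (hinj (h1.trans (map_zero φ).symm)) hr0
    · exact h1
  have : Module.Flat V W := Module.Flat.flat_iff_torsion_eq_bot_of_isBezout.mpr htors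
  have : IsLocalHom (algebraMap V W) := ‹IsLocalHom φ›
  have : Module.FaithfullyFlat V W := Module.FaithfullyFlat.of_flat_of_isLocalHom
  exact PrimeSpectrum.comap_surjective_of_faithfullyFlat (A := V) (B := W)

/-- A morphism between spectra of valuation rings preserving closed and generic points is
surjective. -/
lemma spec_surjective_of_valuationRing {V W : Type u} [CommRing V] [IsDomain V] [ValuationRing V]
    [CommRing W] [IsDomain W] [ValuationRing W]
    (b : Spec (CommRingCat.of W) ⟶ Spec (CommRingCat.of V))
    (h1 : b (closedPoint W) = closedPoint V)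
    (h2 : b (⟨⊥, Ideal.isPrime_bot⟩ : PrimeSpectrum W) = (⟨⊥, Ideal.isPrime_bot⟩ : PrimeSpectrum V)) :
    Function.Surjective b := by
  obtain ⟨φ, rfl⟩ := Spec.map_surjective b
  have hloc : IsLocalHom φ.hom := by
    rw [((local_hom_TFAE φ.hom).out 0 4 :)]
    exact congrArg PrimeSpectrum.asIdeal h1
  have hinj : Function.Injective φ.hom := by
    rw [RingHom.injective_iff_ker_eq_bot, RingHom.ker_eq_comap_bot]
    exact congrArg PrimeSpectrum.asIdeal h2
  exact comap_surjective_of_valuationRing φ.hom hinj

end Groth.Agent.H73

namespace Groth.Agent.H73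

open CategoryTheory CategoryTheory.Limits AlgebraicGeometry IsLocalRing

theorem univSSubtrusive_iff_exists_valuationRing_lift {X Y : Scheme.{u}} (f : X ⟶ Y) :
    Subtr.UnivSSubtrusive f ↔
      ∀ (V : Type u) [CommRing V] [IsDomain V] [ValuationRing V] (g : Spec (CommRingCat.of V) ⟶ Y),
        ∃ (V' : Type u) (_ : CommRing V') (_ : IsDomain V') (_ : ValuationRing V')
          (a : Spec (CommRingCat.of V') ⟶ X) (b : Spec (CommRingCat.of V') ⟶ Spec (CommRingCat.of V)),
          Surjective b ∧ a ≫ f = b ≫ g := by
  constructor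
  · intro H V _ _ _ g
    have H' := (univSSubtrusive_iff_valuationRing f).mp H V g
    obtain ⟨z, z', hzz', hz, hz'⟩ := H' (bot_specializes_closedPoint V)
    obtain ⟨V', _, _, _, c, hc1, hc2⟩ := exists_valuationRing_of_specializes hzz'
    refine ⟨V', inferInstance, inferInstance, inferInstance, c ≫ pullback.fst f g,
      c ≫ pullback.snd f g, ⟨?_⟩, ?_⟩
    · apply spec_surjective_of_valuationRing
      · rw [Scheme.Hom.comp_apply, hc1, hz]
      · rw [Scheme.Hom.comp_apply, hc2, hz']
    · rw [Category.assoc, Category.assoc, pullback.condition]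
  · intro H
    rw [univSSubtrusive_iff_valuationRing]
    intro V _ _ _ g y y' hyy'
    obtain ⟨V', _, _, _, a, b, hb, hab⟩ := H V g
    obtain ⟨w, hw⟩ := hb.surj y
    obtain ⟨w', hw'⟩ := hb.surj y'
    let c : Spec (CommRingCat.of V') ⟶ pullback f g := pullback.lift a b hab
    have hc : c ≫ pullback.snd f g = b := pullback.lift_snd _ _ _
    -- primes of a valuation ring are totally ordered
    rcases (ValuationRing.le_total_ideal (A := V')).total (PrimeSpectrum.asIdeal w')
        (PrimeSpectrum.asIdeal w) with hle | hle
    · have hsp : w' ⤳ w := (PrimeSpectrum.le_iff_specializes w' w).mp hle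
      refine ⟨c w, c w', hsp.map c.continuous, ?_, ?_⟩
      · rw [← Scheme.Hom.comp_apply, hc, hw]
      · rw [← Scheme.Hom.comp_apply, hc, hw']
    · have hsp : w ⤳ w' := (PrimeSpectrum.le_iff_specializes w w').mp hle
      have h1 : y ⤳ y' := by
        rw [← hw, ← hw']
        exact hsp.map b.continuous
      have heq : y = y' := (PrimeSpectrum.le_iff_specializes _ _).mpr h1 |>.antisymm
        ((PrimeSpectrum.le_iff_specializes _ _).mpr hyy')
      refine ⟨c w, c w, specializes_rfl, ?_, ?_⟩
      · rw [← Scheme.Hom.comp_apply, hc, hw]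
      · rw [← Scheme.Hom.comp_apply, hc, hw, heq]

end Groth.Agent.H73
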