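import Groth.Agent.H17.ProConsScheme
import Groth.Prelude.Def_W4c2submetdescSubtr
import Mathlib

/-!
# S-subtrusive morphisms and pro-constructible sets
-/

set_option autoImplicit false
universe u

namespace Groth.Agent.H73.SubtrProCons

open Topology Set Set.Notation AlgebraicGeometry CategoryTheory Groth.Agent.H17

/-- Every point of a quasi-sober T0 space has a generization without proper generizations. -/
theorem exists_maximal_generization {X : Type*} [TopologicalSpace X] [QuasiSober X] [T0Space X]
    (y : X) : ∃ y' : X, y' ⤳ y ∧ ∀ y'' : X, y'' ⤳ y' → y'' = y' := by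
  have hS : IsIrreducible (irreducibleComponent y) := isIrreducible_irreducibleComponent
  have hcl : IsClosed (irreducibleComponent y) := isClosed_irreducibleComponent
  have hgen := hS.isGenericPoint_genericPoint hcl
  refine ⟨hS.genericPoint, ?_, ?_⟩
  · rw [specializes_iff_mem_closure, hgen.def]
    exact mem_irreducibleComponent
  · intro y'' hy''
    have h1 : irreducibleComponent y ⊆ closure {y''} := by
      rw [← hgen.def]
      exact hy''.closure_subset
    have h2 : closure {y''} = irreducibleComponent y :=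
      eq_irreducibleComponent isIrreducible_singleton.closure.isPreirreducible h1
    have h3 : hS.genericPoint ⤳ y'' := by
      rw [specializes_iff_mem_closure, hgen.def, ← h2]
      exact subset_closure rfl
    exact (hy''.antisymm h3).eq

/-- In a scheme, a point in the closure of a pro-constructible set is a specialization of a point
of the set. -/
theorem exists_specializes_of_mem_closure {X : Scheme.{u}} {Z : Set X}
    (hZ : ProCons.IsProConstructible Z) {y : X} (hy : y ∈ closure Z) : ∃ z ∈ Z, z ⤳ y := by
  have hB := goodBasis_scheme X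
  obtain ⟨W, hW, hyW⟩ := hB.exists_mem y
  have := hB.spectralSpace hW
  have hcons : ConsClosed (W ↓∩ Z) := consClosed_restrict_of_pro hB hZ hW
  obtain ⟨z, hzZ, hz⟩ := exists_specializes_of_forall_nhd hcons (⟨y, hyW⟩ : ↥W) (by
    intro V hVo _ hyV
    have h1 : IsOpen (Subtype.val '' V) := (hB.isOpen _ hW).isOpenMap_subtype_val V hVo
    obtain ⟨_, ⟨v, hvV, rfl⟩, hvZ⟩ := mem_closure_iff.mp hy _ h1 ⟨⟨y, hyW⟩, hyV, rfl⟩
    exact ⟨v, hvV, hvZ⟩)
  exact ⟨z.1, hzZ, hz.map continuous_subtype_val⟩

/-- Singletons in a scheme are pro-constructible. -/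
theorem isProConstructible_singleton {X : Scheme.{u}} (y : X) :
    ProCons.IsProConstructible ({y} : Set X) := by
  have hB := goodBasis_scheme X
  apply pro_of_consClosed_restrict hB
  intro x
  obtain ⟨W, hW, hxW⟩ := hB.exists_mem x
  have := hB.spectralSpace hW
  refine ⟨W, hW, hxW, ?_⟩
  by_cases hy : y ∈ W
  · have : (W ↓∩ ({y} : Set X)) = {(⟨y, hy⟩ : ↥W)} := by
      ext z
      simp only [mem_preimage, mem_singleton_iff]
      exact ⟨fun h => Subtype.ext h, fun h => congrArg Subtype.val h⟩
    rw [this]
    exact consClosed_singleton _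
  · have : (W ↓∩ ({y} : Set X)) = ∅ := by
      ext z
      simp only [mem_preimage, mem_singleton_iff, mem_empty_iff_false, iff_false]
      intro h
      exact hy (h ▸ z.2)
    rw [this]
    exact @isClosed_empty _ (constructibleTopology ↥W)

/-- A point in the closure of a fibre is a specialization of a point of the fibre. -/
theorem exists_specializes_of_mem_closure_fibre {X Y : Scheme.{u}} (f : X ⟶ Y) (y' : Y) {x : X}
    (hx : x ∈ closure (f.base ⁻¹' {y'})) : ∃ x' : X, x' ⤳ x ∧ f.base x' = y' := by
  have hB := goodBasis_scheme Y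
  have hB' := goodBasis_scheme X
  -- `y'` is a generization of `f x`
  have hspec : y' ⤳ f.base x := by
    rw [specializes_iff_mem_closure]
    have := image_closure_subset_closure_image f.base.hom.continuous (mem_image_of_mem _ hx)
    exact closure_mono (image_preimage_subset _ _) this
  obtain ⟨W, hW, hxW⟩ := hB.exists_mem (f.base x)
  obtain ⟨W', hW', hxW', hsub⟩ := hB'.basis x _ ((hB.isOpen _ hW).preimage f.base.hom.continuous) hxW
  have hmaps : MapsTo f.base W' W := hsub
  have := hB.spectralSpace hW
  have := hB'.spectralSpace hW'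
  have hy'W : y' ∈ W := hspec.mem_open (hB.isOpen _ hW) hxW
  have hZ : ConsClosed (hmaps.restrict f.base W' W ⁻¹' {(⟨y', hy'W⟩ : ↥W)}) :=
    ConsClosed.preimage (isSpectralMap_restrict f W' W hmaps hW' hW) (consClosed_singleton _)
  obtain ⟨x'', hx''Z, hx''⟩ := exists_specializes_of_forall_nhd hZ (⟨x, hxW'⟩ : ↥W') (by
    intro V hVo _ hxV
    have h1 : IsOpen (Subtype.val '' V) := (hB'.isOpen _ hW').isOpenMap_subtype_val V hVo
    obtain ⟨_, ⟨v, hvV, rfl⟩, hv⟩ := mem_closure_iff.mp hx _ h1 ⟨⟨x, hxW'⟩, hxV, rfl⟩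
    exact ⟨v, hvV, Subtype.ext hv⟩)
  refine ⟨x''.1, hx''.map continuous_subtype_val, ?_⟩
  exact congrArg Subtype.val hx''Z

theorem isSSubtrusive_iff {X Y : Scheme.{u}} (f : X ⟶ Y) :
    Subtr.IsSSubtrusive f ↔
      ∀ Z : Set Y, ProCons.IsProConstructible Z → f '' closure (f ⁻¹' Z) = closure Z := by
  constructor
  · intro hf Z hZ
    apply Subset.antisymm
    · exact (image_closure_subset_closure_image f.base.hom.continuous).trans
        (closure_mono (image_preimage_subset _ _))
    · intro y hy
      obtain ⟨z, hzZ, hz⟩ := exists_specializes_of_mem_closure hZ hy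
      obtain ⟨x, x', hxx', hfx, hfx'⟩ := hf hz
      refine ⟨x, ?_, hfx⟩
      refine hxx'.mem_closed isClosed_closure (subset_closure ?_)
      show f x' ∈ Z
      rw [hfx']
      exact hzZ
  · intro H y y' hyy'
    have h1 := H {y'} (isProConstructible_singleton y')
    have h2 : y ∈ closure ({y'} : Set Y) := specializes_iff_mem_closure.mp hyy'
    rw [← h1] at h2
    obtain ⟨x, hx, hfx⟩ := h2
    obtain ⟨x', hx', hfx'⟩ := exists_specializes_of_mem_closure_fibre f y' hx
    exact ⟨x, x', hx', hfx, hfx'⟩

theorem image_closure_preimage_eq_univ {X Y : Scheme.{u}} (f : X ⟶ Y)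
    (hf : Subtr.IsSSubtrusive f) (U : Set Y) (hU : ∀ y : Y, (∀ y' : Y, y' ⤳ y → y' = y) → y ∈ U) :
    f '' closure (f ⁻¹' U) = Set.univ := by
  rw [eq_univ_iff_forall]
  intro y
  obtain ⟨y', hy', hmax⟩ := exists_maximal_generization y
  obtain ⟨x, x', hxx', hfx, hfx'⟩ := hf hy'
  refine ⟨x, ?_, hfx⟩
  refine hxx'.mem_closed isClosed_closure (subset_closure ?_)
  show f x' ∈ U
  rw [hfx']
  exact hU y' hmax

end Groth.Agent.H73.SubtrProCons
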