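import Mathlib.RingTheory.Flat.Equalizer
import Mathlib.Algebra.Homology.ShortComplex.ModuleCat
import Mathlib.Algebra.Homology.ShortComplex.HomologicalComplex
import Mathlib.Algebra.Homology.HomologicalComplexAbelian
import Mathlib.Algebra.Category.ModuleCat.Abelian

set_option autoImplicit false

universe u

namespace Groth.Agent.H73

open TensorProduct

/-- In a short exact sequence `0 → M → N → P → 0` with `N` and `P` flat, `M` is flat. -/
theorem flat_of_exact_of_flat_of_flat {R : Type u} [CommRing R] {M N P : Type u}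
    [AddCommGroup M] [AddCommGroup N] [AddCommGroup P] [Module R M] [Module R N] [Module R P]
    [Module.Flat R N] [Module.Flat R P] (g : M →ₗ[R] N) (f : N →ₗ[R] P)
    (hg : Function.Injective g) (hf : Function.Surjective f) (H : Function.Exact g f) :
    Module.Flat R M := by
  rw [Module.Flat.iff_rTensor_preserves_injective_linearMap]
  intro A' A _ _ _ _ i hi
  have h1 : Function.Injective (g.lTensor A') :=
    LinearMap.lTensor_injective_of_exact_of_flat f hf g hg H A'
  have h2 : Function.Injective (i.rTensor N) :=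
    Module.Flat.rTensor_preserves_injective_linearMap i hi
  have hcomm : (i.rTensor N) ∘ₗ (g.lTensor A') = (g.lTensor A) ∘ₗ (i.rTensor M) := by
    rw [LinearMap.rTensor_comp_lTensor, LinearMap.lTensor_comp_rTensor]
  have h3 : Function.Injective ((g.lTensor A) ∘ₗ (i.rTensor M)) := by
    rw [← hcomm]
    exact h2.comp h1
  exact Function.Injective.of_comp h3

open CategoryTheory CategoryTheory.Limits

/-- The key step: if `H^{p+1}(F) = 0` and `Z^{p+1}` is flat then `Z^p` is flat. -/
theorem flat_cycles_step (A : Type u) [CommRing A]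
    (F : CochainComplex (ModuleCat.{u} A) ℤ) (hF : ∀ i, Module.Flat A (F.X i)) (p : ℤ)
    (hp : IsZero (F.homology (p + 1))) (hflat : Module.Flat A (F.cycles (p + 1))) :
    Module.Flat A (F.cycles p) := by
  have hex : (F.sc' p (p + 1) (p + 1 + 1)).Exact :=
    (F.exactAt_iff' p (p + 1) (p + 1 + 1) (by simp) (by simp)).mp
      ((F.exactAt_iff_isZero_homology (p + 1)).mpr hp)
  have hex' : (ShortComplex.mk (F.iCycles p) (F.d p (p + 1)) (F.iCycles_d p (p + 1))).Exact :=
    ShortComplex.exact_of_f_is_kernel _ (F.cyclesIsKernel p (p + 1) (by simp))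
  have hinj : ∀ q : ℤ, Function.Injective (F.iCycles q).hom := fun q =>
    (ModuleCat.mono_iff_injective _).mp inferInstance
  have hti : ∀ x : F.X p, (F.iCycles (p + 1)).hom ((F.toCycles p (p + 1)).hom x) =
      (F.d p (p + 1)).hom x := by
    intro x
    rw [← LinearMap.comp_apply, ← ModuleCat.hom_comp, F.toCycles_i]
  have hid : ∀ (q : ℤ) (z : F.cycles q), (F.d q (q + 1)).hom ((F.iCycles q).hom z) = 0 := by
    intro q z
    rw [← LinearMap.comp_apply, ← ModuleCat.hom_comp, F.iCycles_d]
    rfl
  have hf : Function.Surjective (F.toCycles p (p + 1)).hom := by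
    intro z
    obtain ⟨x, hx⟩ := (ShortComplex.moduleCat_exact_iff _).mp hex ((F.iCycles (p + 1)).hom z)
      (hid (p + 1) z)
    refine ⟨x, hinj (p + 1) ?_⟩
    rw [hti]
    exact hx
  have H : Function.Exact (F.iCycles p).hom (F.toCycles p (p + 1)).hom := by
    intro x
    constructor
    · intro hx
      have hdx : (F.d p (p + 1)).hom x = 0 := by
        rw [← hti, hx, map_zero]
      obtain ⟨y, hy⟩ := (ShortComplex.moduleCat_exact_iff _).mp hex' x hdx
      exact ⟨y, hy⟩
    · rintro ⟨y, rfl⟩
      apply hinj (p + 1)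
      rw [hti, hid, map_zero]
  have := hF p
  exact flat_of_exact_of_flat_of_flat (F.iCycles p).hom (F.toCycles p (p + 1)).hom (hinj p) hf H

end Groth.Agent.H73
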