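import Mathlib
import Groth.Agent.H73.ConeQis
import Groth.Agent.H73.FlatKer

/-!
# Tensoring bounded above flat complexes preserves quasi-isomorphisms
-/

set_option autoImplicit false

universe u

namespace Groth.Agent.H73.FlatQis

open TensorProduct

section modules

variable {A : Type*} [CommRing A] {X₀ X₁ X₂ X₃ : Type*}
  [AddCommGroup X₀] [AddCommGroup X₁] [AddCommGroup X₂] [AddCommGroup X₃]
  [Module A X₀] [Module A X₁] [Module A X₂] [Module A X₃]

/-- If `X₀ → X₁ → X₂ → X₃` is exact at `X₁` and `X₂` and the image of `X₂ → X₃` is flat, then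
the sequence stays exact at `X₁` after tensoring with any module. -/
theorem exact_rTensor_of_flat_range (d₀ : X₀ →ₗ[A] X₁) (d₁ : X₁ →ₗ[A] X₂) (d₂ : X₂ →ₗ[A] X₃)
    (h₁ : Function.Exact d₀ d₁) (h₂ : Function.Exact d₁ d₂)
    [Module.Flat A (LinearMap.range d₂)]
    (M : Type*) [AddCommGroup M] [Module A M] :
    Function.Exact (d₀.rTensor M) (d₁.rTensor M) := by
  let e : X₁ →ₗ[A] LinearMap.ker d₂ :=
    d₁.codRestrict (LinearMap.ker d₂) (fun x => h₂.apply_apply_eq_zero x)
  have he : Function.Surjective e := by
    rintro ⟨z, hz⟩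
    obtain ⟨x, hx⟩ := (h₂ z).mp hz
    exact ⟨x, Subtype.ext hx⟩
  have hex : Function.Exact d₀ e := by
    intro x
    rw [← h₁ x]
    constructor
    · intro h
      exact congrArg Subtype.val h
    · intro h
      exact Subtype.ext h
  have hex' : Function.Exact (d₀.rTensor M) (e.rTensor M) := rTensor_exact M hex he
  have hinj : Function.Injective ((LinearMap.ker d₂).subtype.rTensor M) := by
    have h := LinearMap.lTensor_injective_of_exact_of_flat d₂.rangeRestrict
      d₂.surjective_rangeRestrict (LinearMap.ker d₂).subtype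
      (LinearMap.ker d₂).subtype_injective (by
        intro x
        constructor
        · intro h
          exact ⟨⟨x, congrArg Subtype.val h⟩, rfl⟩
        · rintro ⟨y, rfl⟩
          exact Subtype.ext y.2) M
    have hcomm : (LinearMap.ker d₂).subtype.rTensor M =
        (TensorProduct.comm A M X₂).toLinearMap ∘ₗ (LinearMap.ker d₂).subtype.lTensor M ∘ₗ
          (TensorProduct.comm A (LinearMap.ker d₂) M).toLinearMap := by
      ext; simp
    rw [hcomm]
    exact (TensorProduct.comm A M X₂).injective.comp (h.comp (TensorProduct.comm A _ M).injective)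
  have hfac : d₁.rTensor M = (LinearMap.ker d₂).subtype.rTensor M ∘ₗ e.rTensor M := by
    rw [← LinearMap.rTensor_comp]
    rfl
  intro y
  rw [← hex' y, hfac, LinearMap.comp_apply]
  constructor
  · intro h
    exact hinj (h.trans (map_zero _).symm)
  · intro h
    rw [h, map_zero]

theorem flat_prod {R : Type u} [CommRing R] {M N : Type u} [AddCommGroup M] [AddCommGroup N]
    [Module R M] [Module R N] [Module.Flat R M] [Module.Flat R N] : Module.Flat R (M × N) := by
  rw [Module.Flat.iff_rTensor_preserves_injective_linearMap]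
  intro P Q _ _ _ _ f hf
  have h1 := Module.Flat.rTensor_preserves_injective_linearMap (M := M) f hf
  have h2 := Module.Flat.rTensor_preserves_injective_linearMap (M := N) f hf
  have hcomm : (TensorProduct.prodRight R R Q M N).toLinearMap ∘ₗ f.rTensor (M × N) =
      (LinearMap.prodMap (f.rTensor M) (f.rTensor N)) ∘ₗ
        (TensorProduct.prodRight R R P M N).toLinearMap := by
    ext <;> simp
  have h3 : Function.Injective ((TensorProduct.prodRight R R Q M N).toLinearMap ∘ₗ
      f.rTensor (M × N)) := by
    rw [hcomm]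
    exact (Prod.map_injective.mpr ⟨h1, h2⟩).comp (TensorProduct.prodRight R R P M N).injective
  exact Function.Injective.of_comp h3

end modules

open CategoryTheory CategoryTheory.Limits

section complexes

variable (A : Type u) [CommRing A]

/-- Exactness at `q` of a cochain complex of modules, as `Function.Exact`. -/
lemma function_exact_of_exactAt (K : CochainComplex (ModuleCat.{u} A) ℤ) (q : ℤ)
    (h : K.ExactAt q) : Function.Exact (K.d (q - 1) q).hom (K.d q (q + 1)).hom := by
  have hex : (K.sc' (q - 1) q (q + 1)).Exact :=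
    (K.exactAt_iff' (q - 1) q (q + 1) (by simp) (by simp)).mp h
  exact (ShortComplex.ShortExact.moduleCat_exact_iff_function_exact _).mp hex

/-- In an acyclic bounded above complex of flat modules, the image of each differential is
flat. -/
lemma flat_range_d (K : CochainComplex (ModuleCat.{u} A) ℤ)
    (hflat : ∀ q : ℤ, Module.Flat A (K.cycles q)) (hac : K.Acyclic) (q : ℤ) :
    Module.Flat A (LinearMap.range (K.d (q - 1) q).hom) := by
  have hinj : Function.Injective (K.iCycles q).hom :=
    (ModuleCat.mono_iff_injective _).mp inferInstance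
  have hex := function_exact_of_exactAt A K q (hac q)
  have hid : ∀ z : K.cycles q, (K.d q (q + 1)).hom ((K.iCycles q).hom z) = 0 := by
    intro z
    rw [← LinearMap.comp_apply, ← ModuleCat.hom_comp, K.iCycles_d]
    rfl
  have hti : ∀ x : K.X (q - 1), (K.iCycles q).hom ((K.toCycles (q - 1) q).hom x) =
      (K.d (q - 1) q).hom x := by
    intro x
    rw [← LinearMap.comp_apply, ← ModuleCat.hom_comp, K.toCycles_i]
  let f : K.cycles q →ₗ[A] LinearMap.range (K.d (q - 1) q).hom :=
    (K.iCycles q).hom.codRestrict _ (fun z => (hex _).mp (hid z))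
  have hf : Function.Bijective f := by
    constructor
    · intro z z' h
      exact hinj (congrArg Subtype.val h)
    · rintro ⟨y, x, rfl⟩
      exact ⟨(K.toCycles (q - 1) q).hom x, Subtype.ext (hti x)⟩
  have := hflat q
  exact Module.Flat.of_linearEquiv (LinearEquiv.ofBijective f hf).symm

/-- An acyclic complex of flat modules all of whose modules of cycles are flat stays acyclic
after tensoring with any module. -/
theorem acyclic_tensor (K : CochainComplex (ModuleCat.{u} A) ℤ)
    (hflat : ∀ q : ℤ, Module.Flat A (K.cycles q)) (hac : K.Acyclic) (M : ModuleCat.{u} A) :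
    (((MonoidalCategory.tensorRight M).mapHomologicalComplex (ComplexShape.up ℤ)).obj K).Acyclic := by
  intro n
  rw [HomologicalComplex.exactAt_iff' _ (n - 1) n (n + 1) (by simp) (by simp),
    ShortComplex.ShortExact.moduleCat_exact_iff_function_exact]
  have h₁ := function_exact_of_exactAt A K n (hac n)
  have h₂ := function_exact_of_exactAt A K (n + 1) (hac (n + 1))
  have h₃ := flat_range_d A K hflat hac (n + 1 + 1)
  have e1 : n + 1 - 1 = n := by omega
  have e2 : n + 1 + 1 - 1 = n + 1 := by omega
  rw [e1] at h₂
  rw [e2] at h₃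
  exact exact_rTensor_of_flat_range (K.d (n - 1) n).hom (K.d n (n + 1)).hom
    (K.d (n + 1) (n + 1 + 1)).hom h₁ h₂ M

/-- The terms of the mapping cone of a morphism of complexes of flat modules are flat. -/
lemma flat_mappingCone_X {C D : CochainComplex (ModuleCat.{u} A) ℤ}
    (hC : ∀ i, Module.Flat A (C.X i)) (hD : ∀ i, Module.Flat A (D.X i)) (φ : C ⟶ D) (n : ℤ) :
    Module.Flat A ((CochainComplex.mappingCone φ).X n) := by
  have e : (CochainComplex.mappingCone φ).X n ≅ ModuleCat.of A (C.X (n + 1) × D.X n) :=
    HomologicalComplex.homotopyCofiber.XIsoBiprod φ n (n + 1) rfl ≪≫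
      ModuleCat.biprodIsoProd _ _
  have := hC (n + 1)
  have := hD n
  have : Module.Flat A (C.X (n + 1) × D.X n) := flat_prod
  exact Module.Flat.of_linearEquiv e.toLinearEquiv

end complexes

/-- Tensoring a quasi-isomorphism between bounded above complexes of flat modules with any module
gives a quasi-isomorphism. -/
theorem main (A : Type u) [CommRing A]
    (C D : CochainComplex (ModuleCat.{u} A) ℤ)
    (hC : ∀ i, Module.Flat A (C.X i)) (hD : ∀ i, Module.Flat A (D.X i))
    (bC : ∃ b : ℤ, ∀ i, b < i → IsZero (C.X i)) (bD : ∃ b : ℤ, ∀ i, b < i → IsZero (D.X i))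
    (φ : C ⟶ D) [QuasiIso φ] (M : ModuleCat.{u} A)
    (flat_cycles : ∀ (F : CochainComplex (ModuleCat.{u} A) ℤ) (_ : ∀ i, Module.Flat A (F.X i))
      (_ : ∃ b : ℤ, ∀ i, b < i → IsZero (F.X i)) (d : ℤ)
      (_ : ∀ p, d < p → IsZero (F.homology p)), Module.Flat A (F.cycles d)) :
    QuasiIso (((MonoidalCategory.tensorRight M).mapHomologicalComplex (ComplexShape.up ℤ)).map φ) := by
  rw [quasiIso_iff_acyclic_mappingCone]
  have hK : (CochainComplex.mappingCone φ).Acyclic :=
    (quasiIso_iff_acyclic_mappingCone φ).mp inferInstance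
  obtain ⟨b₁, hb₁⟩ := bC
  obtain ⟨b₂, hb₂⟩ := bD
  have hb : ∃ b : ℤ, ∀ i, b < i → IsZero ((CochainComplex.mappingCone φ).X i) := by
    refine ⟨max b₁ b₂, fun i hi => ?_⟩
    refine HomologicalComplex.homotopyCofiber.isZero_X φ i (hb₂ i (by omega)) ?_
    rintro j (rfl : i + 1 = j)
    exact hb₁ _ (by omega)
  have hflat : ∀ q : ℤ, Module.Flat A ((CochainComplex.mappingCone φ).cycles q) := fun q =>
    flat_cycles _ (flat_mappingCone_X A hC hD φ) hb q
      (fun p _ => (HomologicalComplex.exactAt_iff_isZero_homology _ _).mp (hK p))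
  have hac := acyclic_tensor A _ hflat hK M
  intro n
  rw [HomologicalComplex.exactAt_iff_isZero_homology]
  exact IsZero.of_iso ((HomologicalComplex.exactAt_iff_isZero_homology _ _).mp (hac n))
    ((HomologicalComplex.homologyFunctor _ _ n).mapIso
      (CochainComplex.mappingCone.mapHomologicalComplexIso φ
        (MonoidalCategory.tensorRight M))).symm

end Groth.Agent.H73.FlatQis
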