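import Mathlib
import Groth.Prelude.Def_FlatCA
import Groth.Agent.H8.WeakAssLoc
import Groth.Agent.H9.WeakAssFiniteFlat

/-!
helper73: weakly associated primes and étale base change.

* `mem_weakAss_iff_of_isLocalization`: for a localisation `R → R₁` and a base change `N → N₁`,
  a prime `q₁` of `R₁` is weakly associated to `N₁` iff its contraction is weakly associated to `N`.
* `main`: S1233, by reduction to the finite flat case (helper9) through a standard étale
  neighbourhood.
-/

set_option autoImplicit false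
set_option linter.style.haveILetI false
universe u

open TensorProduct

namespace Groth.Agent.H73.WeakAssEtale

section Loc

variable {R : Type u} [CommRing R] (S : Submonoid R) {R₁ : Type u} [CommRing R₁] [Algebra R R₁]
  [IsLocalization S R₁]
  {N N₁ : Type u} [AddCommGroup N] [Module R N] [AddCommGroup N₁] [Module R N₁] [Module R₁ N₁]
  [IsScalarTower R R₁ N₁]

include S in
theorem mem_weakAss_iff_of_isLocalization (φ : N →ₗ[R] N₁) (hφ : IsBaseChange R₁ φ)
    (q₁ : Ideal R₁) [q₁.IsPrime] :
    q₁ ∈ FlatCA.weakAss R₁ N₁ ↔ q₁.comap (algebraMap R R₁) ∈ FlatCA.weakAss R N := by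
  let R' := Localization.AtPrime q₁
  haveI : IsLocalization.AtPrime R' (q₁.comap (algebraMap R R₁)) :=
    IsLocalization.isLocalization_isLocalization_atPrime_isLocalization S R' q₁
  let g : N₁ →ₗ[R₁] R' ⊗[R₁] N₁ := TensorProduct.mk R₁ R' N₁ 1
  have hg : IsBaseChange R' g := TensorProduct.isBaseChange R₁ N₁ R'
  let f : N →ₗ[R] R' ⊗[R₁] N₁ := (g.restrictScalars R).comp φ
  have hf : IsBaseChange R' f := hφ.comp hg
  haveI : IsLocalizedModule (q₁.comap (algebraMap R R₁)).primeCompl f :=
    (isLocalizedModule_iff_isBaseChange _ R' f).mpr hf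
  rw [← Groth.Agent.H8.exists_radical_ann_eq_maximalIdeal_iff q₁ (R' := R') g,
    ← Groth.Agent.H8.exists_radical_ann_eq_maximalIdeal_iff (q₁.comap (algebraMap R R₁))
      (R' := R') f]

end Loc

section BaseChange

variable {A B B' : Type u} [CommRing A] [CommRing B] [CommRing B'] [Algebra A B] [Algebra A B']
  [Algebra B B'] [IsScalarTower A B B'] (M : Type u) [AddCommGroup M] [Module A M]

/-- the natural map `B ⊗_A M → B' ⊗_A M` -/
noncomputable def bcMap : B ⊗[A] M →ₗ[B] B' ⊗[A] M :=
  TensorProduct.AlgebraTensorModule.map (Algebra.linearMap B B') (LinearMap.id : M →ₗ[A] M)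

theorem isBaseChange_bcMap : IsBaseChange B' (bcMap (A := A) (B := B) (B' := B') M) := by
  refine IsBaseChange.of_comp (TensorProduct.isBaseChange A M B) ?_
  convert TensorProduct.isBaseChange A M B' using 1
  ext m
  simp [bcMap]

end BaseChange

theorem main {A B : Type u} [CommRing A] [CommRing B] [Algebra A B] [Algebra.Etale A B]
    (M : Type u) [AddCommGroup M] [Module A M] (p : Ideal A) [p.IsPrime] (u : Ideal B) [u.IsPrime]
    [u.LiesOver p] :
    u ∈ FlatCA.weakAss B (B ⊗[A] M) ↔ p ∈ FlatCA.weakAss A M := by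
  classical
  haveI : Algebra.FormallyEtale B (Localization.AtPrime u) :=
    Algebra.FormallyEtale.of_isLocalization u.primeCompl
  haveI : Algebra.IsEtaleAt A u := Algebra.FormallyEtale.comp A B (Localization.AtPrime u)
  obtain ⟨h, hh, hstd⟩ := Algebra.IsEtaleAt.exists_isStandardEtale (R := A) u
  obtain ⟨P⟩ := hstd.nonempty_standardEtalePresentation
  let Bh := Localization.Away h
  have hdisj : Disjoint (Submonoid.powers h : Set B) (u : Set B) :=
    (Ideal.disjoint_powers_iff_notMem_of_isPrime _).mpr hh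
  let uh : Ideal Bh := u.map (algebraMap B Bh)
  haveI huh : uh.IsPrime := IsLocalization.isPrime_of_isPrime_disjoint (.powers h) _ _ ‹_› hdisj
  have hcomap : uh.comap (algebraMap B Bh) = u :=
    IsLocalization.under_map_of_isPrime_disjoint (.powers h) Bh ‹u.IsPrime› hdisj
  -- step 1: pass to `Bh`
  have step1 : uh ∈ FlatCA.weakAss Bh (Bh ⊗[A] M) ↔ u ∈ FlatCA.weakAss B (B ⊗[A] M) := by
    have := mem_weakAss_iff_of_isLocalization (Submonoid.powers h) (R₁ := Bh)
      (bcMap (A := A) (B := B) (B' := Bh) M) (isBaseChange_bcMap M) uh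
    rwa [hcomap] at this
  -- the finite free algebra `C = A[X]/(f)` and `Bh` as a localisation of it
  let C := AdjoinRoot P.f
  let Cg := Localization.Away (AdjoinRoot.mk P.f P.g)
  let e : Bh ≃ₐ[A] Cg := P.equivRing.trans P.equivAwayAdjoinRoot
  let ψ : C →+* Bh := (e.symm : Cg →+* Bh).comp (algebraMap C Cg)
  letI : Algebra C Bh := ψ.toAlgebra
  haveI : IsScalarTower A C Bh := IsScalarTower.of_algebraMap_eq (fun a => by
    show algebraMap A Bh a = e.symm (algebraMap C Cg (algebraMap A C a))
    rw [← IsScalarTower.algebraMap_apply A C Cg, e.symm.commutes])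
  let e' : Cg ≃ₐ[C] Bh := AlgEquiv.ofRingEquiv (f := e.symm.toRingEquiv) (fun x => rfl)
  haveI : IsLocalization (Submonoid.powers (AdjoinRoot.mk P.f P.g)) Bh :=
    IsLocalization.isLocalization_of_algEquiv _ e'
  haveI : Module.Finite A C := P.monic_f.finite_adjoinRoot
  haveI : Module.Free A C := P.monic_f.free_adjoinRoot
  let t : Ideal C := uh.comap (algebraMap C Bh)
  haveI : t.IsPrime := Ideal.comap_isPrime _ _
  have step2 : uh ∈ FlatCA.weakAss Bh (Bh ⊗[A] M) ↔ t ∈ FlatCA.weakAss C (C ⊗[A] M) :=
    mem_weakAss_iff_of_isLocalization (Submonoid.powers (AdjoinRoot.mk P.f P.g)) (R₁ := Bh)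
      (bcMap (A := A) (B := C) (B' := Bh) M) (isBaseChange_bcMap M) uh
  have htp : t.comap (algebraMap A C) = p := by
    show (uh.comap (algebraMap C Bh)).comap (algebraMap A C) = p
    rw [Ideal.comap_comap, ← IsScalarTower.algebraMap_eq, IsScalarTower.algebraMap_eq A B Bh,
      ← Ideal.comap_comap, hcomap]
    exact (Ideal.LiesOver.over (P := u) (p := p)).symm
  rw [← step1, step2]
  exact Groth.Agent.H9.WeakAssFF.mem_weakAss_baseChange_iff M p t htp

end Groth.Agent.H73.WeakAssEtale
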