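import Mathlib
import Groth.Prelude.Def_FlatCA
import Groth.Prelude.Def_Hensel
import Groth.Agent.H73.WeakAssEtale
import Groth.Agent.H3.HensUnion

/-!
helper73: weakly associated primes and (strict) henselization (S1234).

A (strict) henselization `S` of a local ring `R` is a faithfully flat union of étale images
(helper3's `HensUnion.package`); we show `𝔪_S ∈ WeakAss_S(S ⊗ N) ↔ 𝔪_R ∈ WeakAss_R(N)` for such
`S`, reducing to the étale case (`H73.WeakAssEtale.main`).
-/

set_option autoImplicit false
set_option linter.style.haveILetI false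
universe u

open TensorProduct IsLocalRing

namespace Groth.Agent.H73.WeakAssHens

open Groth.Agent.H3 Groth.Agent.H3.UnionEtale Groth.Agent.H73.WeakAssEtale

section Flat

variable {A' S : Type u} [CommRing A'] [CommRing S] [Algebra A' S] [Module.Flat A' S]
  {R : Type u} [CommRing R] [Algebra R A'] [Algebra R S] [IsScalarTower R A' S]
  (N : Type u) [AddCommGroup N] [Module R N]

/-- flatness: the annihilator of the image of `y'` in `S ⊗ N` is the extension of the annihilator
of `y' ∈ A' ⊗ N`. -/
theorem mem_map_annihilator_of_smul_bcMap_eq_zero (y' : A' ⊗[R] N) (b : S)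
    (h : b • bcMap (A := R) (B := A') (B' := S) N y' = 0) :
    b ∈ ((Submodule.span A' {y'}).annihilator).map (algebraMap A' S) := by
  refine Groth.Agent.H9.WeakAssFF.mem_map_annihilator_of_tmul_eq_zero (A := A') (B := S)
    (A' ⊗[R] N) y' b ?_
  let e := TensorProduct.AlgebraTensorModule.cancelBaseChange R A' S S N
  have key : ∀ z : A' ⊗[R] N, e (b ⊗ₜ[A'] z) = b • bcMap (A := R) (B := A') (B' := S) N z := by
    intro z
    induction z using TensorProduct.induction_on with
    | zero => simp
    | tmul a n =>
      simp only [e, TensorProduct.AlgebraTensorModule.cancelBaseChange_tmul, bcMap,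
        TensorProduct.AlgebraTensorModule.map_tmul, Algebra.linearMap_apply, LinearMap.id_coe,
        id_eq, TensorProduct.smul_tmul', smul_eq_mul]
      rw [Algebra.smul_def, mul_comm]
    | add z w hz hw => rw [TensorProduct.tmul_add, map_add, map_add, smul_add, hz, hw]
  apply e.injective
  rw [key, h, map_zero]

end Flat

section Union

variable {R S : Type u} [CommRing R] [IsLocalRing R] [CommRing S] [IsLocalRing S] [Algebra R S]
  [IsLocalHom (algebraMap R S)] (N : Type u) [AddCommGroup N] [Module R N]

theorem mem_weakAss_tensor_of_mem (hU : IsUnion R S) [Module.Flat R S]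
    (h : maximalIdeal R ∈ FlatCA.weakAss R N) :
    maximalIdeal S ∈ FlatCA.weakAss S (S ⊗[R] N) := by
  obtain ⟨n, hn⟩ := h
  have hann : ∀ a ∈ (Submodule.span R {n}).annihilator,
      algebraMap R S a ∈ (Submodule.span S {(1 : S) ⊗ₜ[R] n}).annihilator := by
    intro a ha
    rw [Submodule.mem_annihilator_span_singleton] at ha ⊢
    rw [algebraMap_smul, ← TensorProduct.tmul_smul, ha, TensorProduct.tmul_zero]
  refine ⟨(1 : S) ⊗ₜ[R] n, ⟨inferInstance, ?_⟩, ?_⟩
  · intro b hb
    rw [Submodule.mem_annihilator_span_singleton, TensorProduct.smul_tmul', smul_eq_mul,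
      mul_one] at hb
    have h1 := Groth.Agent.H9.WeakAssFF.mem_map_annihilator_of_tmul_eq_zero N n b hb
    exact (IsLocalRing.map_maximalIdeal_le (algebraMap R S)) (Ideal.map_mono hn.1.2 h1)
  · rintro Q ⟨hQ, hQann⟩ hQm
    by_contra hnot
    have hlt : Q < maximalIdeal S := lt_of_le_of_ne hQm (fun heq => hnot heq.ge)
    have h2 := under_lt_under hU hlt
    have h3 : (maximalIdeal S).under R = maximalIdeal R :=
      IsLocalRing.maximalIdeal_comap (algebraMap R S)
    rw [h3] at h2
    have h4 : maximalIdeal R ≤ Q.under R :=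
      hn.2 ⟨inferInstance, fun a ha => hQann (hann a ha)⟩ h2.le
    exact absurd (lt_of_le_of_lt h4 h2) (lt_irrefl _)

theorem mem_weakAss_of_mem_tensor (hU : IsUnion R S) [Module.Flat R S]
    (h : maximalIdeal S ∈ FlatCA.weakAss S (S ⊗[R] N)) :
    maximalIdeal R ∈ FlatCA.weakAss R N := by
  classical
  obtain ⟨y, hy⟩ := h
  obtain ⟨F, hF⟩ := TensorProduct.exists_finset y
  obtain ⟨A', _, _, hEt, φ, hφ⟩ := hU.finset (F.image Prod.fst)
  let g : S → A' := Function.invFun φ
  have hg : ∀ x ∈ F, φ (g x.1) = x.1 := by
    intro x hx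
    have : x.1 ∈ Set.range φ := hφ (by
      rw [Finset.coe_image]; exact ⟨x, hx, rfl⟩)
    exact Function.invFun_eq this
  letI : Algebra A' S := φ.toRingHom.toAlgebra
  have halg : ∀ a : A', algebraMap A' S a = φ a := fun _ => rfl
  haveI : IsScalarTower R A' S := IsScalarTower.of_algebraMap_eq fun a => (φ.commutes a).symm
  haveI : Module.Flat A' S := FlatOfEtale.flat_of_etale R A' S
  let y' : A' ⊗[R] N := ∑ x ∈ F, g x.1 ⊗ₜ[R] x.2
  have hy' : bcMap (A := R) (B := A') (B' := S) N y' = y := by
    rw [hF, map_sum]
    refine Finset.sum_congr rfl fun x hx => ?_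
    simp only [bcMap, TensorProduct.AlgebraTensorModule.map_tmul, Algebra.linearMap_apply,
      LinearMap.id_coe, id_eq]
    rw [halg, hg x hx]
  let q' : Ideal A' := (maximalIdeal S).comap (algebraMap A' S)
  haveI hq'prime : q'.IsPrime := Ideal.comap_isPrime _ _
  haveI : (maximalIdeal S).LiesOver q' := ⟨rfl⟩
  haveI hq'over : q'.LiesOver (maximalIdeal R) := ⟨by
    show maximalIdeal R = ((maximalIdeal S).comap (algebraMap A' S)).comap (algebraMap R A')
    rw [Ideal.comap_comap, ← IsScalarTower.algebraMap_eq,
      IsLocalRing.maximalIdeal_comap (algebraMap R S)]⟩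
  have hsmul : ∀ c : A', c • y' = 0 → algebraMap A' S c ∈
      (Submodule.span S {y}).annihilator := by
    intro c hc
    rw [Submodule.mem_annihilator_span_singleton, ← hy', algebraMap_smul, ← map_smul, hc, map_zero]
  have hmem : q' ∈ FlatCA.weakAss A' (A' ⊗[R] N) := by
    refine ⟨y', ⟨hq'prime, ?_⟩, ?_⟩
    · intro c hc
      rw [Submodule.mem_annihilator_span_singleton] at hc
      exact hy.1.2 (hsmul c hc)
    · rintro Q' ⟨hQ', hQ'ann⟩ hQ'le
      obtain ⟨P, hPle, hPprime, hPover⟩ :=
        Ideal.exists_ideal_le_liesOver_of_le (p := Q') (q := q') (maximalIdeal S) hQ'le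
      have hannP : (Submodule.span S {y}).annihilator ≤ P := by
        intro b hb
        rw [Submodule.mem_annihilator_span_singleton, ← hy'] at hb
        have h1 := mem_map_annihilator_of_smul_bcMap_eq_zero N y' b hb
        have h2 : Q'.map (algebraMap A' S) ≤ P := by
          rw [Ideal.map_le_iff_le_comap]
          exact (hPover.over).le
        exact h2 (Ideal.map_mono hQ'ann h1)
      have hPm : maximalIdeal S ≤ P := hy.2 ⟨hPprime, hannP⟩ hPle
      have hPeq : P = maximalIdeal S := le_antisymm hPle hPm
      have : Q' = q' := by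
        rw [hPover.over, hPeq]
      exact this.ge
  exact (Groth.Agent.H73.WeakAssEtale.main (A := R) (B := A') N (maximalIdeal R) q').mp hmem

theorem mem_weakAss_tensor_iff (hU : IsUnion R S) [Module.Flat R S] :
    maximalIdeal S ∈ FlatCA.weakAss S (S ⊗[R] N) ↔ maximalIdeal R ∈ FlatCA.weakAss R N :=
  ⟨mem_weakAss_of_mem_tensor N hU, mem_weakAss_tensor_of_mem N hU⟩

end Union

theorem main {A : Type u} [CommRing A] (M : Type u) [AddCommGroup M] [Module A M] (p : Ideal A)
    [p.IsPrime]
    (Ah Ash : Type u) [CommRing Ah] [IsLocalRing Ah] [CommRing Ash] [IsLocalRing Ash]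
    [Algebra (Localization.AtPrime p) Ah] [IsLocalHom (algebraMap (Localization.AtPrime p) Ah)]
    [Hensel.IsHenselization (Localization.AtPrime p) Ah]
    [Algebra (Localization.AtPrime p) Ash] [IsLocalHom (algebraMap (Localization.AtPrime p) Ash)]
    [Hensel.IsStrictHenselization (Localization.AtPrime p) Ash] :
    [p ∈ FlatCA.weakAss A M,
     maximalIdeal (Localization.AtPrime p) ∈
       FlatCA.weakAss (Localization.AtPrime p) (LocalizedModule p.primeCompl M),
     maximalIdeal Ah ∈
       FlatCA.weakAss Ah (Ah ⊗[Localization.AtPrime p] LocalizedModule p.primeCompl M),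
     maximalIdeal Ash ∈
       FlatCA.weakAss Ash (Ash ⊗[Localization.AtPrime p] LocalizedModule p.primeCompl M)].TFAE := by
  have h12 : maximalIdeal (Localization.AtPrime p) ∈
       FlatCA.weakAss (Localization.AtPrime p) (LocalizedModule p.primeCompl M) ↔
       p ∈ FlatCA.weakAss A M := by
    have := mem_weakAss_iff_of_isLocalization p.primeCompl (R₁ := Localization.AtPrime p)
      (LocalizedModule.mkLinearMap p.primeCompl M)
      (IsLocalizedModule.isBaseChange p.primeCompl (Localization.AtPrime p) _)
      (maximalIdeal (Localization.AtPrime p))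
    have hc : Ideal.comap (algebraMap A (Localization.AtPrime p))
        (maximalIdeal (Localization.AtPrime p)) = p :=
      IsLocalization.AtPrime.under_maximalIdeal (Localization.AtPrime p) p
    rwa [hc] at this
  obtain ⟨hU3, hff3⟩ := HensUnion.package (R := Localization.AtPrime p) (S := Ah)
    (Or.inl inferInstance)
  obtain ⟨hU4, hff4⟩ := HensUnion.package (R := Localization.AtPrime p) (S := Ash)
    (Or.inr inferInstance)
  have h32 := mem_weakAss_tensor_iff (LocalizedModule p.primeCompl M) hU3
  have h42 := mem_weakAss_tensor_iff (LocalizedModule p.primeCompl M) hU4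
  tfae_have 1 ↔ 2 := h12.symm
  tfae_have 3 ↔ 2 := h32
  tfae_have 4 ↔ 2 := h42
  tfae_finish

end Groth.Agent.H73.WeakAssHens
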