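import Mathlib

namespace Groth.Agent.H73.RelLen

universe u v

variable {R : Type u} [CommRing R] {M : Type v} [AddCommGroup M] [Module R M]
  {M' : Type v} [AddCommGroup M'] [Module R M']

/-- relative length `ℓ(B / (A ∩ B))` -/
noncomputable def rl (A B : Submodule R M) : ℕ∞ := Module.length R (↥B ⧸ A.submoduleOf B)

theorem rl_chain {A B C : Submodule R M} (hAB : A ≤ B) (hBC : B ≤ C) :
    rl A C = rl A B + rl B C := by
  let f : (↥B ⧸ A.submoduleOf B) →ₗ[R] (↥C ⧸ A.submoduleOf C) :=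
    Submodule.mapQ _ _ (Submodule.inclusion hBC) (fun x hx => hx)
  let g : (↥C ⧸ A.submoduleOf C) →ₗ[R] (↥C ⧸ B.submoduleOf C) :=
    Submodule.mapQ _ _ LinearMap.id (fun x hx => hAB hx)
  have hfm : ∀ b, f (Submodule.Quotient.mk b) = Submodule.Quotient.mk (Submodule.inclusion hBC b) :=
    fun b => rfl
  have hgm : ∀ c, g (Submodule.Quotient.mk c) = Submodule.Quotient.mk c := fun c => rfl
  have hf : Function.Injective f := by
    rw [injective_iff_map_eq_zero]
    intro x hx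
    obtain ⟨b, rfl⟩ := Submodule.Quotient.mk_surjective _ x
    rw [hfm, Submodule.Quotient.mk_eq_zero] at hx
    rw [Submodule.Quotient.mk_eq_zero]
    exact hx
  have hg : Function.Surjective g := by
    intro y
    obtain ⟨c, rfl⟩ := Submodule.Quotient.mk_surjective _ y
    exact ⟨Submodule.Quotient.mk c, rfl⟩
  have hfg : Function.Exact f g := by
    intro y
    obtain ⟨c, rfl⟩ := Submodule.Quotient.mk_surjective _ y
    constructor
    · intro h
      rw [hgm, Submodule.Quotient.mk_eq_zero] at h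
      have hcB : (c : M) ∈ B := h
      refine ⟨Submodule.Quotient.mk ⟨c.1, hcB⟩, ?_⟩
      rw [hfm]
      rfl
    · rintro ⟨x, hx⟩
      obtain ⟨b, rfl⟩ := Submodule.Quotient.mk_surjective _ x
      rw [← hx, hfm, hgm, Submodule.Quotient.mk_eq_zero]
      exact b.2
  exact Module.length_eq_add_of_exact f g hf hg hfg

theorem rl_map_ker (f : M →ₗ[R] M') {A B : Submodule R M} (hAB : A ≤ B) :
    rl A B = rl (A ⊓ LinearMap.ker f) (B ⊓ LinearMap.ker f) + rl (A.map f) (B.map f) := by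
  let i : (↥(B ⊓ LinearMap.ker f) ⧸ (A ⊓ LinearMap.ker f).submoduleOf (B ⊓ LinearMap.ker f)) →ₗ[R]
      (↥B ⧸ A.submoduleOf B) :=
    Submodule.mapQ _ _ (Submodule.inclusion inf_le_left) (fun x hx => hx.1)
  let p : (↥B ⧸ A.submoduleOf B) →ₗ[R] (↥(B.map f) ⧸ (A.map f).submoduleOf (B.map f)) :=
    Submodule.mapQ _ _ (f.submoduleMap B) (fun x hx => ⟨x.1, hx, rfl⟩)
  have him : ∀ b, i (Submodule.Quotient.mk b) =
      Submodule.Quotient.mk (Submodule.inclusion inf_le_left b) := fun b => rfl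
  have hpm : ∀ b, p (Submodule.Quotient.mk b) = Submodule.Quotient.mk (f.submoduleMap B b) :=
    fun b => rfl
  have hi : Function.Injective i := by
    rw [injective_iff_map_eq_zero]
    intro x hx
    obtain ⟨b, rfl⟩ := Submodule.Quotient.mk_surjective _ x
    rw [him, Submodule.Quotient.mk_eq_zero] at hx
    rw [Submodule.Quotient.mk_eq_zero]
    exact ⟨hx, b.2.2⟩
  have hp : Function.Surjective p := by
    intro y
    obtain ⟨c, rfl⟩ := Submodule.Quotient.mk_surjective _ y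
    obtain ⟨b, rfl⟩ := f.submoduleMap_surjective B c
    exact ⟨Submodule.Quotient.mk b, rfl⟩
  have hip : Function.Exact i p := by
    intro y
    obtain ⟨b, rfl⟩ := Submodule.Quotient.mk_surjective _ y
    constructor
    · intro h
      rw [hpm, Submodule.Quotient.mk_eq_zero] at h
      obtain ⟨a, ha, hab⟩ := h
      have hab' : f a = f b.1 := hab
      have hmem : b.1 - a ∈ B ⊓ LinearMap.ker f :=
        ⟨B.sub_mem b.2 (hAB ha), by
          show b.1 - a ∈ LinearMap.ker f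
          rw [LinearMap.mem_ker, map_sub, hab', sub_self]⟩
      refine ⟨Submodule.Quotient.mk ⟨b.1 - a, hmem⟩, ?_⟩
      rw [him, Submodule.Quotient.eq]
      change (b.1 - a) - b.1 ∈ A
      have : (b.1 - a) - b.1 = -a := by abel
      rw [this]; exact A.neg_mem ha
    · rintro ⟨x, hx⟩
      obtain ⟨c, rfl⟩ := Submodule.Quotient.mk_surjective _ x
      rw [← hx, him, hpm, Submodule.Quotient.mk_eq_zero]
      refine ⟨0, A.zero_mem, ?_⟩
      have : f c.1 = 0 := c.2.2
      change f 0 = f c.1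
      rw [this, map_zero]
  exact Module.length_eq_add_of_exact i p hi hp hip

theorem rl_self (A : Submodule R M) : rl A A = 0 := by
  rw [rl, Module.length_eq_zero_iff]
  constructor
  intro x y
  obtain ⟨a, rfl⟩ := Submodule.Quotient.mk_surjective _ x
  obtain ⟨b, rfl⟩ := Submodule.Quotient.mk_surjective _ y
  rw [Submodule.Quotient.eq]
  exact A.sub_mem a.2 b.2

theorem rl_bot (A : Submodule R M) : rl A ⊥ = 0 := by
  rw [rl, Module.length_eq_zero_iff]
  constructor
  intro x y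
  obtain ⟨a, rfl⟩ := Submodule.Quotient.mk_surjective _ x
  obtain ⟨b, rfl⟩ := Submodule.Quotient.mk_surjective _ y
  have : a = b := Subsingleton.elim _ _
  rw [this]

variable {R : Type u} [CommRing R] {M : Type v} [AddCommGroup M] [Module R M] (φ : M →ₗ[R] M)

/-- `K j = ker φ^j` -/
def K (j : ℕ) : Submodule R M := LinearMap.ker (φ ^ j)
/-- `tK i j = φ^i (ker φ^j)` -/
def tK (i j : ℕ) : Submodule R M := (K φ j).map (φ ^ i)
/-- `Im j = im φ^j` -/
def Im (j : ℕ) : Submodule R M := LinearMap.range (φ ^ j)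

theorem mem_K {j : ℕ} {x : M} : x ∈ K φ j ↔ (φ ^ j) x = 0 := LinearMap.mem_ker

theorem pow_add_apply (i j : ℕ) (x : M) : (φ ^ (i + j)) x = (φ ^ i) ((φ ^ j) x) := by
  rw [pow_add]; rfl

theorem K_mono {j j' : ℕ} (h : j ≤ j') : K φ j ≤ K φ j' := by
  intro x hx
  rw [mem_K] at hx ⊢
  obtain ⟨d, rfl⟩ := Nat.exists_eq_add_of_le h
  rw [add_comm, pow_add_apply, hx, map_zero]

theorem K_zero : K φ 0 = ⊥ := by
  rw [K, pow_zero]; exact LinearMap.ker_id

theorem K_top {n : ℕ} (hφ : φ ^ n = 0) {m : ℕ} (h : n ≤ m) : K φ m = ⊤ := by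
  rw [eq_top_iff]
  intro x _
  apply K_mono φ h
  rw [mem_K, hφ]; rfl

theorem Im_inf_K (i j : ℕ) : Im φ j ⊓ K φ i = tK φ j (i + j) := by
  ext x
  rw [Submodule.mem_inf, tK, Submodule.mem_map, Im, LinearMap.mem_range]
  constructor
  · rintro ⟨⟨y, rfl⟩, hx⟩
    refine ⟨y, ?_, rfl⟩
    rw [mem_K] at hx ⊢
    rw [pow_add_apply]; exact hx
  · rintro ⟨y, hy, rfl⟩
    refine ⟨⟨y, rfl⟩, ?_⟩
    rw [mem_K] at hy ⊢
    rw [← pow_add_apply]; exact hy

theorem tK_one_inf_K (i : ℕ) : tK φ 1 (i + 2) ⊓ K φ i = tK φ 1 (i + 1) := by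
  ext x
  rw [Submodule.mem_inf, tK, tK, Submodule.mem_map, Submodule.mem_map]
  constructor
  · rintro ⟨⟨y, hy, rfl⟩, hx⟩
    refine ⟨y, ?_, rfl⟩
    rw [mem_K] at hx ⊢
    rw [pow_add_apply]; exact hx
  · rintro ⟨y, hy, rfl⟩
    refine ⟨⟨y, K_mono φ (by omega) hy, rfl⟩, ?_⟩
    rw [mem_K] at hy ⊢
    rw [← pow_add_apply]; exact hy

theorem map_tK (a b c : ℕ) : (tK φ a b).map (φ ^ c) = tK φ (c + a) b := by
  rw [tK, tK, ← Submodule.map_comp, pow_add]; rfl

theorem map_Im (a c : ℕ) : (Im φ a).map (φ ^ c) = Im φ (c + a) := by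
  rw [Im, Im, LinearMap.range_eq_map, LinearMap.range_eq_map, ← Submodule.map_comp, pow_add]; rfl

theorem tK_zero (j : ℕ) : tK φ 0 j = K φ j := by
  rw [tK, pow_zero]; exact Submodule.map_id _

theorem tK_le_K {a b c : ℕ} (h : b ≤ a + c) : tK φ a b ≤ K φ c := by
  intro x hx
  rw [tK, Submodule.mem_map] at hx
  obtain ⟨y, hy, rfl⟩ := hx
  rw [mem_K, ← pow_add_apply, ← mem_K]
  exact K_mono φ (by omega) hy

theorem tK_le_tK {a b a' b' : ℕ} (ha : a' ≤ a) (hb : b' + a ≤ b + a') (hb' : b ≤ b' + (a - a')) :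
    tK φ a b ≤ tK φ a' b' := by
  intro x hx
  rw [tK, Submodule.mem_map] at hx ⊢
  obtain ⟨y, hy, rfl⟩ := hx
  obtain ⟨d, rfl⟩ := Nat.exists_eq_add_of_le ha
  refine ⟨(φ ^ d) y, ?_, ?_⟩
  · rw [mem_K, ← pow_add_apply, ← mem_K]
    exact K_mono φ (by omega) hy
  · rw [← pow_add_apply]

theorem Im_le_tK {n : ℕ} (hφ : φ ^ n = 0) {a a' b' : ℕ} (ha : a' ≤ a) (hb : n ≤ b' + (a - a')) :
    Im φ a ≤ tK φ a' b' := by
  intro x hx
  rw [Im, LinearMap.mem_range] at hx
  rw [tK, Submodule.mem_map]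
  obtain ⟨y, rfl⟩ := hx
  obtain ⟨d, rfl⟩ := Nat.exists_eq_add_of_le ha
  refine ⟨(φ ^ d) y, ?_, ?_⟩
  · rw [mem_K, ← pow_add_apply]
    have : K φ (b' + d) = ⊤ := K_top φ hφ (by omega)
    rw [← mem_K, this]; trivial
  · rw [← pow_add_apply]

theorem Im_le_K {n : ℕ} (hφ : φ ^ n = 0) {a c : ℕ} (h : n ≤ a + c) : Im φ a ≤ K φ c := by
  intro x hx
  rw [Im, LinearMap.mem_range] at hx
  obtain ⟨y, rfl⟩ := hx
  rw [mem_K, ← pow_add_apply]
  have : K φ (c + a) = ⊤ := K_top φ hφ (by omega)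
  rw [← mem_K, this]; trivial

/-- the three families of lengths -/
noncomputable def aa (n i : ℕ) : ℕ∞ := rl (Im φ (n - i)) (K φ i)
noncomputable def bb (i : ℕ) : ℕ∞ := rl (tK φ 1 (i + 1)) (K φ i)
noncomputable def cc (i : ℕ) : ℕ∞ := rl (tK φ i (i + 1)) (K φ 1)

theorem eqA {n : ℕ} (hφ : φ ^ n = 0) (i : ℕ) (hi : i + 1 ≤ n) :
    aa φ n (i + 1) + bb φ i = aa φ n i + cc φ (n - i - 1) := by
  obtain ⟨j, hj⟩ : ∃ j, n = i + 1 + j := Nat.exists_eq_add_of_le hi
  have hj1 : n - (i + 1) = j := by omega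
  have hj2 : n - i = j + 1 := by omega
  have hj3 : n - i - 1 = j := by omega
  have h1 := rl_map_ker (φ ^ 1) (A := Im φ j) (B := K φ (i + 1)) (Im_le_K φ hφ (by omega))
  have hk1 : LinearMap.ker (φ ^ 1) = K φ 1 := rfl
  rw [hk1, Im_inf_K, inf_eq_right.mpr (K_mono φ (by omega)), map_Im] at h1
  have h2 := rl_chain (A := Im φ (1 + j)) (B := tK φ 1 (i + 1)) (C := K φ i)
    (Im_le_tK φ hφ (by omega) (by omega)) (tK_le_K φ (by omega))
  have e1 : (K φ (i + 1)).map (φ ^ 1) = tK φ 1 (i + 1) := rfl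
  rw [e1] at h1
  rw [aa, aa, bb, cc, hj3, hj1, hj2, h1]
  rw [show j + 1 = 1 + j by omega, h2]
  ring

theorem eqB (i : ℕ) : bb φ (i + 1) + cc φ i = bb φ i + cc φ (i + 1) := by
  have h1 := rl_map_ker (φ ^ i) (A := tK φ 1 (i + 2)) (B := K φ (i + 1)) (tK_le_K φ (by omega))
  have hk1 : LinearMap.ker (φ ^ i) = K φ i := rfl
  rw [hk1, tK_one_inf_K, inf_eq_right.mpr (K_mono φ (by omega)), map_tK] at h1
  have e1 : (K φ (i + 1)).map (φ ^ i) = tK φ i (i + 1) := rfl
  rw [e1] at h1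
  have h2 := rl_chain (A := tK φ (i + 1) (i + 2)) (B := tK φ i (i + 1)) (C := K φ 1)
    (tK_le_tK φ (by omega) (by omega) (by omega)) (tK_le_K φ (by omega))
  rw [bb, bb, cc, cc, h1, h2]
  ring


open Finset

/-- the purely numerical part -/
theorem numeric (n : ℕ) (α γ : ℕ → ℕ∞) (h0 : α 0 = 0) (hγ : ∀ j, j < n → γ j < ⊤)
    (hrec : ∀ i, i < n → α (i + 1) + γ i = α i + γ (n - i - 1)) :
    ∀ i, i ≤ n → α i < ⊤ ∧ α i = α (n - i) := by
  have hfin : ∀ i, i ≤ n → α i < ⊤ := by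
    intro i
    induction i with
    | zero => intro _; rw [h0]; exact ENat.top_pos
    | succ i ih =>
      intro hi
      have h1 := hrec i (by omega)
      have h2 : α i + γ (n - i - 1) < ⊤ :=
        ENat.add_lt_top.mpr ⟨ih (by omega), hγ _ (by omega)⟩
      rw [← h1] at h2
      exact lt_of_le_of_lt le_self_add h2
  -- convert to naturals
  let a : ℕ → ℕ := fun i => (α i).toNat
  let g : ℕ → ℕ := fun i => (γ i).toNat
  have ha : ∀ i, i ≤ n → α i = (a i : ℕ∞) := fun i hi => (ENat.natCast_toNat (hfin i hi).ne).symm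
  have hg : ∀ j, j < n → γ j = (g j : ℕ∞) := fun j hj => (ENat.natCast_toNat (hγ j hj).ne).symm
  have hrecN : ∀ i, i < n → a (i + 1) + g i = a i + g (n - i - 1) := by
    intro i hi
    have h1 := hrec i hi
    rw [ha (i + 1) (by omega), ha i (by omega), hg i hi, hg (n - i - 1) (by omega)] at h1
    exact_mod_cast h1
  let δ : ℕ → ℤ := fun j => (g (n - 1 - j) : ℤ) - g j
  have hδ : ∀ j, j < n → δ (n - 1 - j) = - δ j := by
    intro j hj
    simp only [δ]
    have : n - 1 - (n - 1 - j) = j := by omega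
    rw [this]; ring
  have hD : ∀ i, i ≤ n → (a i : ℤ) = ∑ j ∈ range i, δ j := by
    intro i
    induction i with
    | zero =>
      intro _
      have : a 0 = 0 := by simp [a, h0]
      simp [this]
    | succ i ih =>
      intro hi
      rw [Finset.sum_range_succ, ← ih (by omega)]
      have := hrecN i (by omega)
      simp only [δ]
      have e : n - i - 1 = n - 1 - i := by omega
      rw [e] at this
      omega
  have hDn : ∑ j ∈ range n, δ j = 0 := by
    have h1 := Finset.sum_range_reflect δ n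
    have h2 : ∑ j ∈ range n, δ (n - 1 - j) = - ∑ j ∈ range n, δ j := by
      rw [← Finset.sum_neg_distrib]
      exact Finset.sum_congr rfl (fun j hj => hδ j (Finset.mem_range.mp hj))
    linarith
  intro i hi
  refine ⟨hfin i hi, ?_⟩
  rw [ha i hi, ha (n - i) (by omega)]
  have hsym : (a i : ℤ) = a (n - i) := by
    rw [hD i hi, hD (n - i) (by omega)]
    have h1 : ∑ j ∈ range n, δ j = ∑ j ∈ range (n - i), δ j + ∑ j ∈ range i, δ (n - i + j) := by
      rw [← Finset.sum_range_add, Nat.sub_add_cancel hi]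
    have h2 : ∑ j ∈ range i, δ (n - i + j) = - ∑ j ∈ range i, δ j := by
      rw [← Finset.sum_range_reflect (fun j => δ (n - i + j)) i, ← Finset.sum_neg_distrib]
      refine Finset.sum_congr rfl (fun j hj => ?_)
      have hj' := Finset.mem_range.mp hj
      have : n - i + (i - 1 - j) = n - 1 - j := by omega
      rw [this]
      exact hδ j (by omega)
    linarith
  exact_mod_cast hsym


end Groth.Agent.H73.RelLen
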