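import Mathlib
import Groth.Agent.H73.RelLen
import Groth.Prelude.Def_CycAlg

namespace Groth.Agent.H73.RelLen

universe u v

variable {R : Type u} [CommRing R] {M : Type v} [AddCommGroup M] [Module R M] (φ : M →ₗ[R] M)

theorem main (n : ℕ) (hn : 0 < n) (hφ : φ ^ n = 0)
    (hfin : Module.length R (CycAlg.perH φ (φ ^ (n - 1))) < ⊤) (i : ℕ) (hi : i ≤ n) :
    CycAlg.FinCoh R (φ ^ i) (φ ^ (n - i)) ∧ CycAlg.herbrand R (φ ^ i) (φ ^ (n - i)) = 0 := by
  -- c finite
  have hK1 : K φ 1 = LinearMap.ker φ := by rw [K, pow_one]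
  have hcn : cc φ (n - 1) < ⊤ := by
    have e1 : tK φ (n - 1) (n - 1 + 1) = Im φ (n - 1) := by
      rw [tK, K_top φ hφ (by omega), Submodule.map_top]; rfl
    rw [cc, e1, hK1]
    exact hfin
  have hc : ∀ j, j < n → cc φ j < ⊤ := by
    intro j hj
    have h2 := rl_chain (A := tK φ (n - 1) (n - 1 + 1)) (B := tK φ j (j + 1)) (C := K φ 1)
      (tK_le_tK φ (by omega) (by omega) (by omega)) (tK_le_K φ (by omega))
    have : cc φ j ≤ cc φ (n - 1) := by
      rw [cc, cc, h2]; exact le_add_self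
    exact lt_of_le_of_lt this hcn
  have hb0 : bb φ 0 = 0 := by rw [bb, K_zero]; exact rl_bot _
  have hc0 : cc φ 0 = 0 := by rw [cc, tK_zero]; exact rl_self _
  have hbc : ∀ j, j < n → bb φ j = cc φ j := by
    intro j
    induction j with
    | zero => intro _; rw [hb0, hc0]
    | succ j ih =>
      intro hj
      have h1 := eqB φ j
      rw [ih (by omega), add_comm (cc φ j)] at h1
      exact ENat.add_left_injective_of_ne_top (hc j (by omega)).ne h1
  have ha0 : aa φ n 0 = 0 := by rw [aa, K_zero]; exact rl_bot _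
  have hrec : ∀ j, j < n → aa φ n (j + 1) + cc φ j = aa φ n j + cc φ (n - j - 1) := by
    intro j hj
    rw [← hbc j hj]
    exact eqA φ hφ j (by omega)
  have key := numeric n (aa φ n) (cc φ) ha0 hc hrec
  have h1 := key i hi
  have h2 := key (n - i) (by omega)
  have e1 : Module.length R (CycAlg.perH (φ ^ i) (φ ^ (n - i))) = aa φ n i := rfl
  have e2 : Module.length R (CycAlg.perH (φ ^ (n - i)) (φ ^ i)) = aa φ n (n - i) := by
    rw [aa, Nat.sub_sub_self hi]; rfl
  refine ⟨⟨?_, ?_⟩, ?_⟩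
  · rw [e1]; exact h1.1
  · rw [e2]; exact h2.1
  · rw [CycAlg.herbrand, e1, e2, h1.2, sub_self]

end Groth.Agent.H73.RelLen
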