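import Mathlib

/-!
# Abhyankar's inequality for extensions of valued fields
-/

namespace Groth.Agent.H73.Abhyankar

open IsLocalRing Valuation MvPolynomial

universe u

variable {K L Γ₀ Γ₁ : Type u} [Field K] [Field L] [Algebra K L]
  [LinearOrderedCommGroupWithZero Γ₀] [LinearOrderedCommGroupWithZero Γ₁]
  (vK : Valuation K Γ₀) (vL : Valuation L Γ₁) [vK.HasExtension vL]

local notation "K₀" => Valuation.valuationSubring vK
local notation "L₀" => Valuation.valuationSubring vL

/-- Compatibility of evaluation with passing to the residue field. -/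
theorem residue_aeval {t : Type u} (y : t → L₀) (Q₀ : MvPolynomial t K₀) :
    aeval (fun j => residue L₀ (y j)) (map (residue K₀) Q₀) =
      residue L₀ (aeval y Q₀) := by
  induction Q₀ using MvPolynomial.induction_on with
  | C a =>
    simp only [map_C, aeval_C]
    rfl
  | add p q hp hq => simp only [map_add, hp, hq]
  | mul_X p j hp => simp only [map_mul, hp, map_X, aeval_X]

/-- Compatibility of evaluation with the inclusion `L₀ → L`. -/
theorem coe_aeval {t : Type u} (y : t → L₀) (Q₀ : MvPolynomial t K₀) :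
    ((aeval y Q₀ : L₀) : L) =
      aeval (fun j => ((y j : L₀) : L)) (map (algebraMap K₀ K) Q₀) := by
  induction Q₀ using MvPolynomial.induction_on with
  | C a =>
    simp only [map_C, aeval_C]
    rfl
  | add p q hp hq => simp only [map_add, ← hp, ← hq]; rfl
  | mul_X p j hp => simp only [map_mul, ← hp, map_X, aeval_X]; rfl

/-- Gauss lemma: a nonzero polynomial in residually algebraically independent integral elements
has the valuation of one of its coefficients. -/
theorem exists_val_aeval_eq {t : Type u} (y : t → L₀)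
    (hy : AlgebraicIndependent (ResidueField K₀) (fun j => residue L₀ (y j)))
    (Q : MvPolynomial t K) (hQ : Q ≠ 0) :
    ∃ c : K, c ≠ 0 ∧ vL (aeval (fun j => ((y j : L₀) : L)) Q) = vL (algebraMap K L c) := by
  classical
  have hne : Q.support.Nonempty := by
    rwa [Finset.nonempty_iff_ne_empty, Ne, MvPolynomial.support_eq_empty]
  obtain ⟨m₀, hm₀, hmax⟩ := Finset.exists_max_image Q.support (fun m => vK (coeff m Q)) hne
  set c := coeff m₀ Q with hc
  have hc0 : c ≠ 0 := MvPolynomial.mem_support_iff.mp hm₀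
  have hvc : vK c ≠ 0 := (Valuation.ne_zero_iff vK).mpr hc0
  refine ⟨c, hc0, ?_⟩
  set Q' := C c⁻¹ * Q with hQ'
  have hcoef : ∀ m, coeff m Q' = c⁻¹ * coeff m Q := fun m => by rw [hQ', coeff_C_mul]
  have hle : ∀ m, vK (coeff m Q') ≤ 1 := by
    intro m
    rw [hcoef, map_mul, map_inv₀]
    by_cases hm : m ∈ Q.support
    · exact (inv_mul_le_one₀ (zero_lt_iff.mpr hvc)).mpr (hmax m hm)
    · rw [MvPolynomial.notMem_support_iff.mp hm, map_zero, mul_zero]; exact zero_le_one
  have hrange : Q' ∈ Set.range (MvPolynomial.map (algebraMap K₀ K)) := by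
    rw [mem_range_map_iff_coeffs_subset]
    intro a ha
    rw [Finset.mem_coe, MvPolynomial.mem_coeffs_iff] at ha
    obtain ⟨m, -, rfl⟩ := ha
    exact ⟨⟨coeff m Q', hle m⟩, rfl⟩
  obtain ⟨Q₀, hQ₀⟩ := hrange
  have hinjK : Function.Injective (algebraMap K₀ K) := Subtype.val_injective
  have h1 : coeff m₀ Q₀ = 1 := by
    apply hinjK
    rw [← MvPolynomial.coeff_map, hQ₀, hcoef, map_one, inv_mul_cancel₀ hc0]
  have hbar : MvPolynomial.map (residue K₀) Q₀ ≠ 0 := by
    intro h
    have := congrArg (coeff m₀) h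
    rw [coeff_map, h1, map_one, coeff_zero] at this
    exact one_ne_zero this
  have h2 : residue L₀ (aeval y Q₀) ≠ 0 := by
    rw [← residue_aeval]
    intro h
    exact hbar (hy.eq_zero_of_aeval_eq_zero _ h)
  have h3 : IsUnit (aeval y Q₀ : L₀) := by
    by_contra hnu
    exact h2 ((residue_eq_zero_iff _).mpr hnu)
  have h4 : vL ((aeval y Q₀ : L₀) : L) = 1 :=
    (Valuation.Integers.isUnit_iff_valuation_eq_one
      (Valuation.valuationSubring.integers vL)).mp h3
  rw [coe_aeval, hQ₀, hQ', map_mul, aeval_C, map_mul] at h4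
  have h5 : vL (algebraMap K L c⁻¹) * vL (algebraMap K L c) = 1 := by
    rw [← map_mul, ← map_mul, inv_mul_cancel₀ hc0, map_one, map_one]
  have h6 : vL (algebraMap K L c⁻¹) ≠ 0 := left_ne_zero_of_mul_eq_one h5
  exact mul_left_cancel₀ h6 (h4.trans h5.symm)

omit [Algebra K L] in
/-- A finite nonempty sum of nonzero elements with pairwise distinct valuations is nonzero. -/
theorem sum_ne_zero_of_injOn_val {ι : Type*} (F : Finset ι) (f : ι → L)
    (hne : F.Nonempty) (h0 : ∀ i ∈ F, f i ≠ 0) (hinj : Set.InjOn (fun i => vL (f i)) F) :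
    ∑ i ∈ F, f i ≠ 0 := by
  classical
  obtain ⟨i₀, hi₀, hmax⟩ := Finset.exists_max_image F (fun i => vL (f i)) hne
  have hv0 : vL (f i₀) ≠ 0 := (Valuation.ne_zero_iff vL).mpr (h0 i₀ hi₀)
  rw [← Finset.add_sum_erase F f hi₀]
  have hlt : vL (∑ i ∈ F.erase i₀, f i) < vL (f i₀) := by
    refine Valuation.map_sum_lt vL hv0 fun i hi => ?_
    have hiF := Finset.mem_of_mem_erase hi
    refine lt_of_le_of_ne (hmax i hiF) fun h => ?_
    exact Finset.ne_of_mem_erase hi (hinj hiF hi₀ h)
  intro h
  have := Valuation.map_add_eq_of_lt_left vL hlt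
  rw [h, map_zero] at this
  exact hv0 this.symm

/-- The subgroup of `Lˣ` generated by valuation units and the image of `Kˣ`. -/
noncomputable abbrev H : Subgroup Lˣ :=
  vL.valuationSubring.unitGroup ⊔ (Units.map (algebraMap K L).toMonoidHom).range

omit [vK.HasExtension vL] in
theorem mem_H_of_val_eq (U : Lˣ) (d : K) (hd : d ≠ 0) (h : vL (U : L) = vL (algebraMap K L d)) :
    U ∈ H (K := K) vL := by
  have hd' : algebraMap K L d ≠ 0 := by
    intro h0
    rw [h0, map_zero] at h
    exact (Valuation.ne_zero_iff vL).mpr U.ne_zero h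
  let D : Lˣ := Units.map (algebraMap K L).toMonoidHom (Units.mk0 d hd)
  have hD : (D : L) = algebraMap K L d := rfl
  have h1 : U * D⁻¹ ∈ vL.valuationSubring.unitGroup := by
    rw [ValuationSubring.mem_unitGroup_iff]
    have : vL ((U * D⁻¹ : Lˣ) : L) = 1 := by
      rw [Units.val_mul, Units.val_inv_eq_inv_val, map_mul, map_inv₀, hD, h]
      exact mul_inv_cancel₀ ((Valuation.ne_zero_iff vL).mpr hd')
    exact (Valuation.isEquiv_valuation_valuationSubring vL).eq_one_iff_eq_one.mp this
  have h2 : D ∈ (Units.map (algebraMap K L).toMonoidHom).range := ⟨_, rfl⟩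
  have : U = (U * D⁻¹) * D := by group
  rw [this]
  exact mul_mem (Subgroup.mem_sup_left h1) (Subgroup.mem_sup_right h2)

omit [vK.HasExtension vL] in
/-- Rational independence: distinct monomials in the `x i` have distinct valuations modulo `vL(Kˣ)`. -/
theorem eq_of_val_monomial_eq {s : Type u} (x : s → Lˣ)
    (hx : LinearIndependent ℤ (fun i =>
      (QuotientAddGroup.mk (Additive.ofMul (x i)) :
        Additive Lˣ ⧸ Subgroup.toAddSubgroup (H (K := K) vL))))
    (α β : s →₀ ℕ) (c c' : K) (hc : c ≠ 0) (hc' : c' ≠ 0)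
    (h : vL (algebraMap K L c) * α.prod (fun i n => vL (x i : L) ^ n) =
      vL (algebraMap K L c') * β.prod (fun i n => vL (x i : L) ^ n)) : α = β := by
  classical
  set S := α.support ∪ β.support with hS
  let w : s → ℤ := fun i => (α i : ℤ) - (β i : ℤ)
  let U : Lˣ := ∏ i ∈ S, x i ^ (w i)
  have hvx : ∀ i, vL (x i : L) ≠ 0 := fun i => (Valuation.ne_zero_iff vL).mpr (x i).ne_zero
  have hα : α.prod (fun i n => vL (x i : L) ^ n) = ∏ i ∈ S, vL (x i : L) ^ (α i) :=
    Finsupp.prod_of_support_subset _ Finset.subset_union_left _ (fun i _ => pow_zero _)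
  have hβ : β.prod (fun i n => vL (x i : L) ^ n) = ∏ i ∈ S, vL (x i : L) ^ (β i) :=
    Finsupp.prod_of_support_subset _ Finset.subset_union_right _ (fun i _ => pow_zero _)
  have hUval : vL (U : L) = (∏ i ∈ S, vL (x i : L) ^ (α i)) / (∏ i ∈ S, vL (x i : L) ^ (β i)) := by
    have : (U : L) = ∏ i ∈ S, (x i : L) ^ (w i) := by
      simp only [U, Units.coe_prod, Units.val_zpow_eq_zpow_val]
    rw [this, map_prod, ← Finset.prod_div_distrib]
    refine Finset.prod_congr rfl fun i _ => ?_
    rw [map_zpow₀, zpow_sub₀ (hvx i), zpow_natCast, zpow_natCast]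
  have hcv : vL (algebraMap K L c) ≠ 0 :=
    (Valuation.ne_zero_iff vL).mpr (by simpa using hc)
  have hcv' : vL (algebraMap K L c') ≠ 0 :=
    (Valuation.ne_zero_iff vL).mpr (by simpa using hc')
  have hβ0 : (∏ i ∈ S, vL (x i : L) ^ (β i)) ≠ 0 :=
    Finset.prod_ne_zero_iff.mpr fun i _ => pow_ne_zero _ (hvx i)
  have hU : U ∈ H (K := K) vL := by
    refine mem_H_of_val_eq vL U (c' / c) (div_ne_zero hc' hc) ?_
    rw [hUval, map_div₀, map_div₀]
    rw [hα, hβ] at h
    rw [div_eq_div_iff hβ0 hcv]
    rw [mul_comm] at h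
    rw [h]
  have hsum : ∑ i ∈ S, w i • (QuotientAddGroup.mk (Additive.ofMul (x i)) :
        Additive Lˣ ⧸ Subgroup.toAddSubgroup (H (K := K) vL)) = 0 := by
    have h1 : (QuotientAddGroup.mk (Additive.ofMul U) :
        Additive Lˣ ⧸ Subgroup.toAddSubgroup (H (K := K) vL)) = 0 := by
      rw [QuotientAddGroup.eq_zero_iff]
      exact hU
    rw [← h1]
    simp only [U, ofMul_prod, ofMul_zpow, QuotientAddGroup.mk_sum, QuotientAddGroup.mk_zsmul]
  have hw := linearIndependent_iff'.mp hx S w hsum
  ext i
  by_cases hi : i ∈ S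
  · have := hw i hi
    simp only [w] at this
    omega
  · rw [hS, Finset.mem_union, not_or, Finsupp.mem_support_iff, Finsupp.mem_support_iff,
      not_not, not_not] at hi
    rw [hi.1, hi.2]

/-- The key algebraic independence statement. -/
theorem algebraicIndependent_sumElim {s t : Type u} (x : s → Lˣ)
    (hx : LinearIndependent ℤ (fun i =>
      (QuotientAddGroup.mk (Additive.ofMul (x i)) :
        Additive Lˣ ⧸ Subgroup.toAddSubgroup (H (K := K) vL))))
    (y : t → L₀)
    (hy : AlgebraicIndependent (ResidueField K₀) (fun j => residue L₀ (y j))) :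
    AlgebraicIndependent K
      (Sum.elim (fun i => (x i : L)) (fun j => ((y j : L₀) : L))) := by
  classical
  rw [algebraicIndependent_iff]
  intro P hP
  by_contra hP0
  set yL : t → L := fun j => ((y j : L₀) : L) with hyL
  set xL : s → L := fun i => (x i : L) with hxL
  -- rewrite the evaluation through the iterated polynomial ring
  have hfac : (aeval (Sum.elim xL yL) : MvPolynomial (s ⊕ t) K →ₐ[K] L) =
      (aevalTower (aeval yL : MvPolynomial t K →ₐ[K] L) xL).comp
        (sumAlgEquiv K s t).toAlgHom := by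
    apply MvPolynomial.algHom_ext
    rintro (i | j)
    · simp
    · simp
  set P' := sumAlgEquiv K s t P with hP'
  have hP'0 : P' ≠ 0 := by
    intro h
    apply hP0
    have := congrArg (sumAlgEquiv K s t).symm h
    rwa [hP', AlgEquiv.symm_apply_apply, map_zero] at this
  have heval : aeval (Sum.elim xL yL) P =
      ∑ α ∈ P'.support, aeval yL (coeff α P') * α.prod (fun i n => xL i ^ n) := by
    rw [hfac]
    change (aevalTower (aeval yL : MvPolynomial t K →ₐ[K] L) xL) P' = _
    change eval₂ ((aeval yL : MvPolynomial t K →ₐ[K] L) : MvPolynomial t K →+* L) xL P' = _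
    rw [eval₂_eq]
    rfl
  have hne : P'.support.Nonempty := by
    rwa [Finset.nonempty_iff_ne_empty, Ne, MvPolynomial.support_eq_empty]
  -- Gauss lemma for each coefficient
  have hgauss : ∀ α ∈ P'.support, ∃ c : K, c ≠ 0 ∧
      vL (aeval yL (coeff α P')) = vL (algebraMap K L c) := fun α hα =>
    exists_val_aeval_eq vK vL y hy _ (MvPolynomial.mem_support_iff.mp hα)
  choose! c hc0 hcv using hgauss
  have hval : ∀ α ∈ P'.support, vL (aeval yL (coeff α P') * α.prod (fun i n => xL i ^ n)) =
      vL (algebraMap K L (c α)) * α.prod (fun i n => vL (x i : L) ^ n) := by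
    intro α hα
    rw [map_mul, hcv α hα, Finsupp.prod, Finsupp.prod, map_prod]
    congr 1
    refine Finset.prod_congr rfl fun i _ => ?_
    rw [map_pow]
  have hvx : ∀ i, vL (x i : L) ≠ 0 := fun i => (Valuation.ne_zero_iff vL).mpr (x i).ne_zero
  refine sum_ne_zero_of_injOn_val vL P'.support
    (fun α => aeval yL (coeff α P') * α.prod (fun i n => xL i ^ n)) hne ?_ ?_ ?_
  · intro α hα
    rw [← Valuation.ne_zero_iff vL, hval α hα]
    refine mul_ne_zero ((Valuation.ne_zero_iff vL).mpr ?_) ?_
    · simpa using hc0 α hα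
    · rw [Finsupp.prod]
      exact Finset.prod_ne_zero_iff.mpr fun i _ => pow_ne_zero _ (hvx i)
  · intro α hα β hβ hαβ
    simp only at hαβ
    rw [hval α hα, hval β hβ] at hαβ
    exact eq_of_val_monomial_eq vL x hx α β (c α) (c β) (hc0 α hα) (hc0 β hβ) hαβ
  · rw [← heval]; exact hP

open Cardinal in
/-- Abhyankar's inequality. -/
theorem main :
    Module.rank ℤ (Additive Lˣ ⧸ Subgroup.toAddSubgroup (H (K := K) vL)) +
      Algebra.trdeg (ResidueField K₀) (ResidueField L₀) ≤ Algebra.trdeg K L := by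
  classical
  obtain ⟨S, hScard, hSli⟩ := exists_set_linearIndependent_of_isDomain ℤ
    (Additive Lˣ ⧸ Subgroup.toAddSubgroup (H (K := K) vL))
  have hlift : ∀ g : Additive Lˣ ⧸ Subgroup.toAddSubgroup (H (K := K) vL),
      ∃ u : Lˣ, (QuotientAddGroup.mk (Additive.ofMul u) :
        Additive Lˣ ⧸ Subgroup.toAddSubgroup (H (K := K) vL)) = g := by
    intro g
    obtain ⟨a, rfl⟩ := QuotientAddGroup.mk_surjective g
    exact ⟨Additive.toMul a, rfl⟩
  choose xg hxg using hlift
  let x : S → Lˣ := fun g => xg g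
  have hx : LinearIndependent ℤ (fun i : S =>
      (QuotientAddGroup.mk (Additive.ofMul (x i)) :
        Additive Lˣ ⧸ Subgroup.toAddSubgroup (H (K := K) vL))) := by
    have : (fun i : S => (QuotientAddGroup.mk (Additive.ofMul (x i)) :
        Additive Lˣ ⧸ Subgroup.toAddSubgroup (H (K := K) vL))) =
        fun i : S => (i.1 : Additive Lˣ ⧸ Subgroup.toAddSubgroup (H (K := K) vL)) := by
      funext i; exact hxg i
    rw [this]
    exact hSli
  obtain ⟨ι, b, hb⟩ := exists_isTranscendenceBasis' (ResidueField K₀) (ResidueField L₀)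
  have hylift : ∀ j : ι, ∃ yj : L₀, residue L₀ yj = b j := fun j => residue_surjective (b j)
  choose y hy using hylift
  have hyind : AlgebraicIndependent (ResidueField K₀) (fun j => residue L₀ (y j)) := by
    have : (fun j => residue L₀ (y j)) = b := funext hy
    rw [this]; exact hb.1
  have hai := algebraicIndependent_sumElim vK vL x hx y hyind
  have hle := hai.cardinalMk_le_trdeg
  rw [mk_sum, lift_id, lift_id, hScard, hb.cardinalMk_eq_trdeg] at hle
  exact hle

end Groth.Agent.H73.Abhyankar
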