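import Mathlib.RingTheory.AdicCompletion.Exactness
import Mathlib.RingTheory.Finiteness.Nakayama
import Mathlib.RingTheory.Ideal.Maximal

set_option autoImplicit false

namespace Groth.Agent.H73

universe u

open AdicCompletion

section
variable {R : Type u} [CommRing R]

/-- A finitely generated module whose completions at all maximal ideals vanish is zero. -/
lemma subsingleton_of_forall_adicCompletion (N : Type u) [AddCommGroup N] [Module R N]
    [Module.Finite R N]
    (h : ∀ (m : Ideal R) [m.IsMaximal], Subsingleton (AdicCompletion m N)) : Subsingleton N := by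
  have key : ∀ (m : Ideal R) [m.IsMaximal], ∃ r : R, r - 1 ∈ m ∧ ∀ n : N, r • n = 0 := by
    intro m hm
    have hs := h m
    have htop : (⊤ : Submodule R N) ≤ m • (⊤ : Submodule R N) := by
      intro x _
      have hsurj := AdicCompletion.eval_surjective m N 1
      have : Submodule.Quotient.mk (p := (m ^ 1 • ⊤ : Submodule R N)) x = 0 := by
        obtain ⟨y, hy⟩ := hsurj (Submodule.Quotient.mk x)
        rw [← hy, Subsingleton.elim y 0, _root_.map_zero]
      rw [Submodule.Quotient.mk_eq_zero, pow_one] at this
      exact this
    obtain ⟨r, hr, hr'⟩ := Submodule.exists_sub_one_mem_and_smul_eq_zero_of_fg_of_le_smul m ⊤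
      (Module.Finite.fg_top) htop
    exact ⟨r, hr, fun n => hr' n trivial⟩
  by_contra hN
  rw [not_subsingleton_iff_nontrivial] at hN
  have hann : Module.annihilator R N ≠ ⊤ := by
    intro htop
    have h1 : (1 : R) ∈ Module.annihilator R N := by rw [htop]; trivial
    rw [Module.mem_annihilator] at h1
    obtain ⟨x, y, hxy⟩ := hN
    apply hxy
    rw [← one_smul R x, ← one_smul R y, h1 x, h1 y]
  obtain ⟨m, hm, hle⟩ := Ideal.exists_le_maximal _ hann
  obtain ⟨r, hr, hr'⟩ := key m
  have hrm : r ∈ m := hle (Module.mem_annihilator.mpr hr')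
  have h1 : (1 : R) ∈ m := by
    have := m.sub_mem hrm hr
    simpa using this
  exact hm.ne_top ((Ideal.eq_top_iff_one _).mpr h1)

variable [IsNoetherianRing R] (I : Ideal R)
variable {M N P : Type u} [AddCommGroup M] [Module R M] [AddCommGroup N] [Module R N]
  [AddCommGroup P] [Module R P]

/-- Right exactness of completion. -/
lemma adic_map_exact_mkQ (f : M →ₗ[R] N) [Module.Finite R N] :
    Function.Exact (map I f) (map I (LinearMap.range f).mkQ) := by
  have h1 : Function.Exact (map I (LinearMap.range f).subtype) (map I (LinearMap.range f).mkQ) :=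
    AdicCompletion.map_exact (I := I) (Submodule.injective_subtype _)
      (LinearMap.exact_subtype_mkQ _) (Submodule.mkQ_surjective _)
  have h2 : Function.Surjective (map I f.rangeRestrict) :=
    map_surjective I (LinearMap.surjective_rangeRestrict f)
  have h3 : ∀ x, map I f x = map I (LinearMap.range f).subtype (map I f.rangeRestrict x) := by
    intro x
    rw [AdicCompletion.map_comp_apply]
    rfl
  intro y
  rw [h1 y]
  constructor
  · rintro ⟨z, rfl⟩
    obtain ⟨w, rfl⟩ := h2 z
    exact ⟨w, h3 w⟩
  · rintro ⟨w, rfl⟩
    exact ⟨_, (h3 w).symm⟩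

/-- Left exactness of completion. -/
lemma adic_map_exact_ker (g : N →ₗ[R] P) [Module.Finite R N] [Module.Finite R P] :
    Function.Exact (map I (LinearMap.ker g).subtype) (map I g) := by
  have h1 : Function.Exact (map I (LinearMap.ker g).subtype) (map I g.rangeRestrict) :=
    AdicCompletion.map_exact (I := I) (Submodule.injective_subtype _)
      (by
        intro y
        constructor
        · intro hy
          have : g y = 0 := congrArg Subtype.val hy
          exact ⟨⟨y, this⟩, rfl⟩
        · rintro ⟨z, rfl⟩
          exact Subtype.ext z.2)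
      (LinearMap.surjective_rangeRestrict g)
  have h2 : Function.Injective (map I (LinearMap.range g).subtype) :=
    map_injective I (Submodule.injective_subtype _)
  have h3 : ∀ x, map I g x = map I (LinearMap.range g).subtype (map I g.rangeRestrict x) := by
    intro x
    rw [AdicCompletion.map_comp_apply]
    rfl
  intro y
  rw [← h1 y, h3]
  constructor
  · intro hy
    apply h2
    rw [hy, _root_.map_zero]
  · intro hy
    rw [hy, _root_.map_zero]

lemma adic_map_injective_ker (g : N →ₗ[R] P) [Module.Finite R N] :
    Function.Injective (map I (LinearMap.ker g).subtype) :=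
  map_injective I (Submodule.injective_subtype _)

end

end Groth.Agent.H73

namespace Groth.Agent.H73

universe u

open AdicCompletion

section
variable {A : Type u} [CommRing A] [IsNoetherianRing A]
  {M' M M'' : Type u} [AddCommGroup M'] [Module A M'] [AddCommGroup M] [Module A M]
  [AddCommGroup M''] [Module A M'']
  [Module.Finite A M'] [Module.Finite A M] [Module.Finite A M'']
  (f : M' →ₗ[A] M) (g : M →ₗ[A] M'')

lemma exact_of_forall_adic_exact
    (H : ∀ (m : Ideal A) [m.IsMaximal],
        Function.Injective (AdicCompletion.map m f) ∧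
        Function.Exact (AdicCompletion.map m f) (AdicCompletion.map m g) ∧
          Function.Surjective (AdicCompletion.map m g)) :
    Function.Injective f ∧ Function.Exact f g ∧ Function.Surjective g := by
  -- surjectivity of g
  have hsurj : Function.Surjective g := by
    have : Subsingleton (M'' ⧸ LinearMap.range g) := by
      apply subsingleton_of_forall_adicCompletion (R := A)
      intro m hm
      obtain ⟨-, -, h3⟩ := H m
      have hex := adic_map_exact_mkQ m g
      have hs : Function.Surjective (map m (LinearMap.range g).mkQ) :=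
        map_surjective m (Submodule.mkQ_surjective _)
      refine ⟨fun a b => ?_⟩
      obtain ⟨a', rfl⟩ := hs a
      obtain ⟨b', rfl⟩ := hs b
      obtain ⟨a'', rfl⟩ := h3 a'
      obtain ⟨b'', rfl⟩ := h3 b'
      rw [hex.apply_apply_eq_zero, hex.apply_apply_eq_zero]
    rw [← LinearMap.range_eq_top, ← Submodule.Quotient.subsingleton_iff]
    exact this
  -- g ∘ f = 0
  have hcomp : g ∘ₗ f = 0 := by
    have : Subsingleton (LinearMap.range (g ∘ₗ f)) := by
      apply subsingleton_of_forall_adicCompletion (R := A)
      intro m hm
      obtain ⟨-, h2, -⟩ := H m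
      have hs : Function.Surjective (map m (g ∘ₗ f).rangeRestrict) :=
        map_surjective m (LinearMap.surjective_rangeRestrict _)
      have hi : Function.Injective (map m (LinearMap.range (g ∘ₗ f)).subtype) :=
        map_injective m (Submodule.injective_subtype _)
      have hz : ∀ x, map m (g ∘ₗ f).rangeRestrict x = 0 := by
        intro x
        apply hi
        rw [AdicCompletion.map_comp_apply, _root_.map_zero]
        have : (LinearMap.range (g ∘ₗ f)).subtype ∘ₗ (g ∘ₗ f).rangeRestrict = g ∘ₗ f := rfl
        rw [this, ← AdicCompletion.map_comp_apply, h2.apply_apply_eq_zero]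
      refine ⟨fun a b => ?_⟩
      obtain ⟨a', rfl⟩ := hs a
      obtain ⟨b', rfl⟩ := hs b
      rw [hz, hz]
    ext x
    have hx : (⟨(g ∘ₗ f) x, LinearMap.mem_range_self _ x⟩ : LinearMap.range (g ∘ₗ f)) = 0 :=
      Subsingleton.elim _ _
    exact congrArg Subtype.val hx
  have hgf : ∀ x, g (f x) = 0 := fun x => LinearMap.congr_fun hcomp x
  -- exactness in the middle
  have hker : ∀ y, g y = 0 → ∃ x, f x = y := by
    let f' : M' →ₗ[A] LinearMap.ker g := f.codRestrict (LinearMap.ker g) hgf
    have : Subsingleton (LinearMap.ker g ⧸ LinearMap.range f') := by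
      apply subsingleton_of_forall_adicCompletion (R := A)
      intro m hm
      obtain ⟨-, h2, -⟩ := H m
      have hex := adic_map_exact_mkQ m f'
      have hs : Function.Surjective (map m (LinearMap.range f').mkQ) :=
        map_surjective m (Submodule.mkQ_surjective _)
      have hi := adic_map_injective_ker m g
      have hf's : Function.Surjective (map m f') := by
        intro z
        have hz : map m g (map m (LinearMap.ker g).subtype z) = 0 :=
          (adic_map_exact_ker m g).apply_apply_eq_zero z
        obtain ⟨x, hx⟩ := (h2 _).mp hz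
        refine ⟨x, hi ?_⟩
        rw [← hx, AdicCompletion.map_comp_apply]
        rfl
      refine ⟨fun a b => ?_⟩
      obtain ⟨a', rfl⟩ := hs a
      obtain ⟨b', rfl⟩ := hs b
      obtain ⟨a'', rfl⟩ := hf's a'
      obtain ⟨b'', rfl⟩ := hf's b'
      rw [hex.apply_apply_eq_zero, hex.apply_apply_eq_zero]
    rw [Submodule.Quotient.subsingleton_iff, LinearMap.range_eq_top] at this
    intro y hy
    obtain ⟨x, hx⟩ := this ⟨y, hy⟩
    exact ⟨x, congrArg Subtype.val hx⟩
  -- injectivity of f
  have hinj : Function.Injective f := by
    have : Subsingleton (LinearMap.ker f) := by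
      apply subsingleton_of_forall_adicCompletion (R := A)
      intro m hm
      obtain ⟨h1, -, -⟩ := H m
      have hi := adic_map_injective_ker m f
      refine ⟨fun a b => ?_⟩
      apply hi
      apply h1
      rw [(adic_map_exact_ker m f).apply_apply_eq_zero, (adic_map_exact_ker m f).apply_apply_eq_zero]
    rw [← LinearMap.ker_eq_bot]
    exact Submodule.eq_bot_of_subsingleton
  refine ⟨hinj, fun y => ⟨fun hy => ?_, ?_⟩, hsurj⟩
  · obtain ⟨x, hx⟩ := hker y hy
    exact ⟨x, hx⟩
  · rintro ⟨x, rfl⟩
    exact hgf x

end

end Groth.Agent.H73
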