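import Mathlib.RingTheory.AdicCompletion.AsTensorProduct
import Mathlib.RingTheory.AdicCompletion.Exactness

set_option autoImplicit false

namespace Groth.Agent.H73

universe u

open AdicCompletion TensorProduct

section
variable {A : Type u} [CommRing A] [IsNoetherianRing A] (I J : Ideal A)
  (M : Type u) [AddCommGroup M] [Module A M] [Module.Finite A M]

lemma adic_range_smul_le :
    LinearMap.range (AdicCompletion.map I (J • (⊤ : Submodule A M)).subtype) ≤
      (J.map (algebraMap A (AdicCompletion I A))) •
        (⊤ : Submodule (AdicCompletion I A) (AdicCompletion I M)) := by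
  rintro _ ⟨x, rfl⟩
  obtain ⟨t, rfl⟩ := ofTensorProduct_surjective_of_finite I (↥(J • (⊤ : Submodule A M))) x
  induction t using TensorProduct.induction_on with
  | zero => simp
  | add a b ha hb =>
    rw [map_add, map_add]
    exact Submodule.add_mem _ ha hb
  | tmul r n =>
    rw [ofTensorProduct_tmul, map_smul, map_of]
    obtain ⟨n, hn⟩ := n
    show r • of I M n ∈ _
    refine Submodule.smul_induction_on hn ?_ ?_
    · intro j hj m _
      rw [map_smul, ← algebraMap_smul (AdicCompletion I A) j (of I M m), smul_comm]
      exact Submodule.smul_mem_smul (Ideal.mem_map_of_mem _ hj) trivial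
    · intro a b ha hb
      rw [map_add, smul_add]
      exact Submodule.add_mem _ ha hb

lemma adic_smul_le_range :
    (J.map (algebraMap A (AdicCompletion I A))) •
        (⊤ : Submodule (AdicCompletion I A) (AdicCompletion I M)) ≤
    LinearMap.range (AdicCompletion.map I (J • (⊤ : Submodule A M)).subtype) := by
  have key : ∀ j ∈ J, ∀ x : AdicCompletion I M,
      (algebraMap A (AdicCompletion I A) j) • x ∈
        LinearMap.range (AdicCompletion.map I (J • (⊤ : Submodule A M)).subtype) := by
    intro j hj x
    obtain ⟨t, rfl⟩ := ofTensorProduct_surjective_of_finite I M x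
    induction t using TensorProduct.induction_on with
    | zero => simp
    | add a b ha hb =>
      rw [map_add, smul_add]
      exact Submodule.add_mem _ ha hb
    | tmul r m =>
      refine ⟨r • of I _ ⟨j • m, Submodule.smul_mem_smul hj trivial⟩, ?_⟩
      rw [map_smul, map_of, ofTensorProduct_tmul, algebraMap_smul, smul_comm]
      show r • of I M (j • m) = _
      rw [map_smul]
  rw [Submodule.smul_le]
  intro r hr x _
  rw [Ideal.map] at hr
  induction hr using Submodule.span_induction with
  | mem r hr =>
    obtain ⟨j, hj, rfl⟩ := hr
    exact key j hj x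
  | zero => simp
  | add a b _ _ ha hb =>
    rw [add_smul]
    exact Submodule.add_mem _ ha hb
  | smul c a _ ha =>
    rw [smul_eq_mul, mul_smul]
    exact Submodule.smul_mem _ c ha

end

end Groth.Agent.H73
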