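import Mathlib

/-!
# `R[a] ∩ R[a⁻¹]` is integral over `R`, and `R[a] + R[a⁻¹] = R[a, a⁻¹]`
-/

namespace Groth.Agent.H73.AdjoinInv

open Polynomial

variable {R A : Type*} [CommRing R] [CommRing A] [Algebra R A]

/-- Variant of `isIntegral_of_smul_mem_submodule` without domain hypotheses: if `x` stabilizes a
finitely generated `R`-submodule of `A` containing `1`, then `x` is integral over `R`. -/
theorem isIntegral_of_mul_mem_submodule (N : Submodule R A) (h1 : (1 : A) ∈ N)
    (hN' : N.FG) (x : A) (hx : ∀ n ∈ N, x * n ∈ N) : IsIntegral R x := by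
  let A' : Subalgebra R A :=
    { carrier := { x | ∀ n ∈ N, x * n ∈ N }
      mul_mem' := fun {a b} ha hb n hn => by rw [mul_assoc]; exact ha _ (hb _ hn)
      one_mem' := fun n hn => by rwa [one_mul]
      add_mem' := fun {a b} ha hb n hn => by rw [add_mul]; exact N.add_mem (ha _ hn) (hb _ hn)
      zero_mem' := fun n _hn => by rw [zero_mul]; exact N.zero_mem
      algebraMap_mem' := fun r n hn => by
        rw [← Algebra.smul_def]; exact N.smul_mem r hn }
  let f : A' →ₐ[R] Module.End R N :=
    AlgHom.ofLinearMap
      { toFun := fun x => (LinearMap.mulLeft R (x : A)).restrict x.prop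
        map_add' := by intro x y; ext; simp [add_mul]
        map_smul' := by intro r s; ext; simp }
      (by ext; simp)
      (by intro x y; ext; simp)
  have : Function.Injective f := by
    refine (injective_iff_map_eq_zero f).mpr ?_
    intro s hs
    have : s.1 * 1 = 0 := congr_arg Subtype.val (LinearMap.congr_fun hs ⟨1, h1⟩)
    exact Subtype.ext (by simpa using this)
  have hfin : Module.Finite R N := by rwa [Module.Finite.iff_fg]
  have hfx : IsIntegral R (f ⟨x, hx⟩) := Algebra.IsIntegral.isIntegral _
  obtain ⟨P, hPm, hP0⟩ := hfx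
  refine ⟨P, hPm, ?_⟩
  have h2 : f (Polynomial.aeval (⟨x, hx⟩ : A') P) = 0 := by
    rw [← Polynomial.aeval_algHom_apply]; exact hP0
  have h3 : Polynomial.aeval (⟨x, hx⟩ : A') P = 0 := this (by rw [h2, map_zero])
  have h4 := congrArg A'.val h3
  rw [← Polynomial.aeval_algHom_apply, map_zero] at h4
  exact h4

/-- If `a * b = 1`, any element of `R[a] ∩ R[b]` is integral over `R`. -/
theorem isIntegral_of_mem_adjoin_of_mem_adjoin_inv {a b : A} (hab : a * b = 1) {z : A}
    (hza : z ∈ Algebra.adjoin R {a}) (hzb : z ∈ Algebra.adjoin R {b}) : IsIntegral R z := by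
  classical
  rw [Algebra.adjoin_singleton_eq_range_aeval] at hza hzb
  obtain ⟨p, rfl⟩ := hza
  obtain ⟨q, hq⟩ := hzb
  simp only [AlgHom.toRingHom_eq_coe, RingHom.coe_coe] at hq ⊢
  set n := p.natDegree
  set m := q.natDegree
  -- N = span of a^i, i ≤ n + m
  let N : Submodule R A := Submodule.span R (Set.range fun i : Fin (n + m + 1) => a ^ (i : ℕ))
  have hmemN : ∀ i, i ≤ n + m → a ^ i ∈ N := fun i hi =>
    Submodule.subset_span ⟨⟨i, Nat.lt_succ_of_le hi⟩, rfl⟩
  refine isIntegral_of_mul_mem_submodule N (by simpa using hmemN 0 (Nat.zero_le _))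
    (Submodule.fg_span (Set.finite_range _)) _ ?_
  intro w hw
  induction hw using Submodule.span_induction with
  | zero => simp
  | add u v _ _ hu hv => rw [mul_add]; exact N.add_mem hu hv
  | smul r u _ hu => rw [mul_smul_comm]; exact N.smul_mem r hu
  | mem u hu =>
    obtain ⟨⟨i, hi⟩, rfl⟩ := hu
    simp only
    by_cases him : i < m
    · -- use the expression as polynomial in a
      rw [aeval_eq_sum_range, Finset.sum_mul]
      refine N.sum_mem fun j hj => ?_
      rw [smul_mul_assoc, ← pow_add]
      refine N.smul_mem _ (hmemN _ ?_)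
      have := Finset.mem_range.mp hj
      omega
    · -- use the expression as a polynomial in b
      push Not at him
      rw [← hq, aeval_eq_sum_range, Finset.sum_mul]
      refine N.sum_mem fun j hj => ?_
      have hj' : j ≤ m := Nat.lt_succ_iff.mp (Finset.mem_range.mp hj)
      rw [smul_mul_assoc]
      refine N.smul_mem _ ?_
      have : b ^ j * a ^ i = a ^ (i - j) := by
        have h1 : i = (i - j) + j := by omega
        conv_lhs => rw [h1, pow_add, mul_comm (a ^ (i - j)), ← mul_assoc, ← mul_pow, mul_comm b a,
          hab, one_pow, one_mul]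
      rw [this]
      exact hmemN _ (by omega)

/-- If `a * b = 1`, then `R[a] + R[b] = R[a, b]` as submodules. -/
theorem sup_adjoin_eq_adjoin_pair {a b : A} (hab : a * b = 1) :
    (Algebra.adjoin R {a}).toSubmodule ⊔ (Algebra.adjoin R {b}).toSubmodule =
      (Algebra.adjoin R {a, b}).toSubmodule := by
  apply le_antisymm
  · refine sup_le ?_ ?_
    · exact Subalgebra.toSubmodule.monotone (Algebra.adjoin_mono (by simp))
    · exact Subalgebra.toSubmodule.monotone (Algebra.adjoin_mono (by simp))
  · have h : ({a, b} : Set A) = {a} ∪ {b} := by ext; simp [or_comm]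
    rw [h, Algebra.adjoin_union_coe_submodule, Algebra.adjoin_eq_span, Algebra.adjoin_eq_span,
      Submodule.span_mul_span, Submodule.span_le]
    rintro _ ⟨u, hu, v, hv, rfl⟩
    rw [SetLike.mem_coe, Submonoid.mem_closure_singleton] at hu hv
    obtain ⟨i, rfl⟩ := hu
    obtain ⟨j, rfl⟩ := hv
    rw [SetLike.mem_coe]
    change a ^ i * b ^ j ∈ _
    rcases le_total j i with h | h
    · have : a ^ i * b ^ j = a ^ (i - j) := by
        have h1 : i = (i - j) + j := by omega
        conv_lhs => rw [h1, pow_add, mul_assoc, ← mul_pow, hab, one_pow, mul_one]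
      rw [this]
      exact Submodule.mem_sup_left (Submodule.subset_span
        (pow_mem (Submonoid.subset_closure (Set.mem_singleton a)) _))
    · have : a ^ i * b ^ j = b ^ (j - i) := by
        have h1 : j = i + (j - i) := by omega
        conv_lhs => rw [h1, pow_add, ← mul_assoc, ← mul_pow, hab, one_pow, one_mul]
      rw [this]
      exact Submodule.mem_sup_right (Submodule.subset_span
        (pow_mem (Submonoid.subset_closure (Set.mem_singleton b)) _))

end Groth.Agent.H73.AdjoinInv

namespace Groth.Agent.H73.AdjoinInv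

open Polynomial

/-- Clearing denominators: if `c * u = v` then `q(c) * u ^ deg q` comes from `R`. -/
theorem exists_aeval_mul_pow_eq {R S : Type*} [CommRing R] [CommRing S] [Algebra R S]
    (c : S) (u v : R) (hc : c * algebraMap R S u = algebraMap R S v) (q : R[X]) :
    ∃ r : R, aeval c q * algebraMap R S u ^ q.natDegree = algebraMap R S r := by
  refine ⟨∑ j ∈ Finset.range (q.natDegree + 1), q.coeff j * v ^ j * u ^ (q.natDegree - j), ?_⟩
  rw [aeval_eq_sum_range, Finset.sum_mul, map_sum]
  refine Finset.sum_congr rfl fun j hj => ?_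
  have hj' : j ≤ q.natDegree := Nat.lt_succ_iff.mp (Finset.mem_range.mp hj)
  have h1 : q.natDegree = j + (q.natDegree - j) := by omega
  rw [map_mul, map_mul, map_pow, map_pow, ← hc, Algebra.smul_def]
  conv_lhs => rw [h1, pow_add]
  ring

/-- Core descent lemma. -/
theorem exists_algebraMap_eq_of_isIntegral {R S : Type*} [CommRing R] [CommRing S] [Algebra R S]
    (x : R) (hxu : IsUnit (algebraMap R S x)) (hinj : Function.Injective (algebraMap R S))
    (hint : IsIntegrallyClosedIn R (Localization.Away x)) (z : S) (hz : IsIntegral R z)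
    (m : ℕ) (r : R) (hzr : z * algebraMap R S x ^ m = algebraMap R S r) :
    ∃ r', algebraMap R S r' = z := by
  let φ : Localization.Away x →ₐ[R] S :=
    IsLocalization.liftAlgHom (M := Submonoid.powers x) (f := Algebra.ofId R S) (by
      rintro ⟨_, n, rfl⟩
      simpa using hxu.pow n)
  have hφ : ∀ t : R, φ (algebraMap R (Localization.Away x) t) = algebraMap R S t := fun t => by
    simp [φ]
  have hφinj : Function.Injective φ := by
    refine (injective_iff_map_eq_zero φ).mpr fun u hu => ?_
    obtain ⟨⟨r0, s⟩, hs⟩ := IsLocalization.surj (Submonoid.powers x) u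
    have h1 : algebraMap R S r0 = 0 := by
      rw [← hφ, ← hs, map_mul, hu, zero_mul]
    have h2 : r0 = 0 := hinj (by rw [h1, map_zero])
    rw [h2, map_zero] at hs
    exact (IsUnit.mul_left_eq_zero (IsLocalization.map_units _ s)).mp hs
  set z' : Localization.Away x :=
    IsLocalization.mk' (Localization.Away x) r (⟨x ^ m, m, rfl⟩ : Submonoid.powers x) with hz'
  have hφz : φ z' = z := by
    have h1 : z' * algebraMap R (Localization.Away x) (x ^ m) = algebraMap R _ r :=
      IsLocalization.mk'_spec _ _ _
    have h2 := congrArg φ h1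
    rw [map_mul, hφ, hφ, map_pow, ← hzr] at h2
    exact (hxu.pow m).mul_left_injective h2
  have hz'int : IsIntegral R z' := by
    rw [← isIntegral_algHom_iff φ hφinj, hφz]; exact hz
  obtain ⟨r', hr'⟩ := (IsIntegralClosure.isIntegral_iff (A := R)).mp hz'int
  exact ⟨r', by rw [← hφ, hr', hφz]⟩

end Groth.Agent.H73.AdjoinInv
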