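import Mathlib
import Groth.Agent.H46.AlgColimFP

/-!
# Artin approximation for functors from approximation of polynomial systems
-/

set_option autoImplicit false
universe u
open CategoryTheory CategoryTheory.Limits

namespace Groth.Agent.H73.ArtinFunctor

/-- Algebra form: an `A`-algebra map from a finitely presented `A`-algebra to the completion can be
approximated modulo `m ^ c` by an `A`-algebra map to `A`. -/
theorem exists_algHom_approx (A : Type u) [CommRing A] (m : Ideal A)
    (hAP : ∀ (k l c : ℕ) (f : Fin l → MvPolynomial (Fin k) A) (â : Fin k → AdicCompletion m A),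
      (∀ i, MvPolynomial.aeval â (f i) = 0) →
      ∃ a : Fin k → A, (∀ i, MvPolynomial.eval a (f i) = 0) ∧
        ∀ j, Ideal.Quotient.mk (m ^ c) (a j) = AdicCompletion.evalₐ m c (â j))
    (B : Type u) [CommRing B] [Algebra A B] [Algebra.FinitePresentation A B]
    (φ : B →ₐ[A] AdicCompletion m A) (c : ℕ) :
    ∃ σ : B →ₐ[A] A, ∀ b, Ideal.Quotient.mk (m ^ c) (σ b) = AdicCompletion.evalₐ m c (φ b) := by
  obtain ⟨n, f, hsurj, hfg⟩ := Algebra.FinitePresentation.out (R := A) (A := B)
  obtain ⟨s, hs⟩ := hfg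
  let p : Fin s.card → MvPolynomial (Fin n) A := fun i => (s.equivFin.symm i : MvPolynomial (Fin n) A)
  let â : Fin n → AdicCompletion m A := fun j => φ (f (MvPolynomial.X j))
  have haeval : (MvPolynomial.aeval â : MvPolynomial (Fin n) A →ₐ[A] AdicCompletion m A) = φ.comp f := by
    apply MvPolynomial.algHom_ext
    intro j
    simp [â]
  have hp : ∀ i, MvPolynomial.aeval â (p i) = 0 := by
    intro i
    rw [haeval]
    have : p i ∈ RingHom.ker f.toRingHom := by
      rw [← hs]
      exact Ideal.subset_span (s.equivFin.symm i).2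
    have h0 : f (p i) = 0 := this
    simp [h0]
  obtain ⟨a, ha0, hac⟩ := hAP n s.card c p â hp
  have hker : RingHom.ker f.toRingHom ≤
      RingHom.ker (MvPolynomial.aeval a : MvPolynomial (Fin n) A →ₐ[A] A).toRingHom := by
    rw [← hs, Ideal.span_le]
    intro q hq
    have : q = p (s.equivFin ⟨q, hq⟩) := by simp [p]
    rw [this]
    change MvPolynomial.aeval a (p _) = 0
    have := ha0 (s.equivFin ⟨q, hq⟩)
    rwa [← MvPolynomial.aeval_eq_eval] at this
  refine ⟨AlgHom.liftOfSurjective f hsurj (MvPolynomial.aeval a) hker, ?_⟩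
  intro b
  obtain ⟨q, rfl⟩ := hsurj b
  rw [AlgHom.liftOfSurjective_apply]
  have h2 : ((Ideal.Quotient.mkₐ A (m ^ c)).comp (MvPolynomial.aeval a) :
      MvPolynomial (Fin n) A →ₐ[A] A ⧸ m ^ c) =
      (AdicCompletion.evalₐ m c).comp (φ.comp f) := by
    apply MvPolynomial.algHom_ext
    intro j
    simpa [â] using hac j
  exact DFunLike.congr_fun h2 q

/-- The functor form. -/
theorem main (A : Type u) [CommRing A]
    (m : Ideal A)
    (hAP : ∀ (k l c : ℕ) (f : Fin l → MvPolynomial (Fin k) A) (â : Fin k → AdicCompletion m A),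
      (∀ i, MvPolynomial.aeval â (f i) = 0) →
      ∃ a : Fin k → A, (∀ i, MvPolynomial.eval a (f i) = 0) ∧
        ∀ j, Ideal.Quotient.mk (m ^ c) (a j) = AdicCompletion.evalₐ m c (â j))
    (F : Under (CommRingCat.of A) ⥤ Type u)
    (hF : ∀ (J : Type u) [SmallCategory J] [IsFiltered J], PreservesColimitsOfShape J F)
    (c : ℕ)
    (π : Under.mk (CommRingCat.ofHom (algebraMap A (AdicCompletion m A))) ⟶
      Under.mk (CommRingCat.ofHom (algebraMap A (A ⧸ m ^ c))))
    (hπ : π.right = CommRingCat.ofHom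
      (AdicCompletion.evalₐ m c : AdicCompletion m A →ₐ[A] A ⧸ m ^ c).toRingHom)
    (ρ : Under.mk (𝟙 (CommRingCat.of A)) ⟶ Under.mk (CommRingCat.ofHom (algebraMap A (A ⧸ m ^ c))))
    (ξ : F.obj (Under.mk (CommRingCat.ofHom (algebraMap A (AdicCompletion m A))))) :
    ∃ η : F.obj (Under.mk (𝟙 (CommRingCat.of A))), F.map ρ η = F.map π ξ := by
  obtain ⟨I, _, _, D, cc, hcc, hfp, ⟨e⟩⟩ :=
    Groth.Agent.H46.exists_filteredColimit_fp A (AdicCompletion m A)
  haveI := hF I
  have hcol : IsColimit (F.mapCocone cc) := isColimitOfPreserves F hcc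
  obtain ⟨i, x, hx⟩ := Types.jointly_surjective_of_isColimit hcol (F.map e.inv ξ)
  -- the algebra structure on `B = (D.obj i).right`
  letI : Algebra A (D.obj i).right := (D.obj i).hom.hom.toAlgebra
  haveI : Algebra.FinitePresentation A (D.obj i).right := hfp i
  -- the map to the completion
  let ψ : D.obj i ⟶ Under.mk (CommRingCat.ofHom (algebraMap A (AdicCompletion m A))) :=
    cc.ι.app i ≫ e.hom
  let φ : (D.obj i).right →ₐ[A] AdicCompletion m A :=
    { ψ.right.hom with
      commutes' := fun r => by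
        have := Under.w ψ
        exact DFunLike.congr_fun (congrArg CommRingCat.Hom.hom this) r }
  obtain ⟨σ, hσ⟩ := exists_algHom_approx A m hAP (D.obj i).right φ c
  let s : D.obj i ⟶ Under.mk (𝟙 (CommRingCat.of A)) :=
    Under.homMk (CommRingCat.ofHom σ.toRingHom) (by
      ext r
      exact σ.commutes r)
  refine ⟨F.map s x, ?_⟩
  have hξ : ξ = F.map ψ x := by
    have h1 : F.map e.hom (F.map e.inv ξ) = ξ := by
      rw [← FunctorToTypes.map_comp_apply, e.inv_hom_id, FunctorToTypes.map_id_apply]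
    rw [← h1, ← hx]
    change _ = F.map (cc.ι.app i ≫ e.hom) x
    rw [FunctorToTypes.map_comp_apply]
    rfl
  rw [hξ, ← FunctorToTypes.map_comp_apply, ← FunctorToTypes.map_comp_apply]
  have key : s ≫ ρ = ψ ≫ π := by
    apply Under.UnderMorphism.ext
    rw [Under.comp_right, Under.comp_right, hπ]
    ext b
    have hρ : ρ.right.hom = algebraMap A (A ⧸ m ^ c) := by
      have := Under.w ρ
      ext r
      exact DFunLike.congr_fun (congrArg CommRingCat.Hom.hom this) r
    change ρ.right.hom (σ b) = AdicCompletion.evalₐ m c (φ b)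
    rw [hρ, ← hσ b]
    rfl
  rw [key]

end Groth.Agent.H73.ArtinFunctor
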