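import Mathlib
import Groth.Prelude.Def_CAlg
import Groth.Agent.S14128

/-!
helper73: the acyclicity lemma over a Cohen–Macaulay local ring (adapting helper70's proof of S14128
for regular local rings): a maximal regular sequence gives `Ext`-depth `≥ dim R` for flat modules.
-/

set_option autoImplicit false
universe u
open CategoryTheory CategoryTheory.Limits IsLocalRing RingTheory.Sequence

namespace Groth.Agent.H73.CMAcyc

open Groth.Agent.H70.Acyc Groth.Agent.H70.Planar

theorem exists_regular_seq (R : Type u) [CommRing R] [LocCoh.IsCohenMacaulayLocalRing R] (g : ℕ)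
    (hg : ringKrullDim R = g) :
    ∃ rs : List R, IsWeaklyRegular R rs ∧ (∀ r ∈ rs, r ∈ maximalIdeal R) ∧ rs.length = g := by
  have h := LocCoh.IsCohenMacaulayLocalRing.supportDim_eq_depth (R := R)
  rw [Module.supportDim_self_eq_ringKrullDim, hg] at h
  have h' : LocCoh.depth R R = (g : ℕ∞) := by
    have : ((g : ℕ∞) : WithBot ℕ∞) = ((LocCoh.depth R R : ℕ∞) : WithBot ℕ∞) := by
      rw [← h]; rfl
    exact (WithBot.coe_injective this).symm
  unfold LocCoh.depth LocCoh.idealDepth at h'
  split_ifs at h' with htop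
  · exact absurd h' (by simp)
  · rw [iSup_subtype'] at h'
    haveI : Nonempty {rs : List R // IsWeaklyRegular R rs ∧ ∀ r ∈ rs, r ∈ maximalIdeal R} :=
      ⟨⟨[], IsWeaklyRegular.nil R R, by simp⟩⟩
    obtain ⟨⟨rs, h1, h2⟩, h3⟩ := ENat.exists_eq_iSup_of_lt_top
      (f := fun rs : {rs : List R // IsWeaklyRegular R rs ∧ ∀ r ∈ rs, r ∈ maximalIdeal R} =>
        ((rs : List R).length : ℕ∞)) (by rw [h']; exact ENat.coe_lt_top g)
    refine ⟨rs, h1, h2, ?_⟩
    rw [h'] at h3
    exact_mod_cast h3

/-- a flat module over a Cohen–Macaulay local ring of dimension `g` has `Ext`-depth `≥ g` -/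
theorem D_of_flat (R : Type u) [CommRing R] [LocCoh.IsCohenMacaulayLocalRing R] (g : ℕ)
    (hg : ringKrullDim R = g) (F : ModuleCat.{u} R) [Module.Flat R F] : D (kk R) g F := by
  obtain ⟨rs, hreg, hmem, hlen⟩ := exists_regular_seq R g hg
  have hw : IsWeaklyRegular F rs :=
    ((TensorProduct.lid R F).isWeaklyRegular_congr rs).mp
      (hreg.isWeaklyRegular_rTensor (M₂ := F))
  have := subsingleton_ext_of_isWeaklyRegular (kk R) F rs (by
    intro r hr
    refine ⟨1, ?_⟩
    rw [pow_one, Module.mem_annihilator]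
    intro z
    obtain ⟨a, rfl⟩ := Submodule.Quotient.mk_surjective _ z
    rw [← Submodule.Quotient.mk_smul, Submodule.Quotient.mk_eq_zero]
    exact Ideal.mul_mem_right _ _ (hmem r hr)) hw
  intro l hl
  exact this l (by rwa [hlen])

open Groth.Agent.S14128 in
theorem main (R : Type u) [CommRing R]
    [LocCoh.IsCohenMacaulayLocalRing R] (g : ℕ) (hg : ringKrullDim R = g)
    (M : CochainComplex (ModuleCat.{u} R) ℕ)
    (hfree : ∀ i, Module.Free R (M.X i) ∧ Module.Finite R (M.X i))
    (hfl : ∀ i, IsFiniteLength R (M.homology i)) (i : ℕ) (hi : i < g) :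
    IsZero (M.homology i) := by
  have key : ∀ i, i ≤ g → D (kk R) (g + 1 - i) (ModuleCat.of R (LinearMap.range (M.sc i).f.hom)) ∧
      ∀ j < i, IsZero (M.homology j) := by
    intro i
    induction i with
    | zero =>
      intro _
      refine ⟨?_, fun j hj => absurd hj (Nat.not_lt_zero j)⟩
      have h0 : (M.sc 0).f = 0 := by
        apply M.shape
        simp
      haveI : Subsingleton (LinearMap.range (M.sc 0).f.hom) := by
        rw [h0]
        refine ⟨fun a b => ?_⟩
        obtain ⟨a, x, rfl⟩ := a
        obtain ⟨b, y, rfl⟩ := b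
        rfl
      exact D.of_subsingleton _ _
    | succ i ih =>
      intro hi
      obtain ⟨hB, hH⟩ := ih (by omega)
      haveI : Module.Free R (M.X i) := (hfree i).1
      have hF : D (kk R) g (M.X i) := D_of_flat R g hg (M.X i)
      obtain ⟨hz, hker⟩ := E1 (M.sc i) (hF.mono (by omega)) (hB.mono (by omega)) (hfl i)
      have hZ : D (kk R) (g - i + 1) (ModuleCat.of R (LinearMap.ker (M.sc i).g.hom)) := by
        rw [hker]
        exact hB.mono (by omega)
      have hR := E2 (M.sc i) (hF.mono (Nat.sub_le g i)) hZ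
      refine ⟨?_, ?_⟩
      · have := D_range_transport M (CochainComplex.prev_nat_succ i).symm
          (CochainComplex.next ℕ i) hR
        exact this.mono (by omega)
      · intro j hj
        rcases Nat.lt_succ_iff_lt_or_eq.mp hj with h | rfl
        · exact hH j h
        · exact hz
  exact (key (i + 1) hi).2 i (Nat.lt_succ_self i)

end Groth.Agent.H73.CMAcyc
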