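import Groth.Agent.S0332
import Groth.Agent.S2644
import Groth.Agent.H26.AdicComplRegular
import Groth.Agent.H26.NormalFlat
import Groth.Agent.H23.ConnCompl
import Groth.Agent.H6.PuncturedDT
import Groth.Agent.H47.SmoothNormal
import Groth.Agent.H72.FormalEquidim

/-!
# `cd(A, I) < dim A` for an excellent normal local domain with `dim A/I ≥ 1`

The completion of an excellent normal local ring is a normal local ring (S2644), hence a domain;
the Hartshorne–Lichtenbaum vanishing theorem (S0332) then applies.  The affineness statement in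
dimension two follows from `cd ≤ 1 ↔ punctured open affine`.
-/

set_option autoImplicit false
universe u
open IsLocalRing

namespace Groth.Agent.H73.CdExcNormal

/-- A local normal ring is a domain. -/
theorem isDomain_of_isNormalRing_of_isLocalRing' (R : Type u) [CommRing R] [IsLocalRing R]
    (h : EGA4.IsNormalRing R) : IsDomain R := by
  haveI := (h (maximalIdeal R)).1
  have hinj : Function.Injective (algebraMap R (Localization.AtPrime (maximalIdeal R))) := by
    apply IsLocalization.injective (M := (maximalIdeal R).primeCompl)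
    intro x hx
    have hu : IsUnit x := by
      by_contra hnu
      exact hx ((IsLocalRing.mem_maximalIdeal x).mpr hnu)
    exact IsUnit.mem_nonZeroDivisors hu
  exact hinj.isDomain _

/-- The formal fibres of a local G-ring are geometrically normal. -/
theorem hasGeomNormalFormalFibres_of_isGRing (A : Type u) [CommRing A] [IsLocalRing A]
    (hA : CAlg.IsGRing A) : EGA4.HasGeomNormalFormalFibres A := by
  have hreg := Groth.Agent.H26.AdicComplFibres.isRegularHom_adicCompletion hA (maximalIdeal A)
  intro p hp k' _ _ hfin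
  haveI := (hreg.2 p).2 k' hfin
  exact Groth.Agent.H26.NormalFlat.isNormalRing_of_isRegularRing _

/-- The completion of an excellent normal local domain is a domain. -/
theorem isDomain_cpl (A : Type u) [CommRing A] [IsDomain A] [IsLocalRing A] [IsNoetherianRing A]
    [IsIntegrallyClosed A] (hA : EGA4.IsExcellent A) : IsDomain (EGA4.Cpl A) := by
  have hGN := hasGeomNormalFormalFibres_of_isGRing A hA.2.2.1
  have hNA := Groth.Agent.H47.SN.isNormalRing_of_isIntegrallyClosed A
  have hNC := (Groth.Agent.S2644.result A hGN).mp hNA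
  haveI := Groth.Agent.H72.FormalEquidim.isLocalRing_compl A
  exact isDomain_of_isNormalRing_of_isLocalRing' _ hNC

theorem vanishing (A : Type u) [CommRing A] [IsDomain A] [IsLocalRing A] [IsNoetherianRing A]
    [IsIntegrallyClosed A] (hA : EGA4.IsExcellent A) (I : Ideal A)
    (hI : (1 : WithBot ℕ∞) ≤ ringKrullDim (A ⧸ I))
    (M : Type u) [AddCommGroup M] [Module A M] (i : ℕ)
    (hi : ringKrullDim A ≤ (i : WithBot ℕ∞)) : Subsingleton (LocCoh.H I i M) := by
  haveI := isDomain_cpl A hA
  obtain ⟨d, hd⟩ : ∃ d : ℕ, ringKrullDim A = d := by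
    have hne_bot : ringKrullDim A ≠ ⊥ := ringKrullDim_ne_bot
    have hne_top : ringKrullDim A ≠ ⊤ := ringKrullDim_ne_top
    obtain ⟨e, he⟩ := WithBot.ne_bot_iff_exists.mp hne_bot
    have het : e ≠ ⊤ := by
      rintro rfl
      exact hne_top he.symm
    obtain ⟨d, rfl⟩ := ENat.ne_top_iff_exists.mp het
    exact ⟨d, he.symm⟩
  have hdi : d ≤ i := by
    rw [hd] at hi
    exact_mod_cast hi
  refine Groth.Agent.S0332.result A I d hd ?_ M i hdi
  intro p hp _
  have hp0 : p = ⊥ := by
    have : minimalPrimes (AdicCompletion (maximalIdeal A) A) = {⊥} :=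
      IsDomain.minimalPrimes_eq_singleton_bot _
    rw [this] at hp
    exact hp
  subst hp0
  rw [sup_bot_eq, Groth.Agent.H23.ConnCompl.ringKrullDim_quotient_map A I]
  exact hI

theorem main (A : Type u) [CommRing A] [IsDomain A] [IsLocalRing A] [IsNoetherianRing A]
    [IsIntegrallyClosed A] (hA : EGA4.IsExcellent A) (I : Ideal A)
    (hI : (1 : WithBot ℕ∞) ≤ ringKrullDim (A ⧸ I)) :
    (∀ (M : Type u) [AddCommGroup M] [Module A M] (i : ℕ),
      ringKrullDim A ≤ (i : WithBot ℕ∞) → Subsingleton (LocCoh.H I i M)) ∧
    (ringKrullDim A = 2 → AlgebraicGeometry.IsAffine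
      (↑(LocCoh.puncturedOpen A I) : AlgebraicGeometry.Scheme.{u})) := by
  refine ⟨fun M _ _ i hi => vanishing A hA I hI M i hi, fun h2 => ?_⟩
  refine (Groth.Agent.H6.PuncturedDT.isAffineOpen_punctured_iff_cdLE I).mpr ?_
  intro M _ _ i hi
  refine vanishing A hA I hI M i ?_
  rw [h2]
  have : (2 : ℕ) ≤ i := hi
  exact_mod_cast this

end Groth.Agent.H73.CdExcNormal
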