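import Mathlib

/-!
# Rank of the cokernel of a composite (helper73)

For linear maps `a : V₁ → V₂` (injective) and `b : V₂ → V₃` over a field such that `ker b` and
`coker b` are finite-dimensional of the same dimension,
`rank coker (b ∘ a) = rank coker a + rank ker (b ∘ a)`.
-/

set_option autoImplicit false
universe u

namespace Groth.Agent.H73.CokerComp

open Module

variable {F : Type*} [Field F] {V₁ V₂ V₃ : Type u} [AddCommGroup V₁] [AddCommGroup V₂]
  [AddCommGroup V₃] [Module F V₁] [Module F V₂] [Module F V₃]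

/-- `rank coker (b ∘ a) = rank coker b + rank (V₂ / (range a + ker b))`. -/
theorem rank_coker_comp_eq (a : V₁ →ₗ[F] V₂) (b : V₂ →ₗ[F] V₃) :
    Module.rank F (V₃ ⧸ LinearMap.range (b ∘ₗ a)) =
      Module.rank F (V₃ ⧸ LinearMap.range b) +
        Module.rank F (V₂ ⧸ (LinearMap.range a ⊔ LinearMap.ker b)) := by
  obtain ⟨c, hc⟩ : ∃ c : V₁ →ₗ[F] V₃, c = b ∘ₗ a := ⟨_, rfl⟩
  rw [← hc]
  have hle : LinearMap.range c ≤ LinearMap.range b := by
    rw [hc, LinearMap.range_comp]
    exact LinearMap.map_le_range
  set Q := (LinearMap.range b).map (LinearMap.range c).mkQ with hQ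
  have h1 := Submodule.rank_quotient_add_rank Q
  have h2 : Module.rank F ((V₃ ⧸ LinearMap.range c) ⧸ Q) = Module.rank F (V₃ ⧸ LinearMap.range b) :=
    (Submodule.quotientQuotientEquivQuotient _ _ hle).rank_eq
  set β := (LinearMap.range c).mkQ ∘ₗ b with hβ
  have h3 : LinearMap.range β = Q := by
    rw [hβ, LinearMap.range_comp]
  have h4 : LinearMap.ker β = LinearMap.range a ⊔ LinearMap.ker b := by
    rw [hβ, LinearMap.ker_comp, Submodule.ker_mkQ, hc, LinearMap.range_comp,
      Submodule.comap_map_eq]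
  have h5 : Module.rank F Q = Module.rank F (V₂ ⧸ (LinearMap.range a ⊔ LinearMap.ker b)) := by
    rw [← h3, ← h4]
    exact (LinearMap.quotKerEquivRange β).rank_eq.symm
  rw [← h1, h2, h5]

/-- `rank coker a = rank (V₂ / (range a + ker b)) + rank (image of ker b in coker a)` and
`rank ker b = rank (that image) + rank ker (b ∘ a)` for injective `a`. -/
theorem rank_coker_eq (a : V₁ →ₗ[F] V₂) (b : V₂ →ₗ[F] V₃) (ha : Function.Injective a) :
    ∃ i : Cardinal.{u},
      Module.rank F (V₂ ⧸ LinearMap.range a) =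
        Module.rank F (V₂ ⧸ (LinearMap.range a ⊔ LinearMap.ker b)) + i ∧
      Module.rank F (LinearMap.ker b) = i + Module.rank F (LinearMap.ker (b ∘ₗ a)) := by
  set γ : LinearMap.ker b →ₗ[F] V₂ ⧸ LinearMap.range a :=
    (LinearMap.range a).mkQ ∘ₗ (LinearMap.ker b).subtype with hγ
  refine ⟨Module.rank F (LinearMap.range γ), ?_, ?_⟩
  · set Q := (LinearMap.range a ⊔ LinearMap.ker b).map (LinearMap.range a).mkQ with hQ
    have h1 := Submodule.rank_quotient_add_rank Q
    have h2 : Module.rank F ((V₂ ⧸ LinearMap.range a) ⧸ Q) =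
        Module.rank F (V₂ ⧸ (LinearMap.range a ⊔ LinearMap.ker b)) :=
      (Submodule.quotientQuotientEquivQuotient _ _ le_sup_left).rank_eq
    have h3 : LinearMap.range γ = Q := by
      rw [hγ, LinearMap.range_comp, Submodule.range_subtype, hQ, Submodule.map_sup]
      have : (LinearMap.range a).map (LinearMap.range a).mkQ = ⊥ := by
        rw [← le_bot_iff, Submodule.map_le_iff_le_comap, Submodule.comap_bot, Submodule.ker_mkQ]
      rw [this, bot_sup_eq]
    rw [← h1, h2, h3]
  · have h1 := LinearMap.rank_range_add_rank_ker γ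
    rw [← h1]
    congr 1
    -- `ker γ ≃ ker (b ∘ a)`
    have hmem : ∀ v : LinearMap.ker (b ∘ₗ a), a v.1 ∈ LinearMap.ker b := by
      intro v
      have := v.2
      rw [LinearMap.mem_ker, LinearMap.comp_apply] at this
      exact this
    have hmem2 : ∀ v : LinearMap.ker (b ∘ₗ a),
        (⟨a v.1, hmem v⟩ : LinearMap.ker b) ∈ LinearMap.ker γ := by
      intro v
      rw [LinearMap.mem_ker, hγ, LinearMap.comp_apply, Submodule.subtype_apply,
        Submodule.mkQ_apply, Submodule.Quotient.mk_eq_zero]
      exact ⟨v.1, rfl⟩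
    let e : LinearMap.ker (b ∘ₗ a) →ₗ[F] LinearMap.ker γ :=
      { toFun := fun v => ⟨⟨a v.1, hmem v⟩, hmem2 v⟩
        map_add' := fun v w => by
          apply Subtype.ext; apply Subtype.ext
          simp
        map_smul' := fun r v => by
          apply Subtype.ext; apply Subtype.ext
          simp }
    have he : Function.Bijective e := by
      constructor
      · intro v w hvw
        have h2 : a v.1 = a w.1 := congrArg (fun z => ((z : LinearMap.ker γ) : LinearMap.ker b).1) hvw
        exact Subtype.ext (ha h2)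
      · rintro ⟨⟨w, hw⟩, hw2⟩
        rw [LinearMap.mem_ker, hγ, LinearMap.comp_apply, Submodule.subtype_apply,
          Submodule.mkQ_apply, Submodule.Quotient.mk_eq_zero] at hw2
        obtain ⟨v, hv⟩ := hw2
        have hv' : a v = w := hv
        refine ⟨⟨v, ?_⟩, ?_⟩
        · rw [LinearMap.mem_ker, LinearMap.comp_apply, hv']
          exact hw
        · apply Subtype.ext; apply Subtype.ext
          exact hv'
    exact (LinearEquiv.ofBijective e he).rank_eq.symm

/-- The main identity. -/
theorem main (a : V₁ →ₗ[F] V₂) (b : V₂ →ₗ[F] V₃) (ha : Function.Injective a)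
    (heq : Module.rank F (LinearMap.ker b) = Module.rank F (V₃ ⧸ LinearMap.range b)) :
    Module.rank F (V₃ ⧸ LinearMap.range (b ∘ₗ a)) =
      Module.rank F (V₂ ⧸ LinearMap.range a) + Module.rank F (LinearMap.ker (b ∘ₗ a)) := by
  obtain ⟨i, h1, h2⟩ := rank_coker_eq a b ha
  rw [rank_coker_comp_eq, h1, ← heq, h2]
  abel

end Groth.Agent.H73.CokerComp
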