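import Mathlib
import Groth.Prelude.Def_QFDual
import Groth.Agent.H14.TraceForm

/-!
helper73: the Dedekind complementary module `𝓛_{B/A}` is `B`-linearly isomorphic to
`ω_{B/A} = Hom_A(B, A)` through the trace pairing (S8962).
Uses helper14's `H14.etale_iff_traceForm_bijective` (finite free étale ⇒ trace form perfect).
-/

set_option autoImplicit false
set_option linter.style.haveILetI false
universe u

namespace Groth.Agent.H73.CompOmega

open scoped nonZeroDivisors

variable (A K B L : Type u) [CommRing A] [CommRing K] [CommRing B] [CommRing L] [Algebra A K]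
  [Algebra A B] [Algebra B L] [Algebra K L] [Algebra A L] [IsScalarTower A K L]
  [IsScalarTower A B L]

omit [Algebra A B] [Algebra B L] [IsScalarTower A B L] [CommRing B] in
theorem trace_smul_A (a : A) (y : L) :
    Algebra.trace K L (a • y) = algebraMap A K a * Algebra.trace K L y := by
  rw [← algebraMap_smul K a y, map_smul, smul_eq_mul]

theorem algebraMap_smul_B (a : A) (b : B) : algebraMap B L (a • b) = a • algebraMap B L b := by
  rw [Algebra.smul_def, map_mul, ← IsScalarTower.algebraMap_apply A B L, Algebra.smul_def]

/-- the trace of `x * l` vanishes for all `l ∈ L` as soon as it does for `l` in the image of `B` -/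
theorem trace_mul_eq_zero_of_forall
    [IsFractionRing A K] [IsLocalization (Algebra.algebraMapSubmonoid B (nonZeroDivisors A)) L]
    (x : L) (hx : ∀ b : B, Algebra.trace K L (x * algebraMap B L b) = 0) (l : L) :
    Algebra.trace K L (x * l) = 0 := by
  obtain ⟨b, t, rfl⟩ := IsLocalization.exists_mk'_eq
    (Algebra.algebraMapSubmonoid B (nonZeroDivisors A)) l
  obtain ⟨s, hs, hst⟩ := t.2
  have hunit : IsUnit (algebraMap A K s) := IsLocalization.map_units K (⟨s, hs⟩ : nonZeroDivisors A)
  apply hunit.mul_left_cancel
  rw [mul_zero, ← smul_eq_mul, ← map_smul, ← hx b]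
  congr 1
  have h1 : IsLocalization.mk' L b t * algebraMap B L (t : B) = algebraMap B L b :=
    IsLocalization.mk'_spec L b t
  rw [← h1, ← hst, ← IsScalarTower.algebraMap_apply A B L, IsScalarTower.algebraMap_apply A K L,
    Algebra.smul_def]
  ring

theorem main (h : QFDual.IsDedekindDefined A K B L) :
    ∃ e : QFDual.complementary A K B L ≃ₗ[B] Disc.Omega A B,
      ∀ (x : QFDual.complementary A K B L) (b : B),
        algebraMap A K ((e x).toLinearMap b) = Algebra.trace K L ((x : L) * algebraMap B L b) := by
  classical
  haveI := h.isFractionRing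
  haveI := h.isLocalization
  haveI := h.free
  haveI := h.finiteKL
  haveI := h.etale
  have hinj : Function.Injective (algebraMap A K) := IsFractionRing.injective A K
  have hbij : Function.Bijective (Algebra.traceForm K L) :=
    (Groth.Agent.H14.etale_iff_traceForm_bijective K L).mp inferInstance
  -- the values
  let val : QFDual.complementary A K B L → B → A := fun x b => Classical.choose (x.2 b)
  have hval : ∀ x b, algebraMap A K (val x b) =
      Algebra.trace K L ((x : L) * algebraMap B L b) := fun x b => Classical.choose_spec (x.2 b)
  let toOmega : QFDual.complementary A K B L → Disc.Omega A B := fun x =>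
    ⟨{ toFun := val x
       map_add' := fun b c => by
         apply hinj
         rw [map_add, hval, hval, hval, map_add, mul_add, map_add]
       map_smul' := fun a b => by
         apply hinj
         rw [RingHom.id_apply, smul_eq_mul, map_mul, hval, hval, algebraMap_smul_B,
           mul_smul_comm, trace_smul_A] }⟩
  have htoOmega : ∀ x b, (toOmega x).toLinearMap b = val x b := fun _ _ => rfl
  let e₀ : QFDual.complementary A K B L →ₗ[B] Disc.Omega A B :=
    { toFun := toOmega
      map_add' := fun x y => by
        apply Disc.Omega.ext
        ext b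
        apply hinj
        rw [Disc.Omega.add_toLinearMap, LinearMap.add_apply, map_add, htoOmega, htoOmega,
          htoOmega, hval, hval, hval, Submodule.coe_add, add_mul, map_add]
      map_smul' := fun c x => by
        apply Disc.Omega.ext
        ext b
        apply hinj
        rw [RingHom.id_apply, Disc.Omega.smul_toLinearMap_apply, htoOmega, htoOmega, hval, hval,
          Submodule.coe_smul, Algebra.smul_def, RingHom.map_mul (algebraMap B L)]
        congr 1
        ring }
  have he₀ : ∀ x b, (e₀ x).toLinearMap b = val x b := fun _ _ => rfl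
  have hinj₀ : Function.Injective e₀ := by
    rw [← LinearMap.ker_eq_bot, LinearMap.ker_eq_bot']
    intro x hx
    have h0 : ∀ b : B, Algebra.trace K L ((x : L) * algebraMap B L b) = 0 := by
      intro b
      rw [← hval, ← he₀, hx, Disc.Omega.zero_toLinearMap, LinearMap.zero_apply, map_zero]
    have h1 : Algebra.traceForm K L (x : L) = Algebra.traceForm K L 0 := by
      ext l
      rw [Algebra.traceForm_apply, Algebra.traceForm_apply, zero_mul, map_zero]
      exact trace_mul_eq_zero_of_forall A K B L (x : L) h0 l
    have h2 : (x : L) = 0 := hbij.1 h1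
    exact Subtype.ext h2
  have hsurj₀ : Function.Surjective e₀ := by
    intro ω
    let f : B →ₗ[A] L := (IsScalarTower.toAlgHom A B L).toLinearMap
    let g : A →ₗ[A] K := Algebra.linearMap A K
    let φL : L →ₗ[A] K := IsLocalizedModule.map (nonZeroDivisors A) f g ω.toLinearMap
    let φK : L →ₗ[K] K := φL.extendScalarsOfIsLocalization (nonZeroDivisors A) K
    obtain ⟨x, hx⟩ := hbij.2 φK
    have hxb : ∀ b : B, Algebra.trace K L (x * algebraMap B L b) =
        algebraMap A K (ω.toLinearMap b) := by
      intro b
      have h1 := LinearMap.congr_fun hx (algebraMap B L b)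
      rw [Algebra.traceForm_apply] at h1
      rw [h1]
      show φL (f b) = g (ω.toLinearMap b)
      exact IsLocalizedModule.map_apply (nonZeroDivisors A) f g ω.toLinearMap b
    have hxmem : x ∈ QFDual.complementary A K B L := fun b => ⟨_, (hxb b).symm⟩
    refine ⟨⟨x, hxmem⟩, ?_⟩
    apply Disc.Omega.ext
    ext b
    apply hinj
    rw [he₀, hval, hxb]
  exact ⟨LinearEquiv.ofBijective e₀ ⟨hinj₀, hsurj₀⟩, fun x b => by
    rw [LinearEquiv.ofBijective_apply, he₀, hval]⟩

end Groth.Agent.H73.CompOmega
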