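import Groth.Agent.H23.GenRank
import Groth.Agent.H96.CohenFinite
import Groth.Agent.H54.Dim
import Groth.Agent.H61.PSDim

/-!
# Derivations of complete local domains: Cohen set-up and the characteristic zero case (helper73)
-/

set_option autoImplicit false
set_option linter.unusedSectionVars false
set_option linter.style.haveILetI false
universe u

namespace Groth.Agent.H73.ComplDer

open IsLocalRing TensorProduct KaehlerDifferential

/-- Cohen: a complete Noetherian local domain with residue field finite over `k` is finite over
a power series ring in `dim B` variables. -/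
theorem cohen_dim (k B : Type u) [Field k] [CommRing B] [IsDomain B] [IsLocalRing B]
    [IsNoetherianRing B] [Algebra k B] [IsAdicComplete (maximalIdeal B) B]
    [Module.Finite k (ResidueField B)] :
    ∃ (n : ℕ) (w : MvPowerSeries (Fin n) k →ₐ[k] B), Function.Injective w ∧ w.toRingHom.Finite ∧
      ringKrullDim B = n := by
  obtain ⟨m, w, hinj, -, hfin⟩ := Groth.Agent.H96.CohenFinite.main (k₀ := k) (A := B)
  have hdim := Groth.Agent.H54.ringKrullDim_eq_of_ringHom_isIntegral_of_injective w.toRingHom
    hfin.to_isIntegral hinj
  rw [Groth.Agent.H61.ringKrullDim_ps] at hdim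
  exact ⟨m, w, hinj, hfin, hdim.symm⟩

attribute [local instance] FractionRing.liftAlgebra

theorem exists_derivations_of_charZero (k B : Type u) [Field k] [CharZero k] [CommRing B]
    [IsDomain B] [IsLocalRing B] [IsNoetherianRing B] [Algebra k B] (n : ℕ)
    (w : MvPowerSeries (Fin n) k →ₐ[k] B) (hinj : Function.Injective w)
    (hfin : w.toRingHom.Finite) :
    ∃ (δ : Fin n → Derivation k B B) (b : Fin n → B),
      (Matrix.of fun i j => δ i (b j)).det ≠ 0 := by
  classical
  letI : Algebra (MvPowerSeries (Fin n) k) B := w.toRingHom.toAlgebra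
  haveI : IsScalarTower k (MvPowerSeries (Fin n) k) B := IsScalarTower.of_algebraMap_eq (fun c => by
    show algebraMap k B c = w (algebraMap k _ c)
    exact (w.commutes c).symm)
  haveI : Module.Finite (MvPowerSeries (Fin n) k) B := hfin
  haveI : FaithfulSMul (MvPowerSeries (Fin n) k) B :=
    (faithfulSMul_iff_algebraMap_injective _ _).2 hinj
  haveI : IsDomain (MvPowerSeries (Fin n) k) := NoZeroDivisors.to_isDomain _
  haveI : CharZero (FractionRing (MvPowerSeries (Fin n) k)) :=
    charZero_of_injective_algebraMap
      (algebraMap k (FractionRing (MvPowerSeries (Fin n) k))).injective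
  haveI : Algebra.IsAlgebraic (FractionRing (MvPowerSeries (Fin n) k)) (FractionRing B) :=
    isAlgebraic_of_isFractionRing (MvPowerSeries (Fin n) k) B _ (FractionRing B)
  haveI : Algebra.IsSeparable (FractionRing (MvPowerSeries (Fin n) k)) (FractionRing B) :=
    inferInstance
  haveI : Algebra.FormallyEtale (MvPowerSeries (Fin n) k)
      (FractionRing (MvPowerSeries (Fin n) k)) :=
    Algebra.FormallyEtale.of_isLocalization (nonZeroDivisors (MvPowerSeries (Fin n) k))
  haveI : Algebra.FormallyEtale (FractionRing (MvPowerSeries (Fin n) k)) (FractionRing B) :=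
    Algebra.FormallyEtale.of_isSeparable _ _
  haveI : Algebra.FormallyEtale (MvPowerSeries (Fin n) k) (FractionRing B) :=
    Algebra.FormallyEtale.comp _ (FractionRing (MvPowerSeries (Fin n) k)) _
  obtain ⟨f, lam, hf, hlam⟩ := Groth.Agent.H23.GenRank.exists_forms k n B
  refine ⟨fun i => (lam i).compDer (D k B),
    fun j => algebraMap (MvPowerSeries (Fin n) k) B (MvPowerSeries.X j), ?_⟩
  have hmat : (Matrix.of fun i j => ((lam i).compDer (D k B))
      (algebraMap (MvPowerSeries (Fin n) k) B (MvPowerSeries.X j))) =
      Matrix.diagonal (fun _ : Fin n => f) := by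
    ext i j
    show lam i (D k B (algebraMap (MvPowerSeries (Fin n) k) B (MvPowerSeries.X j))) = _
    rw [hlam]
    by_cases h : i = j
    · subst h
      rw [MvPowerSeries.pderiv_X_self, map_one, mul_one, Matrix.diagonal_apply_eq]
    · rw [Matrix.diagonal_apply_ne _ h, MvPowerSeries.pderiv_X_of_ne (Ne.symm h), map_zero,
        mul_zero]
  rw [hmat, Matrix.det_diagonal, Finset.prod_const]
  exact pow_ne_zero _ hf

end Groth.Agent.H73.ComplDer
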