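import Groth.Agent.H73.ComplDer0
import Groth.Agent.H73.GRDeriv
import Groth.Agent.H96.CartierRel

/-!
# Derivations of complete local domains: characteristic `p` (helper73)
-/

set_option autoImplicit false
set_option linter.unusedSectionVars false
set_option linter.style.haveILetI false
universe u

namespace Groth.Agent.H73.ComplDer

open IsLocalRing TensorProduct KaehlerDifferential Groth.Agent.H73.PFam

/-- A derivation killing the image of `R` is `R`-linear. -/
def derivOfKills {R₀ R A M : Type*} [CommRing R₀] [CommRing R] [CommRing A] [Algebra R₀ A]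
    [Algebra R A] [AddCommGroup M] [Module A M] [Module R₀ M] [Module R M] [IsScalarTower R A M]
    (D : Derivation R₀ A M) (h : ∀ r : R, D (algebraMap R A r) = 0) : Derivation R A M where
  toLinearMap :=
    { toFun := D
      map_add' := map_add D
      map_smul' := fun r x => by
        rw [Algebra.smul_def, D.leibniz, h, smul_zero, add_zero, algebraMap_smul]
        rfl }
  map_one_eq_zero' := D.map_one_eq_zero
  leibniz' := D.leibniz

@[simp] theorem derivOfKills_apply {R₀ R A M : Type*} [CommRing R₀] [CommRing R] [CommRing A]
    [Algebra R₀ A] [Algebra R A] [AddCommGroup M] [Module A M] [Module R₀ M] [Module R M]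
    [IsScalarTower R A M] (D : Derivation R₀ A M)
    (h : ∀ r : R, D (algebraMap R A r) = 0) (a : A) : derivOfKills D h a = D a := rfl

/-- An `R`-derivation of `Frac B`, `B` module-finite over `R`, restricts, after multiplication by a
nonzero element of `B`, to an `R`-derivation of `B`. -/
theorem exists_restrict_lin {R B L : Type*} [CommRing R] [CommRing B] [IsDomain B] [Field L]
    [Algebra R B] [Module.Finite R B] [Algebra B L] [IsFractionRing B L] [Algebra R L]
    [IsScalarTower R B L] (D₁ : Derivation R L L) :
    ∃ (g : B) (D : Derivation R B B), g ≠ 0 ∧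
      ∀ b, algebraMap B L (D b) = algebraMap B L g * D₁ (algebraMap B L b) := by
  classical
  have hψinj : Function.Injective (algebraMap B L) := IsFractionRing.injective B L
  have hR : ∀ r : R, D₁ (algebraMap B L (algebraMap R B r)) = 0 := fun r => by
    rw [← IsScalarTower.algebraMap_apply R B L]
    exact D₁.map_algebraMap r
  obtain ⟨T, hT⟩ := (Module.Finite.fg_top : (⊤ : Submodule R B).FG)
  obtain ⟨g, hg⟩ := IsLocalization.exist_integer_multiples_of_finset (nonZeroDivisors B)
    (T.image (fun t => D₁ (algebraMap B L t)))
  have key : ∀ b : B, ∃ c : B, algebraMap B L c = algebraMap B L g * D₁ (algebraMap B L b) := by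
    intro b
    have hb : b ∈ Submodule.span R (T : Set B) := by rw [hT]; trivial
    induction hb using Submodule.span_induction with
    | mem x hx =>
      obtain ⟨c, hc⟩ := hg _ (Finset.mem_image_of_mem _ hx)
      refine ⟨c, ?_⟩
      rw [hc, Algebra.smul_def]
    | zero => exact ⟨0, by simp⟩
    | add x y _ _ hx hy =>
      obtain ⟨c, hc⟩ := hx
      obtain ⟨d, hd⟩ := hy
      exact ⟨c + d, by rw [map_add, map_add, map_add, mul_add, hc, hd]⟩
    | smul r x _ hx =>
      obtain ⟨c, hc⟩ := hx
      refine ⟨algebraMap R B r * c, ?_⟩
      rw [Algebra.smul_def, map_mul, map_mul, hc, Derivation.leibniz, hR, smul_zero, add_zero,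
        smul_eq_mul]
      ring
  choose δ hδ using key
  have hδadd : ∀ x y, δ (x + y) = δ x + δ y := fun x y =>
    hψinj (by rw [hδ, map_add, map_add, map_add, mul_add, hδ, hδ])
  have hδmul : ∀ a b, δ (a * b) = a * δ b + b * δ a := fun a b => by
    apply hψinj
    rw [hδ, map_add, map_mul (algebraMap B L) a b,
      map_mul (algebraMap B L) a (δ b), map_mul (algebraMap B L) b (δ a), hδ, hδ,
      Derivation.leibniz, smul_eq_mul, smul_eq_mul]
    ring
  have hδalg : ∀ r : R, δ (algebraMap R B r) = 0 := fun r =>
    hψinj (by rw [hδ, hR, mul_zero, map_zero])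
  refine ⟨g,
    { toLinearMap :=
        { toFun := δ
          map_add' := hδadd
          map_smul' := fun r x => by
            rw [Algebra.smul_def, hδmul, hδalg, mul_zero, add_zero, RingHom.id_apply,
              Algebra.smul_def] }
      map_one_eq_zero' := ?_
      leibniz' := ?_ },
    nonZeroDivisors.coe_ne_zero g, fun b => hδ b⟩
  · show δ 1 = 0
    have := hδalg 1
    rwa [map_one] at this
  · intro a b
    show δ (a * b) = a • δ b + b • δ a
    rw [hδmul, smul_eq_mul, smul_eq_mul]

section

variable (p : ℕ) [Fact p.Prime] (k : Type u) [Field k] [CharP k p] (n : ℕ)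

theorem pderiv_eq_zero_of_mem_S (F : Subfield k) (i : Fin n) {s : MvPowerSeries (Fin n) k}
    (hs : s ∈ S p F) : MvPowerSeries.pderiv k i s = 0 := by
  ext m
  rw [MvPowerSeries.coeff_pderiv, map_zero]
  by_cases h : MvPowerSeries.coeff (m + Finsupp.single i 1) s = 0
  · rw [h, zero_mul]
  · have hdvd := ((mem_S p F).1 hs _).2 h i
    have h1 : ((m i + 1 : ℕ) : k) = 0 := by
      rw [CharP.cast_eq_zero_iff k p]
      simpa using hdvd
    have h2 : ((m i : k) + 1) = ((m i + 1 : ℕ) : k) := by push_cast; rfl
    rw [h2, h1, mul_zero]

theorem C_mem_S (c : k) : MvPowerSeries.C c ∈ S p (⊤ : Subfield k) (σ := Fin n) := by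
  classical
  rw [mem_S]
  intro m
  refine ⟨Subfield.mem_top _, fun h i => ?_⟩
  rw [MvPowerSeries.coeff_C] at h
  split_ifs at h with hm
  · rw [hm]; simp
  · exact absurd rfl h

theorem finite_top : Module.Finite (⊤ : Subfield k) k :=
  Module.Finite.of_surjective (Algebra.linearMap (⊤ : Subfield k) k)
    (fun x => ⟨⟨x, Subfield.mem_top x⟩, rfl⟩)

local notation "PP" => MvPowerSeries (Fin n) k
local notation "SS" => (S p (⊤ : Subfield k) (σ := Fin n))

include p in
theorem exists_derivations_of_charP (B : Type u) [CommRing B] [IsDomain B] [Algebra k B]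
    (w : MvPowerSeries (Fin n) k →ₐ[k] B) (hinj : Function.Injective w)
    (hfin : w.toRingHom.Finite) :
    ∃ (ι : Type u) (_ : Fintype ι) (_ : DecidableEq ι) (δ : ι → Derivation k B B) (b : ι → B),
      n ≤ Fintype.card ι ∧ (Matrix.of fun i j => δ i (b j)).det ≠ 0 := by
  classical
  letI : Algebra PP B := w.toRingHom.toAlgebra
  haveI : IsScalarTower k PP B := IsScalarTower.of_algebraMap_eq (fun c => by
    show algebraMap k B c = w (algebraMap k _ c)
    exact (w.commutes c).symm)
  haveI : Module.Finite PP B := hfin
  haveI : IsDomain PP := NoZeroDivisors.to_isDomain _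
  haveI := finite_top k
  haveI : Module.Finite SS PP := finite_S p _
  haveI : Module.Finite SS B := Module.Finite.trans PP B
  -- injectivity facts
  have hPK : Function.Injective (algebraMap PP (FractionRing PP)) := IsFractionRing.injective _ _
  have hBL : Function.Injective (algebraMap B (FractionRing B)) := IsFractionRing.injective _ _
  haveI : FaithfulSMul PP B := (faithfulSMul_iff_algebraMap_injective _ _).2 hinj
  have hPL : Function.Injective (algebraMap PP (FractionRing B)) := by
    rw [IsScalarTower.algebraMap_eq PP B (FractionRing B)]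
    exact hBL.comp hinj
  haveI : FaithfulSMul PP (FractionRing B) := (faithfulSMul_iff_algebraMap_injective _ _).2 hPL
  letI : Algebra (FractionRing PP) (FractionRing B) := FractionRing.liftAlgebra PP (FractionRing B)
  haveI : IsScalarTower PP (FractionRing PP) (FractionRing B) :=
    FractionRing.isScalarTower_liftAlgebra _ _
  have hSK : Function.Injective (algebraMap SS (FractionRing PP)) := by
    rw [IsScalarTower.algebraMap_eq SS PP (FractionRing PP)]
    exact hPK.comp Subtype.val_injective
  haveI : FaithfulSMul SS (FractionRing PP) := (faithfulSMul_iff_algebraMap_injective _ _).2 hSK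
  have hSL : Function.Injective (algebraMap SS (FractionRing B)) := by
    rw [IsScalarTower.algebraMap_eq SS PP (FractionRing B)]
    exact hPL.comp Subtype.val_injective
  haveI : FaithfulSMul SS (FractionRing B) := (faithfulSMul_iff_algebraMap_injective _ _).2 hSL
  letI : Algebra (FractionRing SS) (FractionRing PP) := FractionRing.liftAlgebra SS (FractionRing PP)
  haveI : IsScalarTower SS (FractionRing SS) (FractionRing PP) :=
    FractionRing.isScalarTower_liftAlgebra _ _
  letI : Algebra (FractionRing SS) (FractionRing B) := FractionRing.liftAlgebra SS (FractionRing B)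
  haveI : IsScalarTower SS (FractionRing SS) (FractionRing B) :=
    FractionRing.isScalarTower_liftAlgebra _ _
  haveI : IsScalarTower (FractionRing SS) (FractionRing PP) (FractionRing B) :=
    IsScalarTower.of_algebraMap_eq' (IsLocalization.ringHom_ext (nonZeroDivisors SS) (by
      ext s
      show algebraMap (FractionRing SS) (FractionRing B) (algebraMap SS (FractionRing SS) s) =
        algebraMap (FractionRing PP) (FractionRing B)
          (algebraMap (FractionRing SS) (FractionRing PP) (algebraMap SS (FractionRing SS) s))
      rw [← IsScalarTower.algebraMap_apply SS (FractionRing SS) (FractionRing B),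
        ← IsScalarTower.algebraMap_apply SS (FractionRing SS) (FractionRing PP),
        IsScalarTower.algebraMap_apply SS PP (FractionRing PP),
        ← IsScalarTower.algebraMap_apply PP (FractionRing PP) (FractionRing B),
        ← IsScalarTower.algebraMap_apply SS PP (FractionRing B)]))
  -- Step 1: the partial derivatives on `K = Frac P` kill `K₁ = Frac S₁`
  haveI : Algebra.FormallyEtale PP (FractionRing PP) :=
    Algebra.FormallyEtale.of_isLocalization (nonZeroDivisors PP)
  let Δ₀ : Fin n → Derivation k (FractionRing PP) (FractionRing PP) := fun j =>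
    (Groth.Agent.H23.GenRank.lamE k n PP j).compDer (D k (FractionRing PP))
  have hΔ₀ : ∀ j (c : PP), Δ₀ j (algebraMap PP (FractionRing PP) c) =
      algebraMap PP (FractionRing PP) (MvPowerSeries.pderiv k j c) := fun j c =>
    Groth.Agent.H23.GenRank.lamE_D k n PP j c
  have hΔ₀S : ∀ j (s : SS), Δ₀ j (algebraMap SS (FractionRing PP) s) = 0 := by
    intro j s
    rw [IsScalarTower.algebraMap_apply SS PP (FractionRing PP)]
    have : algebraMap SS PP s = s.1 := rfl
    rw [this, hΔ₀, pderiv_eq_zero_of_mem_S p k n ⊤ j s.2, map_zero]
  have hΔ₀K₁ : ∀ j (z : FractionRing SS),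
      Δ₀ j (algebraMap (FractionRing SS) (FractionRing PP) z) = 0 := by
    intro j z
    obtain ⟨a, b, hb, rfl⟩ := IsFractionRing.div_surjective SS z
    rw [map_div₀, ← IsScalarTower.algebraMap_apply SS (FractionRing SS) (FractionRing PP),
      ← IsScalarTower.algebraMap_apply SS (FractionRing SS) (FractionRing PP),
      Derivation.leibniz_div, hΔ₀S, hΔ₀S, smul_zero, smul_zero, sub_zero, smul_zero]
  let Δ : Fin n → Derivation (FractionRing SS) (FractionRing PP) (FractionRing PP) := fun j =>
    derivOfKills (Δ₀ j) (hΔ₀K₁ j)
  have hΔX : ∀ i j, Δ i (algebraMap PP (FractionRing PP) (MvPowerSeries.X j)) =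
      if i = j then 1 else 0 := by
    intro i j
    show Δ₀ i _ = _
    rw [hΔ₀]
    by_cases h : i = j
    · subst h
      rw [MvPowerSeries.pderiv_X_self, map_one, if_pos rfl]
    · rw [if_neg h, MvPowerSeries.pderiv_X_of_ne (Ne.symm h), map_zero]
  have hli : LinearIndependent (FractionRing PP) (fun j : Fin n =>
      D (FractionRing SS) (FractionRing PP) (algebraMap PP (FractionRing PP) (MvPowerSeries.X j))) := by
    rw [Fintype.linearIndependent_iff]
    intro c hc i
    have h1 := congrArg (Δ i).liftKaehlerDifferential hc
    rw [map_sum, map_zero] at h1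
    simp only [map_smul, Derivation.liftKaehlerDifferential_comp_D, hΔX, smul_eq_mul, mul_ite,
      mul_one, mul_zero, Finset.sum_ite_eq, Finset.mem_univ, if_true] at h1
    exact h1
  -- Step 2: Cartier's inequality
  haveI : IsScalarTower SS B (FractionRing B) := IsScalarTower.of_algebraMap_eq (fun _ => rfl)
  haveI : Algebra.EssFiniteType B (FractionRing B) :=
    Algebra.EssFiniteType.of_isLocalization (FractionRing B) (nonZeroDivisors B)
  haveI : Algebra.EssFiniteType SS (FractionRing B) :=
    Algebra.EssFiniteType.comp SS B (FractionRing B)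
  haveI : Algebra.EssFiniteType (FractionRing SS) (FractionRing B) :=
    Algebra.EssFiniteType.of_comp SS _ (FractionRing B)
  obtain ⟨hfinL, hfinK, hcart⟩ :=
    Groth.Agent.H96.Cartier.cartier_rel' (FractionRing SS) (FractionRing PP) (FractionRing B)
  have hn1 : n ≤ Module.finrank (FractionRing PP) (Ω[FractionRing PP⁄FractionRing SS]) := by
    have := hli.fintype_card_le_finrank
    rwa [Fintype.card_fin] at this
  have hn2 : n ≤ Module.finrank (FractionRing B) (Ω[FractionRing B⁄FractionRing SS]) := by
    have h0 : (0 : ℤ) ≤ (Cardinal.toNat (Algebra.trdeg (FractionRing PP) (FractionRing B)) : ℤ) :=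
      Int.natCast_nonneg _
    omega
  -- Step 3: a basis of `Ω[L/K₁]` consisting of differentials of elements of `B`
  let g : B → Ω[FractionRing B⁄FractionRing SS] := fun b =>
    D (FractionRing SS) (FractionRing B) (algebraMap B (FractionRing B) b)
  have hspan : Submodule.span (FractionRing B) (Set.range g) = ⊤ := by
    rw [eq_top_iff, ← KaehlerDifferential.span_range_derivation (FractionRing SS) (FractionRing B),
      Submodule.span_le]
    rintro _ ⟨x, rfl⟩
    obtain ⟨a, s, hs, rfl⟩ := IsFractionRing.div_surjective B x
    rw [Derivation.leibniz_div]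
    exact Submodule.smul_mem _ _ (Submodule.sub_mem _
      (Submodule.smul_mem _ _ (Submodule.subset_span ⟨a, rfl⟩))
      (Submodule.smul_mem _ _ (Submodule.subset_span ⟨s, rfl⟩)))
  obtain ⟨bs, hbs_sub, hbs_span, hbs_li⟩ := exists_linearIndependent (FractionRing B) (Set.range g)
  let β : Module.Basis bs (FractionRing B) (Ω[FractionRing B⁄FractionRing SS]) :=
    Module.Basis.mk hbs_li (by rw [Subtype.range_coe, hbs_span, hspan])
  haveI : Fintype bs := FiniteDimensional.fintypeBasisIndex β
  have hcard : Fintype.card bs =
      Module.finrank (FractionRing B) (Ω[FractionRing B⁄FractionRing SS]) :=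
    (Module.finrank_eq_card_basis β).symm
  have hpre : ∀ x : bs, ∃ b : B, g b = x.1 := fun x => hbs_sub x.2
  choose bb hbb using hpre
  -- Step 4: dual derivations and restriction to `B`
  let D₁ : bs → Derivation (FractionRing SS) (FractionRing B) (FractionRing B) := fun i =>
    (β.coord i).compDer (D (FractionRing SS) (FractionRing B))
  have hD₁ : ∀ i j, D₁ i (algebraMap B (FractionRing B) (bb j)) = if i = j then 1 else 0 := by
    intro i j
    show β.coord i (g (bb j)) = _
    rw [hbb]
    have : (j : Ω[FractionRing B⁄FractionRing SS]) = β j := by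
      rw [Module.Basis.mk_apply]
    rw [this, Module.Basis.coord_apply, Module.Basis.repr_self, Finsupp.single_apply]
    by_cases h : i = j
    · subst h; rw [if_pos rfl]
    · rw [if_neg h, if_neg (Ne.symm h)]
  have hres : ∀ i, ∃ (gi : B) (Di : Derivation SS B B), gi ≠ 0 ∧
      ∀ b, algebraMap B (FractionRing B) (Di b) =
        algebraMap B (FractionRing B) gi * D₁ i (algebraMap B (FractionRing B) b) := fun i =>
    exists_restrict_lin (R := SS) (B := B) (L := FractionRing B) ((D₁ i).restrictScalars SS)
  choose gg DD hgg hDD using hres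
  have hDDk : ∀ i (c : k), DD i (algebraMap k B c) = 0 := by
    intro i c
    have h1 : algebraMap k B c = algebraMap SS B ⟨MvPowerSeries.C c, C_mem_S p k n c⟩ := by
      rw [IsScalarTower.algebraMap_apply k PP B]
      rfl
    rw [h1]
    exact (DD i).map_algebraMap _
  refine ⟨bs, inferInstance, inferInstance, fun i => derivOfKills (DD i) (hDDk i), bb, ?_, ?_⟩
  · rw [hcard]; exact hn2
  · have hmat : (Matrix.of fun i j => derivOfKills (DD i) (hDDk i) (bb j)) =
        Matrix.diagonal gg := by
      ext i j
      apply hBL
      show algebraMap B (FractionRing B) (DD i (bb j)) = _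
      rw [hDD, hD₁]
      by_cases h : i = j
      · subst h; rw [if_pos rfl, mul_one, Matrix.diagonal_apply_eq]
      · rw [if_neg h, mul_zero, Matrix.diagonal_apply_ne _ h, map_zero]
    rw [hmat, Matrix.det_diagonal]
    exact Finset.prod_ne_zero_iff.2 (fun i _ => hgg i)

end

end Groth.Agent.H73.ComplDer
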