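import Groth.Agent.H96.CartierRel
import Groth.Agent.H73.CokerComp

/-!
# Differentials of a finite extension of a separable extension (helper73)

For fields `k ⊆ K ⊆ L` with `Υ_{K/k} = 0` (i.e. `K/k` separable) and `L/K` finitely generated
algebraic: `rank_L Ω_{L/k} = rank_K Ω_{K/k} + rank_L Υ_{L/k}` (EGA 0_IV 21.9.?).
-/

set_option autoImplicit false
set_option linter.unusedSectionVars false
universe u

namespace Groth.Agent.H73.ImpSeq

open KaehlerDifferential TensorProduct Groth.Agent.H96.Cartier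

variable (k K L : Type u) [Field k] [Field K] [Field L] [Algebra k K] [Algebra K L] [Algebra k L]
  [IsScalarTower k K L]

/-- `L ⊗_K (K ⊗_k Ω_k) → L ⊗_K Ω_K`. -/
noncomputable def a' : L ⊗[K] (K ⊗[k] Ω[k⁄ℤ]) →ₗ[L] L ⊗[K] Ω[K⁄ℤ] :=
  (mapBaseChange ℤ k K).baseChange L

/-- `L ⊗_K (K ⊗_k Ω_k) ≃ L ⊗_k Ω_k`. -/
noncomputable def e : L ⊗[K] (K ⊗[k] Ω[k⁄ℤ]) ≃ₗ[L] L ⊗[k] Ω[k⁄ℤ] :=
  TensorProduct.AlgebraTensorModule.cancelBaseChange k K L L Ω[k⁄ℤ]

/-- `L ⊗_k Ω_k → L ⊗_K Ω_K`. -/
noncomputable def a : L ⊗[k] Ω[k⁄ℤ] →ₗ[L] L ⊗[K] Ω[K⁄ℤ] :=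
  (a' k K L) ∘ₗ (e k K L).symm.toLinearMap

theorem a'_injective (h : EGA41.imperfection ℤ k K = ⊥) : Function.Injective (a' k K L) := by
  have h1 : Function.Injective (mapBaseChange ℤ k K) := LinearMap.ker_eq_bot.1 h
  have h2 := Module.Flat.lTensor_preserves_injective_linearMap (M := L) (mapBaseChange ℤ k K) h1
  intro x y hxy
  apply h2
  rw [← LinearMap.baseChange_eq_ltensor]
  exact hxy

theorem a_injective (h : EGA41.imperfection ℤ k K = ⊥) : Function.Injective (a k K L) := by
  unfold a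
  exact (a'_injective k K L h).comp (e k K L).symm.injective

theorem b_comp_a' (t : L ⊗[K] (K ⊗[k] Ω[k⁄ℤ])) :
    mapBaseChange ℤ K L (a' k K L t) = mapBaseChange ℤ k L (e k K L t) := by
  induction t using TensorProduct.induction_on with
  | zero => simp
  | add x y hx hy => rw [map_add, map_add, map_add, map_add, hx, hy]
  | tmul l z =>
    induction z using TensorProduct.induction_on with
    | zero => simp
    | add x y hx hy =>
      rw [tmul_add, map_add, map_add, map_add, map_add, hx, hy]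
    | tmul c ω =>
      rw [a', LinearMap.baseChange_tmul, mapBaseChange_tmul, mapBaseChange_tmul, e,
        TensorProduct.AlgebraTensorModule.cancelBaseChange_tmul, mapBaseChange_tmul,
        LinearMap.map_smul, map_map, smul_assoc]
      exact smul_comm _ _ _

theorem b_comp_a : (mapBaseChange ℤ K L) ∘ₗ (a k K L) = mapBaseChange ℤ k L := by
  refine LinearMap.ext fun t => ?_
  rw [LinearMap.comp_apply, a, LinearMap.comp_apply, LinearEquiv.coe_coe, b_comp_a',
    LinearEquiv.apply_symm_apply]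

theorem range_a : LinearMap.range (a k K L) = LinearMap.ker (ρ k K L) := by
  have h0 : LinearMap.range (a k K L) = LinearMap.range (a' k K L) := by
    unfold a
    exact LinearMap.range_comp_of_range_eq_top _ (LinearEquiv.range _)
  rw [h0]
  have hex := lTensor_exact L (exact_mapBaseChange_map ℤ k K) (map_surjective ℤ k K)
  ext t
  rw [LinearMap.mem_ker]
  have h1 : ρ k K L t = (KaehlerDifferential.map ℤ k K K).lTensor L t := by
    rw [ρ, LinearMap.baseChange_eq_ltensor]
  rw [h1, hex t]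
  constructor
  · rintro ⟨x, rfl⟩
    exact ⟨x, by rw [a', LinearMap.baseChange_eq_ltensor]⟩
  · rintro ⟨x, rfl⟩
    exact ⟨x, by rw [a', LinearMap.baseChange_eq_ltensor]⟩

/-- `Ω_L / range (L ⊗ Ω_K → Ω_L) ≃ Ω_{L/K}`. -/
noncomputable def cokerEquiv (K L : Type u) [Field K] [Field L] [Algebra K L] :
    (Ω[L⁄ℤ] ⧸ LinearMap.range (mapBaseChange ℤ K L)) ≃ₗ[L] Ω[L⁄K] :=
  (Submodule.quotEquivOfEq _ _
    (LinearMap.exact_iff.1 (exact_mapBaseChange_map ℤ K L)).symm).trans
    ((KaehlerDifferential.map ℤ K L L).quotKerEquivOfSurjective (map_surjective ℤ K L))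

theorem main (h : EGA41.imperfection ℤ k K = ⊥) [Algebra.EssFiniteType K L]
    [Algebra.IsAlgebraic K L] :
    Module.rank L (Ω[L⁄k]) =
      Module.rank K (Ω[K⁄k]) + Module.rank L (LinearMap.ker (mapBaseChange ℤ k L)) := by
  obtain ⟨hf1, hf2, h3⟩ := cartier K L
  have htr : Algebra.trdeg K L = 0 := trdeg_eq_zero
  rw [htr, Cardinal.zero_toNat] at h3
  have hfin : Module.finrank L (EGA41.imperfection ℤ K L) = Module.finrank L (Ω[L⁄K]) := by
    have := h3
    push_cast at this
    omega
  have heq : Module.rank L (LinearMap.ker (mapBaseChange ℤ K L)) =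
      Module.rank L (Ω[L⁄ℤ] ⧸ LinearMap.range (mapBaseChange ℤ K L)) := by
    rw [(cokerEquiv K L).rank_eq]
    have e1 := Module.finrank_eq_rank L (EGA41.imperfection ℤ K L)
    have e2 := Module.finrank_eq_rank L (Ω[L⁄K])
    rw [← e2, ← hfin, e1]
    rfl
  have key := CokerComp.main (a k K L) (mapBaseChange ℤ K L) (a_injective k K L h) heq
  rw [b_comp_a, (cokerEquiv k L).rank_eq, range_a] at key
  rw [key]
  congr 1
  rw [((ρ k K L).quotKerEquivOfSurjective (ρ_surjective k K L)).rank_eq, Module.rank_baseChange,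
    Cardinal.lift_id]

theorem finite_ker (h : EGA41.imperfection ℤ k K = ⊥) [Algebra.EssFiniteType K L] :
    Module.Finite L (LinearMap.ker (mapBaseChange ℤ k L)) := by
  obtain ⟨-, hf2, -⟩ := cartier K L
  have hmem : ∀ v : LinearMap.ker (mapBaseChange ℤ k L),
      a k K L v.1 ∈ EGA41.imperfection ℤ K L := by
    intro v
    show mapBaseChange ℤ K L (a k K L v.1) = 0
    have := LinearMap.congr_fun (b_comp_a k K L) v.1
    rw [LinearMap.comp_apply] at this
    rw [this]
    exact v.2
  let g : LinearMap.ker (mapBaseChange ℤ k L) →ₗ[L] EGA41.imperfection ℤ K L :=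
    { toFun := fun v => ⟨a k K L v.1, hmem v⟩
      map_add' := fun v w => by
        apply Subtype.ext
        simp
      map_smul' := fun r v => by
        apply Subtype.ext
        simp }
  have hg : Function.Injective g := by
    intro v w hvw
    have h2 : a k K L v.1 = a k K L w.1 := congrArg Subtype.val hvw
    exact Subtype.ext (a_injective k K L h h2)
  letI iG2 : AddCommGroup ↥(EGA41.imperfection ℤ K L) := Submodule.addCommGroup _
  haveI : IsNoetherian L ↥(EGA41.imperfection ℤ K L) :=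
    @isNoetherian_of_isNoetherianRing_of_finite L _ _ iG2 _ _ hf2
  exact Module.Finite.of_injective g hg

end Groth.Agent.H73.ImpSeq
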