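import Mathlib

/-!
# The subrings `F[[T^p]]` of `k[[T]]` (helper73)

For a field `k` of characteristic `p`, a subfield `F` and a finite set of variables `σ`, the subring
`S p F = F[[T^p]] ⊆ k[[T]] = MvPowerSeries σ k`:

* `mem_S`: coefficientwise description;
* `isNoetherianRing_S`;
* `basisVec`, `free_S`, `finite_S`: if `[k : F] < ∞` then `k[[T]]` is finite free over `F[[T^p]]`
  with basis `β_j T^a`, `0 ≤ a_i < p`;
* `mem_S_of_mem_closure`: `Frac (F[[T^p]]) ∩ k[[T]] = F[[T^p]]` inside `Frac k[[T]]`;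
* `pow_mem_S`, `exists_pow_eq`: `p`-th powers.
-/

set_option autoImplicit false
set_option linter.unusedSectionVars false
universe u

namespace Groth.Agent.H73.PFam

open MvPowerSeries

variable (p : ℕ) [Fact p.Prime] {k : Type u} [Field k] [CharP k p]
  {σ : Type*} [Fintype σ] [DecidableEq σ] (F : Subfield k)

theorem pne : p ≠ 0 := (Fact.out : p.Prime).ne_zero

theorem exists_eq_smul (n : σ →₀ ℕ) (h : ∀ i, p ∣ n i) : ∃ m : σ →₀ ℕ, n = p • m := by
  refine ⟨n.mapRange (· / p) (Nat.zero_div p), ?_⟩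
  ext i
  simp [Nat.mul_div_cancel' (h i)]

/-- `F[[T]] → k[[T]]`, `g ↦ g(T^p)`. -/
noncomputable def Psi : MvPowerSeries σ F →+* MvPowerSeries σ k :=
  (expand p (pne p)).toRingHom.comp (MvPowerSeries.map F.subtype)

theorem coeff_Psi_smul (g : MvPowerSeries σ F) (m : σ →₀ ℕ) :
    coeff (p • m) (Psi p F g) = ((coeff m g : F) : k) := by
  unfold Psi
  simp only [RingHom.comp_apply, AlgHom.toRingHom_eq_coe, RingHom.coe_coe]
  rw [coeff_expand_smul, coeff_map]
  rfl

theorem coeff_Psi_of_not_dvd (g : MvPowerSeries σ F) {n : σ →₀ ℕ} {i : σ} (h : ¬ p ∣ n i) :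
    coeff n (Psi p F g) = 0 := by
  unfold Psi
  simp only [RingHom.comp_apply, AlgHom.toRingHom_eq_coe, RingHom.coe_coe]
  exact coeff_expand_of_not_dvd p (pne p) _ h

/-- The subring `F[[T^p]]` of `k[[T]]`. -/
noncomputable def S : Subring (MvPowerSeries σ k) := (Psi p F (σ := σ)).range

theorem mem_S {f : MvPowerSeries σ k} :
    f ∈ S p F ↔ ∀ n, coeff n f ∈ F ∧ (coeff n f ≠ 0 → ∀ i, p ∣ n i) := by
  constructor
  · rintro ⟨g, rfl⟩ n
    by_cases h : ∀ i, p ∣ n i
    · obtain ⟨m, rfl⟩ := exists_eq_smul p n h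
      rw [coeff_Psi_smul]
      exact ⟨SetLike.coe_mem _, fun _ => h⟩
    · push Not at h
      obtain ⟨i, hi⟩ := h
      rw [coeff_Psi_of_not_dvd p F g hi]
      exact ⟨F.zero_mem, fun h0 => absurd rfl h0⟩
  · intro h
    refine ⟨fun m => ⟨coeff (p • m) f, (h _).1⟩, ?_⟩
    ext n
    by_cases hn : ∀ i, p ∣ n i
    · obtain ⟨m, rfl⟩ := exists_eq_smul p n hn
      rw [coeff_Psi_smul]
      rfl
    · have h0 : coeff n f = 0 := by
        by_contra hne
        exact hn ((h n).2 hne)
      push Not at hn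
      obtain ⟨i, hi⟩ := hn
      rw [coeff_Psi_of_not_dvd p F _ hi, h0]

theorem S_mono {F F' : Subfield k} (h : F ≤ F') : S p F (σ := σ) ≤ S p F' := by
  intro f hf
  rw [mem_S] at hf ⊢
  exact fun n => ⟨h (hf n).1, (hf n).2⟩

theorem isNoetherianRing_S : IsNoetherianRing (S p F (σ := σ)) :=
  isNoetherianRing_of_surjective _ _ (Psi p F (σ := σ)).rangeRestrict
    (Psi p F (σ := σ)).rangeRestrict_surjective

/-! ### The basis -/

/-- exponent vector attached to a vector of residues -/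
noncomputable def hat (a : σ → Fin p) : σ →₀ ℕ := Finsupp.equivFunOnFinite.symm fun i => (a i : ℕ)

@[simp] theorem hat_apply (a : σ → Fin p) (i : σ) : hat p a i = (a i : ℕ) := rfl

/-- residues of an exponent vector -/
def res (n : σ →₀ ℕ) : σ → Fin p := fun i => ⟨n i % p, Nat.mod_lt _ (Fact.out : p.Prime).pos⟩

theorem hat_res_le (n : σ →₀ ℕ) : hat p (res p n) ≤ n := by
  intro i
  simp only [hat_apply, res]
  exact Nat.mod_le _ _

theorem dvd_sub_hat_res (n : σ →₀ ℕ) (i : σ) : p ∣ (n - hat p (res p n)) i := by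
  simp only [Finsupp.tsub_apply, hat_apply, res]
  exact Nat.dvd_sub_mod _

theorem eq_res_of (a : σ → Fin p) (n : σ →₀ ℕ) (hle : hat p a ≤ n)
    (hd : ∀ i, p ∣ (n - hat p a) i) : a = res p n := by
  funext i
  apply Fin.ext
  have h1 : (a i : ℕ) ≤ n i := hle i
  have h2 : p ∣ n i - (a i : ℕ) := by simpa using hd i
  simp only [res]
  have h3 : n i % p = (a i : ℕ) % p := by
    have : (a i : ℕ) ≡ n i [MOD p] := (Nat.modEq_iff_dvd' h1).2 h2
    exact this.symm
  rw [h3, Nat.mod_eq_of_lt (a i).2]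

theorem res_add_hat (n : σ →₀ ℕ) (hn : ∀ i, p ∣ n i) (a : σ → Fin p) :
    res p (n + hat p a) = a := by
  funext i
  apply Fin.ext
  simp only [res, Finsupp.add_apply, hat_apply]
  obtain ⟨c, hc⟩ := hn i
  rw [hc, Nat.mul_add_mod, Nat.mod_eq_of_lt (a i).2]

variable {J : Type*} [Fintype J] (β : Module.Basis J F k)

/-- the basis vectors `β_j T^a` -/
noncomputable def vec (x : J × (σ → Fin p)) : MvPowerSeries σ k :=
  monomial (hat p x.2) (β x.1)

theorem coeff_sum_smul_vec (g : J × (σ → Fin p) → S p F (σ := σ)) (n : σ →₀ ℕ) :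
    coeff n (∑ x, g x • vec p F β x) =
      ∑ j, coeff (n - hat p (res p n)) (g (j, res p n)).1 * β j := by
  classical
  rw [map_sum, Fintype.sum_prod_type]
  refine Finset.sum_congr rfl fun j _ => ?_
  rw [Finset.sum_eq_single (res p n)]
  · rw [Subring.smul_def, smul_eq_mul, vec, coeff_mul_monomial, if_pos (hat_res_le p n)]
  · intro a _ ha
    rw [Subring.smul_def, smul_eq_mul, vec, coeff_mul_monomial]
    split_ifs with hle
    · by_contra hne
      have hne' : coeff (n - hat p a) (g (j, a)).1 ≠ 0 := left_ne_zero_of_mul hne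
      have := ((mem_S p F).1 (g (j, a)).2 _).2 hne'
      exact ha (eq_res_of p a n hle this)
    · rfl
  · intro h
    exact absurd (Finset.mem_univ _) h

theorem linearIndependent_vec : LinearIndependent (S p F (σ := σ)) (vec p F β (σ := σ)) := by
  rw [Fintype.linearIndependent_iff]
  rintro g hg ⟨j₁, a₁⟩
  apply Subtype.ext
  ext n
  rw [ZeroMemClass.coe_zero, map_zero]
  by_cases hn : ∀ i, p ∣ n i
  · have h1 := coeff_sum_smul_vec p F β g (n + hat p a₁)
    rw [hg, map_zero, res_add_hat p n hn, add_tsub_cancel_right] at h1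
    have h2 := Fintype.linearIndependent_iff.1 β.linearIndependent
      (fun j => ⟨coeff n (g (j, a₁)).1, ((mem_S p F).1 (g (j, a₁)).2 n).1⟩) (by
        simp only [Subfield.smul_def, smul_eq_mul]
        exact h1.symm) j₁
    exact congrArg Subtype.val h2
  · by_contra hne
    exact hn (((mem_S p F).1 (g (j₁, a₁)).2 n).2 hne)

/-- the coordinates of `f` with respect to the `β_j T^a` -/
noncomputable def coord (f : MvPowerSeries σ k) (x : J × (σ → Fin p)) : MvPowerSeries σ k :=
  fun n => if (∀ i, p ∣ n i) then ((β.repr (coeff (n + hat p x.2) f) x.1 : F) : k) else 0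

theorem coeff_coord (f : MvPowerSeries σ k) (x : J × (σ → Fin p)) (n : σ →₀ ℕ) :
    coeff n (coord p F β f x) =
      if (∀ i, p ∣ n i) then ((β.repr (coeff (n + hat p x.2) f) x.1 : F) : k) else 0 := rfl

theorem coord_mem (f : MvPowerSeries σ k) (x : J × (σ → Fin p)) : coord p F β f x ∈ S p F := by
  rw [mem_S]
  intro n
  rw [coeff_coord]
  by_cases h : ∀ i, p ∣ n i
  · rw [if_pos h]
    exact ⟨SetLike.coe_mem _, fun _ => h⟩
  · rw [if_neg h]
    exact ⟨F.zero_mem, fun h0 => absurd rfl h0⟩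

theorem span_vec : ⊤ ≤ Submodule.span (S p F (σ := σ)) (Set.range (vec p F β (σ := σ))) := by
  intro f _
  rw [Submodule.mem_span_range_iff_exists_fun]
  refine ⟨fun x => ⟨coord p F β f x, coord_mem p F β f x⟩, ?_⟩
  ext n
  rw [coeff_sum_smul_vec]
  simp only [coeff_coord, if_pos (dvd_sub_hat_res p n), tsub_add_cancel_of_le (hat_res_le p n)]
  have := β.sum_repr (coeff n f)
  simpa [Subfield.smul_def] using this

/-- `k[[T]]` is free over `F[[T^p]]` on the `β_j T^a`. -/
noncomputable def basisVec : Module.Basis (J × (σ → Fin p)) (S p F (σ := σ)) (MvPowerSeries σ k) :=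
  Module.Basis.mk (linearIndependent_vec p F β) (span_vec p F β)

theorem free_S [Module.Finite F k] : Module.Free (S p F (σ := σ)) (MvPowerSeries σ k) :=
  Module.Free.of_basis (basisVec p F (Module.finBasis F k))

theorem finite_S [Module.Finite F k] : Module.Finite (S p F (σ := σ)) (MvPowerSeries σ k) :=
  Module.Finite.of_basis (basisVec p F (Module.finBasis F k))


/-! ### The retraction and `Frac (F[[T^p]]) ∩ k[[T]] = F[[T^p]]` -/

omit [CharP k p] in
theorem exists_retraction : ∃ φ : k →+ k, (∀ y, φ y ∈ F) ∧ (∀ c ∈ F, ∀ y, φ (c * y) = c * φ y) ∧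
    ∀ c ∈ F, φ c = c := by
  obtain ⟨g, hg⟩ := LinearMap.exists_leftInverse_of_injective (Algebra.linearMap F k)
    (LinearMap.ker_eq_bot.2 (algebraMap F k).injective)
  refine ⟨(F.subtype : F →+ k).comp g.toAddMonoidHom, fun y => SetLike.coe_mem _, ?_, ?_⟩
  · intro c hc y
    have := g.map_smul (⟨c, hc⟩ : F) y
    simp only [AddMonoidHom.coe_comp, Function.comp_apply, LinearMap.toAddMonoidHom_coe]
    have h2 : (⟨c, hc⟩ : F) • y = c * y := rfl
    rw [← h2, this]
    rfl
  · intro c hc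
    have := LinearMap.congr_fun hg (⟨c, hc⟩ : F)
    simp only [AddMonoidHom.coe_comp, Function.comp_apply, LinearMap.toAddMonoidHom_coe]
    have h2 : g c = (⟨c, hc⟩ : F) := this
    rw [h2]
    rfl

/-- the retraction `k[[T]] → F[[T^p]]` attached to an `F`-linear retraction `k → F` -/
noncomputable def rho (φ : k →+ k) (f : MvPowerSeries σ k) : MvPowerSeries σ k :=
  fun n => if (∀ i, p ∣ n i) then φ (coeff n f) else 0

theorem coeff_rho (φ : k →+ k) (f : MvPowerSeries σ k) (n : σ →₀ ℕ) :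
    coeff n (rho p φ f) = if (∀ i, p ∣ n i) then φ (coeff n f) else 0 := rfl

theorem rho_mem (φ : k →+ k) (h1 : ∀ y, φ y ∈ F) (f : MvPowerSeries σ k) : rho p φ f ∈ S p F := by
  rw [mem_S]
  intro n
  rw [coeff_rho]
  by_cases h : ∀ i, p ∣ n i
  · rw [if_pos h]
    exact ⟨h1 _, fun _ => h⟩
  · rw [if_neg h]
    exact ⟨F.zero_mem, fun h0 => absurd rfl h0⟩

theorem rho_eq_self (φ : k →+ k) (h3 : ∀ c ∈ F, φ c = c) {s : MvPowerSeries σ k}
    (hs : s ∈ S p F) : rho p φ s = s := by
  rw [mem_S] at hs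
  ext n
  rw [coeff_rho]
  by_cases h : ∀ i, p ∣ n i
  · rw [if_pos h, h3 _ (hs n).1]
  · rw [if_neg h]
    by_contra hne
    exact h ((hs n).2 (Ne.symm hne))

theorem rho_mul (φ : k →+ k) (h2 : ∀ c ∈ F, ∀ y, φ (c * y) = c * φ y) (x : MvPowerSeries σ k)
    {t : MvPowerSeries σ k} (ht : t ∈ S p F) : rho p φ (x * t) = rho p φ x * t := by
  rw [mem_S] at ht
  ext n
  rw [coeff_rho, coeff_mul, coeff_mul]
  by_cases hn : ∀ i, p ∣ n i
  · rw [if_pos hn, map_sum]
    refine Finset.sum_congr rfl fun ab hab => ?_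
    replace hab : ab.1 + ab.2 = n := Finset.HasAntidiagonal.mem_antidiagonal.1 hab
    rw [coeff_rho, mul_comm, h2 _ (ht ab.2).1, mul_comm]
    by_cases ha : ∀ i, p ∣ ab.1 i
    · rw [if_pos ha]
    · rw [if_neg ha]
      have : coeff ab.2 t = 0 := by
        by_contra hne
        apply ha
        intro i
        have h5 := (ht ab.2).2 hne i
        have h6 := hn i
        rw [← hab, Finsupp.add_apply] at h6
        exact (Nat.dvd_add_left h5).1 h6
      rw [this, mul_zero, mul_zero]
  · rw [if_neg hn]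
    symm
    apply Finset.sum_eq_zero
    intro ab hab
    replace hab : ab.1 + ab.2 = n := Finset.HasAntidiagonal.mem_antidiagonal.1 hab
    rw [coeff_rho]
    by_cases ha : ∀ i, p ∣ ab.1 i
    · have : coeff ab.2 t = 0 := by
        by_contra hne
        apply hn
        intro i
        rw [← hab, Finsupp.add_apply]
        exact Nat.dvd_add (ha i) ((ht ab.2).2 hne i)
      rw [this, mul_zero]
    · rw [if_neg ha, zero_mul]

theorem mem_S_of_mul_mem {x t : MvPowerSeries σ k} (ht : t ∈ S p F) (ht0 : t ≠ 0)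
    (hs : x * t ∈ S p F) : x ∈ S p F := by
  obtain ⟨φ, h1, h2, h3⟩ := exists_retraction F
  have e1 := rho_eq_self p F φ h3 hs
  rw [rho_mul p F φ h2 x ht] at e1
  have e2 : rho p φ x = x := mul_right_cancel₀ ht0 e1
  rw [← e2]
  exact rho_mem p F φ h1 x

theorem mem_S_of_mem_closure (x : MvPowerSeries σ k)
    (hx : algebraMap (MvPowerSeries σ k) (FractionRing (MvPowerSeries σ k)) x ∈
      Subfield.closure (algebraMap (MvPowerSeries σ k) (FractionRing (MvPowerSeries σ k)) ''
        ((S p F (σ := σ) : Subring (MvPowerSeries σ k)) : Set (MvPowerSeries σ k)))) :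
    x ∈ S p F := by
  set alg := algebraMap (MvPowerSeries σ k) (FractionRing (MvPowerSeries σ k)) with halg
  have hcl : Subring.closure (alg '' ((S p F (σ := σ) : Subring (MvPowerSeries σ k)) :
      Set (MvPowerSeries σ k))) = (S p F).map alg := by
    have := Subring.closure_eq ((S p F).map alg)
    rwa [Subring.coe_map] at this
  rw [Subfield.mem_closure_iff, hcl] at hx
  obtain ⟨y, ⟨s, hs, rfl⟩, z, ⟨t, ht, rfl⟩, hyz⟩ := hx
  have hinj : Function.Injective alg := IsFractionRing.injective _ _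
  by_cases ht0 : t = 0
  · rw [ht0, map_zero, div_zero] at hyz
    have : x = 0 := hinj (by rw [← hyz, map_zero])
    rw [this]
    exact (S p F).zero_mem
  · have hz : alg t ≠ 0 := fun h => ht0 (hinj (by rw [h, map_zero]))
    have h1 : alg (x * t) = alg s := by
      rw [map_mul, ← hyz, div_mul_cancel₀ _ hz]
    have h2 : x * t = s := hinj h1
    exact mem_S_of_mul_mem p F ht ht0 (h2 ▸ hs)

/-! ### `p`-th powers -/

theorem coeff_pow_p (f : MvPowerSeries σ k) (n : σ →₀ ℕ) :
    coeff n (f ^ p) = (coeff n (expand p (pne p) f)) ^ p := by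
  rw [← map_frobenius_expand p (pne p), coeff_map, frobenius_def]

theorem pow_mem_S (hF : ∀ y : k, y ^ p ∈ F) (f : MvPowerSeries σ k) : f ^ p ∈ S p F := by
  rw [mem_S]
  intro n
  rw [coeff_pow_p]
  refine ⟨hF _, fun hne i => ?_⟩
  by_contra hi
  exact hne (by rw [coeff_expand_of_not_dvd p (pne p) f hi, zero_pow (pne p)])

theorem exists_pow_eq (f : MvPowerSeries σ k) (h1 : ∀ n, ∃ y : k, y ^ p = coeff n f)
    (h2 : ∀ n, coeff n f ≠ 0 → ∀ i, p ∣ n i) : ∃ g : MvPowerSeries σ k, g ^ p = f := by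
  choose c hc using h1
  refine ⟨fun m => c (p • m), ?_⟩
  ext n
  rw [coeff_pow_p]
  by_cases hn : ∀ i, p ∣ n i
  · obtain ⟨m, rfl⟩ := exists_eq_smul p n hn
    rw [coeff_expand_smul, coeff_apply, hc]
  · have h0 : coeff n f = 0 := by
      by_contra hne
      exact hn (h2 n hne)
    push Not at hn
    obtain ⟨i, hi⟩ := hn
    rw [coeff_expand_of_not_dvd p (pne p) _ hi, zero_pow (pne p), h0]

end Groth.Agent.H73.PFam
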