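import Groth.Agent.H96.PSKaehler
import Groth.Agent.H73.PFamSeries

/-!
# Differentials of `k((T_1, …, T_n))` over `k` (helper73)

* `le_rank`: `n ≤ rank Ω_{K₀/k}` for `K₀ = Frac k[[T_1..T_n]]`;
* if `k` is finite over `k^p`: `Ω_{k[[T]]/k}` is free on the `dT_i` (`omegaEquiv`), hence finite, and
  `rank Ω_{K₀/k} = n`.
-/

set_option autoImplicit false
set_option linter.unusedSectionVars false
universe u

namespace Groth.Agent.H73.PSOmega

open KaehlerDifferential TensorProduct Groth.Agent.H96.PSKaehler

section General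

variable (k : Type u) [Field k] (n : ℕ)

theorem le_rank :
    (n : Cardinal.{u}) ≤ Module.rank (FractionRing (MvPowerSeries (Fin n) k))
      (Ω[FractionRing (MvPowerSeries (Fin n) k)⁄k]) := by
  haveI : Algebra.FormallyEtale (MvPowerSeries (Fin n) k) (FractionRing (MvPowerSeries (Fin n) k)) :=
    Algebra.FormallyEtale.of_isLocalization (nonZeroDivisors (MvPowerSeries (Fin n) k))
  have e := KaehlerDifferential.tensorKaehlerEquivOfFormallyEtale k (MvPowerSeries (Fin n) k)
    (FractionRing (MvPowerSeries (Fin n) k))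
  rw [← e.rank_eq]
  have hsurj : Function.Surjective
      ((φ k n).baseChange (FractionRing (MvPowerSeries (Fin n) k))) := by
    rw [LinearMap.baseChange_eq_ltensor]
    exact LinearMap.lTensor_surjective _ (fun a => ⟨ψ k n a, φ_ψ k n a⟩)
  have := LinearMap.rank_le_of_surjective _ hsurj
  rwa [Module.rank_baseChange, rank_fun', Fintype.card_fin, Cardinal.lift_natCast] at this

end General

section Finite

variable (p : ℕ) [Fact p.Prime] (k : Type u) [Field k] [CharP k p] (n : ℕ)

open Groth.Agent.H73.PFam

theorem finite_fieldRange (hk : (frobenius k p).Finite) :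
    Module.Finite (frobenius k p).fieldRange k := by
  letI alg : Algebra k k := (frobenius k p).toAlgebra
  have hk' : @Module.Finite k k _ _ alg.toModule := hk
  obtain ⟨s, hs⟩ := @Module.Finite.fg_top k k _ _ alg.toModule hk'
  refine ⟨⟨s, ?_⟩⟩
  rw [eq_top_iff]
  rintro x -
  have hx : x ∈ @Submodule.span k k _ _ alg.toModule (s : Set k) := by
    rw [hs]; trivial
  induction hx using Submodule.span_induction with
  | mem y hy => exact Submodule.subset_span hy
  | zero => exact Submodule.zero_mem _
  | add y z _ _ hy hz => exact Submodule.add_mem _ hy hz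
  | smul c y _ hy =>
    have : (⟨c ^ p, ⟨c, rfl⟩⟩ : (frobenius k p).fieldRange) • y ∈
        Submodule.span (frobenius k p).fieldRange (s : Set k) := Submodule.smul_mem _ _ hy
    exact this

theorem mem_good_of_mem_S {g : MvPowerSeries (Fin n) k}
    (hg : g ∈ S p (frobenius k p).fieldRange) : g ∈ good k n := by
  have h := (mem_S p _).1 hg
  obtain ⟨h', rfl⟩ := exists_pow_eq p g
    (fun m => by
      obtain ⟨y, hy⟩ := (h m).1
      exact ⟨y, hy⟩)
    (fun m => (h m).2)
  show ψ k n (φ k n (D k _ (h' ^ p))) = D k _ (h' ^ p)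
  have h0 : D k (MvPowerSeries (Fin n) k) (h' ^ p) = 0 := by
    rw [Derivation.leibniz_pow, ← Nat.cast_smul_eq_nsmul k, CharP.cast_eq_zero k p, zero_smul]
  rw [h0, map_zero, map_zero]

theorem mem_good (hk : (frobenius k p).Finite) (f : MvPowerSeries (Fin n) k) : f ∈ good k n := by
  classical
  haveI := finite_fieldRange p k hk
  set F := (frobenius k p).fieldRange with hF
  set β := Module.finBasis F k with hβ
  set b := basisVec (σ := Fin n) p F β with hb
  rw [← b.sum_repr f]
  refine Subalgebra.sum_mem _ fun x _ => ?_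
  rw [Subring.smul_def, smul_eq_mul]
  refine Subalgebra.mul_mem _ (mem_good_of_mem_S p k n (b.repr f x).2) ?_
  have : b x = ((MvPolynomial.monomial (hat p x.2) (β x.1) : MvPolynomial (Fin n) k) :
      MvPowerSeries (Fin n) k) := by
    rw [hb, basisVec, Module.Basis.mk_apply, vec, MvPolynomial.coe_monomial]
  rw [this]
  exact coe_mem_good k n _

theorem ψ_φ (hk : (frobenius k p).Finite) (ω : Ω[MvPowerSeries (Fin n) k⁄k]) :
    ψ k n (φ k n ω) = ω := by
  have hω : ω ∈ Submodule.span (MvPowerSeries (Fin n) k)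
      (Set.range (D k (MvPowerSeries (Fin n) k))) := by
    rw [span_range_derivation]; trivial
  induction hω using Submodule.span_induction with
  | mem x hx =>
    obtain ⟨f, rfl⟩ := hx
    exact mem_good p k n hk f
  | zero => rw [map_zero, map_zero]
  | add x y _ _ hx hy => rw [map_add, map_add, hx, hy]
  | smul c x _ hx => rw [map_smul, map_smul, hx]

/-- `Ω_{k[[T]]/k}` is free on the `dT_i` when `[k : k^p] < ∞`. -/
noncomputable def omegaEquiv (hk : (frobenius k p).Finite) :
    Ω[MvPowerSeries (Fin n) k⁄k] ≃ₗ[MvPowerSeries (Fin n) k] (Fin n → MvPowerSeries (Fin n) k) :=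
  LinearEquiv.ofLinearMap (φ k n) (ψ k n)
    (LinearMap.ext fun a => φ_ψ k n a) (LinearMap.ext fun ω => ψ_φ p k n hk ω)

theorem finite_omega (hk : (frobenius k p).Finite) :
    Module.Finite (MvPowerSeries (Fin n) k) (Ω[MvPowerSeries (Fin n) k⁄k]) :=
  Module.Finite.equiv (omegaEquiv p k n hk).symm

theorem rank_eq (hk : (frobenius k p).Finite) :
    Module.rank (FractionRing (MvPowerSeries (Fin n) k))
      (Ω[FractionRing (MvPowerSeries (Fin n) k)⁄k]) = n := by
  haveI : Algebra.FormallyEtale (MvPowerSeries (Fin n) k) (FractionRing (MvPowerSeries (Fin n) k)) :=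
    Algebra.FormallyEtale.of_isLocalization (nonZeroDivisors (MvPowerSeries (Fin n) k))
  have e := KaehlerDifferential.tensorKaehlerEquivOfFormallyEtale k (MvPowerSeries (Fin n) k)
    (FractionRing (MvPowerSeries (Fin n) k))
  rw [← e.rank_eq]
  haveI : Module.Free (MvPowerSeries (Fin n) k) (Ω[MvPowerSeries (Fin n) k⁄k]) :=
    Module.Free.of_equiv (omegaEquiv p k n hk).symm
  rw [Module.rank_baseChange, (omegaEquiv p k n hk).rank_eq, rank_fun', Fintype.card_fin,
    Cardinal.lift_natCast]

end Finite

end Groth.Agent.H73.PSOmega
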