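import Groth.Agent.H96.CohenFinite
import Groth.Agent.S4551
import Groth.Agent.S4523
import Groth.Agent.H73.ImpSeq
import Groth.Agent.H73.PSOmega

/-!
# EGA 0_IV 22.? : differentials of the fraction field of a complete local domain (helper73)
-/

set_option autoImplicit false
set_option linter.unusedSectionVars false
set_option linter.style.haveILetI false
universe u

namespace Groth.Agent.H73.ComplOmega

open KaehlerDifferential TensorProduct IsLocalRing

variable (k C L : Type u) [Field k] [CommRing C] [IsDomain C]
    [IsNoetherianRing C] [IsLocalRing C] [Algebra k C] [IsAdicComplete (maximalIdeal C) C]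
    [Module.Finite k (ResidueField C)] (n : ℕ) (hn : ringKrullDim C = n)
    [Field L] [Algebra C L] [IsFractionRing C L] [Algebra k L] [IsScalarTower k C L]

include hn in
theorem setup :
    ∃ (w : MvPowerSeries (Fin n) k →ₐ[k] C), Function.Injective w ∧ w.toRingHom.Finite ∧
      Module.Finite L (LinearMap.ker (mapBaseChange ℤ k L)) ∧
      Module.rank L (Ω[L⁄k]) =
        Module.rank (FractionRing (MvPowerSeries (Fin n) k))
          (Ω[FractionRing (MvPowerSeries (Fin n) k)⁄k]) +
        Module.rank L (LinearMap.ker (mapBaseChange ℤ k L)) := by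
  obtain ⟨m, w, hinj, -, hfin⟩ := Groth.Agent.H96.CohenFinite.main (k₀ := k) (A := C)
  have hdim := Groth.Agent.H54.ringKrullDim_eq_of_ringHom_isIntegral_of_injective w.toRingHom
    hfin.to_isIntegral hinj
  rw [Groth.Agent.H61.ringKrullDim_ps, hn] at hdim
  have hmn : m = n := by exact_mod_cast hdim
  subst hmn
  refine ⟨w, hinj, hfin, ?_⟩
  -- algebra structures
  letI : Algebra (MvPowerSeries (Fin m) k) C := w.toRingHom.toAlgebra
  haveI : IsScalarTower k (MvPowerSeries (Fin m) k) C := IsScalarTower.of_algebraMap_eq (fun c => by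
    show algebraMap k C c = w (algebraMap k _ c)
    exact (w.commutes c).symm)
  haveI : Module.Finite (MvPowerSeries (Fin m) k) C := hfin
  letI : Algebra (MvPowerSeries (Fin m) k) L :=
    ((algebraMap C L).comp (algebraMap (MvPowerSeries (Fin m) k) C)).toAlgebra
  haveI : IsScalarTower (MvPowerSeries (Fin m) k) C L := IsScalarTower.of_algebraMap_eq (fun _ => rfl)
  have hgi : Function.Injective (algebraMap (MvPowerSeries (Fin m) k) L) :=
    (IsFractionRing.injective C L).comp hinj
  letI : Algebra (FractionRing (MvPowerSeries (Fin m) k)) L :=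
    (IsFractionRing.lift hgi).toAlgebra
  haveI : IsScalarTower (MvPowerSeries (Fin m) k) (FractionRing (MvPowerSeries (Fin m) k)) L :=
    IsScalarTower.of_algebraMap_eq (fun x => (IsFractionRing.lift_algebraMap hgi x).symm)
  haveI : IsScalarTower k (MvPowerSeries (Fin m) k) L := IsScalarTower.of_algebraMap_eq (fun c => by
    rw [IsScalarTower.algebraMap_apply k C L, IsScalarTower.algebraMap_apply k (MvPowerSeries (Fin m) k) C]
    rfl)
  haveI : IsScalarTower k (FractionRing (MvPowerSeries (Fin m) k)) L :=
    IsScalarTower.of_algebraMap_eq (fun c => by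
      rw [IsScalarTower.algebraMap_apply k (MvPowerSeries (Fin m) k)
        (FractionRing (MvPowerSeries (Fin m) k)),
        ← IsScalarTower.algebraMap_apply (MvPowerSeries (Fin m) k)
          (FractionRing (MvPowerSeries (Fin m) k)) L,
        ← IsScalarTower.algebraMap_apply k (MvPowerSeries (Fin m) k) L])
  haveI : Algebra.EssFiniteType C L := Algebra.EssFiniteType.of_isLocalization L (nonZeroDivisors C)
  haveI : Algebra.EssFiniteType (MvPowerSeries (Fin m) k) L :=
    Algebra.EssFiniteType.comp (MvPowerSeries (Fin m) k) C L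
  haveI : Algebra.EssFiniteType (FractionRing (MvPowerSeries (Fin m) k)) L :=
    Algebra.EssFiniteType.of_comp (MvPowerSeries (Fin m) k) _ L
  haveI : Algebra.IsAlgebraic (FractionRing (MvPowerSeries (Fin m) k)) L :=
    isAlgebraic_of_isFractionRing (MvPowerSeries (Fin m) k) C _ L
  have hsep :=
    (Groth.Agent.S4523.result (k := k) (K := FractionRing (MvPowerSeries (Fin m) k))).1.1
      (Groth.Agent.S4551.result k m)
  exact ⟨Groth.Agent.H73.ImpSeq.finite_ker k (FractionRing (MvPowerSeries (Fin m) k)) L hsep,
    Groth.Agent.H73.ImpSeq.main k (FractionRing (MvPowerSeries (Fin m) k)) L hsep⟩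

omit [IsDomain C] [IsNoetherianRing C] [IsLocalRing C] [IsAdicComplete (maximalIdeal C) C]
  [Module.Finite k (ResidueField C)] in
/-- finiteness of `Ω_{C/k}` for `C` finite over a ring `P` with `Ω_{P/k}` finite. -/
theorem finite_omega_of {P : Type u} [CommRing P] [Algebra k P] (w : P →ₐ[k] C)
    (hfin : w.toRingHom.Finite) (hΩ : Module.Finite P (Ω[P⁄k])) : Module.Finite C (Ω[C⁄k]) := by
  letI : Algebra P C := w.toRingHom.toAlgebra
  haveI : IsScalarTower k P C := IsScalarTower.of_algebraMap_eq (fun c => by
    show algebraMap k C c = w (algebraMap k _ c)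
    exact (w.commutes c).symm)
  haveI : Module.Finite P C := hfin
  set f := mapBaseChange k P C with hf
  haveI : Module.Finite C (LinearMap.range f) := inferInstance
  have e2 : (Ω[C⁄k] ⧸ LinearMap.range f) ≃ₗ[C] Ω[C⁄P] :=
    (Submodule.quotEquivOfEq _ _
      (LinearMap.exact_iff.1 (exact_mapBaseChange_map k P C)).symm).trans
      ((KaehlerDifferential.map k P C C).quotKerEquivOfSurjective (map_surjective k P C))
  haveI : Module.Finite C (Ω[C⁄k] ⧸ LinearMap.range f) := Module.Finite.equiv e2.symm
  exact Module.Finite.of_submodule_quotient (LinearMap.range f)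

end Groth.Agent.H73.ComplOmega
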