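import Mathlib
import Groth.Prelude.Def_CAlg
import Groth.Prelude.Def_W4c5grrsingularflatDSeq
import Groth.Agent.H96.CMGens
import Groth.Agent.H29.CM
import Groth.Agent.Lead.RegularLocal4

/-!
# A prime of a Cohen–Macaulay local ring with `μ(p) ≤ ht p + 1` and `T_p` regular is generated by a
d-sequence (Huneke)

We refine helper96's construction (`H96.CMGens`) of minimal generators with a regular prefix: the
prefix `t_1, …, t_h` (`h = ht p`) is moreover chosen so that it generates `p T_p`.  The d-sequence
property at the last step then follows from unmixedness of `(t_1, …, t_h)`.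
-/

set_option autoImplicit false
set_option linter.style.haveILetI false
set_option linter.unusedSectionVars false
set_option linter.unusedVariables false

universe u

namespace Groth.Agent.H73.DSeqGen

open IsLocalRing Groth.Agent.H96.CMGens Groth.Agent.Lead.RLR

section Inv

variable {T : Type u} [CommRing T] (p : Ideal T) [p.IsPrime]

/-- the regularity invariant: `T_p / I T_p` is regular local of dimension `n` -/
def Inv (I : Ideal T) (n : ℕ) : Prop :=
  ∃ _ : IsRegularLocalRing (Localization.AtPrime p ⧸ I.map (algebraMap T (Localization.AtPrime p))),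
    ringKrullDim (Localization.AtPrime p ⧸ I.map (algebraMap T (Localization.AtPrime p))) = n

/-- the ideal to avoid: preimage of `I T_p + (p T_p)^2` -/
def N2 (I : Ideal T) : Ideal T :=
  (I.map (algebraMap T (Localization.AtPrime p)) ⊔
    maximalIdeal (Localization.AtPrime p) ^ 2).comap (algebraMap T (Localization.AtPrime p))

theorem map_le_maximalIdeal {I : Ideal T} (hI : I ≤ p) :
    I.map (algebraMap T (Localization.AtPrime p)) ≤ maximalIdeal (Localization.AtPrime p) := by
  rw [← Localization.AtPrime.map_eq_maximalIdeal]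
  exact Ideal.map_mono hI

theorem inv_init [IsNoetherianRing T] [IsRegularLocalRing (Localization.AtPrime p)] (h : ℕ)
    (hh : p.height = h) : Inv p ⊥ h := by
  have e : (Localization.AtPrime p ⧸ (⊥ : Ideal T).map (algebraMap T (Localization.AtPrime p)))
      ≃+* Localization.AtPrime p :=
    (Ideal.quotEquivOfEq (Ideal.map_bot)).trans (RingEquiv.quotientBot _)
  refine ⟨IsRegularLocalRing.of_ringEquiv e.symm, ?_⟩
  rw [ringKrullDim_eq_of_ringEquiv e, IsLocalization.AtPrime.ringKrullDim_eq_height p, hh]
  rfl

theorem inv_zero [IsNoetherianRing T] {I : Ideal T} (hI : I ≤ p) (h : Inv p I 0) :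
    I.map (algebraMap T (Localization.AtPrime p)) = maximalIdeal (Localization.AtPrime p) := by
  obtain ⟨hreg, hdim⟩ := h
  set a := I.map (algebraMap T (Localization.AtPrime p)) with ha
  have h1 := ringKrullDim_eq_spanFinrank (Localization.AtPrime p ⧸ a)
  rw [hdim] at h1
  have h2 : (maximalIdeal (Localization.AtPrime p ⧸ a)).spanFinrank = 0 := by
    exact_mod_cast h1.symm
  have h3 : maximalIdeal (Localization.AtPrime p ⧸ a) = ⊥ :=
    (Submodule.spanFinrank_eq_zero_iff_eq_bot (IsNoetherian.noetherian _)).mp h2
  have h4 : IsField (Localization.AtPrime p ⧸ a) := IsLocalRing.isField_iff_maximalIdeal_eq.mpr h3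
  have h5 : a.IsMaximal := Ideal.Quotient.maximal_of_isField a h4
  exact IsLocalRing.eq_maximalIdeal h5

theorem mem_of_mk_mem_sq [IsNoetherianRing T] (a : Ideal (Localization.AtPrime p))
    [IsLocalRing (Localization.AtPrime p ⧸ a)] (y : Localization.AtPrime p)
    (hy : Ideal.Quotient.mk a y ∈ maximalIdeal (Localization.AtPrime p ⧸ a) ^ 2) :
    y ∈ a ⊔ maximalIdeal (Localization.AtPrime p) ^ 2 := by
  have h1 : maximalIdeal (Localization.AtPrime p ⧸ a) ≤
      (maximalIdeal (Localization.AtPrime p)).map (Ideal.Quotient.mk a) := by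
    intro z hz
    obtain ⟨w, rfl⟩ := Ideal.Quotient.mk_surjective z
    apply Ideal.mem_map_of_mem
    rw [mem_maximalIdeal, mem_nonunits_iff] at hz ⊢
    exact fun hu => hz (hu.map _)
  have h2 : Ideal.Quotient.mk a y ∈
      (maximalIdeal (Localization.AtPrime p) ^ 2).map (Ideal.Quotient.mk a) := by
    rw [Ideal.map_pow]
    exact Ideal.pow_right_mono h1 2 hy
  have h3 : y ∈ ((maximalIdeal (Localization.AtPrime p) ^ 2).map (Ideal.Quotient.mk a)).comap
      (Ideal.Quotient.mk a) := h2
  rw [Ideal.comap_map_of_surjective _ Ideal.Quotient.mk_surjective, ← RingHom.ker_eq_comap_bot,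
    Ideal.mk_ker, sup_comm] at h3
  exact h3

theorem inv_step [IsNoetherianRing T] {I : Ideal T} (hI : I ≤ p) (n : ℕ) (h : Inv p I (n + 1))
    (t : T) (htp : t ∈ p) (ht : t ∉ N2 p I) : Inv p (I ⊔ Ideal.span {t}) n := by
  obtain ⟨hreg, hdim⟩ := h
  set a := I.map (algebraMap T (Localization.AtPrime p)) with ha
  set y := algebraMap T (Localization.AtPrime p) t with hy
  set x := Ideal.Quotient.mk a y with hx
  have hym : y ∈ maximalIdeal (Localization.AtPrime p) :=
    (IsLocalization.AtPrime.to_map_mem_maximal_iff _ p t).mpr htp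
  have hxm : x ∈ maximalIdeal (Localization.AtPrime p ⧸ a) := by
    rw [mem_maximalIdeal, mem_nonunits_iff]
    intro hu
    have ham : a ≤ maximalIdeal (Localization.AtPrime p) := map_le_maximalIdeal p hI
    obtain ⟨z, hz⟩ := hu.exists_right_inv
    obtain ⟨z, rfl⟩ := Ideal.Quotient.mk_surjective z
    rw [hx, ← map_mul, ← map_one (Ideal.Quotient.mk a), Ideal.Quotient.eq] at hz
    have h1 : y * z ∈ maximalIdeal (Localization.AtPrime p) := Ideal.mul_mem_right _ _ hym
    have : (1 : Localization.AtPrime p) ∈ maximalIdeal (Localization.AtPrime p) := by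
      have e : (1 : Localization.AtPrime p) = y * z - (y * z - 1) := by ring
      rw [e]
      exact Ideal.sub_mem _ h1 (ham hz)
    exact (maximalIdeal.isMaximal _).ne_top ((Ideal.eq_top_iff_one _).mpr this)
  have hx2 : x ∉ maximalIdeal (Localization.AtPrime p ⧸ a) ^ 2 := by
    intro hmem
    exact ht (mem_of_mk_mem_sq p a y hmem)
  obtain ⟨s, hcard, hspan⟩ := exists_finset_span_insert (Localization.AtPrime p ⧸ a) x hxm hx2
  obtain ⟨hreg', hdim', -⟩ := quotient_regular (Localization.AtPrime p ⧸ a) x s hspan
    (le_of_eq hcard)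
  -- identify the quotient
  have hmap : (I ⊔ Ideal.span {t}).map (algebraMap T (Localization.AtPrime p)) =
      a ⊔ Ideal.span {y} := by
    rw [Ideal.map_sup, Ideal.map_span, Set.image_singleton]
  have hspanx : Ideal.span {x} = (Ideal.span {y}).map (Ideal.Quotient.mk a) := by
    rw [Ideal.map_span, Set.image_singleton]
  let e : ((Localization.AtPrime p ⧸ a) ⧸ Ideal.span {x}) ≃+*
      (Localization.AtPrime p ⧸
        (I ⊔ Ideal.span {t}).map (algebraMap T (Localization.AtPrime p))) :=
    (Ideal.quotEquivOfEq hspanx).trans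
      ((DoubleQuot.quotQuotEquivQuotSup a (Ideal.span {y})).trans
        (Ideal.quotEquivOfEq hmap.symm))
  refine ⟨IsRegularLocalRing.of_ringEquiv
    (R := (Localization.AtPrime p ⧸ a) ⧸ Ideal.span {x}) e, ?_⟩
  rw [← ringKrullDim_eq_of_ringEquiv (R := (Localization.AtPrime p ⧸ a) ⧸ Ideal.span {x}) e]
  rw [hdim] at hdim'
  haveI := hreg'
  obtain ⟨d, hd, -⟩ := exists_ringKrullDim_eq ((Localization.AtPrime p ⧸ a) ⧸ Ideal.span {x})
  rw [hd] at hdim' ⊢
  have h1 : d + 1 = n + 1 := by exact_mod_cast hdim'
  have h2 : d = n := by omega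
  rw [h2]

theorem not_le_N2 [IsNoetherianRing T] {I : Ideal T} (hI : I ≤ p) (n : ℕ)
    (h : Inv p I (n + 1)) : ¬ p ≤ N2 p I := by
  intro hle
  obtain ⟨hreg, hdim⟩ := h
  set a := I.map (algebraMap T (Localization.AtPrime p)) with ha
  have ham : a ≤ maximalIdeal (Localization.AtPrime p) := map_le_maximalIdeal p hI
  have h1 : maximalIdeal (Localization.AtPrime p) ≤
      a ⊔ maximalIdeal (Localization.AtPrime p) • maximalIdeal (Localization.AtPrime p) := by
    rw [← Localization.AtPrime.map_eq_maximalIdeal (I := p), Ideal.map_le_iff_le_comap]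
    rw [Localization.AtPrime.map_eq_maximalIdeal, smul_eq_mul, ← pow_two]
    exact hle
  have h2 : maximalIdeal (Localization.AtPrime p) ≤ a :=
    Submodule.le_of_le_smul_of_le_jacobson_bot (IsNoetherian.noetherian _)
      (IsLocalRing.jacobson_eq_maximalIdeal (⊥ : Ideal (Localization.AtPrime p)) bot_ne_top ▸
        le_rfl) h1
  have h3 : a = maximalIdeal (Localization.AtPrime p) := le_antisymm ham h2
  have h4 : a.IsMaximal := h3 ▸ maximalIdeal.isMaximal _
  letI : Field (Localization.AtPrime p ⧸ a) := Ideal.Quotient.field a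
  have h5 : ringKrullDim (Localization.AtPrime p ⧸ a) = 0 := ringKrullDim_eq_zero_of_field _
  rw [hdim] at h5
  have : ((n + 1 : ℕ) : WithBot ℕ∞) ≠ 0 := by
    intro h0
    have : (n + 1 : ℕ) = 0 := by exact_mod_cast h0
    omega
  exact this h5

end Inv


section Gens

variable {T : Type u} [CommRing T] [IsNoetherianRing T] [IsLocalRing T] (p : Ideal T) [p.IsPrime]

/-- the inductive step (after `H96.CMGens.step`, with the extra regularity invariant) -/
theorem step' (h : ℕ) (hh : p.height = h) (i : ℕ) (hi : i < h)
    (good rest : List T) (hlen : good.length = i) (hspan : Ideal.ofList (good ++ rest) = p)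
    (hc : (good ++ rest).length = p.spanFinrank)
    (hht : (Ideal.ofList good).height = i) (hinv : Inv p (Ideal.ofList good) (h - i)) :
    ∃ good' rest' : List T, good'.length = i + 1 ∧ Ideal.ofList (good' ++ rest') = p ∧
      (good' ++ rest').length = p.spanFinrank ∧
      (Ideal.ofList good').height = ((i + 1 : ℕ) : ℕ∞) ∧
      Inv p (Ideal.ofList good') (h - (i + 1)) := by
  classical
  have hJ : p ≠ ⊤ := Ideal.IsPrime.ne_top inferInstance
  have hjc : h ≤ p.spanFinrank := by
    have := Ideal.height_le_spanFinrank p hJ
    rw [hh] at this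
    exact_mod_cast this
  have hIJ : Ideal.ofList good ≤ p := hspan ▸ ofList_mono_append_left good rest
  have hJm : p ≤ maximalIdeal T := le_maximalIdeal hJ
  have hinv' : Inv p (Ideal.ofList good) ((h - (i + 1)) + 1) := by
    have : h - (i + 1) + 1 = h - i := by omega
    rw [this]; exact hinv
  -- Nakayama
  have hJN : ¬ p ≤ Ideal.ofList good ⊔ maximalIdeal T • p := by
    intro hle
    have h1 : p ≤ Ideal.ofList good :=
      Submodule.le_of_le_smul_of_le_jacobson_bot (IsNoetherian.noetherian p)
        (IsLocalRing.jacobson_eq_maximalIdeal (⊥ : Ideal T) bot_ne_top ▸ le_rfl) hle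
    have h2 : p = Ideal.ofList good := le_antisymm h1 hIJ
    have h3 : p.spanFinrank ≤ i := by
      rw [h2, ← hlen]; exact spanFinrank_ofList_le good
    omega
  have hJN2 : ¬ p ≤ N2 p (Ideal.ofList good) := not_le_N2 p hIJ _ hinv'
  -- minimal primes
  have hfin : (Ideal.ofList good).minimalPrimes.Finite :=
    Ideal.finite_minimalPrimes_of_isNoetherianRing T _
  have hprime : ∀ P ∈ hfin.toFinset, Ideal.IsPrime (id P : Ideal T) := by
    intro P hP
    exact ((Set.Finite.mem_toFinset hfin).mp hP).1.1
  have hJP : ∀ P ∈ hfin.toFinset, ¬ p ≤ P := by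
    intro P hP hle
    have hP' := (Set.Finite.mem_toFinset hfin).mp hP
    have h1 := height_eq_of_mem_minimalPrimes good i hlen hht hP'
    have h2 := Ideal.height_mono hle
    rw [hh, h1] at h2
    have : h ≤ i := by exact_mod_cast h2
    omega
  have havoid : ¬ ((p : Set T) ⊆ (id (Ideal.ofList good ⊔ maximalIdeal T • p) : Ideal T) ∪
      (id (N2 p (Ideal.ofList good)) : Ideal T) ∪
      ⋃ P ∈ (↑hfin.toFinset : Set (Ideal T)), (id P : Ideal T)) := by
    rw [Ideal.subset_union_prime' (f := id) hprime]
    rintro (h | h | ⟨P, hP, h⟩)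
    · exact hJN h
    · exact hJN2 h
    · exact hJP P hP h
  obtain ⟨t, htJ, htnot⟩ := Set.not_subset.mp havoid
  have htN : t ∉ Ideal.ofList good ⊔ maximalIdeal T • p := by
    intro h
    exact htnot (Or.inl (Or.inl h))
  have htN2 : t ∉ N2 p (Ideal.ofList good) := by
    intro h
    exact htnot (Or.inl (Or.inr h))
  have htP : ∀ P ∈ (Ideal.ofList good).minimalPrimes, t ∉ P := by
    intro P hP h
    apply htnot
    refine Or.inr ?_
    simp only [Set.mem_iUnion]
    exact ⟨P, by simpa using hP, h⟩
  -- decompose t
  have htJ' : t ∈ Ideal.ofList good ⊔ Ideal.ofList rest := by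
    rw [← Ideal.ofList_append, hspan]; exact htJ
  obtain ⟨u, hu, v, hv, rfl⟩ := Submodule.mem_sup.mp htJ'
  have hrestJ : Ideal.ofList rest ≤ p := hspan ▸ ofList_mono_append_right good rest
  have hK : maximalIdeal T • Ideal.ofList rest ≤ Ideal.ofList good ⊔ maximalIdeal T • p :=
    le_trans (Ideal.mul_mono_right hrestJ) le_sup_right
  have hvK : v ∉ Ideal.ofList good ⊔ maximalIdeal T • p := by
    intro h
    exact htN (Ideal.add_mem _ (Ideal.mem_sup_left hu) h)
  obtain ⟨r1, r2, g, a, w, hrs, ha, hw, hveq⟩ := exists_split _ rest v hK hv hvK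
  refine ⟨good ++ [u + v], r1 ++ r2, by simp [hlen], ?_, ?_, ?_, ?_⟩
  · -- generation
    apply le_antisymm
    · rw [Ideal.ofList_append, Ideal.ofList_append, Ideal.ofList_singleton]
      refine sup_le (sup_le hIJ ?_) ?_
      · rw [Ideal.span_singleton_le_iff_mem]; exact htJ
      · refine le_trans ?_ hrestJ
        rw [hrs, Ideal.ofList_append, Ideal.ofList_append, Ideal.ofList_cons]
        exact sup_le le_sup_left (le_sup_of_le_right le_sup_right)
    · rw [← hspan, Ideal.ofList_append good rest]
      refine sup_le ?_ ?_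
      · rw [List.append_assoc]; exact ofList_mono_append_left _ _
      · rw [hrs, Ideal.ofList_append r1, Ideal.ofList_cons]
        have hr12 : Ideal.ofList (r1 ++ r2) ≤ Ideal.ofList (good ++ [u + v] ++ (r1 ++ r2)) :=
          ofList_mono_append_right _ _
        refine sup_le ((ofList_mono_append_left r1 r2).trans hr12)
          (sup_le ?_ ((ofList_mono_append_right r1 r2).trans hr12))
        rw [Ideal.span_singleton_le_iff_mem]
        obtain ⟨b, hb⟩ := ha
        have hg : g = ↑b⁻¹ * ((u + v) - u - w) := by
          rw [hveq, ← hb]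
          have : ↑b⁻¹ * (u + (↑b * g + w) - u - w) = (↑b⁻¹ * ↑b) * g := by ring
          rw [this, Units.inv_mul, one_mul]
        rw [hg]
        refine Ideal.mul_mem_left _ _ (Ideal.sub_mem _ (Ideal.sub_mem _ ?_ ?_) (hr12 hw))
        · apply ofList_mono_append_left
          apply ofList_mono_append_right
          rw [Ideal.ofList_singleton]; exact Ideal.mem_span_singleton_self _
        · apply ofList_mono_append_left
          apply ofList_mono_append_left
          exact hu
  · -- length
    rw [← hc, hrs]
    simp only [List.length_append, List.length_cons, List.length_nil]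
    omega
  · -- height
    have hne : Ideal.ofList (good ++ [u + v]) ≠ ⊤ := by
      intro htop
      apply hJ
      rw [eq_top_iff, ← htop, Ideal.ofList_append, Ideal.ofList_singleton]
      refine sup_le hIJ ?_
      rw [Ideal.span_singleton_le_iff_mem]; exact htJ
    apply le_antisymm
    · refine (Ideal.height_le_spanFinrank _ hne).trans ?_
      have := spanFinrank_ofList_le (good ++ [u + v])
      simp only [List.length_append, List.length_cons, List.length_nil, hlen] at this
      exact_mod_cast this
    · rw [Ideal.height_eq_inf_minimalPrimes, le_iInf₂_iff]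
      intro Q hQ
      have hQprime : Q.IsPrime := hQ.1.1
      have hIQ : Ideal.ofList good ≤ Q := (ofList_mono_append_left good [u + v]).trans hQ.1.2
      obtain ⟨P, hP, hPQ⟩ := Ideal.exists_minimalPrimes_le hIQ
      have hPprime : P.IsPrime := hP.1.1
      have htQ : u + v ∈ Q := by
        apply hQ.1.2
        apply ofList_mono_append_right
        rw [Ideal.ofList_singleton]; exact Ideal.mem_span_singleton_self _
      have hlt : P < Q := lt_of_le_of_ne hPQ (fun h => htP P hP (h ▸ htQ))
      have h1 := Ideal.height_add_one_le_of_lt_of_isPrime hlt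
      rw [height_eq_of_mem_minimalPrimes good i hlen hht hP] at h1
      exact_mod_cast h1
  · -- invariant
    rw [Ideal.ofList_append, Ideal.ofList_singleton]
    exact inv_step p hIJ _ hinv' (u + v) htJ htN2

theorem exists_gens' [IsRegularLocalRing (Localization.AtPrime p)] (h : ℕ) (hh : p.height = h) :
    ∀ i ≤ h, ∃ good rest : List T, good.length = i ∧ Ideal.ofList (good ++ rest) = p ∧
      (good ++ rest).length = p.spanFinrank ∧ (Ideal.ofList good).height = (i : ℕ∞) ∧
      Inv p (Ideal.ofList good) (h - i) := by
  classical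
  intro i
  induction i with
  | zero =>
    intro _
    obtain ⟨s, hcard, hs⟩ :=
      Submodule.FG.exists_span_finset_card_eq_spanFinrank (IsNoetherian.noetherian p)
    refine ⟨[], s.toList, rfl, ?_, ?_, ?_, ?_⟩
    · rw [List.nil_append]
      unfold Ideal.ofList
      rw [← hs]
      congr 1
      ext x
      simp
    · rw [List.nil_append, Finset.length_toList, hcard]
    · rw [Ideal.ofList_nil, Ideal.height_bot]
      rfl
    · rw [Ideal.ofList_nil, Nat.sub_zero]
      exact inv_init p h hh
  | succ i ih =>
    intro hi
    obtain ⟨good, rest, hlen, hspan, hc, hht, hinv⟩ := ih (by omega)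
    exact step' p h hh i (by omega) good rest hlen hspan hc hht hinv

end Gens


section Main

open RingTheory.Sequence

variable {T : Type u} [CommRing T] [IsNoetherianRing T] [IsLocalRing T]

theorem smul_top_self (J : Ideal T) : (J • ⊤ : Submodule T T) = J := by
  rw [smul_eq_mul, Ideal.mul_top]

theorem mem_of_mul_mem {I : Ideal T} {r : T}
    (hr : IsSMulRegular (T ⧸ (I • ⊤ : Submodule T T)) r) {y : T} (hy : r * y ∈ I) : y ∈ I := by
  have h1 : r • (Submodule.Quotient.mk y : T ⧸ (I • ⊤ : Submodule T T)) = r • 0 := by
    rw [smul_zero, ← Submodule.Quotient.mk_smul, Submodule.Quotient.mk_eq_zero, smul_top_self,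
      smul_eq_mul]
    exact hy
  have h2 := hr h1
  rw [Submodule.Quotient.mk_eq_zero, smul_top_self] at h2
  exact h2

/-- unmixedness: associated primes of `T/(regular sequence)` in a CM local ring have height the
length of the sequence -/
theorem height_eq_of_mem_associatedPrimes (hF : LocCoh.IsCohenMacaulayLocalRing T)
    (good : List T) (hmem : ∀ x ∈ good, x ∈ maximalIdeal T) (hreg : IsWeaklyRegular T good)
    (P : Ideal T)
    (hP : P ∈ associatedPrimes T (T ⧸ (Ideal.ofList good • ⊤ : Submodule T T))) :
    P.height = good.length := by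
  haveI hPprime : P.IsPrime := hP.isPrime
  have hM : LocCoh.IsCohenMacaulayModule T T := hF.supportDim_eq_depth
  have hN := Groth.Agent.H29.CML.isCM_quotient_of_isWeaklyRegular good T hM hmem hreg
  have h1 := Groth.Agent.H29.CML.ringKrullDim_quotient_eq_supportDim_of_isCM
    (T ⧸ (Ideal.ofList good • ⊤ : Submodule T T)) hN P hP
  have hgm : Ideal.ofList good ≤ maximalIdeal T := Ideal.span_le.mpr hmem
  have hreg' : IsRegular T good := by
    refine ⟨hreg, ?_⟩
    rw [smul_top_self]
    intro htop
    exact (maximalIdeal.isMaximal T).ne_top (eq_top_iff.mpr (htop ▸ hgm))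
  have h2 := Module.supportDim_add_length_eq_supportDim_of_isRegular good hreg'
  rw [Module.supportDim_self_eq_ringKrullDim, ← h1] at h2
  have h4 := Groth.Agent.H72.CMLocal.ringKrullDim_eq_quotient_add_height T hF P
  haveI : IsLocalRing (T ⧸ P) := isLocalRing_quotient T P hPprime.ne_top
  obtain ⟨d, hd, -⟩ := exists_ringKrullDim_eq (T ⧸ P)
  have hne : P.height ≠ ⊤ := Ideal.height_ne_top hPprime.ne_top
  obtain ⟨e, he⟩ := ENat.ne_top_iff_exists.mp hne
  rw [← he]
  rw [hd, ← he] at h4
  rw [hd, h4] at h2
  have h5 : d + good.length = d + e := by exact_mod_cast h2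
  have h6 : e = good.length := by omega
  rw [h6]

theorem colon_sq (hF : LocCoh.IsCohenMacaulayLocalRing T) (p : Ideal T) [p.IsPrime]
    (good : List T) (hh : p.height = good.length)
    (hmem : ∀ x ∈ good, x ∈ maximalIdeal T) (hreg : IsWeaklyRegular T good)
    (hloc : (Ideal.ofList good).map (algebraMap T (Localization.AtPrime p)) =
      maximalIdeal (Localization.AtPrime p))
    (t : T) (hpt : p ≤ Ideal.ofList good ⊔ Ideal.span {t}) (x : T)
    (hx : x * (t * t) ∈ Ideal.ofList good) : x * t ∈ Ideal.ofList good := by
  by_contra hy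
  set J := Ideal.ofList good with hJ
  have hne : (Submodule.Quotient.mk (x * t) : T ⧸ (J • ⊤ : Submodule T T)) ≠ 0 := by
    rw [Ne, Submodule.Quotient.mk_eq_zero, smul_top_self]
    exact hy
  obtain ⟨P, hP, hle⟩ := exists_le_isAssociatedPrime_of_isNoetherianRing T _ hne
  haveI hPprime : P.IsPrime := hP.isPrime
  have ht_in : t ∈ P := by
    apply hle
    rw [Submodule.mem_colon_singleton, ← Submodule.Quotient.mk_smul, Submodule.mem_bot,
      Submodule.Quotient.mk_eq_zero, smul_top_self, smul_eq_mul]
    have : t * (x * t) = x * (t * t) := by ring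
    rw [this]
    exact hx
  have hJP : J ≤ P := by
    intro a ha
    apply hP.annihilator_le
    rw [Submodule.mem_annihilator]
    intro n _
    obtain ⟨z, rfl⟩ := Submodule.Quotient.mk_surjective _ n
    rw [← Submodule.Quotient.mk_smul, Submodule.Quotient.mk_eq_zero, smul_top_self, smul_eq_mul]
    exact Ideal.mul_mem_right _ _ ha
  have hpP : p ≤ P :=
    hpt.trans (sup_le hJP ((Ideal.span_singleton_le_iff_mem _).mpr ht_in))
  have hPh : P.height = good.length :=
    height_eq_of_mem_associatedPrimes hF good hmem hreg P hP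
  have hpPeq : p = P := by
    by_contra hne'
    have hlt : p < P := lt_of_le_of_ne hpP hne'
    have h1 := Ideal.height_add_one_le_of_lt_of_isPrime hlt
    rw [hh, hPh] at h1
    have : good.length + 1 ≤ good.length := by exact_mod_cast h1
    omega
  have hyp : x * t ∈ p := hpPeq ▸ Ideal.mul_mem_left _ _ ht_in
  have hym : algebraMap T (Localization.AtPrime p) (x * t) ∈
      J.map (algebraMap T (Localization.AtPrime p)) := by
    rw [hloc]
    exact (IsLocalization.AtPrime.to_map_mem_maximal_iff _ p _).mpr hyp
  rw [IsLocalization.mem_map_algebraMap_iff p.primeCompl] at hym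
  obtain ⟨⟨j, s⟩, hjs⟩ := hym
  rw [← map_mul, IsLocalization.eq_iff_exists p.primeCompl] at hjs
  obtain ⟨s', hs'⟩ := hjs
  have hmemJ : ((s' : T) * (s : T)) * (x * t) ∈ J := by
    have : ((s' : T) * (s : T)) * (x * t) = (s' : T) * (j : T) := by
      rw [← hs']; ring
    rw [this]
    exact Ideal.mul_mem_left _ _ j.2
  have hcol : (s' : T) * (s : T) ∈ P := by
    apply hle
    rw [Submodule.mem_colon_singleton, ← Submodule.Quotient.mk_smul, Submodule.mem_bot,
      Submodule.Quotient.mk_eq_zero, smul_top_self, smul_eq_mul]
    exact hmemJ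
  rw [← hpPeq] at hcol
  rcases Ideal.IsPrime.mem_or_mem inferInstance hcol with h | h
  · exact s'.2 h
  · exact s.2 h

/-- **S17874** -/
theorem main (hF : LocCoh.IsCohenMacaulayLocalRing T) (p : Ideal T) [p.IsPrime]
    (hgen : (Submodule.spanFinrank p : ℕ∞) ≤ p.height + 1)
    [IsRegularLocalRing (Localization.AtPrime p)] :
    ∃ ts : List T, Ideal.ofList ts = p ∧ W4c5grrsingularflat.IsDSeq ts := by
  classical
  have hpne : p ≠ ⊤ := Ideal.IsPrime.ne_top inferInstance
  have hne : p.height ≠ ⊤ := Ideal.height_ne_top hpne
  obtain ⟨h, hh⟩ := ENat.ne_top_iff_exists.mp hne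
  have hh' : p.height = h := hh.symm
  obtain ⟨good, rest, hlen, hspan, hc, hht, hinv⟩ := exists_gens' p h hh' h le_rfl
  subst hlen
  rw [Nat.sub_self] at hinv
  have hIJ : Ideal.ofList good ≤ p := hspan ▸ ofList_mono_append_left good rest
  have hloc := inv_zero p hIJ hinv
  have hgm : Ideal.ofList good ≤ maximalIdeal T := hIJ.trans (le_maximalIdeal hpne)
  have hmem : ∀ x ∈ good, x ∈ maximalIdeal T := fun x hx => hgm (Ideal.subset_span hx)
  -- the prefix is a regular sequence
  have hle : ∀ ys : List T, (∀ y ∈ ys, y ∈ maximalIdeal T) →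
      LocCoh.idealDepth (Ideal.ofList ys) T ≤ ys.length := by
    intro ys hys
    have hne : Ideal.ofList ys ≠ ⊤ := by
      intro htop
      have h1 : Ideal.ofList ys ≤ maximalIdeal T := Ideal.span_le.mpr hys
      rw [htop] at h1
      exact (maximalIdeal.isMaximal T).ne_top (eq_top_iff.mpr h1)
    rw [Groth.Agent.H72.CMLocal.idealDepth_eq_height T hF _ hne]
    refine (Ideal.height_le_spanFinrank _ hne).trans ?_
    exact_mod_cast spanFinrank_ofList_le ys
  have hgne : Ideal.ofList good ≠ ⊤ := fun htop =>
    (maximalIdeal.isMaximal T).ne_top (eq_top_iff.mpr (htop ▸ hgm))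
  have hdepth : LocCoh.idealDepth (Ideal.ofList good) T = good.length := by
    rw [Groth.Agent.H72.CMLocal.idealDepth_eq_height T hF _ hgne, hht]
  have hreg : IsWeaklyRegular T good :=
    Groth.Agent.H72.DepthGen.isWeaklyRegular_of_idealDepth_eq T hle good hmem hdepth
  -- the length of `rest`
  have hrest : rest.length ≤ 1 := by
    rw [hh'] at hgen
    have h1 : p.spanFinrank ≤ good.length + 1 := by exact_mod_cast hgen
    rw [← hc, List.length_append] at h1
    omega
  refine ⟨good ++ rest, hspan, ?_, ?_⟩
  · -- minimality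
    intro i hi
    set K := Ideal.span (Set.range fun j : {j : Fin (good ++ rest).length // j ≠ i} =>
      (good ++ rest)[(j : Fin (good ++ rest).length)]) with hK
    have hpK : p = K := by
      apply le_antisymm
      · rw [← hspan]
        unfold Ideal.ofList
        rw [Ideal.span_le]
        intro x hx
        obtain ⟨n, hn, rfl⟩ := List.getElem_of_mem hx
        by_cases hni : (⟨n, hn⟩ : Fin (good ++ rest).length) = i
        · rw [← hni] at hi
          exact hi
        · exact Ideal.subset_span ⟨⟨⟨n, hn⟩, hni⟩, rfl⟩
      · rw [hK, Ideal.span_le]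
        rintro _ ⟨j, rfl⟩
        exact hspan.le (Ideal.subset_span (List.getElem_mem _))
    have hfin : (Set.range fun j : {j : Fin (good ++ rest).length // j ≠ i} =>
        (good ++ rest)[(j : Fin (good ++ rest).length)]).Finite := Set.finite_range _
    have h1 := Submodule.spanFinrank_span_le_ncard_of_finite (R := T) hfin
    have h2 : (Set.range fun j : {j : Fin (good ++ rest).length // j ≠ i} =>
        (good ++ rest)[(j : Fin (good ++ rest).length)]).ncard ≤ (good ++ rest).length - 1 := by
      rw [← Set.image_univ]
      refine (Set.ncard_image_le Set.finite_univ).trans ?_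
      rw [Set.ncard_univ, Nat.card_eq_fintype_card, Fintype.card_subtype_compl,
        Fintype.card_subtype_eq, Fintype.card_fin]
    have h3 : p.spanFinrank ≤ (good ++ rest).length - 1 := by
      rw [hpK]; exact h1.trans h2
    have hpos : 0 < (good ++ rest).length := i.pos
    omega
  · -- the colon condition
    intro i k hk hik
    by_cases hi : i < good.length
    · have htake : (good ++ rest).take i = good.take i :=
        List.take_append_of_le_length hi.le
      have hget : (good ++ rest)[i]'(Nat.lt_of_le_of_lt hik hk) = good[i] :=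
        List.getElem_append_left hi
      rw [htake, hget]
      have hr := hreg.regular_mod_prev i hi
      ext x
      rw [Submodule.mem_colon_singleton, Submodule.mem_colon_singleton, smul_eq_mul, smul_eq_mul]
      constructor
      · intro hx
        apply mem_of_mul_mem hr
        have : good[i] * (x * (good ++ rest)[k]) = x * ((good ++ rest)[k] * good[i]) := by ring
        rw [this]
        exact hx
      · intro hx
        have : x * ((good ++ rest)[k] * good[i]) = (x * (good ++ rest)[k]) * good[i] := by ring
        rw [this]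
        exact Ideal.mul_mem_right _ _ hx
    · rw [List.length_append] at hk
      have hrl : rest.length = 1 := by omega
      obtain ⟨t, rfl⟩ := List.length_eq_one_iff.mp hrl
      obtain rfl : i = good.length := by
        simp only [List.length_cons, List.length_nil] at hk
        omega
      obtain rfl : k = good.length := by
        simp only [List.length_cons, List.length_nil] at hk
        omega
      have htake : (good ++ [t]).take good.length = good := List.take_left' rfl
      have hget : ∀ (hlt : good.length < (good ++ [t]).length),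
          (good ++ [t])[good.length]'hlt = t := by
        intro hlt
        simp
      rw [htake, hget]
      ext x
      rw [Submodule.mem_colon_singleton, Submodule.mem_colon_singleton, smul_eq_mul, smul_eq_mul]
      constructor
      · intro hx
        refine colon_sq hF p good hh' hmem hreg hloc t ?_ x hx
        rw [← Ideal.ofList_singleton, ← Ideal.ofList_append, hspan]
      · intro hx
        have : x * (t * t) = (x * t) * t := by ring
        rw [this]
        exact Ideal.mul_mem_right _ _ hx

end Main

end Groth.Agent.H73.DSeqGen
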