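import Mathlib
import Groth.Prelude.Def_QFDual
import Groth.Agent.H73.CompOmega

/-!
helper73: for `B` finite free over `A`, the Dedekind different `𝔇_{B/A} ⊆ L` is the image of the
different `{b | b · Hom_A(B, A) ⊆ B · Tr_{B/A}}` (S8965), via the isomorphism `𝓛_{B/A} ≅ ω_{B/A}`
of `H73.CompOmega.main`.
-/

set_option autoImplicit false
set_option linter.style.haveILetI false
universe u

namespace Groth.Agent.H73.DedekindDiff

open scoped nonZeroDivisors

theorem main (A K B L : Type u) [CommRing A] [CommRing K] [CommRing B] [CommRing L] [Algebra A K]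
    [Algebra A B] [Algebra B L] [Algebra K L] [Algebra A L] [IsScalarTower A K L]
    [IsScalarTower A B L] (h : QFDual.IsDedekindDefined A K B L) [Module.Finite A B]
    [Module.Free A B] :
    QFDual.dedekindDifferent A K B L =
      Submodule.map (Algebra.linearMap B L) (QFDual.different B (Disc.Omega.trace A B)) := by
  classical
  haveI := h.isFractionRing
  haveI := h.isLocalization
  have hinj : Function.Injective (algebraMap A K) := IsFractionRing.injective A K
  obtain ⟨e, he⟩ := Groth.Agent.H73.CompOmega.main A K B L h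
  have htr : ∀ b : B, Algebra.trace K L (algebraMap B L b) = algebraMap A K (Algebra.trace A B b) :=
    fun b => Algebra.trace_localization A (nonZeroDivisors A) b
  have one_mem : (1 : L) ∈ QFDual.complementary A K B L := fun b => by
    rw [one_mul, htr]; exact ⟨_, rfl⟩
  let one' : QFDual.complementary A K B L := ⟨1, one_mem⟩
  have he_one : e one' = Disc.Omega.trace A B := by
    apply Disc.Omega.ext
    ext b
    apply hinj
    rw [he]
    show Algebra.trace K L ((1 : L) * algebraMap B L b) = algebraMap A K (Algebra.trace A B b)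
    rw [one_mul, htr]
  -- key equivalence
  have key : ∀ (b c : B) (y : QFDual.complementary A K B L),
      c • Disc.Omega.trace A B = b • e y ↔ algebraMap B L c = algebraMap B L b * (y : L) := by
    intro b c y
    rw [← he_one, ← map_smul, ← map_smul, e.injective.eq_iff, Subtype.ext_iff,
      Submodule.coe_smul, Submodule.coe_smul, Algebra.smul_def, Algebra.smul_def]
    show algebraMap B L c * (1 : L) = _ ↔ _
    rw [mul_one]
  ext x
  constructor
  · intro hx
    obtain ⟨b₀, hb₀⟩ := hx 1 one_mem
    rw [mul_one] at hb₀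
    refine ⟨b₀, ?_, hb₀⟩
    rw [SetLike.mem_coe, QFDual.mem_different_iff]
    intro ω
    obtain ⟨c, hc⟩ := hx (e.symm ω : L) (e.symm ω).2
    refine ⟨c, ?_⟩
    have := (key b₀ c (e.symm ω)).mpr (by rw [hc, hb₀])
    rwa [LinearEquiv.apply_symm_apply] at this
  · rintro ⟨b, hb, rfl⟩
    rw [SetLike.mem_coe, QFDual.mem_different_iff] at hb
    intro y hy
    obtain ⟨c, hc⟩ := hb (e ⟨y, hy⟩)
    exact ⟨c, (key b c ⟨y, hy⟩).mp hc⟩

end Groth.Agent.H73.DedekindDiff
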