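import Mathlib

/-!
# Derived adjunction on bounded below derived categories

If `L ⊣ R` with `L` exact, then `L.rightDerivedFunctorPlus ⊣ R.rightDerivedFunctorPlus`.
-/

set_option autoImplicit false

open CategoryTheory Limits

namespace Groth.Agent.H73.DerAdj

universe w v u

section homotopy

variable {A B : Type*} [Category A] [Category B] [Preadditive A] [Preadditive B]
  {L : A ⥤ B} {R : B ⥤ A} (adj : L ⊣ R) [L.Additive] [R.Additive]
  {ι : Type*} (c : ComplexShape ι)

/-- The unit on complexes. -/
@[simps]
def unitC (K : HomologicalComplex A c) :
    K ⟶ (R.mapHomologicalComplex c).obj ((L.mapHomologicalComplex c).obj K) where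
  f i := adj.unit.app (K.X i)
  comm' i j _ := (adj.unit.naturality (K.d i j)).symm

/-- The counit on complexes. -/
@[simps]
def counitC (K : HomologicalComplex B c) :
    (L.mapHomologicalComplex c).obj ((R.mapHomologicalComplex c).obj K) ⟶ K where
  f i := adj.counit.app (K.X i)
  comm' i j _ := (adj.counit.naturality (K.d i j)).symm

set_option backward.isDefEq.respectTransparency false in
/-- The adjunction between the functors induced on homotopy categories. -/
def homotopyAdj : L.mapHomotopyCategory c ⊣ R.mapHomotopyCategory c :=
  Adjunction.mkOfUnitCounit
    { unit :=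
        { app := fun K => (HomotopyCategory.quotient A c).map (unitC adj c K.as)
          naturality := by
            intro K K' f
            obtain ⟨K, rfl⟩ := HomotopyCategory.quotient_obj_surjective K
            obtain ⟨K', rfl⟩ := HomotopyCategory.quotient_obj_surjective K'
            obtain ⟨φ, rfl⟩ := (HomotopyCategory.quotient A c).map_surjective f
            show (HomotopyCategory.quotient A c).map φ ≫
                (HomotopyCategory.quotient A c).map (unitC adj c K') =
              (HomotopyCategory.quotient A c).map (unitC adj c K) ≫
                (HomotopyCategory.quotient A c).map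
                  ((R.mapHomologicalComplex c).map ((L.mapHomologicalComplex c).map φ))
            rw [← Functor.map_comp, ← Functor.map_comp]
            congr 1
            ext i
            exact adj.unit.naturality (φ.f i) }
      counit :=
        { app := fun K => (HomotopyCategory.quotient B c).map (counitC adj c K.as)
          naturality := by
            intro K K' f
            obtain ⟨K, rfl⟩ := HomotopyCategory.quotient_obj_surjective K
            obtain ⟨K', rfl⟩ := HomotopyCategory.quotient_obj_surjective K'
            obtain ⟨φ, rfl⟩ := (HomotopyCategory.quotient B c).map_surjective f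
            show (HomotopyCategory.quotient B c).map
                  ((L.mapHomologicalComplex c).map ((R.mapHomologicalComplex c).map φ)) ≫
                (HomotopyCategory.quotient B c).map (counitC adj c K') =
              (HomotopyCategory.quotient B c).map (counitC adj c K) ≫
                (HomotopyCategory.quotient B c).map φ
            rw [← Functor.map_comp, ← Functor.map_comp]
            congr 1
            ext i
            exact adj.counit.naturality (φ.f i) }
      left_triangle := by
        ext K
        obtain ⟨K, rfl⟩ := HomotopyCategory.quotient_obj_surjective K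
        show (HomotopyCategory.quotient B c).map
              ((L.mapHomologicalComplex c).map (unitC adj c K)) ≫ 𝟙 _ ≫
            (HomotopyCategory.quotient B c).map
              (counitC adj c ((L.mapHomologicalComplex c).obj K)) = 𝟙 _
        rw [Category.id_comp, ← Functor.map_comp, ← (HomotopyCategory.quotient B c).map_id]
        congr 1
        ext i
        exact adj.left_triangle_components (K.X i)
      right_triangle := by
        ext K
        obtain ⟨K, rfl⟩ := HomotopyCategory.quotient_obj_surjective K
        show (HomotopyCategory.quotient A c).map
              (unitC adj c ((R.mapHomologicalComplex c).obj K)) ≫ 𝟙 _ ≫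
            (HomotopyCategory.quotient A c).map
              ((R.mapHomologicalComplex c).map (counitC adj c K)) = 𝟙 _
        rw [Category.id_comp, ← Functor.map_comp, ← (HomotopyCategory.quotient A c).map_id]
        congr 1
        ext i
        exact adj.right_triangle_components (K.X i) }

end homotopy

section plus

variable {A B : Type*} [Category A] [Category B] [Preadditive A] [Preadditive B]
  {L : A ⥤ B} {R : B ⥤ A} (adj : L ⊣ R) [L.Additive] [R.Additive]

/-- The adjunction between the functors induced on bounded below homotopy categories. -/
noncomputable def plusAdj : L.mapHomotopyCategoryPlus ⊣ R.mapHomotopyCategoryPlus :=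
  (homotopyAdj adj (ComplexShape.up ℤ)).restrictFullyFaithful
    (HomotopyCategory.Plus.fullyFaithfulι A) (HomotopyCategory.Plus.fullyFaithfulι B)
    (Iso.refl _) (Iso.refl _)

end plus

section derived

variable {A B : Type u} [Category.{v} A] [Category.{v} B]
  [Abelian A] [Abelian B] [HasDerivedCategory.{w} A] [HasDerivedCategory.{w} B]
  {L : A ⥤ B} [L.Additive] [PreservesFiniteLimits L] [PreservesFiniteColimits L]

lemma inverts_quasiIso :
    (HomotopyCategory.Plus.quasiIso A).IsInvertedBy
      (L.mapHomotopyCategoryPlus ⋙ DerivedCategory.Plus.Qh) := by
  intro K K' f hf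
  refine Localization.inverts DerivedCategory.Plus.Qh (HomotopyCategory.Plus.quasiIso B) _ ?_
  obtain ⟨K, hK⟩ := K
  obtain ⟨K', hK'⟩ := K'
  obtain ⟨K, rfl⟩ := HomotopyCategory.quotient_obj_surjective K
  obtain ⟨K', rfl⟩ := HomotopyCategory.quotient_obj_surjective K'
  obtain ⟨f, rfl⟩ := ObjectProperty.homMk_surjective f
  obtain ⟨φ, rfl⟩ := (HomotopyCategory.quotient A _).map_surjective f
  change HomotopyCategory.quasiIso A _ ((HomotopyCategory.quotient A _).map φ) at hf
  rw [HomotopyCategory.quotient_map_mem_quasiIso_iff] at hf
  change HomotopyCategory.quasiIso B _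
    ((HomotopyCategory.quotient B _).map ((L.mapHomologicalComplex _).map φ))
  rw [HomotopyCategory.quotient_map_mem_quasiIso_iff]
  have : QuasiIso φ := hf
  exact HomologicalComplex.quasiIso_map_of_preservesHomology _ _

end derived

section main

variable {A B : Type u} [Category.{v} A] [Category.{v} B]
  [Abelian A] [Abelian B] [HasDerivedCategory.{w} A] [HasDerivedCategory.{w} B]
  [EnoughInjectives A] [EnoughInjectives B] {L : A ⥤ B} {R : B ⥤ A} (adj : L ⊣ R)
  [L.Additive] [R.Additive] [PreservesFiniteLimits L] [PreservesFiniteColimits L]

include adj in
theorem main : Nonempty (L.rightDerivedFunctorPlus ⊣ R.rightDerivedFunctorPlus) := by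
  have hG := inverts_quasiIso (A := A) (B := B) (L := L)
  have : IsIso L.rightDerivedFunctorPlusUnit :=
    Functor.isIso_of_isRightDerivedFunctor_of_inverts L.rightDerivedFunctorPlus
      L.rightDerivedFunctorPlusUnit hG
  let e := (asIso L.rightDerivedFunctorPlusUnit).symm
  have inst1 : L.rightDerivedFunctorPlus.IsLeftDerivedFunctor e.hom
      (HomotopyCategory.Plus.quasiIso A) :=
    Functor.isLeftDerivedFunctor_of_inverts (HomotopyCategory.Plus.quasiIso A)
      L.rightDerivedFunctorPlus e
  have inst3 : (L.rightDerivedFunctorPlus ⋙ R.rightDerivedFunctorPlus).IsLeftDerivedFunctor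
      ((Functor.associator _ _ _).inv ≫ Functor.whiskerRight e.hom R.rightDerivedFunctorPlus)
      (HomotopyCategory.Plus.quasiIso A) :=
    Functor.isLeftDerivedFunctor_of_inverts (HomotopyCategory.Plus.quasiIso A)
      (L.rightDerivedFunctorPlus ⋙ R.rightDerivedFunctorPlus)
      ((Functor.associator _ _ _).symm ≪≫ Functor.isoWhiskerRight e R.rightDerivedFunctorPlus)
  have inst4 : (R.rightDerivedFunctorPlus ⋙ L.rightDerivedFunctorPlus).IsRightDerivedFunctor
      (Functor.whiskerRight R.rightDerivedFunctorPlusUnit L.rightDerivedFunctorPlus ≫
        (Functor.associator _ _ _).hom)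
      (HomotopyCategory.Plus.quasiIso B) := by
    refine (HomotopyCategory.Plus.localizerMorphism_derives _).isRightDerivedFunctor_of_isIso _
      (fun X => ?_)
    have : IsIso (R.rightDerivedFunctorPlusUnit.app
        ((HomotopyCategory.Plus.localizerMorphism B).functor.obj X)) :=
      (HomotopyCategory.Plus.localizerMorphism_derives _).isIso_of_isRightDerivedFunctor
        R.rightDerivedFunctorPlusUnit X
    simp only [NatTrans.comp_app, Functor.whiskerRight_app, Functor.associator_hom_app]
    infer_instance
  exact ⟨(plusAdj adj).derived (HomotopyCategory.Plus.quasiIso A)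
    (HomotopyCategory.Plus.quasiIso B) e.hom R.rightDerivedFunctorPlusUnit⟩

end main

end Groth.Agent.H73.DerAdj
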