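import Mathlib
import Groth.Agent.H11.DiscDiff
import Groth.Agent.S2216

/-!
# Norms of the different generate the discriminant ideal (finite free, `ω` invertible)
-/

set_option autoImplicit false
open TensorProduct

namespace Groth.Agent.H73.DiscNorm

open Groth.Agent.H11 Groth.Agent.H11.DiscFree

universe u

variable {A B : Type u} [CommRing A] [CommRing B] [Algebra A B]
  {ι : Type} [Fintype ι] [DecidableEq ι] (b : Module.Basis ι A B)

/-- The coefficient matrix of a `B`-linear map `ω → B`. -/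
noncomputable def coeffMat (Φ : Disc.Omega A B →ₗ[B] B) : Matrix ι ι A :=
  Matrix.of fun i l => b.repr (Φ (cd b i)) l

/-- `N(Φ τ) = det(Φ) · discr`. -/
theorem norm_phi_trace (Φ : Disc.Omega A B →ₗ[B] B) :
    haveI := Module.Free.of_basis b
    haveI := Module.Finite.of_basis b
    Algebra.norm A (Φ (Disc.Omega.trace A B)) = (coeffMat b Φ).det * Algebra.discr A b := by
  haveI := Module.Free.of_basis b
  haveI := Module.Finite.of_basis b
  set x := Φ (Disc.Omega.trace A B) with hx
  have hc : ∀ i y, (b.coord i) (x * y) = Algebra.trace A B (Φ (cd b i) * y) := by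
    intro i y
    have h1 := apply_phi_trace b Φ (y • cd b i)
    rw [Disc.Omega.smul_toLinearMap_apply, map_smul, smul_eq_mul] at h1
    rw [mul_comm x y, mul_comm (Φ (cd b i)) y]
    exact h1
  have hM : Algebra.leftMulMatrix b x = coeffMat b Φ * Algebra.traceMatrix A b := by
    ext i j
    rw [Algebra.leftMulMatrix_eq_repr_mul, Matrix.mul_apply]
    have h1 : b.repr (x * b j) i = Algebra.trace A B (Φ (cd b i) * b j) := hc i (b j)
    rw [h1]
    have h2 : Φ (cd b i) = ∑ l, b.repr (Φ (cd b i)) l • b l := (b.sum_repr _).symm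
    conv_lhs => rw [h2, Finset.sum_mul, map_sum]
    refine Finset.sum_congr rfl (fun l _ => ?_)
    rw [smul_mul_assoc, map_smul, smul_eq_mul, Algebra.traceMatrix_apply, Algebra.traceForm_apply]
    rfl
  rw [Algebra.norm_eq_matrix_det b x, hM, Matrix.det_mul, Algebra.discr_def]

omit [DecidableEq ι] in
theorem repr_mem_of_mem_map (m : Ideal A) {y : B} (hy : y ∈ m.map (algebraMap A B)) :
    ∀ l : ι, b.repr y l ∈ m := by
  refine Submodule.span_induction (p := fun y _ => ∀ l : ι, b.repr y l ∈ m) ?_ ?_ ?_ ?_ hy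
  · rintro _ ⟨a, ha, rfl⟩ l
    rw [Algebra.algebraMap_eq_smul_one, map_smul, Finsupp.smul_apply, smul_eq_mul]
    exact Ideal.mul_mem_right _ _ ha
  · intro l; simp
  · intro y z _ _ hy hz l
    rw [map_add, Finsupp.add_apply]
    exact Ideal.add_mem _ (hy l) (hz l)
  · intro c y _ hy l
    have h1 : c • y = ∑ k, b.repr y k • (c * b k) := by
      conv_lhs => rw [smul_eq_mul, ← b.sum_repr y, Finset.mul_sum]
      refine Finset.sum_congr rfl (fun k _ => ?_)
      rw [mul_smul_comm]
    rw [h1, map_sum, Finsupp.coe_finsetSum, Finset.sum_apply]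
    refine Ideal.sum_mem _ (fun k _ => ?_)
    rw [map_smul, Finsupp.smul_apply, smul_eq_mul]
    exact Ideal.mul_mem_right _ _ (hy k)

/-- For `ω` invertible and `m` maximal, some `Φ : ω → B` is surjective modulo `m`. -/
theorem exists_phi_surjective_mod [Module.Finite A B] [Module.Invertible B (Disc.Omega A B)]
    (m : Ideal A) [hm : m.IsMaximal] :
    ∃ Φ : Disc.Omega A B →ₗ[B] B, ∀ y : B, ∃ w : Disc.Omega A B,
      Φ w - y ∈ m.map (algebraMap A B) := by
  let mB : Ideal B := m.map (algebraMap A B)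
  letI : Field (A ⧸ m) := Ideal.Quotient.field m
  haveI : Module.Finite (A ⧸ m) (B ⧸ mB) := Module.Finite.of_restrictScalars_finite A _ _
  haveI : IsArtinianRing (B ⧸ mB) := IsArtinianRing.of_finite (A ⧸ m) (B ⧸ mB)
  haveI : Module.Free (B ⧸ mB) ((B ⧸ mB) ⊗[B] Disc.Omega A B) := inferInstance
  obtain ⟨e⟩ := (Module.Invertible.free_iff_linearEquiv).mp this
  let g : Disc.Omega A B →ₗ[B] (B ⧸ mB) :=
    (e.toLinearMap.restrictScalars B) ∘ₗ (TensorProduct.mk B (B ⧸ mB) (Disc.Omega A B) 1)
  have hg : Function.Surjective g := by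
    intro y
    obtain ⟨z, rfl⟩ := e.surjective y
    induction z using TensorProduct.induction_on with
    | zero => exact ⟨0, by simp⟩
    | tmul c w =>
      obtain ⟨c, rfl⟩ := Ideal.Quotient.mk_surjective c
      refine ⟨c • w, ?_⟩
      change e ((1 : B ⧸ mB) ⊗ₜ[B] (c • w)) = e (Ideal.Quotient.mk mB c ⊗ₜ[B] w)
      congr 1
      rw [← TensorProduct.smul_tmul]
      congr 1
      rw [Algebra.smul_def, mul_one]
      rfl
    | add z₁ z₂ h₁ h₂ =>
      obtain ⟨w₁, h₁⟩ := h₁
      obtain ⟨w₂, h₂⟩ := h₂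
      exact ⟨w₁ + w₂, by rw [map_add, h₁, h₂, map_add]⟩
  let q : B →ₗ[B] (B ⧸ mB) := (Ideal.Quotient.mkₐ B mB).toLinearMap
  have hq : Function.Surjective q := Ideal.Quotient.mk_surjective
  obtain ⟨Φ, hΦ⟩ := Module.projective_lifting_property q g hq
  refine ⟨Φ, fun y => ?_⟩
  obtain ⟨w, hw⟩ := hg (q y)
  refine ⟨w, ?_⟩
  have h1 : q (Φ w) = q y := by
    rw [← hw, ← hΦ]; rfl
  rw [← Ideal.Quotient.eq]
  exact h1

/-- If `Φ` is surjective modulo `m`, then `det Φ ∉ m`. -/
theorem det_coeffMat_notMem (m : Ideal A) [hm : m.IsMaximal] (Φ : Disc.Omega A B →ₗ[B] B)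
    (hΦ : ∀ y : B, ∃ w : Disc.Omega A B, Φ w - y ∈ m.map (algebraMap A B)) :
    (coeffMat b Φ).det ∉ m := by
  choose w hw using fun j : ι => hΦ (b j)
  let Q : Matrix ι ι A := Matrix.of fun j i => (w j).toLinearMap (b i)
  have hΦw : ∀ j, Φ (w j) = ∑ i, Q j i • Φ (cd b i) := by
    intro j
    conv_lhs => rw [omega_decomp b (w j), map_sum]
    refine Finset.sum_congr rfl (fun i _ => ?_)
    rw [map_smul, smul_eq_mul, Algebra.smul_def]
    rfl
  have hprod : ∀ j l, (Q * coeffMat b Φ) j l - (1 : Matrix ι ι A) j l ∈ m := by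
    intro j l
    have h1 := repr_mem_of_mem_map b m (hw j) l
    rw [map_sub, Finsupp.sub_apply, hΦw j, map_sum, Finsupp.coe_finsetSum, Finset.sum_apply] at h1
    have h2 : (Q * coeffMat b Φ) j l = ∑ i, (b.repr (Q j i • Φ (cd b i))) l := by
      rw [Matrix.mul_apply]
      refine Finset.sum_congr rfl (fun i _ => ?_)
      rw [map_smul, Finsupp.smul_apply, smul_eq_mul]
      rfl
    have h3 : (1 : Matrix ι ι A) j l = b.repr (b j) l := by
      rw [Module.Basis.repr_self, Matrix.one_apply, Finsupp.single_apply]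
    rw [h2, h3]
    exact h1
  have hmap : (Q * coeffMat b Φ).map (Ideal.Quotient.mk m) = 1 := by
    ext j l
    rw [Matrix.map_apply, Matrix.one_apply]
    have := (Ideal.Quotient.eq (I := m)).mpr (hprod j l)
    rw [this, Matrix.one_apply]
    split_ifs <;> simp
  intro hdet
  have h4 : Ideal.Quotient.mk m ((Q * coeffMat b Φ).det) = 1 := by
    rw [RingHom.map_det, RingHom.mapMatrix_apply, hmap, Matrix.det_one]
  rw [Matrix.det_mul, map_mul, (Ideal.Quotient.eq_zero_iff_mem).mpr hdet, mul_zero] at h4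
  have : Nontrivial (A ⧸ m) := Ideal.Quotient.nontrivial_iff.mpr hm.ne_top
  exact zero_ne_one h4

/-- The main theorem. -/
theorem main [IsNoetherianRing A] [Module.Invertible B (Disc.Omega A B)] :
    Ideal.span (Algebra.norm A '' Disc.differentSet A B) = Ideal.span {Algebra.discr A b} := by
  haveI := Module.Free.of_basis b
  haveI := Module.Finite.of_basis b
  apply le_antisymm
  · rw [Ideal.span_le]
    rintro _ ⟨x, hx, rfl⟩
    exact Groth.Agent.S2216.result b x hx
  · rw [Ideal.span_le, Set.singleton_subset_iff]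
    set I₁ := Ideal.span (Algebra.norm A '' Disc.differentSet A B) with hI₁
    let K : Ideal A := I₁.colon (Ideal.span {Algebra.discr A b})
    have hK : K = ⊤ := by
      by_contra hne
      obtain ⟨m, hm, hKm⟩ := Ideal.exists_le_maximal K hne
      obtain ⟨Φ, hΦ⟩ := exists_phi_surjective_mod (A := A) (B := B) m
      have hdet := det_coeffMat_notMem b m Φ hΦ
      apply hdet
      apply hKm
      rw [Submodule.mem_colon]
      intro p hp
      obtain ⟨c, rfl⟩ := Ideal.mem_span_singleton'.mp hp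
      have hn := norm_phi_trace b Φ
      have hmem : Algebra.norm A (Φ (Disc.Omega.trace A B)) ∈ I₁ :=
        Ideal.subset_span ⟨_, phi_trace_mem_differentSet b Φ, rfl⟩
      rw [hn] at hmem
      rw [smul_eq_mul, mul_comm c, ← mul_assoc]
      exact Ideal.mul_mem_right _ _ hmem
    have h1 : (1 : A) ∈ K := hK ▸ Submodule.mem_top
    rw [Submodule.mem_colon] at h1
    have := h1 _ (Ideal.mem_span_singleton_self _)
    simpa using this

end Groth.Agent.H73.DiscNorm
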