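import Groth.Agent.H73.QuadSplit

/-! Elliptic curves with the same `j` (with `j`, `j - 1728` units) are étale-locally isomorphic. -/

set_option autoImplicit false
set_option linter.unusedSectionVars false
set_option linter.unusedVariables false
open Polynomial

namespace Groth.Agent.H73.EllIso

open Groth.Agent.H73.QuadSplit WeierstrassCurve

section QuadAt
universe u
variable {L : Type u} [Field L] {R : Type u} [CommRing R] (θ : R →+* L)

lemma quadPair_hasMap (β δ Dinv : R) (hD : (β ^ 2 - 4 * δ) * Dinv = 1) (r : L)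
    (hr : r ^ 2 + θ β * r + θ δ = 0) :
    letI : Algebra R L := θ.toAlgebra
    (quadPair β δ Dinv hD).HasMap r := by
  letI : Algebra R L := θ.toAlgebra
  refine ⟨?_, by simp [quadPair]⟩
  simp only [quadPair, map_add, map_pow, aeval_X, map_mul, aeval_C,
    RingHom.algebraMap_toAlgebra]
  linear_combination hr

/-- quadratic étale neighbourhood with a prescribed root in `L`. -/
noncomputable def quadAt (β δ Dinv : R) (hD : (β ^ 2 - 4 * δ) * Dinv = 1) (r : L)
    (hr : r ^ 2 + θ β * r + θ δ = 0) : ENbhd θ :=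
  letI : Algebra R L := θ.toAlgebra
  { S := (quadPair β δ Dinv hD).Ring
    et := inferInstance
    ψ := ((quadPair β δ Dinv hD).lift r (quadPair_hasMap θ β δ Dinv hD r hr)).toRingHom
    hψ := fun r => AlgHom.commutes _ r }

lemma exists_quadAt (β δ Dinv : R) (hD : (β ^ 2 - 4 * δ) * Dinv = 1) (r : L)
    (hr : r ^ 2 + θ β * r + θ δ = 0) :
    ∃ N : ENbhd θ, ∃ lam : N.S, lam ^ 2 + algebraMap R N.S β * lam + algebraMap R N.S δ = 0 ∧
      N.ψ lam = r := by
  refine ⟨quadAt θ β δ Dinv hD r hr, (quadPair β δ Dinv hD).X, quadPair_X_spec β δ Dinv hD, ?_⟩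
  letI : Algebra R L := θ.toAlgebra
  exact StandardEtalePair.lift_X _ r (quadPair_hasMap θ β δ Dinv hD r hr)

variable [IsAlgClosed L]

/-- étale-local root of a non-monic quadratic `a x² + b x + c` with `θ a = 0`, `θ b ≠ 0`. -/
lemma exists_root_nonmonic (a b c : R) (ha : θ a = 0) (hb : θ b ≠ 0) :
    ∃ N : ENbhd θ, ∃ x : N.S,
      algebraMap R N.S a * x ^ 2 + algebraMap R N.S b * x + algebraMap R N.S c = 0 := by
  have hD : θ (b ^ 2 - 4 * (a * c)) ≠ 0 := by
    simp [ha, hb]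
  obtain ⟨N₁, hu⟩ := exists_away θ _ hD
  obtain ⟨Dinv, hDinv⟩ := hu.exists_right_inv
  have hq : ((algebraMap R N₁.S b) ^ 2 - 4 * (algebraMap R N₁.S a * algebraMap R N₁.S c)) * Dinv
      = 1 := by
    simpa [map_ofNat] using hDinv
  obtain ⟨N₂, Z, hZ, hZψ⟩ := exists_quadAt N₁.ψ (algebraMap R N₁.S b)
    (algebraMap R N₁.S a * algebraMap R N₁.S c) Dinv hq (-θ b) (by
      simp only [N₁.hψ, map_mul, ha]
      ring)
  have hZne : N₂.ψ Z ≠ 0 := by
    rw [hZψ]; exact neg_ne_zero.2 hb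
  obtain ⟨N₃, hu3⟩ := exists_away N₂.ψ Z hZne
  obtain ⟨Zi, hZi⟩ := hu3.exists_right_inv
  have hZ' := congrArg (algebraMap N₂.S N₃.S) hZ
  simp only [map_add, map_mul, map_pow, map_zero] at hZ'
  have key : algebraMap N₂.S N₃.S (algebraMap N₁.S N₂.S (algebraMap R N₁.S a))
        * (algebraMap N₂.S N₃.S (algebraMap N₁.S N₂.S (algebraMap R N₁.S c)) * Zi) ^ 2
      + algebraMap N₂.S N₃.S (algebraMap N₁.S N₂.S (algebraMap R N₁.S b))
        * (algebraMap N₂.S N₃.S (algebraMap N₁.S N₂.S (algebraMap R N₁.S c)) * Zi)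
      + algebraMap N₂.S N₃.S (algebraMap N₁.S N₂.S (algebraMap R N₁.S c)) = 0 := by
    set A := algebraMap N₂.S N₃.S (algebraMap N₁.S N₂.S (algebraMap R N₁.S a))
    set B := algebraMap N₂.S N₃.S (algebraMap N₁.S N₂.S (algebraMap R N₁.S b))
    set C := algebraMap N₂.S N₃.S (algebraMap N₁.S N₂.S (algebraMap R N₁.S c))
    set Z₃ := algebraMap N₂.S N₃.S Z
    linear_combination (C * Zi ^ 2) * hZ' - (B * C * Zi + C * (Z₃ * Zi + 1)) * hZi
  exact ⟨N₁.trans (N₂.trans N₃), _, key⟩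

end QuadAt

section IsoSec
universe u
variable {L : Type u} [Field L] [IsAlgClosed L]

/-- the two curves become isomorphic on an étale neighbourhood of the geometric point. -/
def Iso {S : Type u} [CommRing S] (ψ : S →+* L) (W₁ W₂ : WeierstrassCurve S) : Prop :=
  ∃ N : ENbhd ψ, ∃ C : VariableChange N.S,
    C • (W₁.map (algebraMap S N.S)) = W₂.map (algebraMap S N.S)

variable {S : Type u} [CommRing S] {ψ : S →+* L} {W₁ W₂ : WeierstrassCurve S}

lemma Iso.of_eq (h : ∃ C : VariableChange S, C • W₁ = W₂) : Iso ψ W₁ W₂ := by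
  obtain ⟨C, hC⟩ := h
  refine ⟨ENbhd.refl ψ, C, ?_⟩
  show C • W₁.map (RingHom.id S) = W₂.map (RingHom.id S)
  rw [WeierstrassCurve.map_id, WeierstrassCurve.map_id, hC]

lemma Iso.of_nbhd (N : ENbhd ψ)
    (h : Iso N.ψ (W₁.map (algebraMap S N.S)) (W₂.map (algebraMap S N.S))) : Iso ψ W₁ W₂ := by
  obtain ⟨N', C, hC⟩ := h
  rw [WeierstrassCurve.map_map, WeierstrassCurve.map_map] at hC
  exact ⟨N.trans N', C, hC⟩

lemma Iso.of_vc_left (C₁ : VariableChange S) (h : Iso ψ (C₁ • W₁) W₂) : Iso ψ W₁ W₂ := by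
  obtain ⟨N, C, hC⟩ := h
  refine ⟨N, C * C₁.map (algebraMap S N.S), ?_⟩
  rw [mul_smul, map_variableChange, hC]

lemma Iso.of_vc_right (C₂ : VariableChange S) (h : Iso ψ W₁ (C₂ • W₂)) : Iso ψ W₁ W₂ := by
  obtain ⟨N, C, hC⟩ := h
  refine ⟨N, (C₂.map (algebraMap S N.S))⁻¹ * C, ?_⟩
  rw [mul_smul, hC, ← map_variableChange, ← mul_smul, inv_mul_cancel, one_smul]

/-- the hypotheses, in polynomial form. -/
structure SameJ {S : Type u} [CommRing S] (W₁ W₂ : WeierstrassCurve S) : Prop where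
  d1 : IsUnit W₁.Δ
  d2 : IsUnit W₂.Δ
  c41 : IsUnit W₁.c₄
  c42 : IsUnit W₂.c₄
  c61 : IsUnit W₁.c₆
  c62 : IsUnit W₂.c₆
  hJ : W₂.Δ * W₁.c₄ ^ 3 = W₁.Δ * W₂.c₄ ^ 3

lemma SameJ.map {S' : Type u} [CommRing S'] (φ : S →+* S') (h : SameJ W₁ W₂) :
    SameJ (W₁.map φ) (W₂.map φ) where
  d1 := by rw [map_Δ]; exact h.d1.map φ
  d2 := by rw [map_Δ]; exact h.d2.map φ
  c41 := by rw [map_c₄]; exact h.c41.map φ
  c42 := by rw [map_c₄]; exact h.c42.map φ
  c61 := by rw [map_c₆]; exact h.c61.map φ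
  c62 := by rw [map_c₆]; exact h.c62.map φ
  hJ := by
    simp only [map_Δ, map_c₄]
    rw [← map_pow, ← map_pow, ← map_mul, ← map_mul, h.hJ]

lemma SameJ.vc_left (C : VariableChange S) (h : SameJ W₁ W₂) : SameJ (C • W₁) W₂ where
  d1 := by rw [variableChange_Δ]; exact (Units.isUnit _).pow 12 |>.mul h.d1
  d2 := h.d2
  c41 := by rw [variableChange_c₄]; exact (Units.isUnit _).pow 4 |>.mul h.c41
  c42 := h.c42
  c61 := by rw [variableChange_c₆]; exact (Units.isUnit _).pow 6 |>.mul h.c61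
  c62 := h.c62
  hJ := by
    rw [variableChange_Δ, variableChange_c₄]
    linear_combination ((C.u⁻¹ : Sˣ) : S) ^ 12 * h.hJ

lemma SameJ.vc_right (C : VariableChange S) (h : SameJ W₁ W₂) : SameJ W₁ (C • W₂) where
  d1 := h.d1
  d2 := by rw [variableChange_Δ]; exact (Units.isUnit _).pow 12 |>.mul h.d2
  c41 := h.c41
  c42 := by rw [variableChange_c₄]; exact (Units.isUnit _).pow 4 |>.mul h.c42
  c61 := h.c61
  c62 := by rw [variableChange_c₆]; exact (Units.isUnit _).pow 6 |>.mul h.c62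
  hJ := by
    rw [variableChange_Δ, variableChange_c₄]
    linear_combination ((C.u⁻¹ : Sˣ) : S) ^ 12 * h.hJ

end IsoSec

end Groth.Agent.H73.EllIso
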