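import Groth.Agent.H73.EllIso

set_option autoImplicit false
set_option linter.unusedSectionVars false
set_option linter.unusedVariables false
set_option linter.style.haveILetI false

namespace Groth.Agent.H73.EllIso

open Groth.Agent.H73.QuadSplit WeierstrassCurve

section Alg
variable {T : Type*} [CommRing T]

lemma unit_pow_cancel (u : Tˣ) (n : ℕ) (x y : T) (h : x = (u : T) ^ n * y) :
    ((u⁻¹ : Tˣ) : T) ^ n * x = y := by
  rw [h, ← mul_assoc, ← mul_pow, Units.inv_mul, one_pow, one_mul]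

lemma vc_us_smul_eq (u : Tˣ) (s : T) (W₁ W₂ : WeierstrassCurve T)
    (h1 : W₁.a₁ + 2 * s = u * W₂.a₁)
    (h2 : W₁.a₂ - s * W₁.a₁ - s ^ 2 = (u : T) ^ 2 * W₂.a₂)
    (h3 : W₁.a₃ = (u : T) ^ 3 * W₂.a₃)
    (h4 : W₁.a₄ - s * W₁.a₃ = (u : T) ^ 4 * W₂.a₄)
    (h6 : W₁.a₆ = (u : T) ^ 6 * W₂.a₆) :
    (⟨u, 0, s, 0⟩ : VariableChange T) • W₁ = W₂ := by
  ext
  · rw [variableChange_a₁]
    dsimp only
    rw [h1, Units.inv_mul_cancel_left]
  · rw [variableChange_a₂]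
    dsimp only
    apply unit_pow_cancel
    rw [← h2]; ring
  · rw [variableChange_a₃]
    dsimp only
    apply unit_pow_cancel
    rw [← h3]; ring
  · rw [variableChange_a₄]
    dsimp only
    apply unit_pow_cancel
    rw [← h4]; ring
  · rw [variableChange_a₆]
    dsimp only
    apply unit_pow_cancel
    rw [← h6]; ring

/-- normal form `[1, a₂, 0, 0, a₆]`. -/
def NF (W : WeierstrassCurve T) : Prop := W.a₁ = 1 ∧ W.a₃ = 0 ∧ W.a₄ = 0

lemma NF.map {T' : Type*} [CommRing T'] {W : WeierstrassCurve T} (φ : T →+* T') (h : NF W) :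
    NF (W.map φ) :=
  ⟨by simp [h.1], by simp [h.2.1], by simp [h.2.2]⟩

lemma NF.c₄ {W : WeierstrassCurve T} (h : NF W) : W.c₄ = (1 + 4 * W.a₂) ^ 2 := by
  simp only [WeierstrassCurve.c₄, WeierstrassCurve.b₂, WeierstrassCurve.b₄, h.1, h.2.1, h.2.2]
  ring

lemma NF.Δ {W : WeierstrassCurve T} (h : NF W) :
    W.Δ = -(W.a₆ * ((1 + 4 * W.a₂) ^ 3 + 432 * W.a₆)) := by
  simp only [WeierstrassCurve.Δ, WeierstrassCurve.b₂, WeierstrassCurve.b₄, WeierstrassCurve.b₆,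
    WeierstrassCurve.b₈, h.1, h.2.1, h.2.2]
  ring

end Alg

section ShortCase
universe u
variable {L : Type u} [Field L] [IsAlgClosed L] {S : Type u} [CommRing S] {ψ : S →+* L}

lemma short_match (W₁ W₂ : WeierstrassCurve S) [W₁.IsShortNF] [W₂.IsShortNF]
    (hs : SameJ W₁ W₂) (h6 : IsUnit (6 : S)) : Iso ψ W₁ W₂ := by
  have h2 : IsUnit (2 : S) := by
    have : IsUnit ((2 : S) * 3) := by norm_num; exact h6
    exact isUnit_of_mul_isUnit_left this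
  have hK : IsUnit (47775744 : S) := by
    have : IsUnit ((47775744 : S) * 3 ^ 10) := by
      have := h6.pow 16
      convert this using 1
      norm_num
    exact isUnit_of_mul_isUnit_left this
  obtain ⟨A₁, hA₁d⟩ : ∃ A₁, A₁ = W₁.a₄ := ⟨_, rfl⟩
  obtain ⟨A₂, hA₂d⟩ : ∃ A₂, A₂ = W₂.a₄ := ⟨_, rfl⟩
  obtain ⟨B₁, hB₁d⟩ : ∃ B₁, B₁ = W₁.a₆ := ⟨_, rfl⟩
  obtain ⟨B₂, hB₂d⟩ : ∃ B₂, B₂ = W₂.a₆ := ⟨_, rfl⟩
  have hA₁ : IsUnit A₁ := by
    have := hs.c41; rw [c₄_of_isShortNF, ← hA₁d] at this; exact isUnit_of_mul_isUnit_right this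
  have hA₂ : IsUnit A₂ := by
    have := hs.c42; rw [c₄_of_isShortNF, ← hA₂d] at this; exact isUnit_of_mul_isUnit_right this
  have hB₁ : IsUnit B₁ := by
    have := hs.c61; rw [c₆_of_isShortNF, ← hB₁d] at this; exact isUnit_of_mul_isUnit_right this
  have hB₂ : IsUnit B₂ := by
    have := hs.c62; rw [c₆_of_isShortNF, ← hB₂d] at this; exact isUnit_of_mul_isUnit_right this
  have e : B₂ ^ 2 * A₁ ^ 3 = B₁ ^ 2 * A₂ ^ 3 := by
    have hJ := hs.hJ
    rw [Δ_of_isShortNF, Δ_of_isShortNF, c₄_of_isShortNF, c₄_of_isShortNF, ← hA₁d, ← hA₂d,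
      ← hB₁d, ← hB₂d] at hJ
    have : (47775744 : S) * (B₂ ^ 2 * A₁ ^ 3 - B₁ ^ 2 * A₂ ^ 3) = 0 := by
      linear_combination hJ
    exact sub_eq_zero.1 ((hK.mul_right_eq_zero).1 this)
  obtain ⟨i2, hi2⟩ := h2.exists_right_inv
  obtain ⟨A₁i, hA₁i⟩ := hA₁.exists_right_inv
  obtain ⟨A₂i, hA₂i⟩ := hA₂.exists_right_inv
  obtain ⟨B₁i, hB₁i⟩ := hB₁.exists_right_inv
  obtain ⟨B₂i, hB₂i⟩ := hB₂.exists_right_inv
  obtain ⟨v, hv⟩ : ∃ v, v = B₁ * A₂ * B₂i * A₁i := ⟨_, rfl⟩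
  obtain ⟨vi, hvi⟩ : ∃ vi, vi = B₂ * A₁ * B₁i * A₂i := ⟨_, rfl⟩
  have hvvi : v * vi = 1 := by
    have : v * vi = (B₁ * B₁i) * (A₂ * A₂i) * (B₂ * B₂i) * (A₁ * A₁i) := by rw [hv, hvi]; ring
    rw [this, hB₁i, hA₂i, hB₂i, hA₁i]; ring
  have hD : ((0 : S) ^ 2 - 4 * (-v)) * (i2 ^ 2 * vi) = 1 := by
    have : ((0 : S) ^ 2 - 4 * (-v)) * (i2 ^ 2 * vi) = (2 * i2) ^ 2 * (v * vi) := by ring
    rw [this, hi2, hvvi]; ring
  have e4 : A₁ = v ^ 2 * A₂ := by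
    calc A₁ = A₁ * (B₂ * B₂i) ^ 2 * (A₁ * A₁i) ^ 2 := by rw [hB₂i, hA₁i]; ring
      _ = (B₂ ^ 2 * A₁ ^ 3) * B₂i ^ 2 * A₁i ^ 2 := by ring
      _ = (B₁ ^ 2 * A₂ ^ 3) * B₂i ^ 2 * A₁i ^ 2 := by rw [e]
      _ = v ^ 2 * A₂ := by rw [hv]; ring
  have e6 : B₁ = v ^ 3 * B₂ := by
    calc B₁ = B₁ * (B₂ * B₂i) ^ 3 * (A₁ * A₁i) ^ 3 := by rw [hB₂i, hA₁i]; ring
      _ = B₁ * (B₂ ^ 2 * A₁ ^ 3) * B₂i ^ 3 * A₁i ^ 3 * B₂ := by ring
      _ = B₁ * (B₁ ^ 2 * A₂ ^ 3) * B₂i ^ 3 * A₁i ^ 3 * B₂ := by rw [e]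
      _ = v ^ 3 * B₂ := by rw [hv]; ring
  obtain ⟨N, lam, hlam⟩ := exists_quad ψ 0 (-v) (i2 ^ 2 * vi) hD
  have hlam2 : lam ^ 2 = algebraMap S N.S v := by
    simp only [map_zero, zero_mul, add_zero, map_neg] at hlam
    linear_combination hlam
  have hlu : lam * (lam * algebraMap S N.S vi) = 1 := by
    have : lam * (lam * algebraMap S N.S vi) = lam ^ 2 * algebraMap S N.S vi := by ring
    rw [this, hlam2, ← map_mul, hvvi, map_one]
  refine ⟨N, ⟨Units.mkOfMulEqOne lam _ hlu, 0, 0, 0⟩, vc_us_smul_eq _ 0 _ _ ?_ ?_ ?_ ?_ ?_⟩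
  · simp
  · simp [a₂_of_isShortNF]
  · simp
  · simp only [map_a₄, map_a₃, zero_mul, sub_zero, Units.val_mkOfMulEqOne, ← hA₁d, ← hA₂d]
    have : lam ^ 4 = (lam ^ 2) ^ 2 := by ring
    rw [this, hlam2, ← map_pow, ← map_mul, ← e4]
  · simp only [map_a₆, Units.val_mkOfMulEqOne, ← hB₁d, ← hB₂d]
    have : lam ^ 6 = (lam ^ 2) ^ 3 := by ring
    rw [this, hlam2, ← map_pow, ← map_mul, ← e6]

end ShortCase


section NFCase
universe u
variable {L : Type u} [Field L] [IsAlgClosed L] {S : Type u} [CommRing S] {ψ : S →+* L}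

/-- étale-locally, `W` can be brought into the normal form `[1, a₂, 0, 0, a₆]`. -/
def ReachNF (ψ : S →+* L) (W : WeierstrassCurve S) : Prop :=
  ∃ N : ENbhd ψ, ∃ C : VariableChange N.S, NF (C • W.map (algebraMap S N.S))

variable {W : WeierstrassCurve S}

lemma ReachNF.of_self (h : NF W) : ReachNF ψ W :=
  ⟨ENbhd.refl ψ, 1, by rw [one_smul]; exact h.map _⟩

lemma ReachNF.of_nbhd (N : ENbhd ψ) (h : ReachNF N.ψ (W.map (algebraMap S N.S))) :
    ReachNF ψ W := by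
  obtain ⟨N', C, hC⟩ := h
  rw [WeierstrassCurve.map_map] at hC
  exact ⟨N.trans N', C, hC⟩

lemma ReachNF.of_vc (C₁ : VariableChange S) (h : ReachNF ψ (C₁ • W)) : ReachNF ψ W := by
  obtain ⟨N, C, hC⟩ := h
  refine ⟨N, C * C₁.map (algebraMap S N.S), ?_⟩
  rw [mul_smul, map_variableChange]; exact hC

lemma reach_step3 (W : WeierstrassCurve S) (h1 : W.a₁ = 1) (h3 : W.a₃ = 0) (hc : IsUnit W.c₄)
    (h6 : (6 : L) = 0) : ReachNF ψ W := by
  have hc4 : ψ W.c₄ ≠ 0 := (hc.map ψ).ne_zero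
  have h12 : ψ 12 = 0 := by
    rw [map_ofNat]
    have : (12 : L) = 6 * 2 := by norm_num
    rw [this, h6, zero_mul]
  have h48 : ψ 48 = 0 := by
    rw [map_ofNat]
    have : (48 : L) = 6 * 8 := by norm_num
    rw [this, h6, zero_mul]
  have hb : ψ (-(4 * W.a₂ + 1)) ≠ 0 := by
    intro h
    apply hc4
    have : W.c₄ = (-(4 * W.a₂ + 1)) ^ 2 - 48 * W.a₄ := by
      simp only [WeierstrassCurve.c₄, WeierstrassCurve.b₂, WeierstrassCurve.b₄, h1, h3]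
      ring
    rw [this, map_sub, map_pow, h, map_mul, h48]
    ring
  obtain ⟨N, t, ht⟩ := exists_root_nonmonic ψ 12 (-(4 * W.a₂ + 1)) W.a₄ h12 hb
  apply ReachNF.of_nbhd N
  apply ReachNF.of_vc ⟨1, -2 * t, 0, t⟩
  apply ReachNF.of_self
  simp only [map_neg, map_add, map_mul, map_ofNat, map_one] at ht
  refine ⟨?_, ?_, ?_⟩
  · rw [variableChange_a₁]
    simp [h1]
  · rw [variableChange_a₃]
    simp [h1, h3]
  · rw [variableChange_a₄]
    simp only [map_a₁, map_a₂, map_a₃, map_a₄, h1, h3, inv_one, Units.val_one, one_pow, one_mul,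
      map_one, map_zero]
    linear_combination ht

lemma reach_step2 (W : WeierstrassCurve S) (h1 : W.a₁ = 1) (hc : IsUnit W.c₄)
    (h6 : (6 : L) = 0) : ReachNF ψ W := by
  apply ReachNF.of_vc ⟨1, -W.a₃, 0, 0⟩
  apply reach_step3 _ _ _ _ h6
  · rw [variableChange_a₁]; simp [h1]
  · rw [variableChange_a₃]; simp [h1]
  · rw [variableChange_c₄]; simpa using hc

lemma exists_nf (W : WeierstrassCurve S) (hc : IsUnit W.c₄) (h6 : (6 : L) = 0) :
    ReachNF ψ W := by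
  have hc4 : ψ W.c₄ ≠ 0 := (hc.map ψ).ne_zero
  obtain ⟨s₀, hs₀⟩ : ∃ s₀ : S, ψ (W.a₁ + 2 * s₀) ≠ 0 := by
    by_cases ha : ψ W.a₁ = 0
    · refine ⟨1, ?_⟩
      intro h
      have h2 : ψ 2 = 0 := by simpa [ha] using h
      apply hc4
      have : W.c₄ = W.a₁ ^ 4 + 2 * (4 * W.a₁ ^ 2 * W.a₂ + 8 * W.a₂ ^ 2 - 12 * W.b₄) := by
        simp only [WeierstrassCurve.c₄, WeierstrassCurve.b₂]
        ring
      rw [this, map_add, map_pow, ha, map_mul, h2]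
      ring
    · exact ⟨0, by simpa using ha⟩
  obtain ⟨N₁, hu⟩ := exists_away ψ _ hs₀
  apply ReachNF.of_nbhd N₁
  apply ReachNF.of_vc ⟨hu.unit, 0, algebraMap S N₁.S s₀, 0⟩
  apply reach_step2 _ _ _ h6
  · rw [variableChange_a₁]
    simp only [map_a₁]
    have : (hu.unit : N₁.S) = algebraMap S N₁.S W.a₁ + 2 * algebraMap S N₁.S s₀ := by
      rw [IsUnit.unit_spec]; simp [map_ofNat]
    rw [← this, Units.inv_mul]
  · rw [variableChange_c₄, map_c₄]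
    exact ((Units.isUnit _).pow 4).mul (hc.map _)

end NFCase

section MatchCase
universe u
variable {L : Type u} [Field L] [IsAlgClosed L] {S : Type u} [CommRing S] {ψ : S →+* L}

lemma exists_F (a b a' b' B B' Binv B'inv s : S) (hBd : B = 1 + 4 * a) (hB'd : B' = 1 + 4 * a')
    (hB : B * Binv = 1) (hB' : B' * B'inv = 1)
    (hs : s ^ 2 + s + (a' - a) * B'inv = 0)
    (hJ : b' * (B' ^ 3 + 432 * b') * B ^ 6 = b * (B ^ 3 + 432 * b) * B' ^ 6)
    (h6 : (6 : L) = 0) :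
    ∃ N : ENbhd ψ,
      algebraMap S N.S b = (algebraMap S N.S (1 + 2 * s)) ^ 6 * algebraMap S N.S b' := by
  obtain ⟨u, hu⟩ : ∃ u, u = 1 + 2 * s := ⟨_, rfl⟩
  rw [← hu]
  have e1 : u ^ 2 * B' = B := by
    rw [hu, hBd]
    linear_combination 4 * B' * hs - 4 * (a' - a) * hB' + hB'd
  have hBu : IsUnit B := IsUnit.of_mul_eq_one _ hB
  have hB'u : IsUnit B' := IsUnit.of_mul_eq_one _ hB'
  obtain ⟨F, hFd⟩ : ∃ F, F = u ^ 6 * B' ^ 3 + 432 * (u ^ 6 * b' + b) := ⟨_, rfl⟩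
  have h432 : (432 : L) = 0 := by
    have : (432 : L) = 6 * 72 := by norm_num
    rw [this, h6, zero_mul]
  have hF : ψ F ≠ 0 := by
    have : F = B ^ 3 + 432 * (u ^ 6 * b' + b) := by rw [hFd, ← e1]; ring
    rw [this, map_add, map_mul, map_ofNat, h432, zero_mul, add_zero, map_pow]
    exact pow_ne_zero _ (hBu.map ψ).ne_zero
  obtain ⟨N, hFu⟩ := exists_away ψ F hF
  have keyB : (u ^ 6 * b' - b) * F * B' ^ 6 = 0 := by
    calc (u ^ 6 * b' - b) * F * B' ^ 6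
        = (u ^ 2 * B') ^ 6 * b' * (B' ^ 3 + 432 * b')
          - b * ((u ^ 2 * B') ^ 3 + 432 * b) * B' ^ 6 := by rw [hFd]; ring
      _ = B ^ 6 * b' * (B' ^ 3 + 432 * b') - b * (B ^ 3 + 432 * b) * B' ^ 6 := by rw [e1]
      _ = 0 := by linear_combination hJ
  have key : (u ^ 6 * b' - b) * F = 0 := ((hB'u.pow 6).mul_left_eq_zero).1 keyB
  have h0 : algebraMap S N.S ((u ^ 6 * b' - b) * F) = 0 := by rw [key, map_zero]
  rw [map_mul] at h0
  have h1 := (hFu.mul_left_eq_zero).1 h0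
  rw [map_sub, map_mul, map_pow, sub_eq_zero] at h1
  exact ⟨N, h1.symm⟩

lemma nf_match (W₁ W₂ : WeierstrassCurve S) (h1 : NF W₁) (h2 : NF W₂) (hs : SameJ W₁ W₂)
    (h6 : (6 : L) = 0) : Iso ψ W₁ W₂ := by
  obtain ⟨a, had⟩ : ∃ a, a = W₁.a₂ := ⟨_, rfl⟩
  obtain ⟨a', ha'd⟩ : ∃ a', a' = W₂.a₂ := ⟨_, rfl⟩
  obtain ⟨b, hbd⟩ : ∃ b, b = W₁.a₆ := ⟨_, rfl⟩
  obtain ⟨b', hb'd⟩ : ∃ b', b' = W₂.a₆ := ⟨_, rfl⟩
  have hB : IsUnit (1 + 4 * a) := by
    have := hs.c41; rw [h1.c₄, ← had] at this; exact (isUnit_pow_iff two_ne_zero).1 this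
  have hB' : IsUnit (1 + 4 * a') := by
    have := hs.c42; rw [h2.c₄, ← ha'd] at this; exact (isUnit_pow_iff two_ne_zero).1 this
  obtain ⟨Binv, hBi⟩ := hB.exists_right_inv
  obtain ⟨B'inv, hB'i⟩ := hB'.exists_right_inv
  have hJ := hs.hJ
  rw [h1.c₄, h2.c₄, h1.Δ, h2.Δ, ← had, ← ha'd, ← hbd, ← hb'd] at hJ
  have hD : ((1 : S) ^ 2 - 4 * ((a' - a) * B'inv)) * ((1 + 4 * a') * Binv) = 1 := by
    linear_combination hBi - 4 * (a' - a) * Binv * hB'i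
  obtain ⟨N₁, s, hs1⟩ := exists_quad ψ 1 ((a' - a) * B'inv) ((1 + 4 * a') * Binv) hD
  simp only [map_one, one_mul, map_mul, map_sub] at hs1
  obtain ⟨N₂, hb⟩ := exists_F (ψ := N₁.ψ) (algebraMap S N₁.S a) (algebraMap S N₁.S b)
    (algebraMap S N₁.S a') (algebraMap S N₁.S b') (1 + 4 * algebraMap S N₁.S a)
    (1 + 4 * algebraMap S N₁.S a') (algebraMap S N₁.S Binv) (algebraMap S N₁.S B'inv) s rfl rfl
    (by have := congrArg (algebraMap S N₁.S) hBi; simpa [map_ofNat] using this)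
    (by have := congrArg (algebraMap S N₁.S) hB'i; simpa [map_ofNat] using this)
    hs1
    (by
      have := congrArg (algebraMap S N₁.S) hJ
      simp only [map_mul, map_neg, map_add, map_pow, map_ofNat, map_one] at this
      linear_combination -this) h6
  -- the unit `u = 1 + 2 s`
  have hB'1 : (1 + 4 * algebraMap S N₁.S a') * algebraMap S N₁.S B'inv = 1 := by
    have := congrArg (algebraMap S N₁.S) hB'i; simpa [map_ofNat] using this
  have hB1 : (1 + 4 * algebraMap S N₁.S a) * algebraMap S N₁.S Binv = 1 := by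
    have := congrArg (algebraMap S N₁.S) hBi; simpa [map_ofNat] using this
  have e1 : (1 + 2 * s) ^ 2 * (1 + 4 * algebraMap S N₁.S a') = 1 + 4 * algebraMap S N₁.S a := by
    linear_combination 4 * (1 + 4 * algebraMap S N₁.S a') * hs1
      - 4 * (algebraMap S N₁.S a' - algebraMap S N₁.S a) * hB'1
  have hu1 : (1 + 2 * s) * ((1 + 2 * s) * ((1 + 4 * algebraMap S N₁.S a') * algebraMap S N₁.S Binv))
      = 1 := by
    linear_combination algebraMap S N₁.S Binv * e1 + hB1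
  have hu2 : algebraMap N₁.S N₂.S (1 + 2 * s) * algebraMap N₁.S N₂.S
      ((1 + 2 * s) * ((1 + 4 * algebraMap S N₁.S a') * algebraMap S N₁.S Binv)) = 1 := by
    rw [← map_mul, hu1, map_one]
  have ea : algebraMap S N₁.S a - s - s ^ 2 = (1 + 2 * s) ^ 2 * algebraMap S N₁.S a' := by
    linear_combination -(1 + 4 * algebraMap S N₁.S a') * hs1
      + (algebraMap S N₁.S a' - algebraMap S N₁.S a) * hB'1
  have ea2 := congrArg (algebraMap N₁.S N₂.S) ea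
  simp only [map_sub, map_mul, map_pow] at ea2
  obtain ⟨uu, huu⟩ : ∃ uu : N₂.Sˣ, (uu : N₂.S) = algebraMap N₁.S N₂.S (1 + 2 * s) :=
    ⟨Units.mkOfMulEqOne _ _ hu2, rfl⟩
  have key : (⟨uu, 0, algebraMap N₁.S N₂.S s, 0⟩ : VariableChange N₂.S) •
      (W₁.map ((algebraMap N₁.S N₂.S).comp (algebraMap S N₁.S)))
      = W₂.map ((algebraMap N₁.S N₂.S).comp (algebraMap S N₁.S)) := by
    apply vc_us_smul_eq
    · rw [huu]
      simp only [map_a₁, h1.1, h2.1, map_one, mul_one, map_add, map_mul, map_ofNat]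
    · simp only [map_a₁, map_a₂, h1.1, map_one, mul_one, RingHom.comp_apply, ← had, ← ha'd, huu]
      exact ea2
    · simp only [map_a₃, h1.2.1, h2.2.1, map_zero, mul_zero]
    · simp only [map_a₃, map_a₄, h1.2.1, h1.2.2, h2.2.2, map_zero, mul_zero, sub_zero]
    · simp only [map_a₆, RingHom.comp_apply, ← hbd, ← hb'd, huu]
      exact hb
  exact ⟨N₁.trans N₂, _, key⟩

end MatchCase

section Main
universe u
variable {L : Type u} [Field L] [IsAlgClosed L] {S : Type u} [CommRing S] {ψ : S →+* L}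

theorem main (W₁ W₂ : WeierstrassCurve S) (hs : SameJ W₁ W₂) : Iso ψ W₁ W₂ := by
  by_cases h6 : (6 : L) = 0
  · obtain ⟨N₁, C₁, hn1⟩ := exists_nf (ψ := ψ) W₁ hs.c41 h6
    apply Iso.of_nbhd N₁
    apply Iso.of_vc_left C₁
    obtain ⟨N₂, C₂, hn2⟩ := exists_nf (ψ := N₁.ψ) (W₂.map (algebraMap S N₁.S))
      (by rw [map_c₄]; exact hs.c42.map _) h6
    apply Iso.of_nbhd N₂
    apply Iso.of_vc_right C₂
    exact nf_match _ _ (hn1.map _) hn2 ((((hs.map _).vc_left C₁).map _).vc_right C₂) h6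
  · have h6' : ψ 6 ≠ 0 := by rwa [map_ofNat]
    obtain ⟨N₁, hu⟩ := exists_away ψ 6 h6'
    rw [map_ofNat] at hu
    apply Iso.of_nbhd N₁
    have h2 : IsUnit (2 : N₁.S) := by
      have : IsUnit ((2 : N₁.S) * 3) := by norm_num; exact hu
      exact isUnit_of_mul_isUnit_left this
    have h3 : IsUnit (3 : N₁.S) := by
      have : IsUnit ((2 : N₁.S) * 3) := by norm_num; exact hu
      exact isUnit_of_mul_isUnit_right this
    letI := h2.invertible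
    letI := h3.invertible
    apply Iso.of_vc_left (W₁.map (algebraMap S N₁.S)).toShortNF
    apply Iso.of_vc_right (W₂.map (algebraMap S N₁.S)).toShortNF
    exact short_match _ _ (((hs.map _).vc_left _).vc_right _) hu

/-- the hypotheses of the statement give `SameJ`. -/
lemma SameJ.of_j {A : Type*} [CommRing A] (W₁ W₂ : WeierstrassCurve A) [W₁.IsElliptic]
    [W₂.IsElliptic] (hj : W₁.j = W₂.j) (h0 : IsUnit W₁.j) (h1728 : IsUnit (W₁.j - 1728)) :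
    SameJ W₁ W₂ := by
  have k1 : W₁.c₄ ^ 3 = W₁.Δ * W₁.j := by
    rw [WeierstrassCurve.j, ← coe_Δ', Units.mul_inv_cancel_left]
  have k2 : W₂.c₄ ^ 3 = W₂.Δ * W₁.j := by
    rw [hj, WeierstrassCurve.j, ← coe_Δ', Units.mul_inv_cancel_left]
  have r1 : W₁.c₆ ^ 2 = W₁.Δ * (W₁.j - 1728) := by
    linear_combination k1 + W₁.c_relation
  have r2 : W₂.c₆ ^ 2 = W₂.Δ * (W₁.j - 1728) := by
    linear_combination k2 + W₂.c_relation
  refine ⟨W₁.isUnit_Δ, W₂.isUnit_Δ, ?_, ?_, ?_, ?_, ?_⟩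
  · have : IsUnit (W₁.c₄ ^ 3) := by rw [k1]; exact W₁.isUnit_Δ.mul h0
    exact (isUnit_pow_iff (by norm_num)).1 this
  · have : IsUnit (W₂.c₄ ^ 3) := by rw [k2]; exact W₂.isUnit_Δ.mul h0
    exact (isUnit_pow_iff (by norm_num)).1 this
  · have : IsUnit (W₁.c₆ ^ 2) := by rw [r1]; exact W₁.isUnit_Δ.mul h1728
    exact (isUnit_pow_iff (by norm_num)).1 this
  · have : IsUnit (W₂.c₆ ^ 2) := by rw [r2]; exact W₂.isUnit_Δ.mul h1728
    exact (isUnit_pow_iff (by norm_num)).1 this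
  · rw [k1, k2]; ring

end Main

end Groth.Agent.H73.EllIso
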