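import Groth.Agent.H73.EllRigid

/-! Changes of variables between elliptic curves with the same `j` over a complete local domain
with algebraically closed residue field. -/

set_option autoImplicit false
set_option linter.unusedVariables false
set_option linter.unusedSectionVars false

namespace Groth.Agent.H73.EllLift

open WeierstrassCurve IsLocalRing Groth.Agent.H73.EllRigid

universe u

theorem henselianLocalRing_of_complete (A : Type*) [CommRing A] [IsLocalRing A]
    [IsAdicComplete (maximalIdeal A) A] : HenselianLocalRing A where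
  is_henselian f hf a₀ h₁ h₂ :=
    HenselianRing.is_henselian f hf a₀ h₁ (h₂.map (Ideal.Quotient.mk _))

section core
variable {R : Type u} [CommRing R] [IsLocalRing R] [IsNoetherianRing R]
  [IsAlgClosed (ResidueField R)]
  {R' : Type u} [CommRing R'] [IsLocalRing R'] [Algebra R R'] [Module.Finite R R']
  [IsLocalHom (algebraMap R R')]

theorem exists_sub_mem (g : R') : ∃ g₀ : R, g - algebraMap R R' g₀ ∈ maximalIdeal R' := by
  have hs : Function.Surjective (algebraMap (ResidueField R) (ResidueField R')) :=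
    (IsAlgClosed.algebraMap_bijective_of_isIntegral (k := ResidueField R)).2
  obtain ⟨y, hy⟩ := hs (residue R' g)
  obtain ⟨g₀, rfl⟩ := residue_surjective y
  refine ⟨g₀, ?_⟩
  rw [ResidueField.algebraMap_residue] at hy
  exact (Ideal.Quotient.eq.1 hy.symm)

theorem mem_of_algebraMap_mem (a : R) (h : algebraMap R R' a ∈ maximalIdeal R') :
    a ∈ maximalIdeal R := by
  by_contra ha
  have hu : IsUnit a := by
    by_contra hn
    exact ha ((mem_maximalIdeal a).2 hn)
  exact (mem_maximalIdeal _).1 h (hu.map (algebraMap R R'))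

theorem core (W₁ W₂ : WeierstrassCurve R) (hΔ₁ : IsUnit W₁.Δ) (C' : VariableChange R')
    (hC' : C' • W₁.map (algebraMap R R') = W₂.map (algebraMap R R'))
    (hgen : Algebra.adjoin R ({(C'.u : R'), ((C'.u⁻¹ : R'ˣ) : R'), C'.r, C'.s, C'.t} : Set R') = ⊤) :
    Function.Surjective (algebraMap R R') := by
  set alg := algebraMap R R' with halg
  set n' := maximalIdeal R' with hn'
  set m := maximalIdeal R with hm
  set J : Ideal R' := m.map alg ⊔ n' * n' with hJ
  have hmn : m.map alg ≤ n' := by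
    rw [Ideal.map_le_iff_le_comap]
    intro a ha
    exact map_nonunit alg a ha
  have hJn : J ≤ n' := sup_le hmn Ideal.mul_le_right
  obtain ⟨u₀, hu₀⟩ : ∃ g₀ : R, (C'.u : R') - alg g₀ ∈ n' := exists_sub_mem (R := R) (C'.u : R')
  obtain ⟨r₀, hr₀⟩ : ∃ g₀ : R, C'.r - alg g₀ ∈ n' := exists_sub_mem (R := R) C'.r
  obtain ⟨s₀, hs₀⟩ : ∃ g₀ : R, C'.s - alg g₀ ∈ n' := exists_sub_mem (R := R) C'.s
  obtain ⟨t₀, ht₀⟩ : ∃ g₀ : R, C'.t - alg g₀ ∈ n' := exists_sub_mem (R := R) C'.t
  have hu₀u : IsUnit u₀ := by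
    by_contra hn
    have h1 : alg u₀ ∈ n' := map_nonunit alg u₀ ((mem_maximalIdeal _).2 hn)
    have h2 : (C'.u : R') ∈ n' := by
      have h3 : (C'.u : R') = ((C'.u : R') - alg u₀) + alg u₀ := by ring
      rw [h3]
      exact n'.add_mem hu₀ h1
    exact (mem_maximalIdeal _).1 h2 C'.u.isUnit
  obtain ⟨C₀, hC₀⟩ : ∃ C₀ : VariableChange R, C₀ = ⟨hu₀u.unit, r₀, s₀, t₀⟩ := ⟨_, rfl⟩
  have hC₀u : (C₀.u : R) = u₀ := by rw [hC₀]; rfl
  have hC₀r : C₀.r = r₀ := by rw [hC₀]
  have hC₀s : C₀.s = s₀ := by rw [hC₀]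
  have hC₀t : C₀.t = t₀ := by rw [hC₀]
  set φ : R' →+* R' ⧸ J := Ideal.Quotient.mk J with hφ
  set φ₀ : R →+* R' ⧸ J := φ.comp alg with hφ₀
  set ρ : R' →+* ResidueField R' := residue R' with hρ
  have hker : ∀ a b : R, ρ (alg a) = ρ (alg b) → φ₀ a = φ₀ b := by
    intro a b hab
    have h1 : alg (a - b) ∈ n' := by
      rw [map_sub]
      exact Ideal.Quotient.eq.1 hab
    have h2 : a - b ∈ m := mem_of_algebraMap_mem (R' := R') _ h1
    have h3 : alg (a - b) ∈ J := Ideal.mem_sup_left (Ideal.mem_map_of_mem alg h2)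
    rw [map_sub] at h3
    exact Ideal.Quotient.eq.2 h3
  have hρeq : ∀ (x : R') (a : R), x - alg a ∈ n' → ρ x = ρ (alg a) := fun x a h =>
    Ideal.Quotient.eq.2 h
  have hρC : C'.map ρ = C₀.map (ρ.comp alg) := by
    ext
    · show ρ (C'.u : R') = ρ (alg (C₀.u : R))
      rw [hC₀u]; exact hρeq _ _ hu₀
    · show ρ C'.r = ρ (alg C₀.r)
      rw [hC₀r]; exact hρeq _ _ hr₀
    · show ρ C'.s = ρ (alg C₀.s)
      rw [hC₀s]; exact hρeq _ _ hs₀
    · show ρ C'.t = ρ (alg C₀.t)
      rw [hC₀t]; exact hρeq _ _ ht₀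
  have hρW : (C₀ • W₁).map (ρ.comp alg) = W₂.map (ρ.comp alg) := by
    have : (C' • W₁.map alg).map ρ = (W₂.map alg).map ρ := by rw [hC']
    rw [← map_variableChange, WeierstrassCurve.map_map, WeierstrassCurve.map_map, hρC,
      map_variableChange] at this
    exact this
  have claimA : (C₀ • W₁).map φ₀ = W₂.map φ₀ := by
    ext
    · have := congrArg WeierstrassCurve.a₁ hρW
      simp only [map_a₁] at this ⊢
      exact hker _ _ this
    · have := congrArg WeierstrassCurve.a₂ hρW
      simp only [map_a₂] at this ⊢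
      exact hker _ _ this
    · have := congrArg WeierstrassCurve.a₃ hρW
      simp only [map_a₃] at this ⊢
      exact hker _ _ this
    · have := congrArg WeierstrassCurve.a₄ hρW
      simp only [map_a₄] at this ⊢
      exact hker _ _ this
    · have := congrArg WeierstrassCurve.a₆ hρW
      simp only [map_a₆] at this ⊢
      exact hker _ _ this
  set W : WeierstrassCurve (R' ⧸ J) := W₁.map φ₀ with hW
  have e1 : C'.map φ • W = W₂.map φ₀ := by
    have : (C' • W₁.map alg).map φ = (W₂.map alg).map φ := by rw [hC']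
    rw [← map_variableChange, WeierstrassCurve.map_map, WeierstrassCurve.map_map] at this
    exact this
  have e2 : C₀.map φ₀ • W = W₂.map φ₀ := by
    rw [hW, map_variableChange]; exact claimA
  set D : VariableChange (R' ⧸ J) := (C₀.map φ₀)⁻¹ * C'.map φ with hD
  have hDW : D • W = W := by
    rw [hD, mul_smul, e1, ← e2, inv_smul_smul]
  set I : Ideal (R' ⧸ J) := n'.map φ with hI
  have hII : ∀ x ∈ I, ∀ y ∈ I, x * y = 0 := by
    intro x hx y hy
    obtain ⟨a, ha, rfl⟩ := (Ideal.mem_map_iff_of_surjective φ Ideal.Quotient.mk_surjective).1 hx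
    obtain ⟨b, hb, rfl⟩ := (Ideal.mem_map_iff_of_surjective φ Ideal.Quotient.mk_surjective).1 hy
    rw [← map_mul]
    exact Ideal.Quotient.eq_zero_iff_mem.2 (Ideal.mem_sup_right (Ideal.mul_mem_mul ha hb))
  set π : (R' ⧸ J) →+* (R' ⧸ J) ⧸ I := Ideal.Quotient.mk I with hπ
  have hπeq : ∀ (x : R') (a : R), x - alg a ∈ n' → π (φ x) = π (φ₀ a) := by
    intro x a h
    refine Ideal.Quotient.eq.2 ?_
    have : φ x - φ₀ a = φ (x - alg a) := by rw [map_sub]; rfl
    rw [this]
    exact Ideal.mem_map_of_mem φ h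
  have hπC : (C'.map φ).map π = (C₀.map φ₀).map π := by
    ext
    · show π (φ (C'.u : R')) = π (φ₀ (C₀.u : R))
      rw [hC₀u]; exact hπeq _ _ hu₀
    · show π (φ C'.r) = π (φ₀ C₀.r)
      rw [hC₀r]; exact hπeq _ _ hr₀
    · show π (φ C'.s) = π (φ₀ C₀.s)
      rw [hC₀s]; exact hπeq _ _ hs₀
    · show π (φ C'.t) = π (φ₀ C₀.t)
      rw [hC₀t]; exact hπeq _ _ ht₀
  have hπD : D.map π = 1 := by
    have h1 : D.map π = VariableChange.mapHom π D := rfl
    rw [h1, hD, map_mul, map_inv]
    show ((C₀.map φ₀).map π)⁻¹ * (C'.map φ).map π = 1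
    rw [hπC, inv_mul_cancel]
  have hDu : (D.u : R' ⧸ J) - 1 ∈ I := by
    have := congrArg (fun C : VariableChange ((R' ⧸ J) ⧸ I) => (C.u : (R' ⧸ J) ⧸ I)) hπD
    simp only [VariableChange.map_u, Units.coe_map, MonoidHom.coe_coe] at this
    have h1 : π (D.u : R' ⧸ J) = π 1 := by rw [map_one]; exact this
    exact Ideal.Quotient.eq.1 h1
  have hDr : D.r ∈ I := by
    have := congrArg VariableChange.r hπD
    exact Ideal.Quotient.eq_zero_iff_mem.1 this
  have hDs : D.s ∈ I := by
    have := congrArg VariableChange.s hπD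
    exact Ideal.Quotient.eq_zero_iff_mem.1 this
  have hDt : D.t ∈ I := by
    have := congrArg VariableChange.t hπD
    exact Ideal.Quotient.eq_zero_iff_mem.1 this
  have hΔW : IsUnit W.Δ := by
    rw [hW, map_Δ]; exact hΔ₁.map φ₀
  have hD1 : D = 1 := rigid W hΔW D hDW I hII hDu hDr hDs hDt
  have hCC : C'.map φ = C₀.map φ₀ := by
    rw [hD] at hD1
    exact (inv_mul_eq_one.1 hD1).symm
  -- components of `C'` lie in `R + J`
  have hJmem : ∀ (x : R') (a : R), φ x = φ₀ a → x - alg a ∈ J := fun x a h =>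
    Ideal.Quotient.eq.1 h
  have ju : (C'.u : R') - alg u₀ ∈ J := by
    refine hJmem _ _ ?_
    have := congrArg (fun C : VariableChange (R' ⧸ J) => (C.u : R' ⧸ J)) hCC
    simp only [VariableChange.map_u, Units.coe_map, MonoidHom.coe_coe] at this
    rw [this, hC₀u]
  have jr : C'.r - alg r₀ ∈ J := by
    refine hJmem _ _ ?_
    have := congrArg VariableChange.r hCC
    simp only [VariableChange.map_r] at this
    rw [this, hC₀r]
  have js : C'.s - alg s₀ ∈ J := by
    refine hJmem _ _ ?_
    have := congrArg VariableChange.s hCC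
    simp only [VariableChange.map_s] at this
    rw [this, hC₀s]
  have jt : C'.t - alg t₀ ∈ J := by
    refine hJmem _ _ ?_
    have := congrArg VariableChange.t hCC
    simp only [VariableChange.map_t] at this
    rw [this, hC₀t]
  obtain ⟨v₀, hv₀⟩ := hu₀u.exists_right_inv
  have jv : ((C'.u⁻¹ : R'ˣ) : R') - alg v₀ ∈ J := by
    have huv : (C'.u : R') * ((C'.u⁻¹ : R'ˣ) : R') = 1 := C'.u.mul_inv
    have hv' : alg u₀ * alg v₀ = 1 := by rw [← map_mul, hv₀, map_one]
    have : ((C'.u⁻¹ : R'ˣ) : R') - alg v₀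
        = (-(((C'.u⁻¹ : R'ˣ) : R') * alg v₀)) * ((C'.u : R') - alg u₀) := by
      linear_combination (alg v₀) * huv - ((C'.u⁻¹ : R'ˣ) : R') * hv'
    rw [this]
    exact J.mul_mem_left _ ju
  -- the subalgebra `R + J`
  let S : Subalgebra R R' :=
    { carrier := {x | ∃ a : R, x - alg a ∈ J}
      mul_mem' := by
        rintro x y ⟨a, ha⟩ ⟨b, hb⟩
        refine ⟨a * b, ?_⟩
        have : x * y - alg (a * b) = x * (y - alg b) + alg b * (x - alg a) := by
          rw [map_mul]; ring
        rw [this]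
        exact J.add_mem (J.mul_mem_left _ hb) (J.mul_mem_left _ ha)
      add_mem' := by
        rintro x y ⟨a, ha⟩ ⟨b, hb⟩
        refine ⟨a + b, ?_⟩
        have : x + y - alg (a + b) = (x - alg a) + (y - alg b) := by
          rw [map_add]; ring
        rw [this]
        exact J.add_mem ha hb
      algebraMap_mem' := fun a => ⟨a, by
        show alg a - alg a ∈ J
        rw [sub_self]; exact J.zero_mem⟩ }
  have hS : ∀ x : R', ∃ a : R, x - alg a ∈ J := by
    intro x
    have hle : Algebra.adjoin R ({(C'.u : R'), ((C'.u⁻¹ : R'ˣ) : R'), C'.r, C'.s, C'.t} : Set R')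
        ≤ S := by
      refine Algebra.adjoin_le ?_
      intro y hy
      simp only [Set.mem_insert_iff, Set.mem_singleton_iff] at hy
      rcases hy with rfl | rfl | rfl | rfl | rfl
      · exact ⟨u₀, ju⟩
      · exact ⟨v₀, jv⟩
      · exact ⟨r₀, jr⟩
      · exact ⟨s₀, js⟩
      · exact ⟨t₀, jt⟩
    rw [hgen] at hle
    exact hle (Algebra.mem_top (x := x))
  -- first Nakayama: `n' ≤ m R'`
  have : IsNoetherianRing R' := IsNoetherianRing.of_finite R R'
  have hn'J : n' ≤ m.map alg ⊔ n' • n' := by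
    intro x hx
    obtain ⟨a, ha⟩ := hS x
    have h1 : alg a ∈ n' := by
      have h4 : alg a = x - (x - alg a) := by ring
      rw [h4]
      exact n'.sub_mem hx (hJn ha)
    have h2 : a ∈ m := mem_of_algebraMap_mem (R' := R') _ h1
    have h3 : alg a ∈ J := Ideal.mem_sup_left (Ideal.mem_map_of_mem alg h2)
    have : x = (x - alg a) + alg a := by ring
    rw [this, smul_eq_mul]
    exact J.add_mem ha h3
  have hn'm : n' ≤ m.map alg :=
    Submodule.le_of_le_smul_of_le_jacobson_bot (IsNoetherian.noetherian n')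
      (IsLocalRing.maximalIdeal_le_jacobson _) hn'J
  -- second Nakayama
  have htop : (⊤ : Submodule R R') ≤ LinearMap.range (Algebra.linearMap R R') := by
    refine Submodule.le_of_le_smul_of_le_jacobson_bot (I := m) Module.Finite.fg_top
      (IsLocalRing.maximalIdeal_le_jacobson _) ?_
    intro x _
    obtain ⟨a, ha⟩ := hS x
    have h1 : x - alg a ∈ m.map alg := hn'm (hJn ha)
    have h2 : x - alg a ∈ m • (⊤ : Submodule R R') := by
      rw [Ideal.smul_top_eq_map]; exact h1
    have : x = alg a + (x - alg a) := by ring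
    rw [this]
    exact Submodule.add_mem_sup ⟨a, rfl⟩ h2
  intro x
  obtain ⟨a, ha⟩ := htop (Submodule.mem_top (x := x))
  exact ⟨a, ha⟩

end core

section main

theorem main (R : Type u) [CommRing R] [IsDomain R] [IsNoetherianRing R] [IsLocalRing R]
    [IsAdicComplete (maximalIdeal R) R] [IsAlgClosed (ResidueField R)]
    (W₁ W₂ : WeierstrassCurve R) [W₁.IsElliptic] [W₂.IsElliptic] (hj : W₁.j = W₂.j) :
    ∃ C : VariableChange R, C • W₁ = W₂ := by
  let K := FractionRing R
  let Ω := AlgebraicClosure K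
  have hinj : Function.Injective (algebraMap R Ω) := by
    rw [IsScalarTower.algebraMap_eq R K Ω]
    exact (algebraMap K Ω).injective.comp (IsFractionRing.injective R K)
  have hjΩ : (W₁.map (algebraMap R Ω)).j = (W₂.map (algebraMap R Ω)).j := by
    rw [map_j, map_j, hj]
  obtain ⟨C, hC⟩ := exists_variableChange_of_j_eq _ _ hjΩ
  obtain ⟨hu, hv, hr, hs, ht⟩ := integral_components W₁ W₂ W₁.isUnit_Δ W₂.isUnit_Δ C hC
  obtain ⟨s, hs_def⟩ : ∃ s : Set Ω, s = {(C.u : Ω), ((C.u⁻¹ : Ωˣ) : Ω), C.r, C.s, C.t} := ⟨_, rfl⟩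
  have hsfin : s.Finite := by rw [hs_def]; simp
  have hsint : ∀ x ∈ s, IsIntegral R x := by
    intro x hx
    rw [hs_def] at hx
    simp only [Set.mem_insert_iff, Set.mem_singleton_iff] at hx
    rcases hx with rfl | rfl | rfl | rfl | rfl <;> assumption
  have memu : (C.u : Ω) ∈ Algebra.adjoin R s := Algebra.subset_adjoin (by rw [hs_def]; simp)
  have memv : ((C.u⁻¹ : Ωˣ) : Ω) ∈ Algebra.adjoin R s :=
    Algebra.subset_adjoin (by rw [hs_def]; simp)
  have memr : C.r ∈ Algebra.adjoin R s := Algebra.subset_adjoin (by rw [hs_def]; simp)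
  have mems : C.s ∈ Algebra.adjoin R s := Algebra.subset_adjoin (by rw [hs_def]; simp)
  have memt : C.t ∈ Algebra.adjoin R s := Algebra.subset_adjoin (by rw [hs_def]; simp)
  haveI : Module.Finite R (Algebra.adjoin R s) :=
    Module.Finite.iff_fg.2 (fg_adjoin_of_finite hsfin hsint)
  haveI : HenselianLocalRing R := henselianLocalRing_of_complete R
  haveI : IsLocalRing (Algebra.adjoin R s) :=
    Groth.Agent.S1964.isLocalRing_of_finite_domain R (Algebra.adjoin R s)
  have hinj' : Function.Injective (algebraMap R (Algebra.adjoin R s)) := fun a b h =>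
    hinj (congrArg Subtype.val h)
  haveI : FaithfulSMul R (Algebra.adjoin R s) := (faithfulSMul_iff_algebraMap_injective _ _).2 hinj'
  haveI : IsLocalHom (algebraMap R (Algebra.adjoin R s)) := Algebra.IsIntegral.isLocalHom _ _
  obtain ⟨C', hC'def⟩ : ∃ C' : VariableChange (Algebra.adjoin R s),
      C' = ⟨⟨⟨(C.u : Ω), memu⟩, ⟨((C.u⁻¹ : Ωˣ) : Ω), memv⟩, Subtype.ext C.u.mul_inv,
        Subtype.ext C.u.inv_mul⟩, ⟨C.r, memr⟩, ⟨C.s, mems⟩, ⟨C.t, memt⟩⟩ := ⟨_, rfl⟩
  have hC'map : C'.map ((Algebra.adjoin R s).val : Algebra.adjoin R s →+* Ω) = C := by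
    rw [hC'def]; ext <;> rfl
  have hC' : C' • W₁.map (algebraMap R (Algebra.adjoin R s))
      = W₂.map (algebraMap R (Algebra.adjoin R s)) := by
    apply WeierstrassCurve.map_injective
      (f := ((Algebra.adjoin R s).val : Algebra.adjoin R s →+* Ω)) Subtype.val_injective
    show (C' • W₁.map (algebraMap R (Algebra.adjoin R s))).map
        ((Algebra.adjoin R s).val : Algebra.adjoin R s →+* Ω)
      = (W₂.map (algebraMap R (Algebra.adjoin R s))).map
        ((Algebra.adjoin R s).val : Algebra.adjoin R s →+* Ω)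
    rw [← map_variableChange, WeierstrassCurve.map_map, WeierstrassCurve.map_map, hC'map]
    exact hC
  have hgen : Algebra.adjoin R ({(C'.u : Algebra.adjoin R s),
      ((C'.u⁻¹ : (Algebra.adjoin R s)ˣ) : Algebra.adjoin R s), C'.r, C'.s, C'.t}
        : Set (Algebra.adjoin R s)) = ⊤ := by
    rw [eq_top_iff, ← Algebra.adjoin_adjoin_coe_preimage (R := R) (s := s)]
    refine Algebra.adjoin_mono ?_
    intro x hx
    have hx'' : (x : Ω) ∈ s := hx
    have hx' := (Set.ext_iff.1 hs_def (x : Ω)).1 hx''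
    simp only [Set.mem_insert_iff, Set.mem_singleton_iff] at hx' ⊢
    rw [hC'def]
    rcases hx' with h | h | h | h | h
    · left; exact Subtype.ext h
    · right; left; exact Subtype.ext h
    · right; right; left; exact Subtype.ext h
    · right; right; right; left; exact Subtype.ext h
    · right; right; right; right; exact Subtype.ext h
  have hsurj := core W₁ W₂ W₁.isUnit_Δ C' hC' hgen
  let e : R ≃+* Algebra.adjoin R s := RingEquiv.ofBijective (algebraMap R (Algebra.adjoin R s))
    ⟨hinj', hsurj⟩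
  have hcomp : (e.symm : Algebra.adjoin R s →+* R).comp (algebraMap R (Algebra.adjoin R s))
      = RingHom.id R := by
    ext a
    exact e.symm_apply_apply a
  refine ⟨C'.map (e.symm : Algebra.adjoin R s →+* R), ?_⟩
  have h1 : (C' • W₁.map (algebraMap R (Algebra.adjoin R s))).map
      (e.symm : Algebra.adjoin R s →+* R)
      = (W₂.map (algebraMap R (Algebra.adjoin R s))).map (e.symm : Algebra.adjoin R s →+* R) := by
    rw [hC']
  rw [← map_variableChange, WeierstrassCurve.map_map, WeierstrassCurve.map_map, hcomp,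
    WeierstrassCurve.map_id, WeierstrassCurve.map_id] at h1
  exact h1

end main

end Groth.Agent.H73.EllLift
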