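import Mathlib
import Groth.Agent.S1964

/-! Rigidity of automorphisms of Weierstrass curves with unit discriminant (explicit certificate),
integrality of the coefficients of a change of variables. -/

set_option autoImplicit false
set_option linter.unusedVariables false

namespace Groth.Agent.H73.EllRigid

open WeierstrassCurve

section cert
variable {T : Type*} [CommRing T]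

lemma lin_cert (W : WeierstrassCurve T) (eu er es et : T)
    (hL1 : W.a₁ * eu - 2 * es = 0) (hL2 : 2 * W.a₂ * eu - 3 * er + W.a₁ * es = 0)
    (hL3 : 3 * W.a₃ * eu - W.a₁ * er - 2 * et = 0)
    (hL4 : 4 * W.a₄ * eu - 2 * W.a₂ * er + W.a₃ * es + W.a₁ * et = 0)
    (hL6 : 6 * W.a₆ * eu - W.a₄ * er + W.a₃ * et = 0) :
    W.Δ * eu = 0 ∧ W.Δ * er = 0 ∧ W.Δ * es = 0 ∧ W.Δ * et = 0 := by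
  obtain ⟨a₁, a₂, a₃, a₄, a₆⟩ := W
  simp only [WeierstrassCurve.Δ, WeierstrassCurve.b₂, WeierstrassCurve.b₄, WeierstrassCurve.b₆,
    WeierstrassCurve.b₈] at *
  refine ⟨?_, ?_, ?_, ?_⟩
  · linear_combination (-a₁^5*a₆ + a₁^4*a₃*a₄ - a₁^3*a₂*a₃^2 - 8*a₁^3*a₂*a₆ + a₁^3*a₄^2 + 4*a₁^2*a₂*a₃*a₄ + a₁^2*a₃^3 + 12*a₁^2*a₃*a₆ - 4*a₁*a₂^2*a₃^2 - 16*a₁*a₂^2*a₆ + 4*a₁*a₂*a₄^2 - 5*a₁*a₃^2*a₄ + 12*a₁*a₄*a₆ + 6*a₂*a₃^3 + 24*a₂*a₃*a₆ - 8*a₃*a₄^2) * hL1 + (-2*a₁^4*a₆ + 2*a₁^3*a₃*a₄ - 2*a₁^2*a₂*a₃^2 - 16*a₁^2*a₂*a₆ + 2*a₁^2*a₄^2 + 8*a₁*a₂*a₃*a₄ + 3*a₁*a₃^3 + 12*a₁*a₃*a₆ - 8*a₂^2*a₃^2 - 32*a₂^2*a₆ + 8*a₂*a₄^2 + 6*a₃^2*a₄ + 24*a₄*a₆) * hL2 + (6*a₁^3*a₆ - 7*a₁^2*a₃*a₄ + 8*a₁*a₂*a₃^2 + 24*a₁*a₂*a₆ - 8*a₁*a₄^2 + 4*a₂*a₃*a₄ - 9*a₃^3 - 36*a₃*a₆) * hL3 + (-a₁^2*a₃^2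 + 12*a₁^2*a₆ - 16*a₁*a₃*a₄ + 12*a₂*a₃^2 + 48*a₂*a₆ - 16*a₄^2) * hL4 + (a₁^3*a₃ + 2*a₁^2*a₄ + 4*a₁*a₂*a₃ + 8*a₂*a₄ - 18*a₃^2 - 72*a₆) * hL6
  · linear_combination (-3*a₁^4*a₃*a₆ + 3*a₁^3*a₃^2*a₄ + 4*a₁^3*a₄*a₆ - 3*a₁^2*a₂*a₃^3 - 8*a₁^2*a₂*a₃*a₆ - 3*a₁^2*a₃*a₄^2 + 4*a₁*a₂*a₃^2*a₄ + 16*a₁*a₂*a₄*a₆ + 3*a₁*a₃^4 + 30*a₁*a₃^2*a₆ - 8*a₁*a₄^3 + 72*a₁*a₆^2 + 4*a₂^2*a₃^3 + 16*a₂^2*a₃*a₆ + 4*a₂*a₃*a₄^2 - 21*a₃^3*a₄ - 84*a₃*a₄*a₆) * hL1 + (-8*a₁^3*a₃*a₆ + 6*a₁^2*a₃^2*a₄ + 8*a₁^2*a₄*a₆ - 8*a₁*a₂*a₃^3 - 32*a₁*a₂*a₃*a₆ - 8*a₁*a₃*a₄^2 + 8*a₂*a₃^2*a₄ + 32*a₂*a₄*a₆ + 9*a₃^4 + 72*a₃^2*a₆ - 16*a₄^3 + 144*a₆^2) * hL2 + (a₁^5*a₆ - a₁^4*a₃*a₄ + a₁^3*a₂*a₃^2 + 8*a₁^3*a₂*a₆ + a₁^3*a₄^2 - 8*a₁^2*a₂*a₃*a₄ - a₁^2*a₃^3 - 12*a₁^2*a₃*a₆ + 4*a₁*a₂^2*a₃^2 + 16*a₁*a₂^2*a₆ +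 4*a₁*a₂*a₄^2 + 11*a₁*a₃^2*a₄ - 84*a₁*a₄*a₆ - 16*a₂^2*a₃*a₄ - 6*a₂*a₃^3 - 24*a₂*a₃*a₆ + 56*a₃*a₄^2) * hL3 + (2*a₁^4*a₆ + 2*a₁^2*a₂*a₃^2 + 16*a₁^2*a₂*a₆ + 2*a₁^2*a₄^2 - 3*a₁*a₃^3 - 12*a₁*a₃*a₆ + 8*a₂^2*a₃^2 + 32*a₂^2*a₆ + 8*a₂*a₄^2 - 42*a₃^2*a₄ - 168*a₄*a₆) * hL4 + (-2*a₁^4*a₄ - 16*a₁^2*a₂*a₄ + a₁^2*a₃^2 - 12*a₁^2*a₆ + 64*a₁*a₃*a₄ - 32*a₂^2*a₄ - 12*a₂*a₃^2 - 48*a₂*a₆ + 112*a₄^2) * hL6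
  · linear_combination (2*a₁^4*a₂*a₆ - 2*a₁^3*a₂*a₃*a₄ - 21*a₁^3*a₃*a₆ + 2*a₁^2*a₂^2*a₃^2 + 16*a₁^2*a₂^2*a₆ - 2*a₁^2*a₂*a₄^2 + 23*a₁^2*a₃^2*a₄ - 30*a₁^2*a₄*a₆ - 8*a₁*a₂^2*a₃*a₄ - 27*a₁*a₂*a₃^3 - 96*a₁*a₂*a₃*a₆ + 56*a₁*a₃*a₄^2 + 8*a₂^3*a₃^2 + 32*a₂^3*a₆ - 8*a₂^2*a₄^2 - 42*a₂*a₃^2*a₄ - 144*a₂*a₄*a₆ + 27*a₃^4 + 162*a₃^2*a₆ + 32*a₄^3 + 216*a₆^2) * hL1 + (-a₁^5*a₆ + a₁^4*a₃*a₄ - a₁^3*a₂*a₃^2 - 8*a₁^3*a₂*a₆ + a₁^3*a₄^2 + 4*a₁^2*a₂*a₃*a₄ + 3*a₁^2*a₃^3 - 12*a₁^2*a₃*a₆ - 4*a₁*a₂^2*a₃^2 - 16*a₁*a₂^2*a₆ + 4*a₁*a₂*a₄^2 + 27*a₁*a₃^2*a₄ + 12*a₁*a₄*a₆ - 18*a₂*a₃^3 - 72*a₂*a₃*a₆ + 24*a₃*a₄^2) * hL2 + (3*a₁^4*a₆ - 5*a₁^3*a₃*a₄ + 7*a₁^2*a₂*a₃^2 + 12*a₁^2*a₂*a₆ - 4*a₁^2*a₄^2 - 4*a₁*a₂*a₃*a₄ - 9*a₁*a₃^3 + 36*a₁*a₃*a₆ + 12*a₂^2*a₃^2 - 36*a₃^2*a₄) * hL3 + (-2*a₁^3*a₃^2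 + 6*a₁^3*a₆ - 11*a₁^2*a₃*a₄ + 24*a₁*a₂*a₆ - 8*a₁*a₄^2 - 12*a₂*a₃*a₄ + 27*a₃^3 + 108*a₃*a₆) * hL4 + (2*a₁^4*a₃ + a₁^3*a₄ + 14*a₁^2*a₂*a₃ + 4*a₁*a₂*a₄ - 45*a₁*a₃^2 - 36*a₁*a₆ + 24*a₂^2*a₃ - 72*a₃*a₄) * hL6
  · linear_combination (4*a₁^4*a₄*a₆ - 8*a₁^3*a₂*a₃*a₆ - 4*a₁^3*a₃*a₄^2 + 12*a₁^2*a₂*a₃^2*a₄ + 16*a₁^2*a₂*a₄*a₆ + 3*a₁^2*a₃^2*a₆ - 4*a₁^2*a₄^3 - 36*a₁^2*a₆^2 - 8*a₁*a₂^2*a₃^3 - 32*a₁*a₂^2*a₃*a₆ + 8*a₁*a₂*a₃*a₄^2 - 6*a₁*a₃^3*a₄ + 24*a₁*a₃*a₄*a₆ + 9*a₂*a₃^4 + 36*a₂*a₃^2*a₆ - 12*a₃^2*a₄^2) * hL1 + (a₁^4*a₃*a₆ - a₁^3*a₃^2*a₄ + 8*a₁^3*a₄*a₆ + a₁^2*a₂*a₃^3 - 8*a₁^2*a₂*a₃*a₆ - 9*a₁^2*a₃*a₄^2 + 20*a₁*a₂*a₃^2*a₄ + 32*a₁*a₂*a₄*a₆ - 18*a₁*a₃^2*a₆ - 8*a₁*a₄^3 - 72*a₁*a₆^2 - 12*a₂^2*a₃^3 - 48*a₂^2*a₃*a₆ + 12*a₂*a₃*a₄^2 + 9*a₃^3*a₄ + 36*a₃*a₄*a₆) * hL2 +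 (2*a₁^4*a₂*a₆ - 2*a₁^3*a₂*a₃*a₄ - 3*a₁^3*a₃*a₆ + 2*a₁^2*a₂^2*a₃^2 + 16*a₁^2*a₂^2*a₆ - 2*a₁^2*a₂*a₄^2 + 2*a₁^2*a₃^2*a₄ - 30*a₁^2*a₄*a₆ - 8*a₁*a₂^2*a₃*a₄ - 3*a₁*a₂*a₃^3 - 24*a₁*a₂*a₃*a₆ + 32*a₁*a₃*a₄^2 + 8*a₂^3*a₃^2 + 32*a₂^3*a₆ - 8*a₂^2*a₄^2 - 30*a₂*a₃^2*a₄ - 144*a₂*a₄*a₆ + 54*a₃^2*a₆ + 32*a₄^3 + 216*a₆^2) * hL3 + (-a₁^5*a₆ + a₁^4*a₃*a₄ - a₁^3*a₂*a₃^2 - 8*a₁^3*a₂*a₆ + a₁^3*a₄^2 + 4*a₁^2*a₂*a₃*a₄ + 24*a₁^2*a₃*a₆ - 4*a₁*a₂^2*a₃^2 - 16*a₁*a₂^2*a₆ + 4*a₁*a₂*a₄^2 - 21*a₁*a₃^2*a₄ + 12*a₁*a₄*a₆ + 18*a₂*a₃^3 + 72*a₂*a₃*a₆ - 24*a₃*a₄^2) * hL4 + (a₁^3*a₃^2 + 6*a₁^3*a₆ - 5*a₁^2*a₃*a₄ + 12*a₁*a₂*a₃^2 + 24*a₁*a₂*a₆ - 8*a₁*a₄^2 + 12*a₂*a₃*a₄ - 27*a₃^3 - 108*a₃*a₆) * hL6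

end cert

section rigid
variable {T : Type*} [CommRing T]

/-- An automorphism of a Weierstrass curve with unit discriminant which is the identity modulo a
square-zero ideal is the identity. -/
theorem rigid (W : WeierstrassCurve T) (hΔ : IsUnit W.Δ) (D : VariableChange T) (hD : D • W = W)
    (I : Ideal T) (hI : ∀ x ∈ I, ∀ y ∈ I, x * y = 0)
    (hu : (D.u : T) - 1 ∈ I) (hr : D.r ∈ I) (hs : D.s ∈ I) (ht : D.t ∈ I) : D = 1 := by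
  obtain ⟨eu, heu⟩ : ∃ eu : T, (D.u : T) = 1 + eu := ⟨(D.u : T) - 1, by ring⟩
  have hu' : eu ∈ I := by
    have : eu = (D.u : T) - 1 := by rw [heu]; ring
    rw [this]; exact hu
  have puu := hI _ hu' _ hu'
  have prr := hI _ hr _ hr
  have pss := hI _ hs _ hs
  have ptt := hI _ ht _ ht
  have prs := hI _ hr _ hs
  have prt := hI _ hr _ ht
  have pst := hI _ hs _ ht
  have huv : (D.u : T) * ((D.u⁻¹ : Tˣ) : T) = 1 := D.u.mul_inv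
  have k2 : (D.u : T) ^ 2 * ((D.u⁻¹ : Tˣ) : T) ^ 2 = 1 := by rw [← mul_pow, huv, one_pow]
  have k3 : (D.u : T) ^ 3 * ((D.u⁻¹ : Tˣ) : T) ^ 3 = 1 := by rw [← mul_pow, huv, one_pow]
  have k4 : (D.u : T) ^ 4 * ((D.u⁻¹ : Tˣ) : T) ^ 4 = 1 := by rw [← mul_pow, huv, one_pow]
  have k6 : (D.u : T) ^ 6 * ((D.u⁻¹ : Tˣ) : T) ^ 6 = 1 := by rw [← mul_pow, huv, one_pow]
  have h1 := congrArg WeierstrassCurve.a₁ hD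
  have h2 := congrArg WeierstrassCurve.a₂ hD
  have h3 := congrArg WeierstrassCurve.a₃ hD
  have h4 := congrArg WeierstrassCurve.a₄ hD
  have h6 := congrArg WeierstrassCurve.a₆ hD
  rw [variableChange_a₁] at h1
  rw [variableChange_a₂] at h2
  rw [variableChange_a₃] at h3
  rw [variableChange_a₄] at h4
  rw [variableChange_a₆] at h6
  have X1 : W.a₁ + 2 * D.s = (1 + eu) * W.a₁ := by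
    rw [← heu]; linear_combination (D.u : T) * h1 - (W.a₁ + 2 * D.s) * huv
  have X2 : W.a₂ - D.s * W.a₁ + 3 * D.r - D.s ^ 2 = (1 + eu) ^ 2 * W.a₂ := by
    rw [← heu]
    linear_combination (D.u : T) ^ 2 * h2 - (W.a₂ - D.s * W.a₁ + 3 * D.r - D.s ^ 2) * k2
  have X3 : W.a₃ + D.r * W.a₁ + 2 * D.t = (1 + eu) ^ 3 * W.a₃ := by
    rw [← heu]
    linear_combination (D.u : T) ^ 3 * h3 - (W.a₃ + D.r * W.a₁ + 2 * D.t) * k3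
  have X4 : W.a₄ - D.s * W.a₃ + 2 * D.r * W.a₂ - (D.t + D.r * D.s) * W.a₁ + 3 * D.r ^ 2
      - 2 * D.s * D.t = (1 + eu) ^ 4 * W.a₄ := by
    rw [← heu]
    linear_combination (D.u : T) ^ 4 * h4 - (W.a₄ - D.s * W.a₃ + 2 * D.r * W.a₂
      - (D.t + D.r * D.s) * W.a₁ + 3 * D.r ^ 2 - 2 * D.s * D.t) * k4
  have X6 : W.a₆ + D.r * W.a₄ + D.r ^ 2 * W.a₂ + D.r ^ 3 - D.t * W.a₃ - D.t ^ 2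
      - D.r * D.t * W.a₁ = (1 + eu) ^ 6 * W.a₆ := by
    rw [← heu]
    linear_combination (D.u : T) ^ 6 * h6 - (W.a₆ + D.r * W.a₄ + D.r ^ 2 * W.a₂ + D.r ^ 3
      - D.t * W.a₃ - D.t ^ 2 - D.r * D.t * W.a₁) * k6
  have hL1 : W.a₁ * eu - 2 * D.s = 0 := by linear_combination -X1
  have hL2 : 2 * W.a₂ * eu - 3 * D.r + W.a₁ * D.s = 0 := by
    linear_combination -X2 - W.a₂ * puu - pss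
  have hL3 : 3 * W.a₃ * eu - W.a₁ * D.r - 2 * D.t = 0 := by
    linear_combination -X3 - (W.a₃ * eu + 3 * W.a₃) * puu
  have hL4 : 4 * W.a₄ * eu - 2 * W.a₂ * D.r + W.a₃ * D.s + W.a₁ * D.t = 0 := by
    linear_combination -X4 - W.a₁ * prs - (W.a₄ * eu ^ 2 + 4 * W.a₄ * eu + 6 * W.a₄) * puu
      + 3 * prr - 2 * pst
  have hL6 : 6 * W.a₆ * eu - W.a₄ * D.r + W.a₃ * D.t = 0 := by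
    linear_combination -X6 - W.a₁ * prt + W.a₂ * prr
      - (W.a₆ * eu ^ 4 + 6 * W.a₆ * eu ^ 3 + 15 * W.a₆ * eu ^ 2 + 20 * W.a₆ * eu + 15 * W.a₆) * puu
      + D.r * prr - ptt
  obtain ⟨c1, c2, c3, c4⟩ := lin_cert W eu D.r D.s D.t hL1 hL2 hL3 hL4 hL6
  have e1 : eu = 0 := (hΔ.mul_right_eq_zero).1 c1
  have e2 : D.r = 0 := (hΔ.mul_right_eq_zero).1 c2
  have e3 : D.s = 0 := (hΔ.mul_right_eq_zero).1 c3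
  have e4 : D.t = 0 := (hΔ.mul_right_eq_zero).1 c4
  ext
  · rw [heu, e1, add_zero]; rfl
  · rw [e2]; rfl
  · rw [e3]; rfl
  · rw [e4]; rfl

end rigid

section integral
variable {A : Type*} [CommRing A] {Ω : Type*} [CommRing Ω] [Algebra A Ω]

lemma int2 (b c x : Ω) (hb : IsIntegral A b) (hc : IsIntegral A c) (h : x ^ 2 + b * x + c = 0) :
    IsIntegral A x := by
  let B := integralClosure A Ω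
  let b' : B := ⟨b, hb⟩
  let c' : B := ⟨c, hc⟩
  let p : Polynomial B := Polynomial.X ^ 2 + (Polynomial.C b' * Polynomial.X + Polynomial.C c')
  have hm : p.Monic := Polynomial.monic_X_pow_add (by
    refine lt_of_le_of_lt (b := ((1 : ℕ) : WithBot ℕ)) ?_ (by norm_num)
    compute_degree
    all_goals norm_num)
  refine isIntegral_trans (A := B) x ⟨p, hm, ?_⟩
  simp only [p, Polynomial.eval₂_add, Polynomial.eval₂_pow, Polynomial.eval₂_X, Polynomial.eval₂_mul,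
    Polynomial.eval₂_C]
  show x ^ 2 + (b * x + c) = 0
  linear_combination h

lemma int4 (c2 c1 c0 x : Ω) (h2 : IsIntegral A c2) (h1 : IsIntegral A c1) (h0 : IsIntegral A c0)
    (h : x ^ 4 + c2 * x ^ 2 + c1 * x + c0 = 0) : IsIntegral A x := by
  let B := integralClosure A Ω
  let c2' : B := ⟨c2, h2⟩
  let c1' : B := ⟨c1, h1⟩
  let c0' : B := ⟨c0, h0⟩
  let p : Polynomial B := Polynomial.X ^ 4 + (Polynomial.C c2' * Polynomial.X ^ 2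
    + Polynomial.C c1' * Polynomial.X + Polynomial.C c0')
  have hm : p.Monic := Polynomial.monic_X_pow_add (by
    refine lt_of_le_of_lt (b := ((2 : ℕ) : WithBot ℕ)) ?_ (by norm_num)
    compute_degree
    all_goals norm_num)
  refine isIntegral_trans (A := B) x ⟨p, hm, ?_⟩
  simp only [p, Polynomial.eval₂_add, Polynomial.eval₂_pow, Polynomial.eval₂_X, Polynomial.eval₂_mul,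
    Polynomial.eval₂_C]
  show x ^ 4 + (c2 * x ^ 2 + c1 * x + c0) = 0
  linear_combination h

/-- The coefficients of a change of variables between two Weierstrass curves with unit
discriminant defined over `A` are integral over `A`. -/
theorem integral_components (W₁ W₂ : WeierstrassCurve A) (hΔ₁ : IsUnit W₁.Δ) (hΔ₂ : IsUnit W₂.Δ)
    (C : VariableChange Ω)
    (hC : C • W₁.map (algebraMap A Ω) = W₂.map (algebraMap A Ω)) :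
    IsIntegral A (C.u : Ω) ∧ IsIntegral A ((C.u⁻¹ : Ωˣ) : Ω) ∧ IsIntegral A C.r ∧
      IsIntegral A C.s ∧ IsIntegral A C.t := by
  obtain ⟨d₁, hd₁⟩ := hΔ₁.exists_right_inv
  obtain ⟨d₂, hd₂⟩ := hΔ₂.exists_right_inv
  have hd₁' := congrArg (algebraMap A Ω) hd₁
  have hd₂' := congrArg (algebraMap A Ω) hd₂
  rw [map_mul, map_one] at hd₁' hd₂'
  have huv : (C.u : Ω) * ((C.u⁻¹ : Ωˣ) : Ω) = 1 := C.u.mul_inv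
  have k2 : (C.u : Ω) ^ 2 * ((C.u⁻¹ : Ωˣ) : Ω) ^ 2 = 1 := by rw [← mul_pow, huv, one_pow]
  have k6 : (C.u : Ω) ^ 6 * ((C.u⁻¹ : Ωˣ) : Ω) ^ 6 = 1 := by rw [← mul_pow, huv, one_pow]
  have k8 : (C.u : Ω) ^ 8 * ((C.u⁻¹ : Ωˣ) : Ω) ^ 8 = 1 := by rw [← mul_pow, huv, one_pow]
  have k12 : (C.u : Ω) ^ 12 * ((C.u⁻¹ : Ωˣ) : Ω) ^ 12 = 1 := by rw [← mul_pow, huv, one_pow]
  have hΔ := congrArg WeierstrassCurve.Δ hC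
  rw [variableChange_Δ, map_Δ, map_Δ] at hΔ
  have hu12 : (C.u : Ω) ^ 12 = algebraMap A Ω (W₁.Δ * d₂) := by
    rw [map_mul]
    linear_combination (-(C.u : Ω) ^ 12 * algebraMap A Ω d₂) * hΔ
      + (algebraMap A Ω W₁.Δ * algebraMap A Ω d₂) * k12 - (C.u : Ω) ^ 12 * hd₂'
  have hv12 : ((C.u⁻¹ : Ωˣ) : Ω) ^ 12 = algebraMap A Ω (W₂.Δ * d₁) := by
    rw [map_mul]
    linear_combination (algebraMap A Ω d₁) * hΔ - ((C.u⁻¹ : Ωˣ) : Ω) ^ 12 * hd₁'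
  have hu : IsIntegral A (C.u : Ω) :=
    IsIntegral.of_pow (by norm_num : 0 < 12) (hu12 ▸ isIntegral_algebraMap)
  have hv : IsIntegral A ((C.u⁻¹ : Ωˣ) : Ω) :=
    IsIntegral.of_pow (by norm_num : 0 < 12) (hv12 ▸ isIntegral_algebraMap)
  have hb6 := congrArg WeierstrassCurve.b₆ hC
  have hb8 := congrArg WeierstrassCurve.b₈ hC
  rw [variableChange_b₆, map_b₆, map_b₆, map_b₄, map_b₂] at hb6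
  rw [variableChange_b₈, map_b₈, map_b₈, map_b₆, map_b₄, map_b₂] at hb8
  have ha2 := congrArg WeierstrassCurve.a₂ hC
  have ha6 := congrArg WeierstrassCurve.a₆ hC
  rw [variableChange_a₂] at ha2
  rw [variableChange_a₆] at ha6
  simp only [map_a₁, map_a₂, map_a₃, map_a₄, map_a₆] at ha2 ha6
  set φ := algebraMap A Ω with hφ
  have iφ : ∀ a : A, IsIntegral A (φ a) := fun a => isIntegral_algebraMap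
  have hr : IsIntegral A C.r := by
    refine int4 (-(φ W₁.b₄)) (-(φ (2 * W₁.b₆) + (C.u : Ω) ^ 6 * φ W₂.b₆))
      (-(φ W₁.b₈ - (C.u : Ω) ^ 8 * φ W₂.b₈)) C.r (iφ _).neg
      (((iφ _).add ((hu.pow 6).mul (iφ _))).neg)
      (((iφ _).sub ((hu.pow 8).mul (iφ _)))).neg ?_
    rw [map_mul, map_ofNat]
    linear_combination (C.r * (C.u : Ω) ^ 6) * hb6 - (C.u : Ω) ^ 8 * hb8
      - (C.r * (φ W₁.b₆ + 2 * C.r * φ W₁.b₄ + C.r ^ 2 * φ W₁.b₂ + 4 * C.r ^ 3)) * k6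
      + (φ W₁.b₈ + 3 * C.r * φ W₁.b₆ + 3 * C.r ^ 2 * φ W₁.b₄ + C.r ^ 3 * φ W₁.b₂ + 3 * C.r ^ 4) * k8
  have hs : IsIntegral A C.s := by
    refine int2 (φ W₁.a₁) (-(φ W₁.a₂ + φ 3 * C.r - (C.u : Ω) ^ 2 * φ W₂.a₂)) C.s (iφ _)
      ((((iφ _).add ((iφ _).mul hr)).sub ((hu.pow 2).mul (iφ _)))).neg ?_
    rw [map_ofNat]
    linear_combination (-(C.u : Ω) ^ 2) * ha2
      + (φ W₁.a₂ - C.s * φ W₁.a₁ + 3 * C.r - C.s ^ 2) * k2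
  have ht : IsIntegral A C.t := by
    refine int2 (φ W₁.a₃ + C.r * φ W₁.a₁) (-(φ W₁.a₆ + C.r * φ W₁.a₄ + C.r ^ 2 * φ W₁.a₂ + C.r ^ 3
      - (C.u : Ω) ^ 6 * φ W₂.a₆)) C.t ((iφ _).add (hr.mul (iφ _)))
      ((((((iφ _).add (hr.mul (iφ _))).add ((hr.pow 2).mul (iφ _))).add (hr.pow 3)).sub
        ((hu.pow 6).mul (iφ _)))).neg ?_
    linear_combination (-(C.u : Ω) ^ 6) * ha6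
      + (φ W₁.a₆ + C.r * φ W₁.a₄ + C.r ^ 2 * φ W₁.a₂ + C.r ^ 3 - C.t * φ W₁.a₃ - C.t ^ 2
        - C.r * C.t * φ W₁.a₁) * k6
  exact ⟨hu, hv, hr, hs, ht⟩

end integral

end Groth.Agent.H73.EllRigid
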