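import Groth.Prelude.Def_LefMon
import Groth.Agent.H4.HpullAPI
import Groth.Agent.H4.EtRestr

/-!
# Functoriality of the pullback maps `EtAdic.Hmap` on `H^i(X_et, Z/ℓ^ν)`
-/

set_option autoImplicit false
open CategoryTheory CategoryTheory.Limits AlgebraicGeometry Opposite Abelian

namespace Groth.Agent.H73.EtAdicComp

universe u

open EtCoh EtCore Groth.Agent.H4

variable {X Y Z : Scheme.{u}}

/-- The "sandwich" of an `Ext` class between two morphisms. -/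
noncomputable def sw {C : Type*} [Category C] [Abelian C] [HasExt C] {A' A B B' : C} {n : ℕ}
    (a : A' ⟶ A) (e : Ext A B n) (b : B ⟶ B') : Ext A' B' n :=
  ((Ext.mk₀ a).comp e (zero_add n)).comp (Ext.mk₀ b) (add_zero n)

section sw

variable {C : Type*} [Category C] [Abelian C] [HasExt C]

lemma sw_sw {A'' A' A B B' B'' : C} {n : ℕ} (a' : A'' ⟶ A') (a : A' ⟶ A) (e : Ext A B n)
    (b : B ⟶ B') (b' : B' ⟶ B'') :
    sw a' (sw a e b) b' = sw (a' ≫ a) e (b ≫ b') := by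
  unfold sw
  rw [← Ext.mk₀_comp_mk₀ a' a, ← Ext.mk₀_comp_mk₀ b b']
  simp only [Ext.comp_assoc_of_second_deg_zero, Ext.comp_assoc_of_third_deg_zero]

lemma sw_id {A B : C} {n : ℕ} (e : Ext A B n) : sw (𝟙 A) e (𝟙 B) = e := by
  unfold sw
  rw [Ext.mk₀_id_comp, Ext.comp_mk₀_id]

end sw

lemma sw_map {C D : Type*} [Category C] [Abelian C] [HasExt C] [Category D] [Abelian D] [HasExt D]
    (F : C ⥤ D) [F.Additive] [PreservesFiniteLimits F] [PreservesFiniteColimits F]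
    {A' A B B' : C} {n : ℕ} (a : A' ⟶ A) (e : Ext A B n) (b : B ⟶ B') :
    (sw a e b).mapExactFunctor F = sw (F.map a) (e.mapExactFunctor F) (F.map b) := by
  unfold sw
  rw [Ext.mapExactFunctor_comp, Ext.mapExactFunctor_comp, Ext.mapExactFunctor_mk₀,
    Ext.mapExactFunctor_mk₀]

lemma Hmap_apply (ℓ : ℕ) (f : X ⟶ Y) (hf : PreservesFiniteLimits (EtCoh.pull f)) (i ν : ℕ)
    (x : EtAdic.Hmod Y ℓ i ν) :
    EtAdic.Hmap ℓ f hf i ν x =
      sw (pullConst f ℤ).inv (x.mapExactFunctor (EtCoh.pull f)) (pullConst f (ZMod (ℓ ^ ν))).hom :=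
  rfl

/-- Functoriality of `EtAdic.Hmap`. -/
theorem Hmap_comp (ℓ : ℕ) (f : X ⟶ Y) (t : Y ⟶ Z) (f₀ : X ⟶ Z) (w : f ≫ t = f₀)
    (hf : PreservesFiniteLimits (EtCoh.pull f)) (ht : PreservesFiniteLimits (EtCoh.pull t))
    (hf₀ : PreservesFiniteLimits (EtCoh.pull f₀)) (i ν : ℕ) (x : EtAdic.Hmod Z ℓ i ν) :
    EtAdic.Hmap ℓ f₀ hf₀ i ν x = EtAdic.Hmap ℓ f hf i ν (EtAdic.Hmap ℓ t ht i ν x) := by
  subst w
  rw [Hmap_apply, Hmap_apply, Hmap_apply, sw_map, sw_sw]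
  have hC := MapExtNat.mapExactFunctor_comp_functor (EtCoh.pull t) (EtCoh.pull f) x
  rw [← hC]
  -- naturality with respect to `pullComp`
  have hN := MapExtNat.mapExactFunctor_naturality (pullComp f t).inv x
  have hinv := HpullAPI.pullConst_comp_inv f t ℤ
  have hhom : (pullConst (f ≫ t) (ZMod (ℓ ^ ν))).hom =
      (pullComp f t).hom.app (EtCoh.const Z (ZMod (ℓ ^ ν))) ≫
        (EtCoh.pull f).map (pullConst t (ZMod (ℓ ^ ν))).hom ≫ (pullConst f (ZMod (ℓ ^ ν))).hom :=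
    HpullAPI.pullConstIso_comp f t (AddCommGrpCat.of (ULift.{u+1} (ZMod (ℓ ^ ν))))
  rw [hinv, hhom]
  have key : sw ((pullComp f t).inv.app (EtCoh.const Z ℤ)) (x.mapExactFunctor (EtCoh.pull (f ≫ t)))
      ((pullComp f t).hom.app (EtCoh.const Z (ZMod (ℓ ^ ν)))) =
      x.mapExactFunctor (EtCoh.pull t ⋙ EtCoh.pull f) := by
    unfold sw
    rw [← hN, Ext.comp_assoc_of_third_deg_zero, Ext.mk₀_comp_mk₀, Iso.inv_hom_id_app,
      Ext.comp_mk₀_id]
  rw [← key, sw_sw]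
  simp only [Category.assoc]

end Groth.Agent.H73.EtAdicComp
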