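import Mathlib.AlgebraicGeometry.PullbackCarrier

set_option autoImplicit false

universe u

namespace Groth.Agent.H73

open CategoryTheory CategoryTheory.Limits AlgebraicGeometry AlgebraicGeometry.Scheme.Pullback

theorem existsUnique_point_of_bijective {X Y S : Scheme.{u}} (f : X ⟶ S) (g : Y ⟶ S) (x : X)
    (hx : Function.Bijective (f.residueFieldMap x).hom) [Subsingleton Y] (y : Y) (hy : f x = g y) :
    ∃! z : ↑(pullback f g), pullback.fst f g z = x := by
  obtain ⟨T₀, hT₀⟩ : ∃ T : Triplet f g, T = Triplet.mk' x y hy := ⟨_, rfl⟩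
  have hT₀x : T₀.x = x := by rw [hT₀]; rfl
  have hsub : Subsingleton (Spec T₀.tensor) := by
    subst hT₀
    have h1 : IsIso (f.residueFieldMap x) := (ConcreteCategory.isIso_iff_bijective _).mpr hx
    have h2 : IsIso ((S.residueFieldCongr (Triplet.mk' x y hy).hx).inv ≫
        f.residueFieldMap (Triplet.mk' x y hy).x) := by
      show IsIso ((S.residueFieldCongr (Triplet.mk' x y hy).hx).inv ≫ f.residueFieldMap x)
      exact @IsIso.comp_isIso _ _ _ _ _ _ _ (Iso.isIso_inv _) h1
    have h3 : IsIso (Triplet.mk' x y hy).tensorInr := by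
      unfold Triplet.tensorInr
      exact pushout_inr_iso_of_left_iso _ _
    have h4 : IsIso (Spec.map (Triplet.mk' x y hy).tensorInr) := inferInstance
    have : Subsingleton (Spec (Y.residueField (Triplet.mk' x y hy).y)) := by
      show Subsingleton (PrimeSpectrum (Y.residueField (Triplet.mk' x y hy).y))
      infer_instance
    exact (Scheme.homeoOfIso (asIso (Spec.map (Triplet.mk' x y hy).tensorInr))).injective.subsingleton
  have key : ∀ z : ↑(pullback f g), pullback.fst f g z = x →
      ∃ p : Spec T₀.tensor, z = carrierEquiv.symm ⟨T₀, p⟩ := by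
    intro z hz
    obtain ⟨⟨T, q⟩, hTq⟩ : ∃ w, carrierEquiv z = w := ⟨_, rfl⟩
    have hz' : z = carrierEquiv.symm ⟨T, q⟩ := by rw [← hTq, Equiv.symm_apply_apply]
    have hT : T = T₀ := by
      apply Triplet.ext
      · rw [hT₀x, ← hz, hz', carrierEquiv_symm_fst]
      · exact Subsingleton.elim _ _
    subst hT
    exact ⟨q, hz'⟩
  refine ⟨carrierEquiv.symm ⟨T₀, Nonempty.some inferInstance⟩, ?_, ?_⟩
  · show pullback.fst f g (carrierEquiv.symm ⟨T₀, _⟩) = x
    rw [carrierEquiv_symm_fst, hT₀x]
  · intro z hz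
    obtain ⟨p, rfl⟩ := key z hz
    congr 2
    exact Subsingleton.elim _ _

end Groth.Agent.H73
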