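import Mathlib

/-!
# Upper semicontinuity of fibre dimensions

For a finitely generated module `M` over a commutative ring `A`, the function
`x ↦ dim_{κ(x)} (κ(x) ⊗ M)` on `Spec A` is upper semicontinuous, and so is
`x ↦ dim_{κ(x)} ker (δ ⊗ κ(x))` for a linear map `δ : M → F` into a finite free module.
-/

set_option autoImplicit false
universe u v

namespace Groth.Agent.H73

open TensorProduct

section

variable {A : Type u} [CommRing A] {M : Type v} [AddCommGroup M] [Module A M] [Module.Finite A M]

/-- There is a finite family of elements of `M` whose images span `κ(x) ⊗ M` and whose cardinality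
is the dimension of that space. -/
theorem exists_fintype_map_baseChange_surjective (x : PrimeSpectrum A) :
    ∃ (ι : Type (max u v)) (_ : Fintype ι) (g : ι → M),
      Fintype.card ι = Module.finrank x.asIdeal.ResidueField (x.asIdeal.ResidueField ⊗[A] M) ∧
      Function.Surjective
        ((Fintype.linearCombination A g).baseChange x.asIdeal.ResidueField) := by
  classical
  set K := x.asIdeal.ResidueField with hK
  set s : Set (K ⊗[A] M) := TensorProduct.mk A K M 1 '' Set.univ with hs
  have hspan : Submodule.span K s = ⊤ := by
    rw [hs, ← Submodule.baseChange_span, Submodule.span_univ, Submodule.baseChange_top]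
  obtain ⟨b, hbs, hbspan, hli⟩ := exists_linearIndependent K s
  rw [hspan] at hbspan
  have hfin : b.Finite := hli.setFinite
  let _ : Fintype b := hfin.fintype
  have hch : ∀ v : b, ∃ m : M, (1 : K) ⊗ₜ[A] m = (v : K ⊗[A] M) := by
    intro v
    obtain ⟨m, -, hm⟩ := hbs v.2
    exact ⟨m, hm⟩
  choose g hg using hch
  refine ⟨b, inferInstance, g, ?_, ?_⟩
  · have hbasis := Module.finrank_eq_card_basis (Module.Basis.mk hli (by
      rw [Subtype.range_coe_subtype]; simpa using hbspan.ge))
    exact hbasis.symm
  · rw [← LinearMap.range_eq_top, eq_top_iff, ← hbspan, Submodule.span_le]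
    intro v hv
    refine ⟨(1 : K) ⊗ₜ[A] (Pi.single (⟨v, hv⟩ : b) (1 : A)), ?_⟩
    rw [LinearMap.baseChange_tmul, Fintype.linearCombination_apply_single, one_smul]
    exact hg ⟨v, hv⟩

/-- The fibre dimension of a finitely generated module can only drop in a neighbourhood. -/
theorem eventually_finrank_residueField_tensor_le (x : PrimeSpectrum A) :
    ∀ᶠ x' in nhds x,
      Module.finrank x'.asIdeal.ResidueField (x'.asIdeal.ResidueField ⊗[A] M) ≤
        Module.finrank x.asIdeal.ResidueField (x.asIdeal.ResidueField ⊗[A] M) := by
  classical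
  obtain ⟨ι, _, g, hcard, hsurj⟩ := exists_fintype_map_baseChange_surjective (M := M) x
  set φ : (ι → A) →ₗ[A] M := Fintype.linearCombination A g with hφ
  set Q := M ⧸ LinearMap.range φ with hQ
  have hex : Function.Exact φ (LinearMap.range φ).mkQ := by
    rw [LinearMap.exact_iff, Submodule.ker_mkQ]
  have hmk : Function.Surjective (LinearMap.range φ).mkQ := Submodule.mkQ_surjective _
  -- exactness after base change to any `A`-algebra
  have key : ∀ (K : Type u) [Field K] [Algebra A K],
      (Function.Surjective (φ.baseChange K) ↔ Subsingleton (K ⊗[A] Q)) := by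
    intro K _ _
    have h1 : Function.Exact (φ.baseChange K) ((LinearMap.range φ).mkQ.baseChange K) := by
      rw [LinearMap.baseChange_eq_ltensor, LinearMap.baseChange_eq_ltensor]
      exact lTensor_exact K hex hmk
    have h2 : Function.Surjective ((LinearMap.range φ).mkQ.baseChange K) := by
      rw [LinearMap.baseChange_eq_ltensor]
      exact LinearMap.lTensor_surjective K hmk
    constructor
    · intro hs
      refine ⟨fun a b => ?_⟩
      obtain ⟨a', rfl⟩ := h2 a
      obtain ⟨b', rfl⟩ := h2 b
      obtain ⟨a'', rfl⟩ := hs a'
      obtain ⟨b'', rfl⟩ := hs b'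
      rw [h1.apply_apply_eq_zero, h1.apply_apply_eq_zero]
    · intro hsub v
      exact (h1 v).mp (Subsingleton.elim _ _)
  have hx : x ∉ Module.support A Q := by
    rw [Module.mem_support_iff_nontrivial_residueField_tensorProduct,
      not_nontrivial_iff_subsingleton]
    exact (key _).mp hsurj
  have hopen : IsOpen (Module.support A Q)ᶜ := (Module.isClosed_support (R := A) (M := Q)).isOpen_compl
  filter_upwards [hopen.mem_nhds hx] with x' hx'
  have hsurj' : Function.Surjective (φ.baseChange x'.asIdeal.ResidueField) := by
    refine (key _).mpr ?_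
    rw [← not_nontrivial_iff_subsingleton,
      ← Module.mem_support_iff_nontrivial_residueField_tensorProduct]
    exact hx'
  have : Nontrivial A := x'.asIdeal.ne_top_iff_one.mp x'.2.ne_top |> fun h => ⟨⟨0, 1, fun h0 => h (by rw [← h0]; exact zero_mem _)⟩⟩
  calc Module.finrank x'.asIdeal.ResidueField (x'.asIdeal.ResidueField ⊗[A] M)
      ≤ Module.finrank x'.asIdeal.ResidueField (x'.asIdeal.ResidueField ⊗[A] (ι → A)) :=
        LinearMap.finrank_le_finrank_of_surjective hsurj'
    _ = Module.finrank A (ι → A) := Module.finrank_baseChange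
    _ = Fintype.card ι := Module.finrank_fintype_fun_eq_card A
    _ = _ := hcard

end

section

variable {A : Type u} [CommRing A] {M F : Type v} [AddCommGroup M] [Module A M] [Module.Finite A M]
  [AddCommGroup F] [Module A F] [Module.Finite A F] [Module.Free A F]

/-- Rank–nullity over a field `K`: `dim ker(δ_K) + rank F = dim (K ⊗ M) + dim (K ⊗ coker δ)`. -/
theorem finrank_ker_baseChange_add (δ : M →ₗ[A] F) (K : Type u) [Field K] [Algebra A K]
    [Nontrivial A] :
    Module.finrank K (LinearMap.ker (δ.baseChange K)) + Module.finrank A F =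
      Module.finrank K (K ⊗[A] M) + Module.finrank K (K ⊗[A] (F ⧸ LinearMap.range δ)) := by
  have hex : Function.Exact δ (LinearMap.range δ).mkQ := by
    rw [LinearMap.exact_iff, Submodule.ker_mkQ]
  have hmk : Function.Surjective (LinearMap.range δ).mkQ := Submodule.mkQ_surjective _
  have h1 : Function.Exact (δ.baseChange K) ((LinearMap.range δ).mkQ.baseChange K) := by
    rw [LinearMap.baseChange_eq_ltensor, LinearMap.baseChange_eq_ltensor]
    exact lTensor_exact K hex hmk
  have h2 : Function.Surjective ((LinearMap.range δ).mkQ.baseChange K) := by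
    rw [LinearMap.baseChange_eq_ltensor]
    exact LinearMap.lTensor_surjective K hmk
  have e1 := LinearMap.finrank_range_add_finrank_ker (δ.baseChange K)
  have e2 := LinearMap.finrank_range_add_finrank_ker ((LinearMap.range δ).mkQ.baseChange K)
  rw [LinearMap.range_eq_top.mpr h2, finrank_top, (LinearMap.exact_iff.mp h1)] at e2
  have e3 : Module.finrank K (K ⊗[A] F) = Module.finrank A F := Module.finrank_baseChange
  omega

/-- Upper semicontinuity of `x ↦ dim ker (δ ⊗ κ(x))`. -/
theorem upperSemicontinuous_finrank_ker_baseChange (δ : M →ₗ[A] F) :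
    UpperSemicontinuous (fun x : PrimeSpectrum A =>
      Module.finrank x.asIdeal.ResidueField
        (LinearMap.ker (δ.baseChange x.asIdeal.ResidueField))) := by
  intro x y hxy
  have hM := eventually_finrank_residueField_tensor_le (M := M) x
  have hC := eventually_finrank_residueField_tensor_le (M := F ⧸ LinearMap.range δ) x
  have : Nontrivial A := ⟨⟨0, 1, fun h0 => x.2.ne_top ((Ideal.eq_top_iff_one _).mpr (by rw [← h0]; exact zero_mem _))⟩⟩
  filter_upwards [hM, hC] with x' h1 h2
  have e := finrank_ker_baseChange_add δ x.asIdeal.ResidueField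
  have e' := finrank_ker_baseChange_add δ x'.asIdeal.ResidueField
  simp only at hxy ⊢
  omega

end

end Groth.Agent.H73
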