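import Mathlib.CategoryTheory.Sites.Limits
import Mathlib.CategoryTheory.Limits.Types.Filtered
import Mathlib.CategoryTheory.Limits.FunctorCategory.Basic
import Groth.Prelude.Def_SGA4c

set_option autoImplicit false

universe u

namespace Groth.Agent.H73

open CategoryTheory CategoryTheory.Limits Opposite

section Common

variable {I : Type u} [SmallCategory I] [IsFiltered I]

/-- In a filtered category, finitely many nonempty "upward closed" families of arrows out of
a fixed object have a common member. -/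
lemma exists_common_of_finite (i : I) {ι : Type*} [Finite ι] (P : ι → ∀ j, (i ⟶ j) → Prop)
    (hP : ∀ k j (f : i ⟶ j) j' (g : j ⟶ j'), P k j f → P k j' (f ≫ g))
    (hex : ∀ k, ∃ j f, P k j f) : ∃ j f, ∀ k, P k j f := by
  classical
  cases nonempty_fintype ι
  suffices H : ∀ s : Finset ι, ∃ j f, ∀ k ∈ s, P k j f by
    obtain ⟨j, f, h⟩ := H Finset.univ
    exact ⟨j, f, fun k => h k (Finset.mem_univ k)⟩
  intro s
  induction s using Finset.induction_on with
  | empty => exact ⟨i, 𝟙 i, by simp⟩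
  | insert a s ha ih =>
    obtain ⟨j, f, hf⟩ := ih
    obtain ⟨ja, fa, hfa⟩ := hex a
    obtain ⟨k, g, ga, e⟩ := IsFiltered.span f fa
    refine ⟨k, f ≫ g, ?_⟩
    intro l hl
    rcases Finset.mem_insert.mp hl with rfl | hl
    · rw [e]; exact hP _ _ _ _ _ hfa
    · exact hP _ _ _ _ _ (hf l hl)

end Common

section Main

variable {C : Type u} [SmallCategory C] {I : Type u} [SmallCategory I] [IsFiltered I]
  (G : I ⥤ Cᵒᵖ ⥤ Type u) (c : Cocone G) (hc : IsColimit c)

include hc

omit [IsFiltered I] in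
lemma colim_surj (Y : Cᵒᵖ) (x : c.pt.obj Y) :
    ∃ (i : I) (y : (G.obj i).obj Y), (c.ι.app i).app Y y = x :=
  Types.jointly_surjective_of_isColimit
    (isColimitOfPreserves ((evaluation Cᵒᵖ (Type u)).obj Y) hc) x

lemma colim_eq (Y : Cᵒᵖ) (i : I) (a b : (G.obj i).obj Y)
    (h : (c.ι.app i).app Y a = (c.ι.app i).app Y b) :
    ∃ (j : I) (f : i ⟶ j), (G.map f).app Y a = (G.map f).app Y b :=
  (Types.FilteredColimit.isColimit_eq_iff'
    (isColimitOfPreserves ((evaluation Cᵒᵖ (Type u)).obj Y) hc) a b).mp h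

omit [IsFiltered I] hc in
lemma cocone_w_apply {i j : I} (f : i ⟶ j) (Y : Cᵒᵖ) (y : (G.obj i).obj Y) :
    (c.ι.app j).app Y ((G.map f).app Y y) = (c.ι.app i).app Y y := by
  rw [← NatTrans.comp_app_apply, c.w f]

lemma colim_surj_finite {ι : Type*} [Finite ι] (Y : ι → Cᵒᵖ) (x : ∀ k, c.pt.obj (Y k)) :
    ∃ (i : I) (y : ∀ k, (G.obj i).obj (Y k)), ∀ k, (c.ι.app i).app (Y k) (y k) = x k := by
  classical
  cases nonempty_fintype ι
  choose i y hy using fun k => colim_surj G c hc (Y k) (x k)
  obtain ⟨S, hS⟩ := IsFiltered.sup_objs_exists (Finset.image i Finset.univ)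
  have φ : ∀ k, i k ⟶ S := fun k =>
    (hS (Finset.mem_image_of_mem i (Finset.mem_univ k))).some
  refine ⟨S, fun k => (G.map (φ k)).app (Y k) (y k), fun k => ?_⟩
  rw [cocone_w_apply, hy]

lemma colim_eq_finite {ι : Type*} [Finite ι] (Y : ι → Cᵒᵖ) (i : I)
    (a b : ∀ k, (G.obj i).obj (Y k))
    (h : ∀ k, (c.ι.app i).app (Y k) (a k) = (c.ι.app i).app (Y k) (b k)) :
    ∃ (j : I) (f : i ⟶ j), ∀ k, (G.map f).app (Y k) (a k) = (G.map f).app (Y k) (b k) := by
  refine exists_common_of_finite i
    (fun k j f => (G.map f).app (Y k) (a k) = (G.map f).app (Y k) (b k)) ?_ ?_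
  · intro k j f j' g hfg
    simp only [Functor.map_comp, NatTrans.comp_app_apply]
    rw [hfg]
  · intro k
    exact colim_eq G c hc (Y k) i (a k) (b k) (h k)

variable (J : GrothendieckTopology C) (hG : ∀ i, Presieve.IsSheaf J (G.obj i))

include hG

/-- Separatedness of the filtered colimit for a finite covering family. -/
lemma colim_sep_finite {X : C} {ι : Type*} [Finite ι] (V : ι → C) (g : ∀ k, V k ⟶ X)
    (hcov : Sieve.ofArrows V g ∈ J X) (s t : c.pt.obj (op X))
    (hst : ∀ k, c.pt.map (g k).op s = c.pt.map (g k).op t) : s = t := by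
  obtain ⟨i, y, hy⟩ := colim_surj_finite G c hc (ι := Fin 2) (fun _ => op X) ![s, t]
  have hs : (c.ι.app i).app (op X) (y 0) = s := hy 0
  have ht : (c.ι.app i).app (op X) (y 1) = t := hy 1
  obtain ⟨j, f, hf⟩ := colim_eq_finite G c hc (fun k => op (V k)) i
    (fun k => (G.obj i).map (g k).op (y 0)) (fun k => (G.obj i).map (g k).op (y 1)) (by
      intro k
      rw [NatTrans.naturality_apply, NatTrans.naturality_apply, hs, ht]
      exact hst k)
  have key : (G.map f).app (op X) (y 0) = (G.map f).app (op X) (y 1) := by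
    have hsep : Presieve.IsSeparatedFor (G.obj j) (Presieve.ofArrows V g) :=
      Presieve.isSeparatedFor_iff_generate.mpr (hG j _ hcov).isSeparatedFor
    refine hsep.ext ?_
    rintro _ _ ⟨k⟩
    have := hf k
    rw [NatTrans.naturality_apply, NatTrans.naturality_apply] at this
    exact this
  rw [← hs, ← ht, ← cocone_w_apply G c f, ← cocone_w_apply G c f (op X) (y 1), key]

/-- Gluing in the filtered colimit for a finite covering family. -/
lemma colim_glue_finite [HasPullbacks C] {X : C} {ι : Type*} [Finite ι] (V : ι → C)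
    (g : ∀ k, V k ⟶ X) (hcov : Sieve.ofArrows V g ∈ J X) (x : ∀ k, c.pt.obj (op (V k)))
    (hx : Presieve.Arrows.PullbackCompatible c.pt g x) :
    ∃ t : c.pt.obj (op X), ∀ k, c.pt.map (g k).op t = x k := by
  obtain ⟨i, y, hy⟩ := colim_surj_finite G c hc (fun k => op (V k)) x
  obtain ⟨j, f, hf⟩ := colim_eq_finite G c hc (ι := ι × ι)
    (fun p => op (pullback (g p.1) (g p.2))) i
    (fun p => (G.obj i).map (pullback.fst (g p.1) (g p.2)).op (y p.1))
    (fun p => (G.obj i).map (pullback.snd (g p.1) (g p.2)).op (y p.2)) (by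
      rintro ⟨k, l⟩
      dsimp only
      rw [NatTrans.naturality_apply, NatTrans.naturality_apply, hy, hy]
      exact hx k l)
  have hcompat : Presieve.Arrows.PullbackCompatible (G.obj j) g
      (fun k => (G.map f).app (op (V k)) (y k)) := by
    intro k l
    have := hf (k, l)
    dsimp only at this
    rw [NatTrans.naturality_apply, NatTrans.naturality_apply] at this
    exact this
  have hsh : Presieve.IsSheafFor (G.obj j) (Presieve.ofArrows V g) :=
    (Presieve.isSheafFor_iff_generate _).mpr (hG j _ hcov)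
  obtain ⟨t, ht, -⟩ := (Presieve.isSheafFor_arrows_iff_pullbacks (G.obj j) g).mp hsh _ hcompat
  refine ⟨(c.ι.app j).app (op X) t, fun k => ?_⟩
  rw [← NatTrans.naturality_apply, ht, cocone_w_apply, hy]

variable (hJ : ∀ U : C, ToposFin.IsQCSite J U)

include hJ

lemma colim_isSeparatedFor {X : C} (S : Sieve X) (hS : S ∈ J X) :
    Presieve.IsSeparatedFor c.pt S.arrows := by
  obtain ⟨n, V, g, hgS, hcov⟩ := hJ X S hS
  intro x t₁ t₂ h₁ h₂
  refine colim_sep_finite G c hc J hG V g hcov t₁ t₂ (fun k => ?_)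
  rw [h₁ (g k) (hgS k), h₂ (g k) (hgS k)]

theorem colim_isSheaf [HasPullbacks C] : Presieve.IsSheaf J c.pt := by
  intro X S hS
  obtain ⟨n, V, g, hgS, hcov⟩ := hJ X S hS
  refine Presieve.isSheafFor_subsieve_aux (S := Sieve.ofArrows V g) c.pt ?_ ?_ ?_
  · intro Y f hf
    obtain ⟨Z, h, g', ⟨k⟩, rfl⟩ := hf
    exact S.downward_closed (hgS k) h
  · show Presieve.IsSheafFor c.pt (Sieve.generate (Presieve.ofArrows V g)).arrows
    rw [← Presieve.isSheafFor_iff_generate, Presieve.isSheafFor_arrows_iff_pullbacks]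
    intro x hx
    obtain ⟨t, ht⟩ := colim_glue_finite G c hc J hG V g hcov x hx
    refine ⟨t, ht, fun t' ht' => ?_⟩
    refine colim_sep_finite G c hc J hG V g hcov t' t (fun k => ?_)
    rw [ht, ht']
  · intro Y f _
    exact colim_isSeparatedFor G c hc J hG hJ _ (J.pullback_stable f hcov)

end Main

end Groth.Agent.H73
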