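import Mathlib
import Groth.Agent.H73.NuCount

/-!
# Localisation of the graded pieces `I^j M / I^{j+1} M` and local constancy of their rank

For a Noetherian ring `A`, an ideal `I`, a finite module `M`, we show that the pieces
`N_j = I^j M / I (I^j M)` localise well, and that the number of generators of the localised piece at
primes `p ⊇ I` where it is flat over `A_p / I A_p` is locally constant (via Mathlib's free locus over
the ring `A ⧸ I`).
-/

set_option autoImplicit false
universe u

namespace Groth.Agent.H73.GrLoc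

open IsLocalRing Groth.Agent.H73.Nu

section Loc

variable {A : Type u} [CommRing A] (S : Submonoid A) (B : Type u) [CommRing B] [Algebra A B]
  [IsLocalization S B]
  {M M' : Type u} [AddCommGroup M] [Module A M] [AddCommGroup M'] [Module A M'] [Module B M']
  [IsScalarTower A B M'] (g : M →ₗ[A] M') [IsLocalizedModule S g]

theorem localized'_smul_top (J : Ideal A) :
    (J • (⊤ : Submodule A M)).localized' B S g =
      (J.map (algebraMap A B)) • (⊤ : Submodule B M') := by
  rw [Submodule.localized'_smul, Ideal.localized'_eq_map, Submodule.localized'_top]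

include S in
variable {B} in
theorem map_mem_smul_top (J : Ideal A) (J' : Ideal B) (hJ : J.map (algebraMap A B) = J') (m : M)
    (hm : m ∈ (J • (⊤ : Submodule A M))) : g m ∈ (J' • (⊤ : Submodule B M')) := by
  subst hJ
  rw [← localized'_smul_top S B g J]
  exact ⟨m, hm, 1, by simp⟩

/-- the localisation map restricted to `J M → J' M'` -/
noncomputable def subMap (J : Ideal A) (J' : Ideal B) (hJ : J.map (algebraMap A B) = J') :
    ↥(J • (⊤ : Submodule A M)) →ₗ[A] ↥(J' • (⊤ : Submodule B M')) :=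
  { toFun := fun m => ⟨g m.1, map_mem_smul_top S g J J' hJ m.1 m.2⟩
    map_add' := fun a b => Subtype.ext (by simp)
    map_smul' := fun r a => Subtype.ext (by simp) }

instance subMap_isLocalizedModule (J : Ideal A) (J' : Ideal B)
    (hJ : J.map (algebraMap A B) = J') : IsLocalizedModule S (subMap S B g J J' hJ) := by
  subst hJ
  have h := localized'_smul_top S B g J
  have := IsLocalizedModule.of_linearEquiv S
    ((J • (⊤ : Submodule A M)).toLocalized' B S g)
    ((LinearEquiv.ofEq _ _ h).restrictScalars A)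
  convert this using 1
  exact LinearMap.ext fun m => Subtype.ext rfl

/-- the localisation map on the quotients `M / J M → M' / J' M'` -/
noncomputable def quotMap (J : Ideal A) (J' : Ideal B) (hJ : J.map (algebraMap A B) = J') :
    (M ⧸ (J • (⊤ : Submodule A M))) →ₗ[A] (M' ⧸ (J' • (⊤ : Submodule B M'))) :=
  Submodule.mapQ _ ((J' • (⊤ : Submodule B M')).restrictScalars A) g
    (fun m hm => map_mem_smul_top S g J J' hJ m hm)

instance quotMap_isLocalizedModule (J : Ideal A) (J' : Ideal B)
    (hJ : J.map (algebraMap A B) = J') : IsLocalizedModule S (quotMap S B g J J' hJ) := by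
  subst hJ
  have h := localized'_smul_top S B g J
  have := IsLocalizedModule.of_linearEquiv S
    ((J • (⊤ : Submodule A M)).toLocalizedQuotient' B S g)
    ((Submodule.quotEquivOfEq _ _ h).restrictScalars A)
  convert this using 1
  refine LinearMap.ext fun m => ?_
  obtain ⟨m, rfl⟩ := Submodule.Quotient.mk_surjective _ m
  rfl

end Loc

section Gr

variable {A : Type u} [CommRing A] (I : Ideal A) (M : Type u) [AddCommGroup M] [Module A M]

/-- the graded piece `I^j M / I (I^j M)` -/
abbrev Gr (j : ℕ) : Type u :=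
  ↥(I ^ j • (⊤ : Submodule A M)) ⧸ (I • (⊤ : Submodule A ↥(I ^ j • (⊤ : Submodule A M))))

variable (S : Submonoid A) (B : Type u) [CommRing B] [Algebra A B] [IsLocalization S B]
  {M} {M' : Type u} [AddCommGroup M'] [Module A M'] [Module B M'] [IsScalarTower A B M']
  (g : M →ₗ[A] M') [IsLocalizedModule S g]

noncomputable def grMap (j : ℕ) : Gr I M j →ₗ[A] Gr (I.map (algebraMap A B)) M' j :=
  quotMap S B (subMap S B g (I ^ j) ((I.map (algebraMap A B)) ^ j) (Ideal.map_pow _ _ _)) I
    (I.map (algebraMap A B)) rfl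

instance grMap_isLocalizedModule (j : ℕ) : IsLocalizedModule S (grMap I S B g j) :=
  quotMap_isLocalizedModule S B _ I _ rfl

end Gr

section Prime

variable {A : Type u} [CommRing A] (I : Ideal A) (p : Ideal A) [p.IsPrime]

theorem map_mk_isPrime (hIp : I ≤ p) : (p.map (Ideal.Quotient.mk I)).IsPrime :=
  Ideal.map_isPrime_of_surjective Ideal.Quotient.mk_surjective (by rwa [Ideal.mk_ker])

omit [p.IsPrime] in
theorem mem_map_mk_iff (hIp : I ≤ p) (s : A) :
    Ideal.Quotient.mk I s ∈ p.map (Ideal.Quotient.mk I) ↔ s ∈ p := by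
  constructor
  · intro hx
    have : s ∈ (p.map (Ideal.Quotient.mk I)).comap (Ideal.Quotient.mk I) := hx
    rw [Ideal.comap_map_of_surjective _ Ideal.Quotient.mk_surjective, ← RingHom.ker_eq_comap_bot,
      Ideal.mk_ker, sup_eq_left.mpr hIp] at this
    exact this
  · exact fun hs => Ideal.mem_map_of_mem _ hs

theorem algebraMapSubmonoid_primeCompl (hIp : I ≤ p) :
    haveI := map_mk_isPrime I p hIp
    Algebra.algebraMapSubmonoid (A ⧸ I) p.primeCompl =
      (p.map (Ideal.Quotient.mk I)).primeCompl := by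
  haveI := map_mk_isPrime I p hIp
  ext x
  constructor
  · rintro ⟨s, hs, rfl⟩
    intro hx
    exact hs ((mem_map_mk_iff I p hIp s).mp hx)
  · intro hx
    obtain ⟨s, rfl⟩ := Ideal.Quotient.mk_surjective x
    exact ⟨s, fun hs => hx ((mem_map_mk_iff I p hIp s).mpr hs), rfl⟩

end Prime

section NuFree

variable {B : Type u} [CommRing B] [IsLocalRing B] (K : Ideal B)

theorem nu_self : nu B B = 1 := by
  letI : Field (B ⧸ maximalIdeal B) := Ideal.Quotient.field _
  have h : (maximalIdeal B • ⊤ : Submodule B B) = maximalIdeal B := by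
    simp
  let e1 : (B ⧸ (maximalIdeal B • ⊤ : Submodule B B)) ≃ₗ[B] (B ⧸ maximalIdeal B) :=
    Submodule.quotEquivOfEq _ _ h
  let e2 := LinearEquiv.extendScalarsOfSurjective
    (Ideal.Quotient.mk_surjective (I := maximalIdeal B)) e1
  rw [nu, e2.finrank_eq, Module.finrank_self]

theorem nu_quot (hK : K ≤ maximalIdeal B) : nu B (B ⧸ K) = 1 := by
  have h : (K • ⊤ : Submodule B B) = K := by simp
  rw [← nu_self (B := B), ← nu_quot_smul_top (P := B) K hK]
  exact nu_eq_of_equiv (Submodule.quotEquivOfEq _ _ h.symm)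

theorem nu_eq_finrank_of_free (hK : K ≤ maximalIdeal B) (N : Type u) [AddCommGroup N] [Module B N]
    [Module (B ⧸ K) N] [IsScalarTower B (B ⧸ K) N] [Module.Free (B ⧸ K) N]
    [Module.Finite (B ⧸ K) N] : nu B N = Module.finrank (B ⧸ K) N := by
  haveI : Nontrivial (B ⧸ K) := Ideal.Quotient.nontrivial_iff.mpr
    (fun h => (maximalIdeal.isMaximal B).ne_top (top_le_iff.mp (h ▸ hK)))
  let b := Module.finBasis (B ⧸ K) N
  let e : N ≃ₗ[B] (Fin (Module.finrank (B ⧸ K) N) → B ⧸ K) := b.equivFun.restrictScalars B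
  rw [nu_eq_of_equiv e, nu_pi]
  simp [nu_quot K hK]

end NuFree


section Model

variable {A : Type u} [CommRing A] (I : Ideal A) (M : Type u) [AddCommGroup M] [Module A M]
  (p : Ideal A) [p.IsPrime] (B : Type u) [CommRing B] [IsLocalRing B] [Algebra A B]
  [IsLocalization.AtPrime B p]
  (M' : Type u) [AddCommGroup M'] [Module A M'] [Module B M'] [IsScalarTower A B M']
  (g : M →ₗ[A] M') [IsLocalizedModule p.primeCompl g]

include g in
theorem model_facts [IsNoetherianRing A] [Module.Finite A M] (hIp : I ≤ p) (j : ℕ)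
    (hflat : Module.Flat (B ⧸ I.map (algebraMap A B)) (Gr (I.map (algebraMap A B)) M' j)) :
    (⟨p.map (Ideal.Quotient.mk I), map_mk_isPrime I p hIp⟩ : PrimeSpectrum (A ⧸ I)) ∈
        Module.freeLocus (A ⧸ I) (Gr I M j) ∧
      Module.rankAtStalk (R := A ⧸ I) (Gr I M j)
        ⟨p.map (Ideal.Quotient.mk I), map_mk_isPrime I p hIp⟩ =
        nu B (Gr (I.map (algebraMap A B)) M' j) := by
  set K := I.map (algebraMap A B) with hK
  haveI hP := map_mk_isPrime I p hIp
  set P : PrimeSpectrum (A ⧸ I) := ⟨p.map (Ideal.Quotient.mk I), hP⟩ with hPdef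
  -- `K ≤ 𝔪`
  have hKm : K ≤ maximalIdeal B := by
    rw [hK, Ideal.map_le_iff_le_comap]
    intro a ha
    exact (IsLocalization.AtPrime.to_map_mem_maximal_iff B p a).mpr (hIp ha)
  haveI : Nontrivial (B ⧸ K) := Ideal.Quotient.nontrivial_iff.mpr
    (fun h => (maximalIdeal.isMaximal B).ne_top (top_le_iff.mp (h ▸ hKm)))
  haveI : IsLocalRing (B ⧸ K) :=
    IsLocalRing.of_surjective' (Ideal.Quotient.mk K) Ideal.Quotient.mk_surjective
  -- finiteness
  haveI : IsNoetherianRing B := IsLocalization.isNoetherianRing p.primeCompl B inferInstance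
  haveI : Module.Finite B M' := Module.Finite.of_isLocalizedModule p.primeCompl g
  haveI : IsNoetherian B M' := isNoetherian_of_isNoetherianRing_of_finite B M'
  haveI : Module.Finite B (Gr K M' j) := inferInstance
  haveI : Module.Finite (B ⧸ K) (Gr K M' j) := Module.Finite.of_restrictScalars_finite B _ _
  haveI : Module.Free (B ⧸ K) (Gr K M' j) := Module.free_of_flat_of_isLocalRing
  -- module structure over `A ⧸ I`
  letI modR : Module (A ⧸ I) (Gr K M' j) := Module.compHom _ (algebraMap (A ⧸ I) (B ⧸ K))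
  haveI towerRB : IsScalarTower (A ⧸ I) (B ⧸ K) (Gr K M' j) := ⟨fun r b n => by
    change (r • b) • n = algebraMap (A ⧸ I) (B ⧸ K) r • (b • n)
    rw [Algebra.smul_def, mul_smul]⟩
  haveI towerAR : IsScalarTower A (A ⧸ I) (Gr K M' j) := ⟨fun a r n => by
    change algebraMap (A ⧸ I) (B ⧸ K) (a • r) • n = a • (algebraMap (A ⧸ I) (B ⧸ K) r • n)
    rw [Algebra.smul_def, map_mul, mul_smul, ← IsScalarTower.algebraMap_apply A (A ⧸ I) (B ⧸ K),
      algebraMap_smul]⟩
  -- the localisation map
  let gN : Gr I M j →ₗ[A] Gr K M' j := grMap I p.primeCompl B g j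
  haveI hgN : IsLocalizedModule p.primeCompl gN := grMap_isLocalizedModule I p.primeCompl B g j
  let gN' : Gr I M j →ₗ[A ⧸ I] Gr K M' j :=
    gN.extendScalarsOfSurjective (Ideal.Quotient.mk_surjective (I := I))
  haveI hgN' : IsLocalizedModule p.primeCompl (gN'.restrictScalars A) := hgN
  haveI h1 : IsLocalizedModule (Algebra.algebraMapSubmonoid (A ⧸ I) p.primeCompl) gN' :=
    IsLocalizedModule.of_restrictScalars p.primeCompl gN'
  haveI h2 : IsLocalization (Algebra.algebraMapSubmonoid (A ⧸ I) p.primeCompl) (B ⧸ K) :=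
    inferInstance
  have hS := algebraMapSubmonoid_primeCompl I p hIp
  rw [hS] at h1 h2
  haveI h2' : IsLocalization.AtPrime (B ⧸ K) P.asIdeal := h2
  haveI h1' : IsLocalizedModule P.asIdeal.primeCompl gN' := h1
  refine ⟨(Module.mem_freeLocus_of_isLocalization P (B ⧸ K) (Gr K M' j) gN').mpr inferInstance, ?_⟩
  rw [nu_eq_finrank_of_free K hKm (Gr K M' j)]
  -- rank
  let eR : Localization.AtPrime P.asIdeal ≃ₐ[A ⧸ I] (B ⧸ K) :=
    IsLocalization.algEquiv P.asIdeal.primeCompl _ _
  letI modL : Module (Localization.AtPrime P.asIdeal) (Gr K M' j) :=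
    Module.compHom _ (eR : Localization.AtPrime P.asIdeal →+* (B ⧸ K))
  haveI towerL : IsScalarTower (A ⧸ I) (Localization.AtPrime P.asIdeal) (Gr K M' j) :=
    ⟨fun r x n => by
      change eR (r • x) • n = r • (eR x • n)
      rw [map_smul, smul_assoc]⟩
  let eM : LocalizedModule P.asIdeal.primeCompl (Gr I M j) ≃ₗ[A ⧸ I] Gr K M' j :=
    IsLocalizedModule.iso P.asIdeal.primeCompl gN'
  let eM' : LocalizedModule P.asIdeal.primeCompl (Gr I M j) ≃ₗ[Localization.AtPrime P.asIdeal]
      Gr K M' j :=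
    eM.extendScalarsOfIsLocalization P.asIdeal.primeCompl (Localization.AtPrime P.asIdeal)
  rw [Module.rankAtStalk, eM'.finrank_eq]
  have hr : Module.rank (Localization.AtPrime P.asIdeal) (Gr K M' j) =
      Module.rank (B ⧸ K) (Gr K M' j) :=
    rank_eq_of_equiv_equiv eR (AddEquiv.refl _) eR.bijective (fun r m => rfl)
  simp only [Module.finrank, hr]

end Model


section LC

variable {A : Type u} [CommRing A] (I : Ideal A) (M : Type u) [AddCommGroup M] [Module A M]

instance gr_finite [IsNoetherianRing A] [Module.Finite A M] (j : ℕ) :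
    Module.Finite (A ⧸ I) (Gr I M j) := by
  haveI : IsNoetherian A M := isNoetherian_of_isNoetherianRing_of_finite A M
  haveI : Module.Finite A (Gr I M j) := inferInstance
  exact Module.Finite.of_restrictScalars_finite A _ _

/-- local constancy of the rank of `Gr I M j` over `A ⧸ I` on its free locus, in terms of primes
of `A` -/
theorem exists_notMem_forall_rank_eq [IsNoetherianRing A] [Module.Finite A M] (j : ℕ)
    (p0 : Ideal A) [p0.IsPrime] (hIp0 : I ≤ p0)
    (hfree : (⟨p0.map (Ideal.Quotient.mk I), map_mk_isPrime I p0 hIp0⟩ : PrimeSpectrum (A ⧸ I)) ∈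
      Module.freeLocus (A ⧸ I) (Gr I M j)) :
    ∃ f : A, f ∉ p0 ∧ ∀ (p : Ideal A) [p.IsPrime] (hIp : I ≤ p), f ∉ p →
      Module.rankAtStalk (R := A ⧸ I) (Gr I M j)
          ⟨p.map (Ideal.Quotient.mk I), map_mk_isPrime I p hIp⟩ =
        Module.rankAtStalk (R := A ⧸ I) (Gr I M j)
          ⟨p0.map (Ideal.Quotient.mk I), map_mk_isPrime I p0 hIp0⟩ := by
  haveI : Module.FinitePresentation (A ⧸ I) (Gr I M j) :=
    Module.finitePresentation_of_finite (A ⧸ I) (Gr I M j)
  have hlc := Module.isLocallyConstant_rankAtStalk_freeLocus (R := A ⧸ I) (M := Gr I M j)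
  set P0 : PrimeSpectrum (A ⧸ I) := ⟨p0.map (Ideal.Quotient.mk I), map_mk_isPrime I p0 hIp0⟩
    with hP0
  obtain ⟨U, hUo, hxU, hU⟩ := (IsLocallyConstant.iff_exists_open _).mp hlc ⟨P0, hfree⟩
  have hO : IsOpen (Subtype.val '' U) :=
    (Module.isOpen_freeLocus (R := A ⧸ I) (M := Gr I M j)).isOpenMap_subtype_val U hUo
  obtain ⟨_, ⟨fb, rfl⟩, hP0f, hsub⟩ :=
    PrimeSpectrum.isTopologicalBasis_basic_opens.exists_subset_of_mem_open
      (a := P0) (u := Subtype.val '' U) ⟨_, hxU, rfl⟩ hO
  obtain ⟨f, rfl⟩ := Ideal.Quotient.mk_surjective fb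
  refine ⟨f, fun hf => hP0f ((mem_map_mk_iff I p0 hIp0 f).mpr hf), ?_⟩
  intro p _ hIp hfp
  have hmem : (⟨p.map (Ideal.Quotient.mk I), map_mk_isPrime I p hIp⟩ : PrimeSpectrum (A ⧸ I)) ∈
      Subtype.val '' U := by
    apply hsub
    intro hf
    exact hfp ((mem_map_mk_iff I p hIp f).mp hf)
  obtain ⟨x, hx, hxe⟩ := hmem
  have := hU x hx
  rw [hxe] at this
  exact this

/-- **Local constancy of the number of generators of the graded pieces** along `V(I)`, stated in
terms of arbitrary local models. -/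
theorem exists_notMem_forall_nu_eq [IsNoetherianRing A] [Module.Finite A M] (j : ℕ)
    (p0 : Ideal A) [p0.IsPrime] (hIp0 : I ≤ p0)
    (B0 : Type u) [CommRing B0] [IsLocalRing B0] [Algebra A B0] [IsLocalization.AtPrime B0 p0]
    (M0 : Type u) [AddCommGroup M0] [Module A M0] [Module B0 M0] [IsScalarTower A B0 M0]
    (g0 : M →ₗ[A] M0) [IsLocalizedModule p0.primeCompl g0]
    (hflat0 : Module.Flat (B0 ⧸ I.map (algebraMap A B0)) (Gr (I.map (algebraMap A B0)) M0 j)) :
    ∃ f : A, f ∉ p0 ∧ ∀ (p : Ideal A) [p.IsPrime], I ≤ p → f ∉ p →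
      ∀ (B : Type u) [CommRing B] [IsLocalRing B] [Algebra A B] [IsLocalization.AtPrime B p]
        (M' : Type u) [AddCommGroup M'] [Module A M'] [Module B M'] [IsScalarTower A B M']
        (g : M →ₗ[A] M') [IsLocalizedModule p.primeCompl g],
        Module.Flat (B ⧸ I.map (algebraMap A B)) (Gr (I.map (algebraMap A B)) M' j) →
        nu B (Gr (I.map (algebraMap A B)) M' j) = nu B0 (Gr (I.map (algebraMap A B0)) M0 j) := by
  obtain ⟨hfree0, hrank0⟩ := model_facts I M p0 B0 M0 g0 hIp0 j hflat0
  obtain ⟨f, hf0, hf⟩ := exists_notMem_forall_rank_eq I M j p0 hIp0 hfree0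
  refine ⟨f, hf0, ?_⟩
  intro p _ hIp hfp B _ _ _ _ M' _ _ _ _ g _ hflat
  obtain ⟨-, hrank⟩ := model_facts I M p B M' g hIp j hflat
  rw [← hrank, ← hrank0]
  exact hf p hIp hfp

end LC

end Groth.Agent.H73.GrLoc
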