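import Groth.Agent.S1755
import Groth.Agent.S9228
import Groth.Agent.S9126
import Groth.Agent.S2645
import Groth.Agent.H57.StrictFC
import Groth.Agent.H57.SnFormalFibres
import Groth.Agent.H99.ReducedCrit
import Groth.Agent.H81.RelCodim
import Groth.Agent.H73.GrLoc
import Groth.Agent.Lead.CompletionIAdic
import Groth.Agent.H72.FlatCM

/-!
# Finiteness of `H¹_I(M)` over universally catenary rings with `(S_1)` formal fibres

Reduction of S1756 to Kollár's criterion (S1755) using formal catenarity of universally catenary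
local rings (S9228), ascent of `(S_1)` to the completion along `(S_1)` formal fibres (S2645), and
the fact that equidimensional `(S_1)` rings are strictly equidimensional.
-/

set_option autoImplicit false
universe u
open IsLocalRing

namespace Groth.Agent.H73.FinH1UC

/-- Key local lemma: for a universally catenary Noetherian local ring `B` with `(S_1)` formal
fibres and a prime `𝔭`, the completion of `B ⧸ 𝔭` is strictly equidimensional of dimension
`dim B ⧸ 𝔭`. -/
theorem dim_quot_ass_cpl (B : Type u) [CommRing B] [IsNoetherianRing B] [IsLocalRing B]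
    (hB : CAlg.IsUniversallyCatenary B) (hF : EGA4.HasSnFormalFibres 1 B)
    (𝔭 : Ideal B) [𝔭.IsPrime] (J : Ideal (B ⧸ 𝔭)) (hJ : J = maximalIdeal (B ⧸ 𝔭))
    (P : Ideal (AdicCompletion J (B ⧸ 𝔭)))
    (hP : P ∈ associatedPrimes (AdicCompletion J (B ⧸ 𝔭)) (AdicCompletion J (B ⧸ 𝔭))) :
    ringKrullDim (AdicCompletion J (B ⧸ 𝔭) ⧸ P) = ringKrullDim (B ⧸ 𝔭) := by
  subst hJ
  haveI hN : IsNoetherianRing (AdicCompletion (maximalIdeal (B ⧸ 𝔭)) (B ⧸ 𝔭)) :=
    Groth.Agent.H20.isNoetherianRing_adicCompletion _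
  have hFC : EGA4.IsFormallyCatenary B := Groth.Agent.S9228.result B hB
  have hFE : EGA4.IsFormallyEquidim (B ⧸ 𝔭) := hFC 𝔭
  have hD1 : EGA4.HasSnFormalFibres 1 (B ⧸ 𝔭) :=
    Groth.Agent.H57.SnFormalFibres.hasSnFormalFibres_of_essFiniteType 1 B hF (B ⧸ 𝔭)
  have h1 : LocCoh.HasSk 1 (B ⧸ 𝔭) (B ⧸ 𝔭) :=
    Groth.Agent.H99.ReducedCrit.hasSk_one_of_isReduced (B ⧸ 𝔭)
  have h3 : LocCoh.HasSk 1 (EGA4.Cpl (B ⧸ 𝔭)) (EGA4.Cpl (B ⧸ 𝔭)) :=
    (Groth.Agent.S2645.result 1 (B ⧸ 𝔭) hD1).mp h1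
  have hSE : EGA4.IsStrictlyEquidim (EGA4.Cpl (B ⧸ 𝔭)) :=
    Groth.Agent.H57.StrictFC.isStrictlyEquidim_of_isEquidim_of_hasSk_one hFE h3
  rw [hSE P hP]
  exact Groth.Agent.Lead.RLR.ringKrullDim_adicCompletion_eq (B ⧸ 𝔭) (maximalIdeal (B ⧸ 𝔭))
    (Ideal.IsPrime.ne_top inferInstance)

/-- The dimension of `A_q ⧸ p A_q` is the height of `q ⧸ p` in `A ⧸ p`. -/
theorem ringKrullDim_quot_loc (A : Type u) [CommRing A] (p q : PrimeSpectrum A) (hpq : p ≤ q) :
    ringKrullDim (Localization.AtPrime q.asIdeal ⧸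
        p.asIdeal.map (algebraMap A (Localization.AtPrime q.asIdeal))) =
      ((q.asIdeal.map (Ideal.Quotient.mk p.asIdeal)).height : WithBot ℕ∞) := by
  haveI := Groth.Agent.H73.GrLoc.map_mk_isPrime p.asIdeal q.asIdeal hpq
  have hS := Groth.Agent.H73.GrLoc.algebraMapSubmonoid_primeCompl p.asIdeal q.asIdeal hpq
  haveI : IsLocalization.AtPrime (Localization.AtPrime q.asIdeal ⧸
        p.asIdeal.map (algebraMap A (Localization.AtPrime q.asIdeal)))
      (q.asIdeal.map (Ideal.Quotient.mk p.asIdeal)) := by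
    change IsLocalization (q.asIdeal.map (Ideal.Quotient.mk p.asIdeal)).primeCompl _
    rw [← hS]
    infer_instance
  exact IsLocalization.AtPrime.ringKrullDim_eq_height
    (q.asIdeal.map (Ideal.Quotient.mk p.asIdeal)) _

theorem main (A : Type u) [CommRing A] [IsNoetherianRing A] (hA : CAlg.IsUniversallyCatenary A)
    (I : Ideal A)
    (hF : ∀ q : PrimeSpectrum A, I ≤ q.asIdeal →
      EGA4.HasSnFormalFibres 1 (Localization.AtPrime q.asIdeal))
    (M : Type u) [AddCommGroup M] [Module A M] [Module.Finite A M]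
    (h : ∀ (p q : PrimeSpectrum A) (hpq : p ≤ q), p.asIdeal ∈ associatedPrimes A M →
      ¬ I ≤ p.asIdeal → I ≤ q.asIdeal → (2 : ℕ∞) ≤ Order.height (⟨q, hpq⟩ : Set.Ici p)) :
    Module.Finite A (LocCoh.H I 1 M) := by
  apply Groth.Agent.S1755.result A I M
  intro p hp hIp q hpq hIq P hP
  haveI hpp : p.IsPrime := hp.isPrime
  have hB : CAlg.IsUniversallyCatenary (Localization.AtPrime q.asIdeal) :=
    Groth.Agent.S9126.result A (Localization.AtPrime q.asIdeal) hA
  haveI h𝔭 : (p.map (algebraMap A (Localization.AtPrime q.asIdeal))).IsPrime :=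
    IsLocalization.isPrime_of_isPrime_disjoint q.asIdeal.primeCompl _ p hpp
      (Set.disjoint_left.mpr fun x hx hxp => hx (hpq hxp))
  have hne : p.map (algebraMap A (Localization.AtPrime q.asIdeal)) ≠ ⊤ := h𝔭.ne_top
  have hJ := Groth.Agent.H72.FlatCM.map_mk_maximalIdeal
    (p.map (algebraMap A (Localization.AtPrime q.asIdeal))) hne
  rw [dim_quot_ass_cpl (Localization.AtPrime q.asIdeal) hB (hF q hIq) _ _ hJ P hP]
  have hpq' : (⟨p, hpp⟩ : PrimeSpectrum A) ≤ q := hpq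
  have h2 := h ⟨p, hpp⟩ q hpq' hp hIp hIq
  have h3 := Groth.Agent.H81.RelCodim.height_Ici_eq ⟨p, hpp⟩ q hpq'
  rw [h3] at h2
  rw [ringKrullDim_quot_loc A ⟨p, hpp⟩ q hpq']
  have h4 : ((2 : ℕ∞) : WithBot ℕ∞) ≤
      ((q.asIdeal.map (Ideal.Quotient.mk (⟨p, hpp⟩ : PrimeSpectrum A).asIdeal)).height :
        WithBot ℕ∞) := WithBot.coe_le_coe.mpr h2
  exact h4

end Groth.Agent.H73.FinH1UC
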