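import Mathlib

/-!
# Finite intersections of valuation subrings

For a finite family of valuations on a field `L` and `x : L` there is `s ≥ 2` such that
`u = 1 + x + ⋯ + x^(s-1)` satisfies: `u⁻¹` and `x u⁻¹` are integral for all the valuations and
`u` is a unit at every valuation where `x` is integral.  This gives that a finite intersection of
valuation subrings (intersected with a subfield) is a semilocal Prüfer domain.
-/

set_option autoImplicit false
universe u

namespace Groth.Agent.H73.FinInterVal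

open Finset

section single

variable {L : Type*} [Field L] {Γ : Type*} [LinearOrderedCommGroupWithZero Γ] (v : Valuation L Γ)

theorem map_geom_le_one {x : L} (hx : v x ≤ 1) (s : ℕ) : v (∑ k ∈ range s, x ^ k) ≤ 1 := by
  apply Valuation.map_sum_le
  intro k _
  rw [map_pow]
  exact pow_le_one₀ zero_le hx

theorem map_geom_of_one_lt {x : L} (hx : 1 < v x) (s : ℕ) :
    v (∑ k ∈ range (s + 1), x ^ k) = v x ^ s := by
  induction s with
  | zero => simp
  | succ n ih =>
    rw [geom_sum_succ', ← map_pow]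
    apply Valuation.map_add_eq_of_lt_left
    rw [ih, map_pow]
    exact pow_lt_pow_right₀ hx (Nat.lt_succ_self n)

theorem geom_split (x : L) (d m : ℕ) :
    ∑ k ∈ range (d + m), x ^ k = ∑ k ∈ range d, x ^ k + x ^ d * ∑ k ∈ range m, x ^ k := by
  rw [Finset.sum_range_add, Finset.mul_sum]
  congr 1
  apply Finset.sum_congr rfl
  intro k _
  rw [pow_add]

/-- The set of `s` for which the geometric sum is a non-unit lies in the multiples of some
`d ≥ 2`. -/
theorem exists_dvd_of_map_geom_lt_one {x : L} (hx : v x ≤ 1) :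
    ∃ d : ℕ, 2 ≤ d ∧ ∀ s : ℕ, v (∑ k ∈ range s, x ^ k) < 1 → d ∣ s := by
  classical
  by_cases h : ∃ s : ℕ, 1 ≤ s ∧ v (∑ k ∈ range s, x ^ k) < 1
  · have hd1 := (Nat.find_spec h).1
    have hd2 := (Nat.find_spec h).2
    set d := Nat.find h with hd
    have hdne : d ≠ 1 := by
      intro h1
      rw [h1] at hd2
      simp at hd2
    have hvx : v x = 1 := by
      rcases lt_or_eq_of_le hx with hlt | heq
      · exfalso
        obtain ⟨n, hn⟩ : ∃ n, d = n + 1 := ⟨d - 1, by omega⟩
        rw [hn, geom_sum_succ, add_comm] at hd2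
        have : v (1 + x * ∑ i ∈ range n, x ^ i) = 1 := by
          apply Valuation.map_one_add_of_lt
          rw [map_mul]
          calc v x * v (∑ i ∈ range n, x ^ i) ≤ v x * 1 :=
                mul_le_mul_right (map_geom_le_one v hx n) _
            _ < 1 := by rwa [mul_one]
        rw [this] at hd2
        exact lt_irrefl _ hd2
      · exact heq
    refine ⟨d, by omega, ?_⟩
    intro s
    induction s using Nat.strong_induction_on with
    | _ s ih =>
      intro hs
      by_cases hsd : s < d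
      · by_cases hs0 : s = 0
        · rw [hs0]; exact dvd_zero _
        · exact absurd ⟨by omega, hs⟩ (Nat.find_min h hsd)
      · obtain ⟨m, rfl⟩ : ∃ m, s = d + m := ⟨s - d, by omega⟩
        have hm : v (∑ k ∈ range m, x ^ k) < 1 := by
          have h1 : x ^ d * ∑ k ∈ range m, x ^ k =
              ∑ k ∈ range (d + m), x ^ k - ∑ k ∈ range d, x ^ k := by
            rw [geom_split]; ring
          have h2 : v (x ^ d * ∑ k ∈ range m, x ^ k) < 1 := by
            rw [h1]
            exact lt_of_le_of_lt (Valuation.map_sub _ _ _) (max_lt hs hd2)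
          rwa [map_mul, map_pow, hvx, one_pow, one_mul] at h2
        have := ih m (by omega) hm
        exact (Nat.dvd_add_right (dvd_refl d)).mpr this
  · refine ⟨2, le_refl _, ?_⟩
    intro s hs
    by_cases hs0 : s = 0
    · rw [hs0]; exact dvd_zero _
    · exact absurd ⟨s, by omega, hs⟩ h

end single

section family

variable {L : Type*} [Field L] {ι : Type*} [Finite ι] {Γ : ι → Type*}
  [∀ i, LinearOrderedCommGroupWithZero (Γ i)] (v : ∀ i, Valuation L (Γ i))

/-- The simultaneous choice of `s`. -/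
theorem exists_geom (x : L) :
    ∃ s : ℕ, 2 ≤ s ∧ ∀ i, (v i x ≤ 1 → v i (∑ k ∈ range s, x ^ k) = 1) ∧
      (1 < v i x → v i (∑ k ∈ range s, x ^ k) = v i x ^ (s - 1)) := by
  classical
  have := Fintype.ofFinite ι
  have hd : ∀ i, ∃ d : ℕ, 2 ≤ d ∧
      (v i x ≤ 1 → ∀ s : ℕ, v i (∑ k ∈ range s, x ^ k) < 1 → d ∣ s) := by
    intro i
    by_cases hx : v i x ≤ 1
    · obtain ⟨d, hd2, hd⟩ := exists_dvd_of_map_geom_lt_one (v i) hx
      exact ⟨d, hd2, fun _ => hd⟩
    · exact ⟨2, le_refl _, fun h => absurd h hx⟩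
  choose d hd2 hd using hd
  have hprod : 1 ≤ ∏ i, d i := Nat.one_le_iff_ne_zero.mpr
    (Finset.prod_ne_zero_iff.mpr fun i _ => by have := hd2 i; omega)
  refine ⟨1 + ∏ i, d i, by omega, fun i => ⟨fun hx => ?_, fun hx => ?_⟩⟩
  · rcases lt_or_eq_of_le (map_geom_le_one (v i) hx (1 + ∏ i, d i)) with hlt | heq
    · exfalso
      have h1 := hd i hx _ hlt
      have h2 : d i ∣ ∏ i, d i := Finset.dvd_prod_of_mem d (Finset.mem_univ i)
      have h3 : d i ∣ 1 := (Nat.dvd_add_left h2).mp h1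
      have := hd2 i
      have := Nat.le_of_dvd one_pos h3
      omega
    · exact heq
  · have : 1 + ∏ i, d i = (∏ i, d i) + 1 := by ring
    rw [this, map_geom_of_one_lt (v i) hx]
    rfl

end family

section subring

variable {L : Type u} [Field L] {ι : Type*} [Finite ι] [Nonempty ι]
  (𝒱 : ι → ValuationSubring L) (K : Subfield L)

/-- The intersection of the valuation subrings `𝒱 i` and the subfield `K`. -/
def B : Subring L := (⨅ i, (𝒱 i).toSubring) ⊓ K.toSubring

variable {𝒱 K}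

omit [Finite ι] [Nonempty ι] in
theorem mem_B {y : L} : y ∈ B 𝒱 K ↔ (∀ i, y ∈ 𝒱 i) ∧ y ∈ K := by
  simp [B, Subring.mem_inf, Subring.mem_iInf]

omit [Finite ι] [Nonempty ι] in
theorem val_le_one {y : L} (hy : y ∈ B 𝒱 K) (i : ι) : (𝒱 i).valuation y ≤ 1 :=
  ((𝒱 i).valuation_le_one_iff y).mpr ((mem_B.mp hy).1 i)

/-- Every element of `K` is a quotient of two elements of `B`, the denominator being a unit at
every place where the element is integral. -/
theorem exists_frac {x : L} (hx : x ∈ K) :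
    ∃ a b : L, a ∈ B 𝒱 K ∧ b ∈ B 𝒱 K ∧ b ≠ 0 ∧ x = a / b ∧
      ∀ i, x ∈ 𝒱 i → (𝒱 i).valuation b = 1 := by
  obtain ⟨s, hs2, hs⟩ := exists_geom (fun i => (𝒱 i).valuation) x
  set u := ∑ k ∈ range s, x ^ k with hu
  have huK : u ∈ K := Subfield.sum_mem K fun k _ => pow_mem hx k
  have hu0 : u ≠ 0 := by
    obtain ⟨i⟩ := ‹Nonempty ι›
    intro h0
    rcases le_or_gt ((𝒱 i).valuation x) 1 with h | h
    · have := (hs i).1 h
      rw [h0, map_zero] at this
      exact zero_ne_one this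
    · have := (hs i).2 h
      rw [h0, map_zero] at this
      have hne : (𝒱 i).valuation x ≠ 0 := (lt_trans zero_lt_one h).ne'
      exact pow_ne_zero _ hne this.symm
  have hval : ∀ i, (𝒱 i).valuation u⁻¹ ≤ 1 ∧ (𝒱 i).valuation (x * u⁻¹) ≤ 1 ∧
      (x ∈ 𝒱 i → (𝒱 i).valuation u⁻¹ = 1) := by
    intro i
    rcases le_or_gt ((𝒱 i).valuation x) 1 with h | h
    · have h1 := (hs i).1 h
      refine ⟨by rw [map_inv₀, h1, inv_one], ?_, fun _ => by rw [map_inv₀, h1, inv_one]⟩
      rw [map_mul, map_inv₀, h1, inv_one, mul_one]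
      exact h
    · have h1 := (hs i).2 h
      have hpos : 0 < (𝒱 i).valuation x := lt_trans zero_lt_one h
      refine ⟨?_, ?_, fun hxi => absurd (((𝒱 i).valuation_le_one_iff x).mpr hxi) (not_le.mpr h)⟩
      · rw [map_inv₀, h1, inv_le_one₀ (pow_pos hpos _)]
        exact one_le_pow₀ h.le
      · obtain ⟨n, hn⟩ : ∃ n, s - 1 = n + 1 := ⟨s - 2, by omega⟩
        rw [map_mul, map_inv₀, h1, hn, pow_succ, mul_inv, ← mul_assoc, mul_comm, ← mul_assoc,
          inv_mul_cancel₀ hpos.ne', one_mul, inv_le_one₀ (pow_pos hpos _)]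
        exact one_le_pow₀ h.le
  refine ⟨x * u⁻¹, u⁻¹, ?_, ?_, inv_ne_zero hu0, ?_, fun i hi => (hval i).2.2 hi⟩
  · exact mem_B.mpr ⟨fun i => ((𝒱 i).valuation_le_one_iff _).mp (hval i).2.1,
      K.mul_mem hx (K.inv_mem huK)⟩
  · exact mem_B.mpr ⟨fun i => ((𝒱 i).valuation_le_one_iff _).mp (hval i).1, K.inv_mem huK⟩
  · rw [mul_div_assoc, div_self (inv_ne_zero hu0), mul_one]

omit [Finite ι] [Nonempty ι] in
theorem inv_mem_B {y : L} (hy : y ∈ B 𝒱 K) (h : ∀ i, (𝒱 i).valuation y = 1) : y⁻¹ ∈ B 𝒱 K :=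
  mem_B.mpr ⟨fun i => ((𝒱 i).valuation_le_one_iff _).mp (by rw [map_inv₀, h i, inv_one]),
    K.inv_mem (mem_B.mp hy).2⟩

variable (𝒱 K) in
/-- The centre of `𝒱 i` on `B`. -/
def p (i : ι) : Ideal (B 𝒱 K) where
  carrier := {y | (𝒱 i).valuation (y : L) < 1}
  zero_mem' := by simp
  add_mem' := by
    intro a b ha hb
    show (𝒱 i).valuation ((a : L) + (b : L)) < 1
    exact Valuation.map_add_lt _ ha hb
  smul_mem' := by
    intro c a ha
    show (𝒱 i).valuation ((c : L) * (a : L)) < 1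
    rw [map_mul]
    exact mul_lt_one_of_nonneg_of_lt_one_right (val_le_one c.2 i) zero_le ha

omit [Finite ι] [Nonempty ι] in
theorem mem_p {i : ι} {y : B 𝒱 K} : y ∈ p 𝒱 K i ↔ (𝒱 i).valuation (y : L) < 1 := Iff.rfl

instance p_isPrime (i : ι) : (p 𝒱 K i).IsPrime := by
  constructor
  · intro h
    have : (1 : B 𝒱 K) ∈ p 𝒱 K i := by rw [h]; trivial
    rw [mem_p] at this
    simp at this
  · intro a b hab
    rw [mem_p, Subring.coe_mul, map_mul] at hab
    by_contra hcon
    push Not at hcon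
    have ha : (𝒱 i).valuation (a : L) = 1 :=
      le_antisymm (val_le_one a.2 i) (not_lt.mp hcon.1)
    have hb : (𝒱 i).valuation (b : L) = 1 :=
      le_antisymm (val_le_one b.2 i) (not_lt.mp hcon.2)
    rw [ha, hb, one_mul] at hab
    exact lt_irrefl _ hab

theorem isUnit_of_forall_not_mem_p {y : B 𝒱 K} (h : ∀ i, y ∉ p 𝒱 K i) : IsUnit y := by
  have hv : ∀ i, (𝒱 i).valuation (y : L) = 1 := fun i =>
    le_antisymm (val_le_one y.2 i) (not_lt.mp (h i))
  have hy0 : (y : L) ≠ 0 := by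
    obtain ⟨i⟩ := ‹Nonempty ι›
    intro h0
    have := hv i
    rw [h0, map_zero] at this
    exact zero_ne_one this
  refine isUnit_iff_exists_inv.mpr ⟨⟨(y : L)⁻¹, inv_mem_B y.2 hv⟩, ?_⟩
  apply Subtype.ext
  show (y : L) * (y : L)⁻¹ = 1
  exact mul_inv_cancel₀ hy0

theorem exists_le_p (P : Ideal (B 𝒱 K)) [hP : P.IsPrime] : ∃ i, P ≤ p 𝒱 K i := by
  classical
  have := Fintype.ofFinite ι
  have hsub : (P : Set (B 𝒱 K)) ⊆ ⋃ i ∈ ((Finset.univ : Finset ι) : Set ι), (p 𝒱 K i : Set _) := by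
    intro y hy
    by_contra hcon
    have : ∀ i, y ∉ p 𝒱 K i := by
      intro i hi
      apply hcon
      simp only [Finset.coe_univ, Set.mem_univ, Set.iUnion_true, Set.mem_iUnion]
      exact ⟨i, hi⟩
    exact hP.ne_top (Ideal.eq_top_of_isUnit_mem _ hy (isUnit_of_forall_not_mem_p this))
  obtain ⟨i, -, hi⟩ := (Ideal.subset_union_prime (Classical.arbitrary ι) (Classical.arbitrary ι)
    (fun i _ _ _ => p_isPrime i)).mp hsub
  exact ⟨i, hi⟩

theorem finite_maximalSpectrum : Finite (MaximalSpectrum (B 𝒱 K)) := by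
  have h : ∀ M : MaximalSpectrum (B 𝒱 K), ∃ i, M.asIdeal = p 𝒱 K i := by
    intro M
    obtain ⟨i, hi⟩ := exists_le_p M.asIdeal
    exact ⟨i, M.isMaximal.eq_of_le (p_isPrime i).ne_top hi⟩
  choose f hf using h
  apply Finite.of_injective f
  intro M M' hMM'
  apply MaximalSpectrum.ext
  rw [hf M, hf M', hMM']

theorem valuationRing_localization (P : Ideal (B 𝒱 K)) [hP : P.IsPrime] :
    ValuationRing (Localization.AtPrime P) := by
  rw [ValuationRing.iff_dvd_total]
  obtain ⟨i, hi⟩ := exists_le_p P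
  -- the key divisibility
  have key : ∀ a₁ b₁ : B 𝒱 K, (a₁ : L) ≠ 0 → ((b₁ : L) / (a₁ : L)) ∈ 𝒱 i →
      algebraMap (B 𝒱 K) (Localization.AtPrime P) a₁ ∣
        algebraMap (B 𝒱 K) (Localization.AtPrime P) b₁ := by
    intro a₁ b₁ ha hx
    have hxK : ((b₁ : L) / (a₁ : L)) ∈ K := K.div_mem (mem_B.mp b₁.2).2 (mem_B.mp a₁.2).2
    obtain ⟨a', b', ha', hb', hb'0, hxe, hval⟩ := exists_frac (𝒱 := 𝒱) hxK
    have hb'P : (⟨b', hb'⟩ : B 𝒱 K) ∈ P.primeCompl := by
      intro hmem
      have := hi hmem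
      rw [mem_p, hval i hx] at this
      exact lt_irrefl _ this
    have hrel : b₁ * (⟨b', hb'⟩ : B 𝒱 K) = a₁ * (⟨a', ha'⟩ : B 𝒱 K) := by
      apply Subtype.ext
      show (b₁ : L) * b' = (a₁ : L) * a'
      field_simp at hxe
      rw [hxe]
    refine ⟨IsLocalization.mk' _ (⟨a', ha'⟩ : B 𝒱 K) ⟨_, hb'P⟩, ?_⟩
    rw [IsLocalization.mul_mk'_eq_mk'_of_mul, IsLocalization.eq_mk'_iff_mul_eq, ← map_mul]
    exact congrArg _ hrel
  constructor
  intro a b
  obtain ⟨a₁, s₁, rfl⟩ := IsLocalization.exists_mk'_eq P.primeCompl a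
  obtain ⟨b₁, s₂, rfl⟩ := IsLocalization.exists_mk'_eq P.primeCompl b
  have hred : ∀ (c d : B 𝒱 K) (s t : P.primeCompl),
      algebraMap (B 𝒱 K) (Localization.AtPrime P) c ∣
        algebraMap (B 𝒱 K) (Localization.AtPrime P) d →
      IsLocalization.mk' (Localization.AtPrime P) c s ∣
        IsLocalization.mk' (Localization.AtPrime P) d t := by
    intro c d s t hcd
    have h1 : IsLocalization.mk' (Localization.AtPrime P) c s ∣
        algebraMap (B 𝒱 K) (Localization.AtPrime P) c :=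
      ⟨algebraMap _ _ (s : B 𝒱 K), (IsLocalization.mk'_spec _ c s).symm⟩
    have h2 : algebraMap (B 𝒱 K) (Localization.AtPrime P) d ∣
        IsLocalization.mk' (Localization.AtPrime P) d t :=
      ⟨IsLocalization.mk' _ 1 t, IsLocalization.mk'_eq_mul_mk'_one d t⟩
    exact h1.trans (hcd.trans h2)
  by_cases ha0 : (a₁ : L) = 0
  · right
    have : a₁ = 0 := Subtype.ext ha0
    rw [this, IsLocalization.mk'_zero]
    exact dvd_zero _
  by_cases hb0 : (b₁ : L) = 0
  · left
    have : b₁ = 0 := Subtype.ext hb0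
    rw [this, IsLocalization.mk'_zero]
    exact dvd_zero _
  rcases (𝒱 i).mem_or_inv_mem ((b₁ : L) / (a₁ : L)) with h | h
  · left
    exact hred _ _ _ _ (key a₁ b₁ ha0 h)
  · right
    rw [inv_div] at h
    exact hred _ _ _ _ (key b₁ a₁ hb0 h)

end subring

end Groth.Agent.H73.FinInterVal
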