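import Groth.Agent.H73.SubtrFlat
import Mathlib.AlgebraicGeometry.IdealSheaf.Subscheme
import Mathlib.AlgebraicGeometry.Morphisms.ClosedImmersion

set_option autoImplicit false

universe u

namespace Groth.Agent.H73

open CategoryTheory CategoryTheory.Limits AlgebraicGeometry IsLocalRing TopologicalSpace

/-- The ideal of the reduced induced structure on `closure {x'}` on an affine open not
containing `x'` is `⊤`. -/
lemma vanishingIdeal_closure_ideal_of_notMem {X : Scheme.{u}} (x' : X) (U : X.affineOpens)
    (h : x' ∉ U.1) :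
    (Scheme.IdealSheafData.vanishingIdeal ⟨closure {x'}, isClosed_closure⟩).ideal U = ⊤ := by
  rw [Scheme.IdealSheafData.vanishingIdeal_ideal]
  have : (U.2.fromSpec ⁻¹' ((⟨closure {x'}, isClosed_closure⟩ : Closeds X) : Set X)) = ∅ := by
    rw [Set.eq_empty_iff_forall_notMem]
    intro p hp
    have hsp : x' ⤳ U.2.fromSpec p := specializes_iff_mem_closure.mpr hp
    have hpU : U.2.fromSpec p ∈ U.1 := by
      have : U.2.fromSpec p ∈ Set.range U.2.fromSpec := ⟨p, rfl⟩
      rwa [U.2.range_fromSpec] at this
    exact h (hsp.mem_open U.1.2 hpU)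
  exact (congrArg PrimeSpectrum.vanishingIdeal this).trans PrimeSpectrum.vanishingIdeal_empty

/-- The ideal of the reduced induced structure on `closure {x'}` on an affine open containing
`x' = fromSpec q'` is `q'`. -/
lemma vanishingIdeal_closure_ideal_of_mem {X : Scheme.{u}} (U : X.affineOpens)
    (q' : PrimeSpectrum Γ(X, U.1)) :
    (Scheme.IdealSheafData.vanishingIdeal
      ⟨closure {U.2.fromSpec q'}, isClosed_closure⟩).ideal U = q'.asIdeal := by
  rw [Scheme.IdealSheafData.vanishingIdeal_ideal]
  have : (U.2.fromSpec ⁻¹' ((⟨closure {U.2.fromSpec q'}, isClosed_closure⟩ : Closeds X) : Set X)) =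
      closure {q'} := by
    show U.2.fromSpec ⁻¹' closure {U.2.fromSpec q'} = closure {q'}
    rw [U.2.fromSpec.isOpenEmbedding.isOpenMap.preimage_closure_eq_closure_preimage
      U.2.fromSpec.continuous]
    congr 1
    ext p
    simp only [Set.mem_preimage, Set.mem_singleton_iff]
    exact U.2.fromSpec.isOpenEmbedding.injective.eq_iff
  exact (congrArg PrimeSpectrum.vanishingIdeal this).trans
    ((PrimeSpectrum.vanishingIdeal_closure _).trans (PrimeSpectrum.vanishingIdeal_singleton q'))

theorem exists_flat_closedSubscheme {V : Type u} [CommRing V] [IsDomain V] [ValuationRing V]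
    {X : Scheme.{u}} (f : X ⟶ Spec (CommRingCat.of V)) (x x' : X) (hxx' : x' ⤳ x)
    (hx : f x = closedPoint V)
    (hx' : f x' = (⟨⊥, Ideal.isPrime_bot⟩ : PrimeSpectrum V)) :
    ∃ (Z : Scheme.{u}) (i : Z ⟶ X), IsClosedImmersion i ∧ Flat (i ≫ f) ∧ Surjective (i ≫ f) := by
  let Z₀ : Closeds X := ⟨closure {x'}, isClosed_closure⟩
  let I := Scheme.IdealSheafData.vanishingIdeal Z₀
  have hflat : Flat (I.subschemeι ≫ f) := by
    rw [IsZariskiLocalAtSource.iff_of_openCover (P := @Flat) I.subschemeCover.openCover]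
    intro (U : X.affineOpens)
    have hcomp : I.subschemeCover.openCover.f U ≫ I.subschemeι ≫ f =
        Spec.map (CommRingCat.ofHom (Ideal.Quotient.mk (I.ideal U))) ≫ U.2.fromSpec ≫ f := by
      rw [← Category.assoc, ← Category.assoc]
      congr 1
      show I.subschemeCover.f U ≫ I.subschemeι = _
      rw [Scheme.IdealSheafData.subschemeCover_map_subschemeι,
        Scheme.IdealSheafData.glueDataObjι_ι]
    obtain ⟨ψ, hψ⟩ := Spec.map_surjective (U.2.fromSpec ≫ f)
    rw [hcomp, ← hψ, ← Spec.map_comp]
    apply Flat.SpecMap_iff.mpr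
    by_cases hU : x' ∈ U.1
    · -- the ideal is prime and the map is injective
      obtain ⟨q', hq'⟩ : ∃ q', U.2.fromSpec q' = x' := by
        have : x' ∈ Set.range U.2.fromSpec := by rw [U.2.range_fromSpec]; exact hU
        exact this
      have hIU : I.ideal U = q'.asIdeal := by
        have := vanishingIdeal_closure_ideal_of_mem U q'
        rw [hq'] at this
        exact this
      have hprime : (I.ideal U).IsPrime := by rw [hIU]; exact q'.isPrime
      have hdom : IsDomain (Γ(X, U.1) ⧸ I.ideal U) := Ideal.Quotient.isDomain (I.ideal U)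
      refine flat_of_injective_of_isBezout _ ?_
      rw [injective_iff_map_eq_zero]
      intro v hv
      have hv' : ψ.hom v ∈ I.ideal U := Ideal.Quotient.eq_zero_iff_mem.mp hv
      rw [hIU] at hv'
      have h1 : (Spec.map ψ) q' = f x' := by
        rw [hψ, Scheme.Hom.comp_apply, hq']
      have h2 : v ∈ ((Spec.map ψ) q').asIdeal := hv'
      rw [h1, hx'] at h2
      exact (Ideal.mem_bot).mp h2
    · have hIU : I.ideal U = ⊤ := vanishingIdeal_closure_ideal_of_notMem x' U hU
      have hsub : Subsingleton (Γ(X, U.1) ⧸ I.ideal U) := by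
        rw [hIU]
        exact Ideal.Quotient.subsingleton_iff.mpr rfl
      let _ : Algebra V (Γ(X, U.1) ⧸ I.ideal U) :=
        (ψ ≫ CommRingCat.ofHom (Ideal.Quotient.mk (I.ideal U))).hom.toAlgebra
      have : Module.Flat V (Γ(X, U.1) ⧸ I.ideal U) := inferInstance
      exact RingHom.flat_algebraMap_iff.mpr this
  refine ⟨I.subscheme, I.subschemeι, inferInstance, hflat, ⟨?_⟩⟩
  intro y
  have hxmem : x ∈ Set.range I.subschemeι := by
    rw [I.range_subschemeι]
    show x ∈ closure {x'}
    exact specializes_iff_mem_closure.mp hxx'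
  obtain ⟨z, hz⟩ := hxmem
  have hys : y ⤳ (I.subschemeι ≫ f) z := by
    rw [Scheme.Hom.comp_apply, hz, hx]
    exact (PrimeSpectrum.le_iff_specializes y (closedPoint V)).mp
      (IsLocalRing.le_maximalIdeal y.isPrime.ne_top)
  obtain ⟨z', -, hz'⟩ := (Flat.generalizingMap (I.subschemeι ≫ f)) hys
  exact ⟨z', hz'⟩

end Groth.Agent.H73
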