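import Mathlib

/-!
# `k[R^(p^n)]` is geometrically reduced for `n ≫ 0`

For a finitely generated algebra `R` over a field `k` of characteristic `p`, the `k`-subalgebra
generated by the `p^n`-th powers is geometrically reduced for `n` large.
-/

set_option autoImplicit false
universe u

open TensorProduct

namespace Groth.Agent.H73.FrobReduced

/-- The subalgebra of `p^n`-th powers in an algebra over an algebraically closed field of
characteristic `p`. -/
noncomputable def powSubalgebra (K : Type u) [Field K] [IsAlgClosed K] (T : Type u) [CommRing T]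
    [Algebra K T] (p : ℕ) [Fact p.Prime] [CharP T p] (n : ℕ) : Subalgebra K T :=
  { (iterateFrobenius T p n).rangeS with
    algebraMap_mem' := fun c => by
      obtain ⟨d, hd⟩ := IsAlgClosed.exists_pow_nat_eq c (pow_pos (Fact.out : p.Prime).pos n)
      refine ⟨algebraMap K T d, ?_⟩
      rw [iterateFrobenius_def, ← map_pow, hd] }

theorem mem_powSubalgebra {K : Type u} [Field K] [IsAlgClosed K] {T : Type u} [CommRing T]
    [Algebra K T] {p : ℕ} [Fact p.Prime] [CharP T p] {n : ℕ} {x : T} :
    x ∈ powSubalgebra K T p n ↔ ∃ z : T, z ^ p ^ n = x := by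
  change x ∈ (iterateFrobenius T p n).rangeS ↔ _
  simp [RingHom.mem_rangeS, iterateFrobenius_def]

theorem reduced_tensor_adjoin (k : Type u) [Field k] (p : ℕ) [Fact p.Prime]
    (R : Type u) [CommRing R] [Algebra k R] (K : Type u) [Field K] [Algebra k K] [IsAlgClosed K]
    [CharP (K ⊗[k] R) p] (n : ℕ)
    (hn : ∀ z : K ⊗[k] R, IsNilpotent z → z ^ p ^ n = 0) :
    IsReduced (K ⊗[k] ↥(Algebra.adjoin k (Set.range (fun x : R => x ^ (p ^ n))))) := by
  set A := Algebra.adjoin k (Set.range (fun x : R => x ^ (p ^ n))) with hA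
  let φ : K ⊗[k] A →ₐ[K] K ⊗[k] R := Algebra.TensorProduct.map (AlgHom.id K K) A.val
  have hφ : Function.Injective φ :=
    Module.Flat.lTensor_preserves_injective_linearMap (M := K) A.val.toLinearMap
      Subtype.val_injective
  -- the image lies in the subalgebra of `p^n`-th powers
  have h1 : ∀ a : R, a ∈ A → (1 : K) ⊗ₜ[k] a ∈ powSubalgebra K (K ⊗[k] R) p n := by
    intro a ha
    induction ha using Algebra.adjoin_induction with
    | mem x hx =>
      obtain ⟨r, rfl⟩ := hx
      rw [mem_powSubalgebra]
      exact ⟨1 ⊗ₜ r, by simp [Algebra.TensorProduct.tmul_pow]⟩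
    | algebraMap r =>
      have : (1 : K) ⊗ₜ[k] (algebraMap k R r) = algebraMap K (K ⊗[k] R) (algebraMap k K r) := by
        calc (1 : K) ⊗ₜ[k] (algebraMap k R r) = (1 : K) ⊗ₜ[k] (r • (1 : R)) := by
              rw [Algebra.algebraMap_eq_smul_one]
          _ = (r • (1 : K)) ⊗ₜ[k] (1 : R) := (TensorProduct.smul_tmul r 1 1).symm
          _ = algebraMap K (K ⊗[k] R) (algebraMap k K r) := by
              rw [Algebra.TensorProduct.algebraMap_apply, ← Algebra.algebraMap_eq_smul_one]
              rfl
      rw [this]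
      exact Subalgebra.algebraMap_mem _ _
    | add x y _ _ hx hy =>
      rw [TensorProduct.tmul_add]
      exact add_mem hx hy
    | mul x y _ _ hx hy =>
      have : (1 : K) ⊗ₜ[k] (x * y) = (1 ⊗ₜ x) * (1 ⊗ₜ y) := by
        simp [Algebra.TensorProduct.tmul_mul_tmul]
      rw [this]
      exact mul_mem hx hy
  have h2 : ∀ y : K ⊗[k] A, φ y ∈ powSubalgebra K (K ⊗[k] R) p n := by
    intro y
    induction y using TensorProduct.induction_on with
    | zero => simp
    | tmul c a =>
      have : φ (c ⊗ₜ a) = c • ((1 : K) ⊗ₜ[k] (a : R)) := by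
        simp [φ, TensorProduct.smul_tmul']
      rw [this]
      exact Subalgebra.smul_mem _ (h1 _ a.2) _
    | add x y hx hy =>
      rw [map_add]
      exact add_mem hx hy
  refine ⟨fun y hy => ?_⟩
  obtain ⟨z, hz⟩ := mem_powSubalgebra.mp (h2 y)
  have hnil : IsNilpotent (φ y) := hy.map φ
  have hz' : IsNilpotent z := by
    rw [← hz] at hnil
    exact hnil.of_pow
  have : φ y = 0 := by rw [← hz, hn z hz']
  exact hφ (by rw [this, map_zero])

theorem main (k : Type u) [Field k] (p : ℕ) [Fact p.Prime] [CharP k p]
    (R : Type u) [CommRing R] [Algebra k R] [Algebra.FiniteType k R] :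
    ∃ n : ℕ, Algebra.IsGeometricallyReduced k
      ↥(Algebra.adjoin k (Set.range (fun x : R => x ^ (p ^ n)))) := by
  let K := AlgebraicClosure k
  rcases subsingleton_or_nontrivial R with hR | hR
  · refine ⟨0, ?_⟩
    rw [Algebra.isGeometricallyReduced_field_iff]
    have : Subsingleton ↥(Algebra.adjoin k (Set.range (fun x : R => x ^ (p ^ 0)))) :=
      ⟨fun a b => Subtype.ext (Subsingleton.elim _ _)⟩
    have : Subsingleton (K ⊗[k] ↥(Algebra.adjoin k (Set.range (fun x : R => x ^ (p ^ 0))))) :=
      inferInstance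
    infer_instance
  · have : Nontrivial (K ⊗[k] R) := by
      have : Function.Injective (Algebra.TensorProduct.includeRight : R →ₐ[k] K ⊗[k] R) :=
        Algebra.TensorProduct.includeRight_injective (RingHom.injective _)
      exact this.nontrivial
    have hcK : CharP K p := charP_of_injective_algebraMap (algebraMap k K).injective p
    have : CharP (K ⊗[k] R) p :=
      charP_of_injective_algebraMap (algebraMap K (K ⊗[k] R)).injective p
    have : Algebra.FiniteType K (K ⊗[k] R) := inferInstance
    have : IsNoetherianRing (K ⊗[k] R) := Algebra.FiniteType.isNoetherianRing K _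
    obtain ⟨m, hm⟩ := IsNoetherianRing.isNilpotent_nilradical (K ⊗[k] R)
    refine ⟨m, ?_⟩
    rw [Algebra.isGeometricallyReduced_field_iff]
    refine reduced_tensor_adjoin k p R K m fun z hz => ?_
    have h1 : z ^ m = 0 := by
      have : z ^ m ∈ nilradical (K ⊗[k] R) ^ m :=
        Ideal.pow_mem_pow (mem_nilradical.mpr hz) m
      rw [hm] at this
      simpa using this
    have h2 : m ≤ p ^ m := (Nat.lt_pow_self (Fact.out : p.Prime).one_lt).le
    rw [← Nat.sub_add_cancel h2, pow_add, h1, mul_zero]

end Groth.Agent.H73.FrobReduced
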