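import Mathlib
import Groth.Agent.H13.JacobsonFinite
import Groth.Agent.H15.MTAlg7
import Groth.Agent.H58.HL.Hyper
import Groth.Agent.H54.Dim

/-!
# Frobenius twists of the base field (helper73)

`Tw k p m` is the field `k` seen as an extension of `k` via the `m`-th iterate of Frobenius.
For a `k`-algebra `A` which is a domain, `(Tw k p m ⊗[k] A) / nilradical` embeds in `A` via
`c ⊗ a ↦ c * a ^ p ^ m`; its image is the subring `k[A ^ (p ^ m)]`.
-/

set_option autoImplicit false
set_option linter.unusedSectionVars false
set_option linter.style.haveILetI false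
universe u

namespace Groth.Agent.H73.FrobTwist

open IsLocalRing TensorProduct

/-- `k` as an extension of itself via the `m`-th iterate of Frobenius. -/
def Tw (k : Type u) (p m : ℕ) : Type u := k

/-- `A` with the `k`-algebra structure twisted by the `m`-th iterate of Frobenius. -/
def TwA (k A : Type u) (p m : ℕ) : Type u := A

section Tw

variable (k : Type u) [Field k] (p m : ℕ) [ExpChar k p]

noncomputable instance : Field (Tw k p m) := inferInstanceAs (Field k)

instance : ExpChar (Tw k p m) p := inferInstanceAs (ExpChar k p)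

/-- the identity -/
def Tw.e : Tw k p m ≃+* k := RingEquiv.refl k

noncomputable instance : Algebra k (Tw k p m) :=
  (show k →+* Tw k p m from iterateFrobenius k p m).toAlgebra

theorem algebraMap_Tw (c : k) : algebraMap k (Tw k p m) c = (Tw.e k p m).symm (c ^ p ^ m) := rfl

theorem finite_iterateFrobenius (hk : (frobenius k p).Finite) :
    (iterateFrobenius k p m).Finite := by
  induction m with
  | zero =>
    rw [iterateFrobenius_zero]
    exact RingHom.Finite.id k
  | succ m ih =>
    rw [iterateFrobenius_add, iterateFrobenius_one]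
    exact RingHom.Finite.comp ih hk

theorem finite_Tw (hk : (frobenius k p).Finite) : Module.Finite k (Tw k p m) :=
  finite_iterateFrobenius k p m hk

theorem isPurelyInseparable_Tw : IsPurelyInseparable k (Tw k p m) := by
  rw [isPurelyInseparable_iff_pow_mem k p]
  intro x
  exact ⟨m, Tw.e k p m x, rfl⟩

theorem frobenius_Tw_finite (hk : (frobenius k p).Finite) :
    (frobenius (Tw k p m) p).Finite := hk

variable (A : Type u) [CommRing A] [Algebra k A]

noncomputable instance : CommRing (TwA k A p m) := inferInstanceAs (CommRing A)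

noncomputable instance : Algebra k (TwA k A p m) :=
  (show k →+* TwA k A p m from (algebraMap k A).comp (iterateFrobenius k p m)).toAlgebra

variable [ExpChar A p]

/-- `k' → A`. -/
noncomputable def fTw : Tw k p m →ₐ[k] TwA k A p m :=
  { (show Tw k p m →+* TwA k A p m from algebraMap k A) with
    commutes' := fun _ => rfl }

/-- the Frobenius `A → A`. -/
noncomputable def gTw : A →ₐ[k] TwA k A p m :=
  { (show A →+* TwA k A p m from iterateFrobenius A p m) with
    commutes' := fun c => by
      show (algebraMap k A c) ^ p ^ m = algebraMap k A (c ^ p ^ m)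
      rw [map_pow] }

/-- `c ⊗ a ↦ c * a ^ p ^ m`. -/
noncomputable def Phi : Tw k p m ⊗[k] A →+* A :=
  (show Tw k p m ⊗[k] A →+* A from
    (Algebra.TensorProduct.productMap (fTw k p m A) (gTw k p m A)).toRingHom)

theorem Phi_tmul (c : Tw k p m) (a : A) :
    Phi k p m A (c ⊗ₜ a) = algebraMap k A (Tw.e k p m c) * a ^ p ^ m := by
  show (Algebra.TensorProduct.productMap (fTw k p m A) (gTw k p m A)) (c ⊗ₜ a) = _
  rw [Algebra.TensorProduct.productMap_apply_tmul]
  rfl

variable [Nontrivial A]

theorem pow_eq_one_tmul_Phi (x : Tw k p m ⊗[k] A) :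
    x ^ p ^ m = (1 : Tw k p m) ⊗ₜ[k] (Phi k p m A x) := by
  haveI : Nontrivial (Tw k p m ⊗[k] A) := (Phi k p m A).domain_nontrivial
  haveI : ExpChar (Tw k p m ⊗[k] A) p :=
    expChar_of_injective_algebraMap (algebraMap k (Tw k p m ⊗[k] A)).injective p
  have hq : p ^ m ≠ 0 := pow_ne_zero _ (expChar_pos k p).ne'
  induction x using TensorProduct.induction_on with
  | zero => rw [zero_pow hq, map_zero, TensorProduct.tmul_zero]
  | tmul c a =>
    rw [Algebra.TensorProduct.tmul_pow, Phi_tmul, ← Algebra.smul_def, ← TensorProduct.smul_tmul,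
      Algebra.smul_def (Tw.e k p m c) (1 : Tw k p m), mul_one]
    rfl
  | add x y hx hy => rw [add_pow_expChar_pow, hx, hy, map_add, TensorProduct.tmul_add]

end Tw

section Dom

variable (k : Type u) [Field k] (p m : ℕ) [ExpChar k p] (A : Type u) [CommRing A] [Algebra k A]
  [IsDomain A]

include k in
theorem expChar_A : ExpChar A p :=
  expChar_of_injective_algebraMap (algebraMap k A).injective p

variable [ExpChar A p]

theorem ker_Phi : RingHom.ker (Phi k p m A) = nilradical (Tw k p m ⊗[k] A) := by
  ext x
  rw [RingHom.mem_ker, mem_nilradical]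
  constructor
  · intro h
    exact ⟨p ^ m, by rw [pow_eq_one_tmul_Phi, h, TensorProduct.tmul_zero]⟩
  · intro h
    exact (h.map (Phi k p m A)).eq_zero

local notation "R'" => (Tw k p m ⊗[k] A) ⧸ nilradical (Tw k p m ⊗[k] A)

/-- the embedding of `(k' ⊗ A)_red` into `A`. -/
noncomputable def PhiBar : R' →+* A :=
  Ideal.Quotient.lift _ (Phi k p m A) (fun x hx => by
    rw [← ker_Phi] at hx
    exact hx)

theorem PhiBar_mk (y : Tw k p m ⊗[k] A) :
    PhiBar k p m A (Ideal.Quotient.mk _ y) = Phi k p m A y := rfl

theorem PhiBar_injective : Function.Injective (PhiBar k p m A) := by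
  rw [injective_iff_map_eq_zero]
  intro x hx
  obtain ⟨y, rfl⟩ := Ideal.Quotient.mk_surjective x
  rw [PhiBar_mk] at hx
  rw [Ideal.Quotient.eq_zero_iff_mem, ← ker_Phi]
  exact hx

theorem isPrime_nilradical : (nilradical (Tw k p m ⊗[k] A)).IsPrime := by
  rw [← ker_Phi]
  exact RingHom.ker_isPrime _

theorem isDomain_R' : IsDomain R' := by
  haveI := isPrime_nilradical k p m A
  exact Ideal.Quotient.isDomain _

theorem isLocalHom_PhiBar : IsLocalHom (PhiBar k p m A) := by
  constructor
  intro x hx
  obtain ⟨y, rfl⟩ := Ideal.Quotient.mk_surjective x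
  rw [PhiBar_mk] at hx
  have h1 : IsUnit (y ^ p ^ m) := by
    rw [pow_eq_one_tmul_Phi]
    exact hx.map (Algebra.TensorProduct.includeRight : A →ₐ[k] Tw k p m ⊗[k] A)
  have hq : p ^ m ≠ 0 := pow_ne_zero _ (expChar_pos k p).ne'
  exact ((isUnit_pow_iff hq).mp h1).map (Ideal.Quotient.mk _)

/-- `a ↦ 1 ⊗ a`. -/
noncomputable def iota : A →+* R' :=
  ((Ideal.Quotient.mk _).comp
    (Algebra.TensorProduct.comm k A (Tw k p m)).toRingEquiv.toRingHom).comp
    (algebraMap A (A ⊗[k] Tw k p m))

theorem iota_apply (a : A) : iota k p m A a = Ideal.Quotient.mk _ ((1 : Tw k p m) ⊗ₜ[k] a) := by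
  show Ideal.Quotient.mk _ ((Algebra.TensorProduct.comm k A (Tw k p m))
    (algebraMap A (A ⊗[k] Tw k p m) a)) = _
  rw [Algebra.TensorProduct.algebraMap_apply, Algebra.algebraMap_self, RingHom.id_apply,
    Algebra.TensorProduct.comm_tmul]

theorem PhiBar_iota (a : A) : PhiBar k p m A (iota k p m A a) = a ^ p ^ m := by
  rw [iota_apply, PhiBar_mk, Phi_tmul, map_one, map_one, one_mul]

theorem iota_finite [Module.Finite k (Tw k p m)] : (iota k p m A).Finite := by
  refine RingHom.Finite.comp ?_ ?_
  · apply RingHom.Finite.of_surjective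
    exact Ideal.Quotient.mk_surjective.comp
      (Algebra.TensorProduct.comm k A (Tw k p m)).toRingEquiv.surjective
  · exact RingHom.finite_algebraMap.mpr inferInstance

theorem isLocalHom_iota : IsLocalHom (iota k p m A) := by
  constructor
  intro a ha
  have h1 : IsUnit (a ^ p ^ m) := by
    rw [← PhiBar_iota k p m A a]
    exact ha.map _
  have hq : p ^ m ≠ 0 := pow_ne_zero _ (expChar_pos k p).ne'
  exact (isUnit_pow_iff hq).mp h1

theorem PhiBar_isIntegral : (PhiBar k p m A).IsIntegral := by
  intro a
  have hq : p ^ m ≠ 0 := pow_ne_zero _ (expChar_pos k p).ne'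
  refine ⟨Polynomial.X ^ (p ^ m) - Polynomial.C (iota k p m A a),
    Polynomial.monic_X_pow_sub_C _ hq, ?_⟩
  rw [Polynomial.eval₂_sub, Polynomial.eval₂_pow, Polynomial.eval₂_X, Polynomial.eval₂_C,
    PhiBar_iota, sub_self]

theorem ringKrullDim_R' : ringKrullDim R' = ringKrullDim A :=
  Groth.Agent.H54.ringKrullDim_eq_of_ringHom_isIntegral_of_injective (PhiBar k p m A)
    (PhiBar_isIntegral k p m A) (PhiBar_injective k p m A)

theorem isNoetherianRing_R' [Module.Finite k (Tw k p m)] [IsNoetherianRing A] :
    IsNoetherianRing R' := by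
  letI : Algebra A R' := (iota k p m A).toAlgebra
  haveI : Module.Finite A R' := iota_finite k p m A
  exact IsNoetherianRing.of_finite A R'

variable [IsLocalRing A]

theorem isLocalRing_R' : IsLocalRing R' := by
  haveI := isLocalHom_PhiBar k p m A
  exact RingHom.domain_isLocalRing (PhiBar k p m A)

theorem maximalIdeal_R'_ne_bot (hA : ¬ IsField A) :
    letI := isLocalRing_R' k p m A
    maximalIdeal R' ≠ ⊥ := by
  letI := isLocalRing_R' k p m A
  intro h
  rw [IsLocalRing.isField_iff_maximalIdeal_eq] at hA
  obtain ⟨a, ha, ha0⟩ := Submodule.exists_mem_ne_zero_of_ne_bot hA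
  haveI := isLocalHom_iota k p m A
  have h1 : iota k p m A a ∈ maximalIdeal R' := by
    rw [mem_maximalIdeal, mem_nonunits_iff]
    intro hu
    exact ha (isUnit_of_map_unit (iota k p m A) a hu)
  rw [h, Ideal.mem_bot] at h1
  have h2 := PhiBar_iota k p m A a
  rw [h1, map_zero] at h2
  exact ha0 ((pow_eq_zero_iff (pow_ne_zero _ (expChar_pos k p).ne')).mp h2.symm)

theorem isAdicComplete_R' [Module.Finite k (Tw k p m)] [IsNoetherianRing A]
    [IsAdicComplete (maximalIdeal A) A] :
    letI := isLocalRing_R' k p m A
    IsAdicComplete (maximalIdeal R') R' := by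
  letI := isLocalRing_R' k p m A
  letI : Algebra A R' := (iota k p m A).toAlgebra
  haveI : Module.Finite A R' := iota_finite k p m A
  haveI : Algebra.IsIntegral A R' := Algebra.IsIntegral.of_finite A R'
  haveI h1 : IsAdicComplete ((maximalIdeal A).map (algebraMap A R')) R' :=
    Groth.Agent.H15.MTA.isAdicComplete_map_of_finite (maximalIdeal A) R'
  have hjac : (⊥ : Ideal R').jacobson = maximalIdeal R' :=
    IsLocalRing.jacobson_eq_maximalIdeal ⊥ bot_ne_top
  have hle : (maximalIdeal A).map (algebraMap A R') ≤ maximalIdeal R' := by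
    rw [← hjac]
    exact Groth.Agent.H13.JacobsonFinite.map_maximalIdeal_le_jacobson A R'
  obtain ⟨e, he⟩ := Groth.Agent.H13.JacobsonFinite.exists_jacobson_pow_le A R'
  rw [hjac] at he
  exact Groth.Agent.H58.HL.isAdicComplete_of_le_of_pow_le _ _ hle e he

theorem finite_residueField_R' [Module.Finite k (Tw k p m)]
    [Module.Finite k (ResidueField A)] :
    letI := isLocalRing_R' k p m A
    Module.Finite (Tw k p m) (ResidueField R') := by
  letI := isLocalRing_R' k p m A
  letI : Algebra A R' := (iota k p m A).toAlgebra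
  haveI : Module.Finite A R' := iota_finite k p m A
  haveI : IsLocalHom (algebraMap A R') := isLocalHom_iota k p m A
  haveI : IsScalarTower k A R' := IsScalarTower.of_algebraMap_eq (fun c => by
    show algebraMap k R' c = iota k p m A (algebraMap k A c)
    rw [iota_apply, Algebra.algebraMap_eq_smul_one c (A := A), TensorProduct.tmul_smul,
      Algebra.algebraMap_eq_smul_one]
    rfl)
  haveI h1 : Module.Finite (ResidueField A) (ResidueField R') :=
    IsLocalRing.ResidueField.finite_of_module_finite
  haveI h2 : Module.Finite k (ResidueField R') := Module.Finite.trans (ResidueField A) _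
  exact Module.Finite.of_restrictScalars_finite k (Tw k p m) (ResidueField R')

end Dom

end Groth.Agent.H73.FrobTwist
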