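import Mathlib
import Groth.Prelude.Def_W4c5flasquetoriphsGLat

namespace Groth.Agent.H73.GLatLib

open GLat

variable {G : Type*} [Group G] {M : Type*} [AddCommGroup M]

/-- A permutation module is coflasque with respect to every finite subgroup. -/
theorem cob_of_perm (τ : Representation ℤ G M) {ι : Type*} (b : Module.Basis ι ℤ M)
    (hperm : ∀ (g : G) (i : ι), ∃ j : ι, τ g (b i) = b j)
    (H : Subgroup G) [Finite H] (f : H → M)
    (hf : ∀ a b : H, f (a * b) = f a + τ (a : G) (f b)) :
    ∃ m : M, ∀ a : H, f a = τ (a : G) m - m := by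
  classical
  have : Fintype H := Fintype.ofFinite H
  choose σ hσ using hperm
  -- σ_a is a bijection
  have hσinv : ∀ (a : G) (j : ι), σ a (σ a⁻¹ j) = j := by
    intro a j
    apply b.injective
    rw [← hσ, ← hσ, ← Module.End.mul_apply, ← map_mul, mul_inv_cancel, map_one]
    rfl
  have hσinj : ∀ a : G, Function.Injective (σ a) := by
    intro a i j hij
    have := congrArg (σ a⁻¹) hij
    have h1 := hσinv a⁻¹ i
    have h2 := hσinv a⁻¹ j
    rw [inv_inv] at h1 h2
    rw [h1, h2] at this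
    exact this
  have hσsurj : ∀ a : G, Function.Surjective (σ a) := fun a j => ⟨_, hσinv a j⟩
  -- coordinates of τ a v
  have hrepr : ∀ (a : G) (v : M), b.repr (τ a v) = (b.repr v).mapDomain (σ a) := by
    intro a v
    have : (b.repr : M →ₗ[ℤ] ι →₀ ℤ) ∘ₗ τ a = (Finsupp.lmapDomain ℤ ℤ (σ a)) ∘ₗ (b.repr : M →ₗ[ℤ] ι →₀ ℤ) := by
      apply b.ext
      intro i
      simp [hσ, Finsupp.lmapDomain_apply, Finsupp.mapDomain_single]
    exact LinearMap.congr_fun this v
  set N : ℤ := (Fintype.card H : ℤ) with hN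
  have hN0 : N ≠ 0 := by
    rw [hN]; exact_mod_cast Fintype.card_ne_zero
  set m₀ : M := - ∑ h : H, f h with hm₀
  have h1 : ∀ a : H, τ (a : G) m₀ - m₀ = N • f a := by
    intro a
    rw [hm₀, map_neg, map_sum]
    have e1 : ∑ h : H, τ (a : G) (f h) = ∑ h : H, (f (a * h) - f a) :=
      Finset.sum_congr rfl (fun h _ => by rw [hf a h]; abel)
    rw [e1, Finset.sum_sub_distrib]
    have e2 : ∑ h : H, f (a * h) = ∑ h : H, f h :=
      Fintype.sum_equiv (Equiv.mulLeft a) _ _ (fun h => rfl)
    rw [e2, Finset.sum_const, Finset.card_univ, hN]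
    rw [natCast_zsmul]
    abel
  -- the remainder and quotient parts
  set c := b.repr m₀ with hc
  let r : M := b.repr.symm (c.mapRange (· % N) (by simp))
  let m : M := b.repr.symm (c.mapRange (· / N) (by simp))
  have hm₀r : m₀ = N • m + r := by
    apply b.repr.injective
    rw [map_add, map_zsmul]
    simp only [r, m, LinearEquiv.apply_symm_apply]
    ext i
    simp only [Finsupp.add_apply, Finsupp.smul_apply, Finsupp.mapRange_apply, smul_eq_mul]
    exact (Int.mul_ediv_add_emod _ _).symm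
  -- congruence of coordinates
  have hcong : ∀ (a : H) (i : ι), c (σ (a : G) i) % N = c i % N := by
    intro a i
    have h2 := congrArg b.repr (h1 a)
    rw [map_sub, hrepr, map_zsmul] at h2
    have h3 := DFunLike.congr_fun h2 (σ (a : G) i)
    rw [Finsupp.sub_apply, Finsupp.mapDomain_apply (hσinj a), Finsupp.smul_apply, smul_eq_mul] at h3
    have : c (σ (a : G) i) = c i - N * (b.repr (f a)) (σ (a : G) i) := by
      rw [← h3]; ring
    rw [this, Int.sub_mul_emod_self_left]
  have hr : ∀ a : H, τ (a : G) r = r := by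
    intro a
    apply b.repr.injective
    rw [hrepr]
    simp only [r, LinearEquiv.apply_symm_apply]
    ext j
    obtain ⟨i, rfl⟩ := hσsurj (a : G) j
    rw [Finsupp.mapDomain_apply (hσinj a), Finsupp.mapRange_apply, Finsupp.mapRange_apply, hcong]
  refine ⟨m, fun a => ?_⟩
  have h4 : N • (τ (a : G) m - m) = N • f a := by
    rw [← h1 a, hm₀r, map_add, map_zsmul, hr a]
    rw [smul_sub]; abel
  -- cancel N
  have h5 := congrArg b.repr h4
  rw [map_zsmul, map_zsmul] at h5
  apply b.repr.injective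
  ext i
  have h6 := DFunLike.congr_fun h5 i
  rw [Finsupp.smul_apply, Finsupp.smul_apply, smul_eq_mul, smul_eq_mul] at h6
  exact (mul_left_cancel₀ hN0 h6).symm

variable {G : Type} [Group G] {A : Type} [AddCommGroup A] [Module.Finite ℤ A]
  (ρ : Representation ℤ G A)

/-- `H`-invariants as a ℤ-submodule -/
def inv (H : Subgroup G) : Submodule ℤ A where
  carrier := {x | ∀ h : H, ρ (h : G) x = x}
  add_mem' := fun {x y} hx hy h => by rw [map_add, hx h, hy h]
  zero_mem' := fun h => map_zero _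
  smul_mem' := fun n x hx h => by rw [map_zsmul, hx h]

theorem exists_gens (H : Subgroup G) :
    ∃ (k : ℕ) (s : Fin k → A), Submodule.span ℤ (Set.range s) = inv ρ H := by
  have : (inv ρ H).FG := IsNoetherian.noetherian _
  exact Submodule.fg_iff_exists_fin_generating_family.mp this

/-- number of generators -/
noncomputable def kk (H : Subgroup G) : ℕ := (exists_gens ρ H).choose
/-- generators of the invariants -/
noncomputable def ss (H : Subgroup G) : Fin (kk ρ H) → A := (exists_gens ρ H).choose_spec.choose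
theorem span_ss (H : Subgroup G) : Submodule.span ℤ (Set.range (ss ρ H)) = inv ρ H :=
  (exists_gens ρ H).choose_spec.choose_spec

theorem ss_inv (H : Subgroup G) (j : Fin (kk ρ H)) (h : H) : ρ (h : G) (ss ρ H j) = ss ρ H j := by
  have : ss ρ H j ∈ inv ρ H := by
    rw [← span_ss]; exact Submodule.subset_span ⟨j, rfl⟩
  exact this h

/-- index set of the permutation module -/
abbrev XX : Type := Σ p : (Σ H : Subgroup G, Fin (kk ρ H)), G ⧸ p.1

/-- value of the cover on basis elements -/
noncomputable def vv : XX ρ → A := fun x =>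
  Quotient.liftOn' x.2 (fun g => ρ g (ss ρ x.1.1 x.1.2)) (by
    intro a b hab
    rw [QuotientGroup.leftRel_apply] at hab
    have := ss_inv ρ x.1.1 x.1.2 ⟨_, hab⟩
    simp only at this ⊢
    have e : b = a * (a⁻¹ * b) := by group
    rw [e, map_mul, Module.End.mul_apply, this])

theorem vv_mk (p : Σ H : Subgroup G, Fin (kk ρ H)) (g : G) :
    vv ρ ⟨p, (QuotientGroup.mk g : G ⧸ p.1)⟩ = ρ g (ss ρ p.1 p.2) := rfl

theorem vv_smul (g : G) (x : XX ρ) : vv ρ (g • x) = ρ g (vv ρ x) := by
  obtain ⟨p, q⟩ := x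
  induction q using Quotient.inductionOn' with
  | h g' =>
    change vv ρ ⟨p, (QuotientGroup.mk (g * g') : G ⧸ p.1)⟩ = ρ g (vv ρ ⟨p, (QuotientGroup.mk g' : G ⧸ p.1)⟩)
    rw [vv_mk, vv_mk, map_mul, Module.End.mul_apply]


/-- the permutation representation -/
noncomputable def tau : Representation ℤ G (XX ρ →₀ ℤ) where
  toFun g := Finsupp.lmapDomain ℤ ℤ (fun x : XX ρ => g • x)
  map_one' := by
    ext x
    simp
  map_mul' g h := by
    ext x
    simp [mul_smul]

theorem tau_single (g : G) (x : XX ρ) (n : ℤ) :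
    tau ρ g (Finsupp.single x n) = Finsupp.single (g • x) n := by
  change Finsupp.lmapDomain ℤ ℤ (fun x : XX ρ => g • x) (Finsupp.single x n) = _
  rw [Finsupp.lmapDomain_apply, Finsupp.mapDomain_single]

/-- the cover -/
noncomputable def pi : (XX ρ →₀ ℤ) →ₗ[ℤ] A := Finsupp.linearCombination ℤ (vv ρ)

theorem pi_single (x : XX ρ) (n : ℤ) : pi ρ (Finsupp.single x n) = n • vv ρ x := by
  rw [pi, Finsupp.linearCombination_single]

theorem pi_equivariant : IsEquivariant (tau ρ) ρ (pi ρ) := by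
  intro g m
  induction m using Finsupp.induction_linear with
  | zero => simp
  | add x y hx hy => rw [map_add, map_add, hx, hy, map_add, map_add]
  | single x n => rw [tau_single, pi_single, pi_single, vv_smul, map_zsmul]

theorem exists_inv_lift (H : Subgroup G) (a : A) (ha : ∀ h : H, ρ (h : G) a = a) :
    ∃ p : XX ρ →₀ ℤ, pi ρ p = a ∧ ∀ h : H, tau ρ (h : G) p = p := by
  have ha' : a ∈ inv ρ H := ha
  rw [← span_ss, Submodule.mem_span_range_iff_exists_fun] at ha'
  obtain ⟨c, hc⟩ := ha'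
  refine ⟨∑ j, Finsupp.single (⟨⟨H, j⟩, (QuotientGroup.mk 1 : G ⧸ H)⟩ : XX ρ) (c j), ?_, ?_⟩
  · rw [map_sum, ← hc]
    refine Finset.sum_congr rfl (fun j _ => ?_)
    rw [pi_single, vv_mk, map_one]; rfl
  · intro h
    rw [map_sum]
    refine Finset.sum_congr rfl (fun j _ => ?_)
    rw [tau_single]
    congr 1
    change (⟨⟨H, j⟩, (QuotientGroup.mk ((h : G) * 1) : G ⧸ H)⟩ : XX ρ) = _
    congr 1
    rw [QuotientGroup.eq]
    simp

theorem pi_surjective : Function.Surjective (pi ρ) := by
  intro a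
  obtain ⟨p, hp, -⟩ := exists_inv_lift ρ ⊥ a (by
    rintro ⟨h, hh⟩
    rw [Subgroup.mem_bot] at hh
    subst hh
    simp)
  exact ⟨p, hp⟩

theorem tau_perm : IsPermutation (tau ρ) :=
  ⟨XX ρ, Finsupp.basisSingleOne, fun g x => ⟨g • x, by
    rw [Finsupp.coe_basisSingleOne, tau_single]⟩⟩


theorem ker_inv (g : G) (x : XX ρ →₀ ℤ) (hx : x ∈ LinearMap.ker (pi ρ)) :
    tau ρ g x ∈ LinearMap.ker (pi ρ) := by
  rw [LinearMap.mem_ker] at hx ⊢
  rw [pi_equivariant ρ g x, hx, map_zero]

/-- the restricted representation on the kernel -/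
noncomputable def sigma : Representation ℤ G ↥(LinearMap.ker (pi ρ)) where
  toFun g := (tau ρ g).restrict (ker_inv ρ g)
  map_one' := by
    ext x
    simp
  map_mul' g h := by
    ext x
    simp

theorem sigma_coe (g : G) (x : ↥(LinearMap.ker (pi ρ))) :
    ((sigma ρ g x : ↥(LinearMap.ker (pi ρ))) : XX ρ →₀ ℤ) = tau ρ g x.1 := rfl

theorem sigma_coflasque [Finite G] : IsCoflasque (sigma ρ) := by
  intro H f hf
  obtain ⟨p, hp⟩ := cob_of_perm (tau ρ) Finsupp.basisSingleOne
    (fun g x => ⟨g • x, by rw [Finsupp.coe_basisSingleOne, tau_single]⟩) H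
    (fun a => (f a : XX ρ →₀ ℤ))
    (fun a b => by rw [hf a b]; rfl)
  have hinv : ∀ h : H, ρ (h : G) (pi ρ p) = pi ρ p := by
    intro h
    have h1 := congrArg (pi ρ) (hp h)
    rw [map_sub, pi_equivariant ρ (h : G) p] at h1
    have h2 : pi ρ (f h : XX ρ →₀ ℤ) = 0 := (f h).2
    rw [h2] at h1
    exact (sub_eq_zero.mp h1.symm)
  obtain ⟨p', hp'1, hp'2⟩ := exists_inv_lift ρ H (pi ρ p) hinv
  have hq : p - p' ∈ LinearMap.ker (pi ρ) := by
    rw [LinearMap.mem_ker, map_sub, hp'1, sub_self]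
  refine ⟨⟨p - p', hq⟩, fun a => ?_⟩
  apply Subtype.ext
  rw [hp a]
  change _ = tau ρ (a : G) (p - p') - (p - p')
  rw [map_sub, hp'2 a]
  abel


theorem main (G : Type) [Group G] [Finite G]
    (A : Type) [AddCommGroup A] [Module.Finite ℤ A] (ρ : Representation ℤ G A) :
    ∃ (Q : Type) (_ : AddCommGroup Q) (P : Type) (_ : AddCommGroup P)
      (_ : Module.Finite ℤ Q) (_ : Module.Free ℤ Q) (_ : Module.Finite ℤ P) (_ : Module.Free ℤ P)
      (σ : Representation ℤ G Q) (τ : Representation ℤ G P) (i : Q →ₗ[ℤ] P) (π : P →ₗ[ℤ] A),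
      GLat.IsEquivariant σ τ i ∧ GLat.IsEquivariant τ ρ π ∧ Function.Injective i ∧ Function.Surjective π ∧
      LinearMap.range i = LinearMap.ker π ∧ GLat.IsPermutation τ ∧ GLat.IsCoflasque σ := by
  have : Finite (XX ρ) := inferInstance
  refine ⟨↥(LinearMap.ker (pi ρ)), inferInstance, XX ρ →₀ ℤ, inferInstance, inferInstance,
    inferInstance, inferInstance, inferInstance, sigma ρ, tau ρ, (LinearMap.ker (pi ρ)).subtype,
    pi ρ, ?_, pi_equivariant ρ, Submodule.subtype_injective _, pi_surjective ρ,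
    Submodule.range_subtype _, tau_perm ρ, sigma_coflasque ρ⟩
  intro g x
  rfl


end Groth.Agent.H73.GLatLib
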