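import Mathlib
import Groth.Prelude.Def_W4c5flasquetoriphsGLat
import Groth.Agent.H73.GLatLib

namespace Groth.Agent.H73.GLatRes
open GLat

section generic
variable {G : Type*} [Group G] {M : Type*} [AddCommGroup M]

/-- norm is invariant under precomposition -/
theorem norm_comp (τ : Representation ℤ G M) (H : Subgroup G) [Fintype H] (a : H) (m : M) :
    ∑ h : H, τ (h : G) (τ (a : G) m) = ∑ h : H, τ (h : G) m := by
  have : ∀ h : H, τ (h : G) (τ (a : G) m) = τ ((h * a : H) : G) m := by
    intro h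
    rw [Subgroup.coe_mul, map_mul, Module.End.mul_apply]
  simp_rw [this]
  exact Fintype.sum_equiv (Equiv.mulRight a) _ _ (fun h => rfl)

/-- A permutation module has trivial `Ĥ⁻¹` for every finite subgroup. -/
theorem flasque_of_perm (τ : Representation ℤ G M) {ι : Type*} (b : Module.Basis ι ℤ M)
    (hperm : ∀ (g : G) (i : ι), ∃ j : ι, τ g (b i) = b j)
    (H : Subgroup G) [Finite H] (m : M) (hm : (∑ᶠ h : H, τ (h : G) m) = 0) :
    m ∈ Submodule.span ℤ {x : M | ∃ (h : H) (y : M), x = τ (h : G) y - y} := by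
  classical
  have : Fintype H := Fintype.ofFinite H
  rw [finsum_eq_sum_of_fintype] at hm
  choose σ hσ using hperm
  have hσinv : ∀ (a : G) (j : ι), σ a (σ a⁻¹ j) = j := by
    intro a j
    apply b.injective
    rw [← hσ, ← hσ, ← Module.End.mul_apply, ← map_mul, mul_inv_cancel, map_one]
    rfl
  have hσinj : ∀ a : G, Function.Injective (σ a) := by
    intro a i j hij
    have := congrArg (σ a⁻¹) hij
    have h1 := hσinv a⁻¹ i
    have h2 := hσinv a⁻¹ j
    rw [inv_inv] at h1 h2
    rw [h1, h2] at this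
    exact this
  have hσone : ∀ i, σ 1 i = i := by
    intro i
    apply b.injective
    rw [← hσ, map_one]; rfl
  have hrepr : ∀ (a : G) (v : M), b.repr (τ a v) = (b.repr v).mapDomain (σ a) := by
    intro a v
    have : (b.repr : M →ₗ[ℤ] ι →₀ ℤ) ∘ₗ τ a = (Finsupp.lmapDomain ℤ ℤ (σ a)) ∘ₗ (b.repr : M →ₗ[ℤ] ι →₀ ℤ) := by
      apply b.ext
      intro i
      simp [hσ, Finsupp.lmapDomain_apply, Finsupp.mapDomain_single]
    exact LinearMap.congr_fun this v
  have hcoord : ∀ (a : G) (v : M) (j : ι), b.repr (τ a v) j = b.repr v (σ a⁻¹ j) := by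
    intro a v j
    rw [hrepr]
    conv_lhs => rw [← hσinv a j]
    exact Finsupp.mapDomain_apply (hσinj a) _ _
  set I : Submodule ℤ M := Submodule.span ℤ {x : M | ∃ (h : H) (y : M), x = τ (h : G) y - y} with hI
  -- strong induction on the size of the support
  suffices h : ∀ n : ℕ, ∀ m : M, (b.repr m).support.card = n → ∑ h : H, τ (h : G) m = 0 → m ∈ I from
    h _ m rfl hm
  intro n
  induction n using Nat.strong_induction_on with
  | _ n ih =>
    intro m hn hm
    by_cases hm0 : m = 0
    · rw [hm0]; exact zero_mem _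
    have hc0 : b.repr m ≠ 0 := by
      intro h0
      exact hm0 (b.repr.injective (by rw [h0, map_zero]))
    obtain ⟨i₀, hi₀⟩ := Finsupp.support_nonempty_iff.mpr hc0
    have hci₀ : b.repr m i₀ ≠ 0 := Finsupp.mem_support_iff.mp hi₀
    have hsum : ∑ h : H, b.repr m (σ (h : G)⁻¹ i₀) = 0 := by
      have := congrArg (fun v => b.repr v i₀) hm
      simp only [map_sum, Finsupp.coe_finsetSum, Finset.sum_apply, map_zero, Finsupp.coe_zero,
        Pi.zero_apply] at this
      rw [← this]
      exact Finset.sum_congr rfl (fun h _ => (hcoord _ _ _).symm)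
    have hex : ∃ h : H, σ (h : G)⁻¹ i₀ ≠ i₀ ∧ b.repr m (σ (h : G)⁻¹ i₀) ≠ 0 := by
      by_contra hcon
      push Not at hcon
      have h1 : ∑ h : H, b.repr m (σ (h : G)⁻¹ i₀)
          = ∑ h : H, if σ (h : G)⁻¹ i₀ = i₀ then b.repr m i₀ else 0 := by
        refine Finset.sum_congr rfl (fun h _ => ?_)
        split_ifs with hh
        · rw [hh]
        · exact hcon h hh
      rw [h1, Finset.sum_ite, Finset.sum_const_zero, add_zero, Finset.sum_const] at hsum
      have hpos : 0 < (Finset.univ.filter (fun h : H => σ (h : G)⁻¹ i₀ = i₀)).card := by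
        apply Finset.card_pos.mpr
        refine ⟨1, ?_⟩
        simp [hσone]
      rw [smul_eq_zero] at hsum
      rcases hsum with h | h
      · omega
      · exact hci₀ h
    obtain ⟨h, hh1, hh2⟩ := hex
    set y := σ (h : G)⁻¹ i₀ with hy
    have hτy : τ (h : G) (b y) = b i₀ := by rw [hσ, hy, hσinv]
    set c := b.repr m i₀ with hc
    set m' := m - c • (τ (h : G) (b y) - b y) with hm'
    have hmem : c • (τ (h : G) (b y) - b y) ∈ I :=
      Submodule.smul_mem _ _ (Submodule.subset_span ⟨h, b y, rfl⟩)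
    have hNm' : ∑ h' : H, τ (h' : G) m' = 0 := by
      simp only [hm', map_sub, map_zsmul, Finset.sum_sub_distrib, ← Finset.smul_sum]
      rw [hm, norm_comp τ H h (b y), sub_self, smul_zero, sub_zero]
    have hsupp : (b.repr m').support ⊂ (b.repr m).support := by
      rw [Finset.ssubset_iff_of_subset]
      · refine ⟨i₀, hi₀, ?_⟩
        rw [Finsupp.mem_support_iff, not_not, hm', hτy]
        simp [hc, Ne.symm hh1]
      · intro j hj
        rw [Finsupp.mem_support_iff] at hj ⊢
        intro hj0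
        apply hj
        rw [hm', hτy]
        simp only [map_sub, map_zsmul, Module.Basis.repr_self, Finsupp.coe_sub, Finsupp.coe_smul,
          Pi.sub_apply, Pi.smul_apply, smul_eq_mul]
        by_cases hji : j = i₀
        · subst hji
          simp [Ne.symm hh1, hc]
        · by_cases hjy : j = y
          · subst hjy
            exfalso; exact hh2 hj0
          · simp [hj0, Ne.symm hji, Ne.symm hjy]
    have hlt : (b.repr m').support.card < n := by
      rw [← hn]; exact Finset.card_lt_card hsupp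
    have := ih _ hlt m' rfl hNm'
    have e : m = m' + c • (τ (h : G) (b y) - b y) := by rw [hm']; abel
    rw [e]
    exact add_mem this hmem

end generic

section perm
variable {G : Type*} [Group G] (X : Type*) [MulAction G X]

/-- permutation representation on `X →₀ ℤ` -/
noncomputable def permRep : Representation ℤ G (X →₀ ℤ) where
  toFun g := Finsupp.lmapDomain ℤ ℤ (fun x : X => g • x)
  map_one' := by
    ext x
    simp
  map_mul' g h := by
    ext x
    simp [mul_smul]

theorem permRep_single (g : G) (x : X) (n : ℤ) :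
    permRep X g (Finsupp.single x n) = Finsupp.single (g • x) n := by
  change Finsupp.lmapDomain ℤ ℤ (fun x : X => g • x) (Finsupp.single x n) = _
  rw [Finsupp.lmapDomain_apply, Finsupp.mapDomain_single]

theorem permRep_apply (g : G) (p : X →₀ ℤ) (x : X) : permRep X g p x = p (g⁻¹ • x) := by
  change Finsupp.lmapDomain ℤ ℤ (fun x : X => g • x) p x = _
  rw [Finsupp.lmapDomain_apply]
  have : x = (fun x : X => g • x) (g⁻¹ • x) := by simp
  conv_lhs => rw [this]
  exact Finsupp.mapDomain_apply (MulAction.injective g) _ _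

theorem permRep_hperm (g : G) (x : X) :
    ∃ j : X, permRep X g ((Finsupp.basisSingleOne : Module.Basis X ℤ (X →₀ ℤ)) x)
      = (Finsupp.basisSingleOne : Module.Basis X ℤ (X →₀ ℤ)) j :=
  ⟨g • x, by rw [Finsupp.coe_basisSingleOne, permRep_single]⟩

end perm

theorem permRep_perm {G : Type*} [Group G] (X : Type) [MulAction G X] :
    IsPermutation (permRep (G := G) X) :=
  ⟨X, Finsupp.basisSingleOne, permRep_hperm X⟩

section cofl
variable (G : Type) [Group G] [Finite G] (A : Type) [AddCommGroup A] [Module.Finite ℤ A]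
  [Module.Free ℤ A] (ρ : Representation ℤ G A)

/-- index set of the regular permutation module -/
abbrev X₀ : Type := Σ _ : Module.Free.ChooseBasisIndex ℤ A, G

/-- the embedding of a lattice into a free `ℤ[G]`-module -/
noncomputable def emb : A →ₗ[ℤ] (X₀ G A →₀ ℤ) :=
  (Finsupp.linearEquivFunOnFinite ℤ ℤ (X₀ G A)).symm.toLinearMap ∘ₗ
    LinearMap.pi (fun x => ((Module.Free.chooseBasis ℤ A).coord x.1) ∘ₗ ρ x.2⁻¹)

theorem emb_apply (a : A) (x : X₀ G A) :
    emb G A ρ a x = (Module.Free.chooseBasis ℤ A).coord x.1 (ρ x.2⁻¹ a) := rfl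

theorem emb_equivariant (g : G) (a : A) :
    emb G A ρ (ρ g a) = permRep (X₀ G A) g (emb G A ρ a) := by
  ext x
  obtain ⟨j, x⟩ := x
  rw [permRep_apply, emb_apply]
  change _ = emb G A ρ a ⟨j, g⁻¹ * x⟩
  rw [emb_apply]
  simp only [mul_inv_rev, inv_inv, map_mul, Module.End.mul_apply]

theorem emb_injective : Function.Injective (emb G A ρ) := by
  rw [injective_iff_map_eq_zero]
  intro a ha
  apply (Module.Free.chooseBasis ℤ A).repr.injective
  ext j
  have := DFunLike.congr_fun ha (⟨j, 1⟩ : X₀ G A)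
  rw [emb_apply] at this
  simpa using this

theorem coflasque_res :
    ∃ (Q : Type) (_ : AddCommGroup Q) (P : Type) (_ : AddCommGroup P)
      (_ : Module.Finite ℤ Q) (_ : Module.Free ℤ Q) (_ : Module.Finite ℤ P) (_ : Module.Free ℤ P)
      (σ : Representation ℤ G Q) (τ : Representation ℤ G P) (i : A →ₗ[ℤ] Q) (π : Q →ₗ[ℤ] P),
      GLat.IsEquivariant ρ σ i ∧ GLat.IsEquivariant σ τ π ∧ Function.Injective i ∧ Function.Surjective π ∧
      LinearMap.range i = LinearMap.ker π ∧ GLat.IsCoflasque σ ∧ GLat.IsPermutation τ := by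
  classical
  let τ₀ : Representation ℤ G (X₀ G A →₀ ℤ) := permRep (G := G) (X₀ G A)
  let i₀ := emb G A ρ
  let W : Submodule ℤ (X₀ G A →₀ ℤ) := LinearMap.range i₀
  have hW : ∀ g, W ≤ W.comap (τ₀ g) := by
    rintro g _ ⟨a, rfl⟩
    exact ⟨ρ g a, emb_equivariant G A ρ g a⟩
  let ρF : Representation ℤ G ((X₀ G A →₀ ℤ) ⧸ W) := τ₀.quotient W hW
  obtain ⟨Q', _, P', _, _, _, _, _, σ', τ', i', π', hi'eq, hπ'eq, hi'inj, hπ'surj, hrange', hperm',
    hcofl'⟩ := GLatLib.main G ((X₀ G A →₀ ℤ) ⧸ W) ρF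
  let q : (X₀ G A →₀ ℤ) →ₗ[ℤ] (X₀ G A →₀ ℤ) ⧸ W := W.mkQ
  have hq : ∀ g p, q (τ₀ g p) = ρF g (q p) := fun g p => rfl
  let D : ((X₀ G A →₀ ℤ) × P') →ₗ[ℤ] ((X₀ G A →₀ ℤ) ⧸ W) :=
    q.comp (LinearMap.fst ℤ _ P') - π'.comp (LinearMap.snd ℤ (X₀ G A →₀ ℤ) P')
  have hD : ∀ e, D e = q e.1 - π' e.2 := fun e => rfl
  let E : Submodule ℤ ((X₀ G A →₀ ℤ) × P') := LinearMap.ker D
  have hE : ∀ e, e ∈ E ↔ q e.1 = π' e.2 := by
    intro e
    rw [LinearMap.mem_ker, hD, sub_eq_zero]
  have hEinv : ∀ g, ∀ e ∈ E, ((τ₀ g).prodMap (τ' g)) e ∈ E := by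
    intro g e he
    rw [hE] at he ⊢
    change q (τ₀ g e.1) = π' (τ' g e.2)
    rw [hq, hπ'eq, he]
  let σ : Representation ℤ G E :=
    { toFun := fun g => ((τ₀ g).prodMap (τ' g)).restrict (hEinv g)
      map_one' := by
        ext x <;> simp
      map_mul' := fun g h => by
        ext x <;> simp }
  have hσ1 : ∀ g (e : E), (σ g e).1.1 = τ₀ g e.1.1 := fun g e => rfl
  have hσ2 : ∀ g (e : E), (σ g e).1.2 = τ' g e.1.2 := fun g e => rfl
  have hker' : ∀ n : Q', π' (i' n) = 0 := by
    intro n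
    have : i' n ∈ LinearMap.range i' := ⟨n, rfl⟩
    rw [hrange'] at this
    exact this
  let i : A →ₗ[ℤ] E := LinearMap.codRestrict E ((LinearMap.inl ℤ _ P').comp i₀) (by
    intro a
    rw [hE]
    change q (i₀ a) = π' 0
    rw [map_zero]
    exact (Submodule.Quotient.mk_eq_zero _).mpr ⟨a, rfl⟩)
  let π : E →ₗ[ℤ] P' := (LinearMap.snd ℤ _ P').comp E.subtype
  refine ⟨E, inferInstance, P', inferInstance, inferInstance, inferInstance, inferInstance,
    inferInstance, σ, τ', i, π, ?_, ?_, ?_, ?_, ?_, ?_, hperm'⟩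
  · intro g a
    apply Subtype.ext
    apply Prod.ext
    · exact emb_equivariant G A ρ g a
    · change (0 : P') = τ' g 0
      rw [map_zero]
  · intro g e
    rfl
  · intro a b hab
    apply emb_injective G A ρ
    have := congrArg (fun e : E => e.1.1) hab
    exact this
  · intro p'
    obtain ⟨p, hp⟩ := Submodule.mkQ_surjective W (π' p')
    exact ⟨⟨(p, p'), (hE _).mpr hp⟩, rfl⟩
  · ext e
    constructor
    · rintro ⟨a, rfl⟩
      rfl
    · intro he
      have he2 : e.1.2 = 0 := he
      have he1 := (hE e.1).mp e.2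
      rw [he2, map_zero] at he1
      obtain ⟨a, ha⟩ := (Submodule.Quotient.mk_eq_zero W).mp he1
      refine ⟨a, ?_⟩
      apply Subtype.ext
      apply Prod.ext
      · exact ha
      · exact he2.symm
  · intro H f hf
    obtain ⟨m, hm⟩ := GLatLib.cob_of_perm τ₀ Finsupp.basisSingleOne (permRep_hperm (X₀ G A)) H
      (fun a => (f a).1.1) (fun a b => by rw [hf a b]; rfl)
    obtain ⟨p'₀, hp'₀⟩ := hπ'surj (q m)
    have hk : ∀ a : H, ∃ n : Q', i' n = (f a).1.2 - (τ' (a : G) p'₀ - p'₀) := by
      intro a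
      have : (f a).1.2 - (τ' (a : G) p'₀ - p'₀) ∈ LinearMap.ker π' := by
        rw [LinearMap.mem_ker, map_sub, map_sub, hπ'eq, hp'₀, ← (hE _).mp (f a).2, hm a, map_sub,
          hq, sub_self]
      rw [← hrange'] at this
      exact this
    choose k hk using hk
    have hkc : ∀ a b : H, k (a * b) = k a + σ' (a : G) (k b) := by
      intro a b
      apply hi'inj
      rw [map_add, hi'eq, hk, hk, hk, hf a b]
      change (f a).1.2 + τ' (a : G) (f b).1.2 - _ = _
      rw [Subgroup.coe_mul, map_mul, Module.End.mul_apply]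
      simp only [map_sub]
      abel
    obtain ⟨n, hn⟩ := hcofl' H k hkc
    have he : ((m, p'₀ + i' n) : (X₀ G A →₀ ℤ) × P') ∈ E := by
      rw [hE]
      change q m = π' (p'₀ + i' n)
      rw [map_add, hker', add_zero, hp'₀]
    refine ⟨⟨(m, p'₀ + i' n), he⟩, fun a => ?_⟩
    apply Subtype.ext
    apply Prod.ext
    · exact hm a
    · change (f a).1.2 = τ' (a : G) (p'₀ + i' n) - (p'₀ + i' n)
      have h1 := hk a
      rw [hn a, map_sub, hi'eq] at h1
      rw [map_add]
      have : (f a).1.2 = (τ' (a : G) (i' n) - i' n) + (τ' (a : G) p'₀ - p'₀) := by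
        rw [h1]; abel
      rw [this]; abel

end cofl

end Groth.Agent.H73.GLatRes
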