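import Mathlib
import Groth.Prelude.Def_W4c5flasquetoriphsGLat
import Groth.Agent.H73.GLatRes

namespace Groth.Agent.H73.GLatRes
open GLat

section fl
variable {G : Type} [Group G] {A : Type} [AddCommGroup A] (ρ : Representation ℤ G A)

/-- augmentation submodule for `H` -/
def IH (H : Subgroup G) : Submodule ℤ A :=
  Submodule.span ℤ {x : A | ∃ (h : H) (y : A), x = ρ (h : G) y - y}

/-- torsion-free coinvariants -/
abbrev BH (H : Subgroup G) : Type := (A ⧸ IH ρ H) ⧸ Submodule.torsion ℤ (A ⧸ IH ρ H)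

/-- projection to torsion-free coinvariants -/
noncomputable def projH (H : Subgroup G) : A →ₗ[ℤ] BH ρ H :=
  (Submodule.torsion ℤ (A ⧸ IH ρ H)).mkQ ∘ₗ (IH ρ H).mkQ

theorem projH_surjective (H : Subgroup G) : Function.Surjective (projH ρ H) :=
  (Submodule.mkQ_surjective _).comp (Submodule.mkQ_surjective _)

theorem projH_inv (H : Subgroup G) (h : H) (a : A) : projH ρ H (ρ (h : G) a) = projH ρ H a := by
  have : ρ (h : G) a - a ∈ IH ρ H := Submodule.subset_span ⟨h, a, rfl⟩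
  have h2 : (IH ρ H).mkQ (ρ (h : G) a) = (IH ρ H).mkQ a := by
    rw [← sub_eq_zero, ← map_sub]
    exact (Submodule.Quotient.mk_eq_zero _).mpr this
  change (Submodule.torsion ℤ (A ⧸ IH ρ H)).mkQ ((IH ρ H).mkQ _) = (Submodule.torsion ℤ (A ⧸ IH ρ H)).mkQ ((IH ρ H).mkQ _)
  rw [h2]

theorem projH_eq_zero (H : Subgroup G) (c : A) (hc : projH ρ H c = 0) :
    ∃ n : ℤ, n ≠ 0 ∧ n • c ∈ IH ρ H := by
  have : (IH ρ H).mkQ c ∈ Submodule.torsion ℤ (A ⧸ IH ρ H) :=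
    (Submodule.Quotient.mk_eq_zero _).mp hc
  rw [Submodule.mem_torsion_iff] at this
  obtain ⟨n, hn⟩ := this
  refine ⟨n, nonZeroDivisors.coe_ne_zero n, ?_⟩
  rw [Submonoid.smul_def, ← map_zsmul] at hn
  exact (Submodule.Quotient.mk_eq_zero _).mp hn

theorem norm_IH (H : Subgroup G) [Fintype H] (x : A) (hx : x ∈ IH ρ H) :
    ∑ h : H, ρ (h : G) x = 0 := by
  induction hx using Submodule.span_induction with
  | mem x hx =>
    obtain ⟨h, y, rfl⟩ := hx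
    simp only [map_sub, Finset.sum_sub_distrib]
    rw [norm_comp ρ H h y, sub_self]
  | zero => simp
  | add x y _ _ hx hy => simp only [map_add, Finset.sum_add_distrib, hx, hy, add_zero]
  | smul n x _ hx =>
    simp only [map_zsmul]
    rw [← Finset.smul_sum, hx, smul_zero]

theorem IH_bot : IH ρ (⊥ : Subgroup G) = ⊥ := by
  rw [IH, Submodule.span_eq_bot]
  rintro x ⟨⟨h, hh⟩, y, rfl⟩
  rw [Subgroup.mem_bot] at hh
  subst hh
  simp

variable [Module.Finite ℤ A]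

/-- coordinates index -/
abbrev ιH (H : Subgroup G) : Type := Module.Free.ChooseBasisIndex ℤ (BH ρ H)

/-- index set of the permutation module -/
abbrev Y : Type := Σ p : (Σ H : Subgroup G, ιH ρ H), G ⧸ p.1

/-- invariant coordinate functionals -/
noncomputable def lam (p : Σ H : Subgroup G, ιH ρ H) : A →ₗ[ℤ] ℤ :=
  (Module.Free.chooseBasis ℤ (BH ρ p.1)).coord p.2 ∘ₗ projH ρ p.1

theorem lam_apply (p : Σ H : Subgroup G, ιH ρ H) (a : A) :
    lam ρ p a = (Module.Free.chooseBasis ℤ (BH ρ p.1)).repr (projH ρ p.1 a) p.2 := rfl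

theorem lam_inv (p : Σ H : Subgroup G, ιH ρ H) (h : p.1) (a : A) :
    lam ρ p (ρ (h : G) a) = lam ρ p a := by
  rw [lam_apply, lam_apply, projH_inv]

theorem projH_eq_smul (H : Subgroup G) (n : ℤ) (c : A) (t : ιH ρ H → ℤ)
    (ht : ∀ j, lam ρ ⟨H, j⟩ c = n * t j) : ∃ b' : BH ρ H, projH ρ H c = n • b' := by
  refine ⟨(Module.Free.chooseBasis ℤ (BH ρ H)).repr.symm (Finsupp.equivFunOnFinite.symm t), ?_⟩
  apply (Module.Free.chooseBasis ℤ (BH ρ H)).repr.injective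
  ext j
  rw [map_zsmul, LinearEquiv.apply_symm_apply]
  have := ht j
  rw [lam_apply] at this
  simpa using this

variable [Finite G]

/-- the embedding -/
noncomputable def emb2 : A →ₗ[ℤ] (Y ρ →₀ ℤ) :=
  (Finsupp.linearEquivFunOnFinite ℤ ℤ (Y ρ)).symm.toLinearMap ∘ₗ
    LinearMap.pi (fun x => lam ρ x.1 ∘ₗ ρ (Quotient.out x.2)⁻¹)

theorem emb2_apply (a : A) (x : Y ρ) :
    emb2 ρ a x = lam ρ x.1 (ρ (Quotient.out x.2)⁻¹ a) := rfl

theorem emb2_mk (a : A) (p : Σ H : Subgroup G, ιH ρ H) (g : G) :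
    emb2 ρ a ⟨p, (QuotientGroup.mk g : G ⧸ p.1)⟩ = lam ρ p (ρ g⁻¹ a) := by
  rw [emb2_apply]
  obtain ⟨h, hh⟩ := QuotientGroup.mk_out_eq_mul p.1 g
  change lam ρ p (ρ (Quotient.out (QuotientGroup.mk g : G ⧸ p.1))⁻¹ a) = _
  rw [hh, mul_inv_rev, map_mul, Module.End.mul_apply]
  exact lam_inv ρ p h⁻¹ _

theorem emb2_equivariant (g : G) (a : A) :
    emb2 ρ (ρ g a) = permRep (Y ρ) g (emb2 ρ a) := by
  ext x
  obtain ⟨p, y⟩ := x
  induction y using Quotient.inductionOn' with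
  | h y =>
    rw [permRep_apply]
    change emb2 ρ (ρ g a) ⟨p, (QuotientGroup.mk y : G ⧸ p.1)⟩
      = emb2 ρ a ⟨p, (QuotientGroup.mk (g⁻¹ * y) : G ⧸ p.1)⟩
    rw [emb2_mk, emb2_mk]
    simp only [mul_inv_rev, inv_inv, map_mul, Module.End.mul_apply]

end fl


section fl2
variable {G : Type} [Group G] [Finite G] {A : Type} [AddCommGroup A] [Module.Finite ℤ A]
  [Module.Free ℤ A] (ρ : Representation ℤ G A)

theorem emb2_bot (c : A) (j : ιH ρ ⊥) :
    emb2 ρ c ⟨⟨⊥, j⟩, (QuotientGroup.mk 1 : G ⧸ (⊥ : Subgroup G))⟩ = lam ρ ⟨⊥, j⟩ c := by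
  rw [emb2_mk]; simp

theorem div_of_coords (n : ℤ) (c : A) (t : ιH ρ ⊥ → ℤ)
    (ht : ∀ j : ιH ρ ⊥, lam ρ ⟨⊥, j⟩ c = n * t j) : ∃ a' : A, c = n • a' := by
  obtain ⟨b', hb'⟩ := projH_eq_smul ρ ⊥ n c t ht
  obtain ⟨a', ha'⟩ := projH_surjective ρ ⊥ b'
  have h0 : projH ρ ⊥ (c - n • a') = 0 := by rw [map_sub, map_zsmul, ha', hb', sub_self]
  obtain ⟨m, hm0, hm⟩ := projH_eq_zero ρ ⊥ _ h0
  rw [IH_bot, Submodule.mem_bot, smul_eq_zero] at hm
  exact ⟨a', sub_eq_zero.mp (hm.resolve_left hm0)⟩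

theorem emb2_injective : Function.Injective (emb2 ρ) := by
  rw [injective_iff_map_eq_zero]
  intro c hc
  obtain ⟨a', ha'⟩ := div_of_coords ρ 0 c (fun _ => 0) (fun j => by
    rw [← emb2_bot, hc]; simp)
  rw [ha', zero_smul]

theorem emb2_saturated (n : ℤ) (hn : n ≠ 0) (p : Y ρ →₀ ℤ) (c : A) (h : n • p = emb2 ρ c) :
    ∃ a' : A, p = emb2 ρ a' := by
  obtain ⟨a', ha'⟩ := div_of_coords ρ n c
    (fun j => p ⟨⟨⊥, j⟩, (QuotientGroup.mk 1 : G ⧸ (⊥ : Subgroup G))⟩) (fun j => by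
    rw [← emb2_bot, ← h]; simp)
  refine ⟨a', ?_⟩
  rw [ha', map_zsmul] at h
  exact (smul_right_injective _ hn) h

theorem mem_norm (H : Subgroup G) [Fintype H] (c : A) (hc : ∀ h : H, ρ (h : G) c = c)
    (t : ιH ρ H → ℤ) (ht : ∀ j, lam ρ ⟨H, j⟩ c = (Fintype.card H : ℤ) * t j) :
    ∃ a₁ : A, c = ∑ h : H, ρ (h : G) a₁ := by
  obtain ⟨b', hb'⟩ := projH_eq_smul ρ H _ c t ht
  obtain ⟨a₁, ha₁⟩ := projH_surjective ρ H b'
  have h0 : projH ρ H (c - (Fintype.card H : ℤ) • a₁) = 0 := by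
    rw [map_sub, map_zsmul, ha₁, hb', sub_self]
  obtain ⟨n, hn0, hn⟩ := projH_eq_zero ρ H _ h0
  have h1 := norm_IH ρ H _ hn
  refine ⟨a₁, ?_⟩
  have h2 : ∑ h : H, ρ (h : G) (n • (c - (Fintype.card H : ℤ) • a₁))
      = (n * (Fintype.card H : ℤ)) • (c - ∑ h : H, ρ (h : G) a₁) := by
    simp only [map_zsmul, map_sub, hc, Finset.sum_sub_distrib, ← Finset.smul_sum, Finset.sum_const,
      Finset.card_univ, natCast_zsmul]
    simp only [map_nsmul, ← Finset.smul_sum, smul_sub, mul_smul, natCast_zsmul]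
  rw [h2, smul_eq_zero] at h1
  have hcard : (Fintype.card H : ℤ) ≠ 0 := by exact_mod_cast Fintype.card_ne_zero
  rcases h1 with h1 | h1
  · exact absurd h1 (mul_ne_zero hn0 hcard)
  · exact sub_eq_zero.mp h1

end fl2

theorem flasque_res (G : Type) [Group G] [Finite G] (A : Type) [AddCommGroup A]
    [Module.Finite ℤ A] [Module.Free ℤ A] (ρ : Representation ℤ G A) :
    ∃ (P : Type) (_ : AddCommGroup P) (F : Type) (_ : AddCommGroup F)
      (_ : Module.Finite ℤ P) (_ : Module.Free ℤ P) (_ : Module.Finite ℤ F) (_ : Module.Free ℤ F)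
      (σ : Representation ℤ G P) (τ : Representation ℤ G F) (i : A →ₗ[ℤ] P) (π : P →ₗ[ℤ] F),
      IsEquivariant ρ σ i ∧ IsEquivariant σ τ π ∧ Function.Injective i ∧ Function.Surjective π ∧
      LinearMap.range i = LinearMap.ker π ∧ IsPermutation σ ∧ IsFlasque τ := by
  classical
  let τ₀ : Representation ℤ G (Y ρ →₀ ℤ) := permRep (G := G) (Y ρ)
  let W : Submodule ℤ (Y ρ →₀ ℤ) := LinearMap.range (emb2 ρ)
  have hW : ∀ g, W ≤ W.comap (τ₀ g) := by
    rintro g _ ⟨a, rfl⟩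
    exact ⟨ρ g a, emb2_equivariant ρ g a⟩
  let ρF : Representation ℤ G ((Y ρ →₀ ℤ) ⧸ W) := τ₀.quotient W hW
  have hq : ∀ g p, W.mkQ (τ₀ g p) = ρF g (W.mkQ p) := fun g p => rfl
  have htf : Module.IsTorsionFree ℤ ((Y ρ →₀ ℤ) ⧸ W) := by
    apply Module.IsTorsionFree.of_smul_eq_zero
    intro n f hf
    by_cases hn : n = 0
    · exact Or.inl hn
    right
    obtain ⟨p, rfl⟩ := Submodule.mkQ_surjective W f
    rw [← map_zsmul] at hf
    obtain ⟨c, hc⟩ := (Submodule.Quotient.mk_eq_zero W).mp hf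
    obtain ⟨a', ha'⟩ := emb2_saturated ρ n hn p c hc.symm
    exact (Submodule.Quotient.mk_eq_zero W).mpr ⟨a', ha'.symm⟩
  refine ⟨Y ρ →₀ ℤ, inferInstance, (Y ρ →₀ ℤ) ⧸ W, inferInstance, inferInstance, inferInstance,
    inferInstance, inferInstance, τ₀, ρF, emb2 ρ, W.mkQ, emb2_equivariant ρ, fun g p => hq g p,
    emb2_injective ρ, Submodule.mkQ_surjective W, ?_, permRep_perm (Y ρ), ?_⟩
  · rw [Submodule.ker_mkQ]
  · intro H f hf
    have : Fintype H := Fintype.ofFinite H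
    rw [finsum_eq_sum_of_fintype] at hf
    obtain ⟨p, rfl⟩ := Submodule.mkQ_surjective W f
    have h1 : W.mkQ (∑ h : H, τ₀ (h : G) p) = 0 := by
      rw [map_sum, ← hf]
      exact Finset.sum_congr rfl (fun h _ => hq _ _)
    obtain ⟨c, hc⟩ := (Submodule.Quotient.mk_eq_zero W).mp h1
    have hcinv : ∀ h : H, ρ (h : G) c = c := by
      intro h
      apply emb2_injective ρ
      rw [emb2_equivariant, hc, map_sum]
      have : ∀ h' : H, τ₀ (h : G) (τ₀ (h' : G) p) = τ₀ ((h * h' : H) : G) p := by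
        intro h'
        rw [Subgroup.coe_mul, map_mul, Module.End.mul_apply]
      change ∑ h' : H, τ₀ (h : G) (τ₀ (h' : G) p) = _
      simp_rw [this]
      exact Fintype.sum_equiv (Equiv.mulLeft h) _ _ (fun h' => rfl)
    have hcoord : ∀ j : ιH ρ H, lam ρ ⟨H, j⟩ c
        = (Fintype.card H : ℤ) * p ⟨⟨H, j⟩, (QuotientGroup.mk 1 : G ⧸ H)⟩ := by
      intro j
      have e1 : emb2 ρ c ⟨⟨H, j⟩, (QuotientGroup.mk 1 : G ⧸ H)⟩ = lam ρ ⟨H, j⟩ c := by
        rw [emb2_mk]; simp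
      rw [← e1, hc, Finsupp.finsetSum_apply]
      have : ∀ h : H, τ₀ (h : G) p ⟨⟨H, j⟩, (QuotientGroup.mk 1 : G ⧸ H)⟩
          = p ⟨⟨H, j⟩, (QuotientGroup.mk 1 : G ⧸ H)⟩ := by
        intro h
        change permRep (Y ρ) (h : G) p _ = _
        rw [permRep_apply]
        congr 1
        change (⟨⟨H, j⟩, (QuotientGroup.mk ((h : G)⁻¹ * 1) : G ⧸ H)⟩ : Y ρ) = _
        congr 1
        rw [QuotientGroup.eq]
        simp
      simp_rw [this]
      rw [Finset.sum_const, Finset.card_univ, nsmul_eq_mul]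
    obtain ⟨a₁, ha₁⟩ := mem_norm ρ H c hcinv _ hcoord
    have h2 : ∑ᶠ h : H, τ₀ (h : G) (p - emb2 ρ a₁) = 0 := by
      rw [finsum_eq_sum_of_fintype]
      simp only [map_sub, Finset.sum_sub_distrib]
      rw [← hc, ha₁, map_sum]
      simp only [emb2_equivariant]
      exact sub_self _
    have h3 := flasque_of_perm τ₀ Finsupp.basisSingleOne (permRep_hperm (Y ρ)) H _ h2
    have h4 : W.mkQ p = W.mkQ (p - emb2 ρ a₁) := by
      rw [map_sub]
      have : W.mkQ (emb2 ρ a₁) = 0 := (Submodule.Quotient.mk_eq_zero W).mpr ⟨a₁, rfl⟩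
      rw [this, sub_zero]
    rw [h4]
    have h5 := Submodule.mem_map_of_mem (f := W.mkQ) h3
    rw [Submodule.map_span] at h5
    refine Submodule.span_mono ?_ h5
    rintro _ ⟨x, ⟨h, y, rfl⟩, rfl⟩
    exact ⟨h, W.mkQ y, by rw [map_sub, hq]⟩

end Groth.Agent.H73.GLatRes
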