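import Mathlib
import Groth.Prelude.Def_W4c5flasquetoriphsGLat
import Groth.Agent.H73.GLatRes2

namespace Groth.Agent.H73.GLatRes
open GLat

section gen
variable {G : Type} [Group G] {M N : Type} [AddCommGroup M] [AddCommGroup N]

theorem IH_map (ρ : Representation ℤ G M) (σ : Representation ℤ G N) (f : M →ₗ[ℤ] N)
    (hf : IsEquivariant ρ σ f) (H : Subgroup G) (x : M) (hx : x ∈ IH ρ H) : f x ∈ IH σ H := by
  have h1 := Submodule.mem_map_of_mem (f := f) hx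
  rw [IH, Submodule.map_span] at h1
  refine Submodule.span_mono ?_ h1
  rintro _ ⟨x, ⟨h, y, rfl⟩, rfl⟩
  exact ⟨h, f y, by rw [map_sub, hf]⟩

theorem IH_lift (ρ : Representation ℤ G M) (σ : Representation ℤ G N) (f : M →ₗ[ℤ] N)
    (hf : IsEquivariant ρ σ f) (hsurj : Function.Surjective f) (H : Subgroup G) (y : N)
    (hy : y ∈ IH σ H) : ∃ u ∈ IH ρ H, f u = y := by
  have : IH σ H ≤ Submodule.map f (IH ρ H) := by
    rw [IH, IH, Submodule.map_span]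
    apply Submodule.span_mono
    rintro _ ⟨h, y, rfl⟩
    obtain ⟨y', rfl⟩ := hsurj y
    exact ⟨ρ (h : G) y' - y', ⟨h, y', rfl⟩, by rw [map_sub, hf]⟩
  exact this hy

/-- product representation -/
def prodRep (ρ : Representation ℤ G M) (σ : Representation ℤ G N) : Representation ℤ G (M × N) where
  toFun g := (ρ g).prodMap (σ g)
  map_one' := by
    ext x <;> simp
  map_mul' g h := by
    ext x <;> simp

theorem prodRep_apply (ρ : Representation ℤ G M) (σ : Representation ℤ G N) (g : G) (x : M × N) :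
    prodRep ρ σ g x = (ρ g x.1, σ g x.2) := rfl

end gen

theorem flasque_cover (G : Type) [Group G] [Finite G] (A : Type) [AddCommGroup A]
    [Module.Finite ℤ A] (ρ : Representation ℤ G A) :
    ∃ (P : Type) (_ : AddCommGroup P) (F : Type) (_ : AddCommGroup F)
      (_ : Module.Finite ℤ P) (_ : Module.Free ℤ P) (_ : Module.Finite ℤ F) (_ : Module.Free ℤ F)
      (σ : Representation ℤ G P) (τ : Representation ℤ G F) (i : P →ₗ[ℤ] F) (π : F →ₗ[ℤ] A),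
      IsEquivariant σ τ i ∧ IsEquivariant τ ρ π ∧ Function.Injective i ∧ Function.Surjective π ∧
      LinearMap.range i = LinearMap.ker π ∧ IsPermutation σ ∧ IsFlasque τ := by
  classical
  obtain ⟨Q, _, P₁, _, _, _, _, _, σq, τ₁, i₁, π₁, hi₁eq, hπ₁eq, hi₁inj, hπ₁surj, hrange₁, hperm₁, -⟩ :=
    GLatLib.main G A ρ
  obtain ⟨P₂, _, F₂, _, _, _, _, _, σ₂, τ₂, i₂, π₂, hi₂eq, hπ₂eq, hi₂inj, hπ₂surj, hrange₂, hperm₂,
    hfl₂⟩ := flasque_res G Q σq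
  have hker₁ : ∀ q : Q, π₁ (i₁ q) = 0 := by
    intro q
    have : i₁ q ∈ LinearMap.range i₁ := ⟨q, rfl⟩
    rw [hrange₁] at this
    exact this
  have hker₂ : ∀ q : Q, π₂ (i₂ q) = 0 := by
    intro q
    have : i₂ q ∈ LinearMap.range i₂ := ⟨q, rfl⟩
    rw [hrange₂] at this
    exact this
  have hex₁ : ∀ p : P₁, π₁ p = 0 → ∃ q, i₁ q = p := by
    intro p hp
    have : p ∈ LinearMap.ker π₁ := hp
    rw [← hrange₁] at this
    exact this
  have hex₂ : ∀ p : P₂, π₂ p = 0 → ∃ q, i₂ q = p := by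
    intro p hp
    have : p ∈ LinearMap.ker π₂ := hp
    rw [← hrange₂] at this
    exact this
  let κ : Q →ₗ[ℤ] P₁ × P₂ := i₁.prod (-i₂)
  have hκ : ∀ q, κ q = (i₁ q, -i₂ q) := fun q => rfl
  let K : Submodule ℤ (P₁ × P₂) := LinearMap.range κ
  let ρ₁₂ : Representation ℤ G (P₁ × P₂) := prodRep τ₁ σ₂
  have hK : ∀ g, K ≤ K.comap (ρ₁₂ g) := by
    rintro g _ ⟨q, rfl⟩
    refine ⟨σq g q, ?_⟩
    rw [hκ, hκ, prodRep_apply, hi₁eq, hi₂eq, map_neg]
  let ρF : Representation ℤ G ((P₁ × P₂) ⧸ K) := ρ₁₂.quotient K hK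
  have hq : ∀ g e, K.mkQ (ρ₁₂ g e) = ρF g (K.mkQ e) := fun g e => rfl
  have hK0 : ∀ e : P₁ × P₂, K.mkQ e = 0 ↔ ∃ q, κ q = e := fun e => Submodule.Quotient.mk_eq_zero K
  let j : P₂ →ₗ[ℤ] (P₁ × P₂) ⧸ K := K.mkQ ∘ₗ LinearMap.inr ℤ P₁ P₂
  let j₁ : P₁ →ₗ[ℤ] (P₁ × P₂) ⧸ K := K.mkQ ∘ₗ LinearMap.inl ℤ P₁ P₂
  have hj : ∀ p, j p = K.mkQ (0, p) := fun p => rfl
  have hj₁ : ∀ p, j₁ p = K.mkQ (p, 0) := fun p => rfl
  have hjeq : IsEquivariant σ₂ ρF j := by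
    intro g p
    rw [hj, hj, ← hq, prodRep_apply, map_zero]
  have hj₁eq : IsEquivariant τ₁ ρF j₁ := by
    intro g p
    rw [hj₁, hj₁, ← hq, prodRep_apply, map_zero]
  let π : (P₁ × P₂) ⧸ K →ₗ[ℤ] A := K.liftQ (π₁ ∘ₗ LinearMap.fst ℤ P₁ P₂) (by
    rintro _ ⟨q, rfl⟩
    rw [LinearMap.mem_ker]
    change π₁ (i₁ q) = 0
    exact hker₁ q)
  have hπ : ∀ e, π (K.mkQ e) = π₁ e.1 := fun e => rfl
  let θ : (P₁ × P₂) ⧸ K →ₗ[ℤ] F₂ := K.liftQ (π₂ ∘ₗ LinearMap.snd ℤ P₁ P₂) (by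
    rintro _ ⟨q, rfl⟩
    rw [LinearMap.mem_ker]
    change π₂ (-i₂ q) = 0
    rw [map_neg, hker₂, neg_zero])
  have hθ : ∀ e, θ (K.mkQ e) = π₂ e.2 := fun e => rfl
  have hθeq : IsEquivariant ρF τ₂ θ := by
    intro g f
    obtain ⟨e, rfl⟩ := Submodule.mkQ_surjective K f
    rw [← hq, hθ, hθ, prodRep_apply, hπ₂eq]
  have hsplit : ∀ e : P₁ × P₂, K.mkQ e = j₁ e.1 + j e.2 := by
    intro e
    rw [hj, hj₁, ← map_add]
    congr 1
    ext <;> simp
  have htf : Module.IsTorsionFree ℤ ((P₁ × P₂) ⧸ K) := by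
    apply Module.IsTorsionFree.of_smul_eq_zero
    intro n f hf
    by_cases hn : n = 0
    · exact Or.inl hn
    right
    obtain ⟨⟨p₁, p₂⟩, rfl⟩ := Submodule.mkQ_surjective K f
    rw [← map_zsmul, hK0] at hf
    obtain ⟨q, hq'⟩ := hf
    rw [hκ] at hq'
    have e1 : i₁ q = n • p₁ := congrArg Prod.fst hq'
    have e2 : -i₂ q = n • p₂ := congrArg Prod.snd hq'
    have h1 : n • π₂ p₂ = 0 := by
      rw [← map_zsmul, ← e2, map_neg, hker₂, neg_zero]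
    have h2 : π₂ p₂ = 0 := (smul_eq_zero.mp h1).resolve_left hn
    obtain ⟨q', hq''⟩ := hex₂ p₂ h2
    have h3 : q = -(n • q') := by
      apply hi₂inj
      rw [map_neg, map_zsmul, hq'', ← e2, neg_neg]
    have h4 : n • (p₁ + i₁ q') = 0 := by
      rw [smul_add, ← e1, h3, map_neg, map_zsmul]
      abel
    have h5 : p₁ + i₁ q' = 0 := (smul_eq_zero.mp h4).resolve_left hn
    rw [hK0]
    refine ⟨-q', ?_⟩
    rw [hκ, map_neg, map_neg, neg_neg, hq'']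
    congr 1
    exact (eq_neg_of_add_eq_zero_left h5).symm
  refine ⟨P₂, inferInstance, (P₁ × P₂) ⧸ K, inferInstance, inferInstance, inferInstance,
    inferInstance, inferInstance, σ₂, ρF, j, π, hjeq, ?_, ?_, ?_, ?_, hperm₂, ?_⟩
  · intro g f
    obtain ⟨e, rfl⟩ := Submodule.mkQ_surjective K f
    rw [← hq, hπ, hπ, prodRep_apply, hπ₁eq]
  · rw [injective_iff_map_eq_zero]
    intro p hp
    rw [hj, hK0] at hp
    obtain ⟨q, hq'⟩ := hp
    rw [hκ] at hq'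
    have e1 : i₁ q = 0 := congrArg Prod.fst hq'
    have e2 : -i₂ q = p := congrArg Prod.snd hq'
    have : q = 0 := hi₁inj (by rw [e1, map_zero])
    rw [← e2, this, map_zero, neg_zero]
  · intro a
    obtain ⟨p₁, rfl⟩ := hπ₁surj a
    exact ⟨K.mkQ (p₁, 0), rfl⟩
  · ext f
    constructor
    · rintro ⟨p, rfl⟩
      rw [LinearMap.mem_ker, hj, hπ]
      exact map_zero _
    · intro hf
      obtain ⟨⟨p₁, p₂⟩, rfl⟩ := Submodule.mkQ_surjective K f
      rw [LinearMap.mem_ker, hπ] at hf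
      obtain ⟨q, rfl⟩ := hex₁ p₁ hf
      refine ⟨p₂ + i₂ q, ?_⟩
      rw [hj, ← sub_eq_zero, ← map_sub, hK0]
      refine ⟨-q, ?_⟩
      rw [hκ, map_neg, map_neg, neg_neg]
      ext <;> simp
  · intro H f hf
    have : Fintype H := Fintype.ofFinite H
    change f ∈ IH ρF H
    obtain ⟨⟨p₁, p₂⟩, rfl⟩ := Submodule.mkQ_surjective K f
    -- push to F₂
    have h1 : ∑ᶠ h : H, τ₂ (h : G) (π₂ p₂) = 0 := by
      rw [finsum_eq_sum_of_fintype] at hf ⊢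
      have := congrArg θ hf
      rw [map_sum, map_zero] at this
      rw [← this]
      refine Finset.sum_congr rfl (fun h _ => ?_)
      rw [hθeq, hθ]
    have h2 : π₂ p₂ ∈ IH τ₂ H := hfl₂ H _ h1
    obtain ⟨u, hu, hu'⟩ := IH_lift σ₂ τ₂ π₂ hπ₂eq hπ₂surj H _ h2
    obtain ⟨q₀, hq₀⟩ := hex₂ (p₂ - u) (by rw [map_sub, hu', sub_self])
    have h3 : K.mkQ (p₁, p₂) = K.mkQ (p₁ + i₁ q₀, u) := by
      rw [← sub_eq_zero, ← map_sub, hK0]
      refine ⟨-q₀, ?_⟩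
      rw [hκ, map_neg, map_neg, neg_neg, hq₀]
      ext <;> simp
    rw [h3] at hf ⊢
    rw [hsplit]
    have hju : j u ∈ IH ρF H := IH_map σ₂ ρF j hjeq H u hu
    refine add_mem ?_ hju
    -- norm of j₁ part vanishes
    have h4 : ∑ h : H, ρF (h : G) (j₁ (p₁ + i₁ q₀)) = 0 := by
      rw [finsum_eq_sum_of_fintype, hsplit] at hf
      have hf' : ∑ h : H, (ρF (h : G) (j₁ (p₁ + i₁ q₀)) + ρF (h : G) (j u)) = 0 := by
        rw [← hf]
        exact Finset.sum_congr rfl (fun h _ => (map_add _ _ _).symm)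
      rw [Finset.sum_add_distrib, norm_IH ρF H _ hju, add_zero] at hf'
      exact hf'
    have h5 : ∑ h : H, τ₁ (h : G) (p₁ + i₁ q₀) = 0 := by
      have h6 : j₁ (∑ h : H, τ₁ (h : G) (p₁ + i₁ q₀)) = 0 := by
        rw [map_sum, ← h4]
        exact Finset.sum_congr rfl (fun h _ => hj₁eq _ _)
      rw [hj₁, hK0] at h6
      obtain ⟨q, hq'⟩ := h6
      rw [hκ] at hq'
      have e1 : i₁ q = ∑ h : H, τ₁ (h : G) (p₁ + i₁ q₀) := congrArg Prod.fst hq'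
      have e2 : -i₂ q = 0 := congrArg Prod.snd hq'
      have : q = 0 := hi₂inj (by rw [map_zero, ← neg_eq_zero, e2])
      rw [← e1, this, map_zero]
    obtain ⟨ι, b, hb⟩ := hperm₁
    have h7 := flasque_of_perm τ₁ b hb H (p₁ + i₁ q₀) (by rw [finsum_eq_sum_of_fintype]; exact h5)
    exact IH_map τ₁ ρF j₁ hj₁eq H _ h7

end Groth.Agent.H73.GLatRes
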