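import Groth.Agent.H73.GRDerivFT
import Groth.Agent.H47.CoeffFieldP
import Groth.Agent.H61.QuotComplete
import Groth.Agent.H96.CohenFinite

/-!
# Stacks 07PJ: derivations detecting non-`p`-th powers, finite type over complete local (helper73)
-/

set_option autoImplicit false
set_option linter.unusedSectionVars false
set_option linter.style.haveILetI false
universe u

namespace Groth.Agent.H73.GRDeriv

open IsLocalRing

/-- Cohen: a complete Noetherian local ring with a coefficient field `k` is finite over
`k[[x₁..xₙ]]` (injectively if ... ) — repackaging of `H96.CohenFinite.main`. -/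
theorem cohen_of_section {C : Type u} [CommRing C] [IsLocalRing C] [IsNoetherianRing C]
    [IsAdicComplete (maximalIdeal C) C] (k : Type u) [Field k] [Algebra k C]
    (hsurj : Function.Surjective (algebraMap k (ResidueField C))) :
    ∃ (n : ℕ) (w : MvPowerSeries (Fin n) k →ₐ[k] C), Function.Injective w ∧
      w.toRingHom.Finite := by
  haveI : Module.Finite k (ResidueField C) :=
    Module.Finite.of_surjective (Algebra.linearMap k (ResidueField C)) hsurj
  obtain ⟨n, w, h1, -, h2⟩ := Groth.Agent.H96.CohenFinite.main (k₀ := k) (A := C)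
  exact ⟨n, w, h1, h2⟩

/-- Stacks 07PJ. -/
theorem exists_derivation_complete {R B : Type u} [CommRing R] [IsLocalRing R]
    [IsNoetherianRing R] [IsAdicComplete (IsLocalRing.maximalIdeal R) R] [CommRing B] [IsDomain B]
    [Algebra R B] [Algebra.FiniteType R B] (p : ℕ) [Fact p.Prime] [CharP B p] (f : B)
    (hf : ∀ x : FractionRing B, x ^ p ≠ algebraMap B (FractionRing B) f) :
    ∃ D : Derivation ℤ B B, D f ≠ 0 := by
  classical
  haveI hIprime : (RingHom.ker (algebraMap R B)).IsPrime := RingHom.ker_isPrime _
  haveI : IsLocalRing (R ⧸ RingHom.ker (algebraMap R B)) :=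
    IsLocalRing.of_surjective' (Ideal.Quotient.mk _) Ideal.Quotient.mk_surjective
  haveI : IsAdicComplete (maximalIdeal (R ⧸ RingHom.ker (algebraMap R B)))
      (R ⧸ RingHom.ker (algebraMap R B)) :=
    Groth.Agent.H61.isAdicComplete_quotient _
  have hφ : Function.Injective (RingHom.kerLift (algebraMap R B)) := RingHom.kerLift_injective _
  letI : Algebra (R ⧸ RingHom.ker (algebraMap R B)) B := (RingHom.kerLift (algebraMap R B)).toAlgebra
  haveI : IsScalarTower R (R ⧸ RingHom.ker (algebraMap R B)) B :=
    IsScalarTower.of_algebraMap_eq (fun r => rfl)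
  haveI : Algebra.FiniteType (R ⧸ RingHom.ker (algebraMap R B)) B :=
    Algebra.FiniteType.of_restrictScalars_finiteType R _ B
  haveI : CharP (R ⧸ RingHom.ker (algebraMap R B)) p := RingHom.charP _ hφ p
  obtain ⟨s, hs⟩ := Groth.Agent.H47.exists_coeffField_charP p (R ⧸ RingHom.ker (algebraMap R B))
  letI : Algebra (ResidueField (R ⧸ RingHom.ker (algebraMap R B)))
      (R ⧸ RingHom.ker (algebraMap R B)) := s.toAlgebra
  haveI : CharP (ResidueField (R ⧸ RingHom.ker (algebraMap R B))) p :=
    RingHom.charP s s.injective p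
  obtain ⟨n, w, hwinj, hwfin⟩ := cohen_of_section (C := R ⧸ RingHom.ker (algebraMap R B))
    (ResidueField (R ⧸ RingHom.ker (algebraMap R B))) (fun x => ⟨x, RingHom.congr_fun hs x⟩)
  letI : Algebra (MvPowerSeries (Fin n) (ResidueField (R ⧸ RingHom.ker (algebraMap R B))))
      (R ⧸ RingHom.ker (algebraMap R B)) := w.toRingHom.toAlgebra
  haveI : Module.Finite (MvPowerSeries (Fin n) (ResidueField (R ⧸ RingHom.ker (algebraMap R B))))
      (R ⧸ RingHom.ker (algebraMap R B)) := hwfin
  letI : Algebra (MvPowerSeries (Fin n) (ResidueField (R ⧸ RingHom.ker (algebraMap R B)))) B :=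
    ((algebraMap (R ⧸ RingHom.ker (algebraMap R B)) B).comp w.toRingHom).toAlgebra
  haveI : IsScalarTower (MvPowerSeries (Fin n) (ResidueField (R ⧸ RingHom.ker (algebraMap R B))))
      (R ⧸ RingHom.ker (algebraMap R B)) B := IsScalarTower.of_algebraMap_eq (fun _ => rfl)
  haveI : Algebra.FiniteType
      (MvPowerSeries (Fin n) (ResidueField (R ⧸ RingHom.ker (algebraMap R B)))) B :=
    Algebra.FiniteType.trans (S := R ⧸ RingHom.ker (algebraMap R B)) inferInstance inferInstance
  exact exists_derivation_ft p (ResidueField (R ⧸ RingHom.ker (algebraMap R B))) n B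
    (hφ.comp hwinj) f hf

end Groth.Agent.H73.GRDeriv
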