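import Groth.Agent.H73.GRDeriv

/-!
# Finite type version of `GRDeriv.exists_derivation` (Stacks 07PJ) (helper73)
-/

set_option autoImplicit false
set_option linter.unusedSectionVars false
set_option linter.style.haveILetI false
universe u

namespace Groth.Agent.H73.GRDeriv

open Groth.Agent.H73.PFam

/-- A derivation of `Frac B` killing a ring `R` over which `B` is of finite type restricts,
after multiplication by a nonzero element of `B`, to a derivation of `B`. -/
theorem exists_restrict_ft {R B L : Type*} [CommRing R] [CommRing B] [IsDomain B] [Field L]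
    [Algebra R B] [Algebra.FiniteType R B] [Algebra B L] [IsFractionRing B L]
    (D₁ : Derivation ℤ L L) (hR : ∀ r : R, D₁ (algebraMap B L (algebraMap R B r)) = 0) :
    ∃ (g : B) (D : Derivation ℤ B B), g ≠ 0 ∧
      ∀ b, algebraMap B L (D b) = algebraMap B L g * D₁ (algebraMap B L b) := by
  classical
  have hψinj : Function.Injective (algebraMap B L) := IsFractionRing.injective B L
  obtain ⟨T, hT⟩ := (Algebra.FiniteType.out : (⊤ : Subalgebra R B).FG)
  obtain ⟨g, hg⟩ := IsLocalization.exist_integer_multiples_of_finset (nonZeroDivisors B)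
    (T.image (fun t => D₁ (algebraMap B L t)))
  have key : ∀ b : B, ∃ c : B, algebraMap B L c = algebraMap B L g * D₁ (algebraMap B L b) := by
    intro b
    have hb : b ∈ Algebra.adjoin R (T : Set B) := by rw [hT]; trivial
    induction hb using Algebra.adjoin_induction with
    | mem x hx =>
      obtain ⟨c, hc⟩ := hg _ (Finset.mem_image_of_mem _ hx)
      refine ⟨c, ?_⟩
      rw [hc, Algebra.smul_def]
    | algebraMap r => exact ⟨0, by rw [hR, mul_zero, map_zero]⟩
    | add x y _ _ hx hy =>
      obtain ⟨c, hc⟩ := hx
      obtain ⟨d, hd⟩ := hy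
      exact ⟨c + d, by rw [map_add, map_add, map_add, mul_add, hc, hd]⟩
    | mul x y _ _ hx hy =>
      obtain ⟨c, hc⟩ := hx
      obtain ⟨d, hd⟩ := hy
      refine ⟨x * d + y * c, ?_⟩
      rw [map_add, map_mul (algebraMap B L) x d, map_mul (algebraMap B L) y c,
        map_mul (algebraMap B L) x y, hc, hd, Derivation.leibniz, smul_eq_mul, smul_eq_mul]
      ring
  choose δ hδ using key
  let δa : B →+ B :=
    { toFun := δ
      map_zero' := hψinj (by rw [hδ]; simp)
      map_add' := fun x y => hψinj (by rw [hδ, map_add, map_add, map_add, mul_add, hδ, hδ]) }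
  refine ⟨g, { toLinearMap := δa.toIntLinearMap, map_one_eq_zero' := ?_, leibniz' := ?_ },
    nonZeroDivisors.coe_ne_zero g, fun b => hδ b⟩
  · apply hψinj
    show algebraMap B L (δ 1) = algebraMap B L 0
    rw [hδ, map_one, Derivation.map_one_eq_zero, mul_zero, map_zero]
  · intro a b
    apply hψinj
    show algebraMap B L (δ (a * b)) = algebraMap B L (a • δ b + b • δ a)
    rw [hδ, map_add, smul_eq_mul, smul_eq_mul, map_mul (algebraMap B L) a b,
      map_mul (algebraMap B L) a (δ b), map_mul (algebraMap B L) b (δ a), hδ, hδ,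
      Derivation.leibniz, smul_eq_mul, smul_eq_mul]
    ring

/-- Stacks 07PJ for `B` of finite type over `k[[x₁..xₙ]]`. -/
theorem exists_derivation_ft (p : ℕ) [Fact p.Prime] (k : Type u) [Field k] [CharP k p] (n : ℕ)
    (B : Type u) [CommRing B] [IsDomain B] [Algebra (MvPowerSeries (Fin n) k) B]
    [Algebra.FiniteType (MvPowerSeries (Fin n) k) B]
    (hinj : Function.Injective (algebraMap (MvPowerSeries (Fin n) k) B)) (f : B)
    (hf : ∀ x : FractionRing B, x ^ p ≠ algebraMap B (FractionRing B) f) :
    ∃ D : Derivation ℤ B B, D f ≠ 0 := by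
  classical
  haveI : FaithfulSMul (MvPowerSeries (Fin n) k) B :=
    (faithfulSMul_iff_algebraMap_injective _ _).2 hinj
  have hinjL : Function.Injective (algebraMap (MvPowerSeries (Fin n) k) (FractionRing B)) := by
    rw [IsScalarTower.algebraMap_eq (MvPowerSeries (Fin n) k) B (FractionRing B)]
    exact (IsFractionRing.injective B (FractionRing B)).comp hinj
  haveI : FaithfulSMul (MvPowerSeries (Fin n) k) (FractionRing B) :=
    (faithfulSMul_iff_algebraMap_injective _ _).2 hinjL
  letI : Algebra (FractionRing (MvPowerSeries (Fin n) k)) (FractionRing B) :=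
    FractionRing.liftAlgebra (MvPowerSeries (Fin n) k) (FractionRing B)
  haveI : IsScalarTower (MvPowerSeries (Fin n) k) (FractionRing (MvPowerSeries (Fin n) k))
      (FractionRing B) := FractionRing.isScalarTower_liftAlgebra _ _
  haveI : CharP (FractionRing (MvPowerSeries (Fin n) k)) p :=
    charP_of_injective_algebraMap
      (algebraMap k (FractionRing (MvPowerSeries (Fin n) k))).injective p
  haveI : CharP (FractionRing B) p :=
    charP_of_injective_algebraMap
      (algebraMap (FractionRing (MvPowerSeries (Fin n) k)) (FractionRing B)).injective p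
  haveI : Algebra.EssFiniteType B (FractionRing B) :=
    Algebra.EssFiniteType.of_isLocalization (FractionRing B) (nonZeroDivisors B)
  haveI : Algebra.EssFiniteType (MvPowerSeries (Fin n) k) (FractionRing B) :=
    Algebra.EssFiniteType.comp (MvPowerSeries (Fin n) k) B (FractionRing B)
  haveI : Algebra.EssFiniteType (FractionRing (MvPowerSeries (Fin n) k)) (FractionRing B) :=
    Algebra.EssFiniteType.of_comp (MvPowerSeries (Fin n) k) _ (FractionRing B)
  obtain ⟨J, D₁, hD₁, hkill⟩ := exists_derivation_field p
    (K := FractionRing (MvPowerSeries (Fin n) k)) (L := FractionRing B)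
    (ι := Finset k) (fun J => KJ p k n J) (fun J J' h => KJ_antitone p k n h)
    (fun J y => pow_mem_KJ p k n J y) (exists_pow_eq_of_forall_mem_KJ p k n)
    (algebraMap B (FractionRing B) f) hf
  haveI := finite_F p k J
  haveI : Module.Finite (S p (F p k J) (σ := Fin n)) (MvPowerSeries (Fin n) k) := finite_S p _
  haveI : Algebra.FiniteType (S p (F p k J) (σ := Fin n)) B :=
    Algebra.FiniteType.trans (S := MvPowerSeries (Fin n) k) inferInstance inferInstance
  obtain ⟨g, D, hg0, hD⟩ := exists_restrict_ft (R := S p (F p k J) (σ := Fin n)) (B := B)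
    (L := FractionRing B) D₁ (fun s => by
      have h1 : algebraMap B (FractionRing B) (algebraMap (S p (F p k J) (σ := Fin n)) B s) =
          algebraMap (FractionRing (MvPowerSeries (Fin n) k)) (FractionRing B)
            (algebraMap (MvPowerSeries (Fin n) k) (FractionRing (MvPowerSeries (Fin n) k)) s.1) := by
        rw [← IsScalarTower.algebraMap_apply (MvPowerSeries (Fin n) k)
          (FractionRing (MvPowerSeries (Fin n) k)) (FractionRing B),
          IsScalarTower.algebraMap_apply (MvPowerSeries (Fin n) k) B (FractionRing B)]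
        rfl
      rw [h1]
      exact hkill _ (algebraMap_mem_KJ p k n J s.2))
  refine ⟨D, fun h0 => hD₁ ?_⟩
  have h2 := hD f
  rw [h0, map_zero] at h2
  have hgL : algebraMap B (FractionRing B) g ≠ 0 := fun h =>
    hg0 (IsFractionRing.injective B (FractionRing B) (by rw [h, map_zero]))
  exact (mul_eq_zero.1 h2.symm).resolve_left hgL

end Groth.Agent.H73.GRDeriv
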