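import Groth.Agent.H73.PFamField
import Groth.Agent.H73.PFamSeries

/-!
# The explicit family `K_J = Frac (k_J[[T^p]]) ⊆ K = Frac k[[T]]` (helper73)

Explicit form of `PFamMain.main`: for `S_J = S p (F p k J)`,
`K_J = Subfield.closure (algebraMap '' S_J)`: antitone, contains `K^p`, and `⋂_J K_J = K^p`.
-/

set_option autoImplicit false
set_option linter.unusedSectionVars false
universe u

namespace Groth.Agent.H73.PFam

open MvPowerSeries

variable (p : ℕ) [Fact p.Prime] (k : Type u) [Field k] [CharP k p] (n : ℕ)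

/-- `K_J ⊆ Frac k[[T]]`. -/
noncomputable def KJ (J : Finset k) : Subfield (FractionRing (MvPowerSeries (Fin n) k)) :=
  Subfield.closure (algebraMap (MvPowerSeries (Fin n) k) (FractionRing (MvPowerSeries (Fin n) k)) ''
    ((S p (F p k J) (σ := Fin n) : Subring (MvPowerSeries (Fin n) k)) :
      Set (MvPowerSeries (Fin n) k)))

theorem KJ_antitone {J J' : Finset k} (h : J ⊆ J') : KJ p k n J' ≤ KJ p k n J :=
  Subfield.closure_mono (Set.image_mono (S_mono p (F_antitone p k h)))

theorem algebraMap_mem_KJ (J : Finset k) {s : MvPowerSeries (Fin n) k} (hs : s ∈ S p (F p k J)) :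
    algebraMap (MvPowerSeries (Fin n) k) (FractionRing (MvPowerSeries (Fin n) k)) s ∈ KJ p k n J :=
  Subfield.subset_closure ⟨s, hs, rfl⟩

theorem pow_mem_KJ (J : Finset k) (y : FractionRing (MvPowerSeries (Fin n) k)) :
    y ^ p ∈ KJ p k n J := by
  obtain ⟨a, s, hs, rfl⟩ := IsFractionRing.div_surjective (MvPowerSeries (Fin n) k) y
  rw [div_pow, ← map_pow, ← map_pow]
  exact div_mem (algebraMap_mem_KJ p k n J (pow_mem_S p _ (pow_mem_F p k J) a))
    (algebraMap_mem_KJ p k n J (pow_mem_S p _ (pow_mem_F p k J) s))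

local notation "AA" => MvPowerSeries (Fin n) k
local notation "KK" => FractionRing (MvPowerSeries (Fin n) k)
local notation "alg" => algebraMap (MvPowerSeries (Fin n) k) (FractionRing (MvPowerSeries (Fin n) k))

theorem exists_pow_eq_of_forall_mem_KJ (x : FractionRing (MvPowerSeries (Fin n) k))
    (hx : ∀ J, x ∈ KJ p k n J) : ∃ y : FractionRing (MvPowerSeries (Fin n) k), y ^ p = x := by
  classical
  have hinj : Function.Injective alg := IsFractionRing.injective _ _
  have hp1 : p - 1 + 1 = p := Nat.sub_add_cancel (Fact.out : p.Prime).pos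
  obtain ⟨a, s, hs, rfl⟩ := IsFractionRing.div_surjective AA x
  have hs0 : s ≠ 0 := nonZeroDivisors.ne_zero hs
  have hsK : alg s ≠ 0 := fun h => hs0 (hinj (by rw [h, map_zero]))
  have key : ∀ J, a * s ^ (p - 1) ∈ S p (F p k J) := by
    intro J
    apply mem_S_of_mem_closure
    have h1 : alg (a * s ^ (p - 1)) = (alg a / alg s) * alg (s ^ p) := by
      rw [map_mul, map_pow, map_pow, div_mul_eq_mul_div, eq_div_iff hsK, mul_assoc, ← pow_succ,
        hp1]
    rw [h1]
    exact mul_mem (hx J) (algebraMap_mem_KJ p k n J (pow_mem_S p _ (pow_mem_F p k J) s))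
  obtain ⟨g, hg⟩ := exists_pow_eq p (a * s ^ (p - 1))
    (fun m => exists_pow_eq_of_forall_mem p k _ (fun J => ((mem_S p _).1 (key J) m).1))
    (fun m => ((mem_S p _).1 (key ∅) m).2)
  refine ⟨alg g / alg s, ?_⟩
  rw [div_pow, ← map_pow, hg, map_mul, map_pow, div_eq_div_iff (pow_ne_zero _ hsK) hsK,
    mul_assoc, ← pow_succ, hp1]

end Groth.Agent.H73.PFam
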