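import Mathlib
import Groth.Agent.H17.GenFreeMain

/-!
# Generic freeness of cokernels `N / u(M)` (Stacks 051S style)

We adapt helper17's `GenFree.step` to quotients by the bottom piece of the filtration, and deduce
generic freeness of `N ⧸ U` for `N` finite over `A[x₁,…,xₙ]` and `U` a finitely generated
`A`-submodule.
-/

set_option autoImplicit false
set_option linter.style.haveILetI false
set_option linter.unusedSectionVars false

open Submodule TensorProduct

namespace Groth.Agent.H73.GenFlatCoker

open Groth.Agent.H17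

universe u

section step

variable {A : Type u} [CommRing A] [IsDomain A]
  {B' B : Type u} [CommRing B'] [CommRing B] [Algebra A B'] [Algebra B' B]
  {M : Type u} [AddCommGroup M] [Module A M] [Module B' M] [Module B M]
  [IsScalarTower A B' M] [IsScalarTower B' B M]

/-- The quotient of a finite `B'[x]`-module by a generating finite `B'`-submodule is generically
free over `A`. -/
theorem step_quot [IsNoetherianRing B'] (x : B) (hx : Algebra.adjoin B' {x} = ⊤)
    (M₀ : Submodule B' M) (hM₀fg : M₀.FG) (hM₀span : Submodule.span B (M₀ : Set M) = ⊤)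
    (IH : ∀ (N : Type u) [AddCommGroup N] [Module A N] [Module B' N] [IsScalarTower A B' N]
      [Module.Finite B' N], GenFree A N) :
    GenFree A (M ⧸ M₀.restrictScalars A) := by
  classical
  have hM₀fin : Module.Finite B' ↥M₀ := Module.Finite.of_fg hM₀fg
  have hM₀noeth : IsNoetherian B' ↥M₀ := isNoetherian_of_isNoetherianRing_of_finite B' ↥M₀
  let F := xfilt x M₀
  have hFmono : Monotone F := xfilt_mono x M₀
  have hFsup : ⨆ k, F k = ⊤ := iSup_xfilt_eq_top x hx M₀ hM₀span
  have hF0 : F 0 = M₀ := xfilt_zero x M₀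
  have hM₀F : ∀ k, M₀ ≤ F k := fun k => hF0 ▸ hFmono (Nat.zero_le k)
  -- stabilisation of the kernels
  let K : ℕ →o Submodule B' ↥M₀ := ⟨fun k => LinearMap.ker (xψbar x M₀ k), ker_xψbar_mono x M₀⟩
  obtain ⟨k₀, hk₀⟩ := monotone_stabilizes_iff_noetherian.mpr hM₀noeth K
  let P : ℕ → Type u := fun k => ↥M₀ ⧸ K k
  have hPgen : ∀ k, GenFree A (P k) := fun k => IH (↥M₀ ⧸ K k)
  have hPiso : ∀ k, k₀ ≤ k → Nonempty (P k ≃ₗ[A] P k₀) := fun k hk =>
    ⟨(Submodule.quotEquivOfEq (K k) (K k₀) (hk₀ k hk).symm).restrictScalars A⟩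
  obtain ⟨a₁, ha₁, hfree₁⟩ := GenFree.exists_uniform k₀ (fun k _ => hPgen k) hPiso
  have hKmem : ∀ k (m : ↥M₀), m ∈ K k ↔ x ^ (k + 1) • (m : M) ∈ F k := by
    intro k m
    change m ∈ LinearMap.ker (xψbar x M₀ k) ↔ _
    simp only [LinearMap.mem_ker, xψbar, LinearMap.coe_comp, Function.comp_apply,
      Submodule.mkQ_apply, Submodule.Quotient.mk_eq_zero, Submodule.mem_comap,
      Submodule.subtype_apply]
    rw [xψ_coe]
  -- the quotient and its filtration
  let π : M →ₗ[A] (M ⧸ M₀.restrictScalars A) := (M₀.restrictScalars A).mkQ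
  have hπ0 : ∀ y : M, π y = 0 ↔ y ∈ M₀ := fun y => by
    change Submodule.Quotient.mk y = 0 ↔ _
    rw [Submodule.Quotient.mk_eq_zero]
    rfl
  let F' : ℕ → Submodule A (M ⧸ M₀.restrictScalars A) := fun k => ((F k).restrictScalars A).map π
  have hF'mono : Monotone F' := fun k l hkl => Submodule.map_mono (fun y hy => hFmono hkl hy)
  have hF'sup : ⨆ k, F' k = ⊤ := by
    apply top_le_iff.mp
    intro q _
    obtain ⟨m, rfl⟩ := Submodule.mkQ_surjective _ q
    have hm : m ∈ ⨆ k, F k := by rw [hFsup]; trivial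
    obtain ⟨k, hk⟩ := (Submodule.mem_iSup_of_directed _ hFmono.directed_le).mp hm
    exact Submodule.mem_iSup_of_mem k (Submodule.mem_map_of_mem hk)
  have hF'mem : ∀ k (y : M), π y ∈ F' k ↔ y ∈ F k := by
    intro k y
    constructor
    · rintro ⟨y', hy', hyy'⟩
      have h0 : π (y - y') = 0 := by rw [map_sub, hyy', sub_self]
      have h1 : y - y' ∈ F k := hM₀F k ((hπ0 _).mp h0)
      have : y = (y - y') + y' := by abel
      rw [this]
      exact (F k).add_mem h1 hy'
    · intro hy
      exact Submodule.mem_map_of_mem hy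
  -- the maps from `M₀` onto the graded pieces of the quotient
  let T' : ℕ → Type u := fun k => ↥(F' (k + 1)) ⧸ (F' k).comap (F' (k + 1)).subtype
  let ρ₀ : ∀ k, ↥M₀ →ₗ[A] ↥(F' (k + 1)) := fun k =>
    LinearMap.codRestrict (F' (k + 1))
      (π ∘ₗ ((xpow (B' := B') x (k + 1)).restrictScalars A) ∘ₗ (M₀.subtype.restrictScalars A))
      (fun m => by
        refine (hF'mem (k + 1) _).mpr ?_
        exact map_xpow_le_xfilt x M₀ (k + 1) (Submodule.mem_map_of_mem m.2))
  let ρ : ∀ k, ↥M₀ →ₗ[A] T' k := fun k => ((F' k).comap (F' (k + 1)).subtype).mkQ ∘ₗ ρ₀ k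
  have hρ₀ : ∀ k (m : ↥M₀), ((ρ₀ k m : ↥(F' (k + 1))) : M ⧸ M₀.restrictScalars A) =
      π (x ^ (k + 1) • (m : M)) := fun k m => rfl
  have hρsurj : ∀ k, Function.Surjective (ρ k) := by
    intro k t
    obtain ⟨⟨z, hz⟩, rfl⟩ := Submodule.mkQ_surjective _ t
    obtain ⟨y, hy, rfl⟩ := hz
    have hy' : y ∈ xfilt x M₀ k ⊔ M₀.map (xpow x (k + 1)) := hy
    obtain ⟨y₁, hy₁, y₂, hy₂, rfl⟩ := Submodule.mem_sup.mp hy'
    obtain ⟨m, hm, rfl⟩ := hy₂
    refine ⟨⟨m, hm⟩, ?_⟩
    change Submodule.Quotient.mk (ρ₀ k ⟨m, hm⟩) = Submodule.Quotient.mk _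
    rw [Submodule.Quotient.eq, Submodule.mem_comap, Submodule.subtype_apply,
      Submodule.coe_sub, hρ₀]
    have : π (x ^ (k + 1) • m) - π (y₁ + (xpow (B' := B') x (k + 1)) m) = π (-y₁) := by
      rw [← map_sub]
      congr 1
      rw [xpow_apply]
      abel
    rw [this]
    exact (hF'mem k _).mpr ((F k).neg_mem hy₁)
  have hρker : ∀ k, LinearMap.ker (ρ k) = (K k).restrictScalars A := by
    intro k
    ext m
    rw [LinearMap.mem_ker, Submodule.restrictScalars_mem, hKmem]
    change Submodule.Quotient.mk (ρ₀ k m) = 0 ↔ _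
    rw [Submodule.Quotient.mk_eq_zero, Submodule.mem_comap, Submodule.subtype_apply, hρ₀,
      hF'mem]
  have e : ∀ k, P k ≃ₗ[A] T' k := fun k =>
    ((Submodule.Quotient.restrictScalarsEquiv A (K k)).symm.trans
      (Submodule.quotEquivOfEq _ _ (hρker k).symm)).trans
      ((ρ k).quotKerEquivOfSurjective (hρsurj k))
  refine ⟨a₁, ha₁, fun A' _ _ _ hu => ?_⟩
  refine free_baseChange_of_filtration A' F' hF'mono hF'sup ?_ (fun k => ?_)
  · have hbot : F' 0 = ⊥ := by
      change ((F 0).restrictScalars A).map π = ⊥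
      rw [hF0]
      exact Submodule.mkQ_map_self _
    have : Subsingleton ↥(F' 0) := by
      rw [hbot]
      infer_instance
    have : Subsingleton (A' ⊗[A] ↥(F' 0)) := inferInstance
    exact Module.Free.of_subsingleton A' _
  · have := hfree₁ k A' hu
    exact Module.Free.of_equiv ((e k).baseChange A A' _ _)

end step

section main

/-- Generic freeness of `N ⧸ U` for `N` finite over `A[x₁,…,xₙ]` and `U` a finitely generated
`A`-submodule, `A` of finite type over the Noetherian domain `R`. -/
theorem genFree_quot_mvPolynomial (R : Type u) [CommRing R] [IsDomain R] [IsNoetherianRing R]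
    (A : Type u) [CommRing A] [Algebra R A] [Algebra.FiniteType R A] (n : ℕ) :
    ∀ (N : Type u) [AddCommGroup N] [Module R N] [Module A N]
      [Module (MvPolynomial (Fin n) A) N] [IsScalarTower R A N]
      [IsScalarTower A (MvPolynomial (Fin n) A) N] [IsScalarTower R (MvPolynomial (Fin n) A) N]
      [Module.Finite (MvPolynomial (Fin n) A) N] (U : Submodule A N), U.FG →
      GenFree R (N ⧸ U.restrictScalars R) := by
  haveI hAnoeth : IsNoetherianRing A := Algebra.FiniteType.isNoetherianRing R A
  induction n with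
  | zero =>
    intro N _ _ _ _ _ _ _ _ U hU
    have h1 : Module.Finite A (MvPolynomial (Fin 0) A) :=
      Module.Finite.equiv (MvPolynomial.isEmptyAlgEquiv A (Fin 0)).symm.toLinearEquiv
    have : Module.Finite A N := Module.Finite.trans (MvPolynomial (Fin 0) A) N
    have h2 : GenFree R (N ⧸ U) := genFree_of_finiteType R A (N ⧸ U)
    exact GenFree.of_equiv (Submodule.Quotient.restrictScalarsEquiv R U).symm h2
  | succ n ih =>
    intro N _ _ _ _ _ _ _ _ U hU
    letI algInst : Algebra (MvPolynomial (Fin n) A) (MvPolynomial (Fin (n + 1)) A) :=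
      (MvPolynomial.rename (R := A) (Fin.succ (n := n))).toRingHom.toAlgebra
    letI modInst : Module (MvPolynomial (Fin n) A) N :=
      Module.compHom N (MvPolynomial.rename (R := A) (Fin.succ (n := n))).toRingHom
    have hsmul : ∀ (b' : MvPolynomial (Fin n) A) (m : N),
        b' • m = (MvPolynomial.rename Fin.succ b' : MvPolynomial (Fin (n + 1)) A) • m :=
      fun _ _ => rfl
    have hsmul' : ∀ (b' : MvPolynomial (Fin n) A) (b : MvPolynomial (Fin (n + 1)) A),
        b' • b = (MvPolynomial.rename Fin.succ b' : MvPolynomial (Fin (n + 1)) A) * b :=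
      fun _ _ => rfl
    haveI t1 : IsScalarTower A (MvPolynomial (Fin n) A) N := by
      refine ⟨fun a b' m => ?_⟩
      rw [hsmul, hsmul, map_smul, smul_assoc]
    haveI t2 : IsScalarTower (MvPolynomial (Fin n) A) (MvPolynomial (Fin (n + 1)) A) N := by
      refine ⟨fun b' b m => ?_⟩
      rw [hsmul, hsmul', mul_smul]
    haveI t3 : IsScalarTower R (MvPolynomial (Fin n) A) N := by
      refine ⟨fun r b' m => ?_⟩
      rw [← algebraMap_smul A r b', smul_assoc, algebraMap_smul]
    haveI hft : Algebra.FiniteType R (MvPolynomial (Fin n) A) :=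
      Algebra.FiniteType.trans (inferInstance : Algebra.FiniteType R A) inferInstance
    obtain ⟨G, hG⟩ := Module.finite_def.mp
      (inferInstance : Module.Finite (MvPolynomial (Fin (n + 1)) A) N)
    obtain ⟨GU, hGU⟩ := hU
    classical
    let N₀ : Submodule (MvPolynomial (Fin n) A) N :=
      Submodule.span _ ((G ∪ GU : Finset N) : Set N)
    have hN₀fg : N₀.FG := Submodule.fg_span (Finset.finite_toSet _)
    have hN₀span : Submodule.span (MvPolynomial (Fin (n + 1)) A) (N₀ : Set N) = ⊤ := by
      apply top_le_iff.mp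
      rw [← hG]
      refine Submodule.span_mono ?_
      intro g hg
      exact Submodule.subset_span (by
        rw [Finset.coe_union]
        exact Or.inl hg)
    have hUN₀ : ∀ y ∈ U, y ∈ N₀ := by
      intro y hy
      rw [← hGU] at hy
      have h1 := Submodule.span_le_restrictScalars A (MvPolynomial (Fin n) A) (GU : Set N) hy
      refine Submodule.span_mono ?_ h1
      intro g hg
      rw [Finset.coe_union]
      exact Or.inr hg
    haveI : Module.Finite (MvPolynomial (Fin n) A) ↥N₀ := Module.Finite.of_fg hN₀fg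
    let ι : ↥N₀ →ₗ[A] N := N₀.subtype.restrictScalars A
    have hU'fg : (U.comap ι).FG := by
      refine Submodule.fg_of_fg_map_injective ι Subtype.val_injective ?_
      rw [Submodule.map_comap_eq]
      have : LinearMap.range ι ⊓ U = U :=
        inf_eq_right.mpr (fun y hy => ⟨⟨y, hUN₀ y hy⟩, rfl⟩)
      rw [this]
      exact ⟨GU, hGU⟩
    have h1 : GenFree R (↥N₀ ⧸ (U.comap ι).restrictScalars R) := ih ↥N₀ (U.comap ι) hU'fg
    have h2 : GenFree R (N ⧸ N₀.restrictScalars R) :=
      step_quot (A := R) (B' := MvPolynomial (Fin n) A) (B := MvPolynomial (Fin (n + 1)) A)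
        (MvPolynomial.X 0) (adjoin_rename_succ_X_zero A n) N₀ hN₀fg hN₀span
        (fun N' _ _ _ _ _ => genFree_of_finiteType R (MvPolynomial (Fin n) A) N')
    let f₁ : (↥N₀ ⧸ (U.comap ι).restrictScalars R) →ₗ[R] (N ⧸ U.restrictScalars R) :=
      Submodule.mapQ _ _ (N₀.subtype.restrictScalars R) (fun y hy => hy)
    let g₁ : (N ⧸ U.restrictScalars R) →ₗ[R] (N ⧸ N₀.restrictScalars R) :=
      Submodule.mapQ _ _ LinearMap.id (fun y hy => hUN₀ y hy)
    have hf₁ : Function.Injective f₁ := by
      rw [injective_iff_map_eq_zero]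
      intro q hq
      obtain ⟨y, rfl⟩ := Submodule.mkQ_surjective _ q
      rw [Submodule.mkQ_apply, Submodule.mapQ_apply, Submodule.Quotient.mk_eq_zero] at hq
      rw [Submodule.mkQ_apply, Submodule.Quotient.mk_eq_zero]
      exact hq
    have hg₁ : Function.Surjective g₁ := by
      intro q
      obtain ⟨y, rfl⟩ := Submodule.mkQ_surjective _ q
      exact ⟨Submodule.Quotient.mk y, rfl⟩
    have hfg : Function.Exact f₁ g₁ := by
      intro q
      obtain ⟨y, rfl⟩ := Submodule.mkQ_surjective _ q
      constructor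
      · intro h
        rw [Submodule.mkQ_apply, Submodule.mapQ_apply, Submodule.Quotient.mk_eq_zero] at h
        exact ⟨Submodule.Quotient.mk ⟨y, h⟩, rfl⟩
      · rintro ⟨q', hq'⟩
        obtain ⟨y', rfl⟩ := Submodule.mkQ_surjective _ q'
        rw [Submodule.mkQ_apply, Submodule.mkQ_apply, Submodule.mapQ_apply,
          Submodule.Quotient.eq] at hq'
        rw [Submodule.mkQ_apply, Submodule.mapQ_apply, Submodule.Quotient.mk_eq_zero]
        have h3 : (y' : N) - y ∈ N₀ := hUN₀ _ hq'
        have : y = (y' : N) - ((y' : N) - y) := by abel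
        rw [LinearMap.id_apply, this]
        exact N₀.sub_mem y'.2 h3
    exact GenFree.of_exact f₁ g₁ hf₁ hg₁ hfg h1 h2

/-- Generic flatness of the cokernel of an `A`-linear map from a finite `A`-module to a finite
`B`-module. -/
theorem main {R A B : Type u} [CommRing R] [IsDomain R] [IsNoetherianRing R] [CommRing A]
    [CommRing B] [Algebra R A] [Algebra A B] [Algebra.FiniteType R A] [Algebra.FiniteType A B]
    {M N : Type u} [AddCommGroup M] [Module A M] [Module.Finite A M]
    [AddCommGroup N] [Module B N] [Module A N] [Module R N] [IsScalarTower A B N]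
    [IsScalarTower R A N] [Module.Finite B N] (u : M →ₗ[A] N) :
    ∃ f : R, f ≠ 0 ∧ Module.Flat (Localization.Away f)
      (LocalizedModule (Submonoid.powers f) (N ⧸ (LinearMap.range u).restrictScalars R)) := by
  obtain ⟨n, φ, hφ⟩ := Algebra.FiniteType.iff_quotient_mvPolynomial''.mp
    (inferInstance : Algebra.FiniteType A B)
  letI algInst : Algebra (MvPolynomial (Fin n) A) B := φ.toRingHom.toAlgebra
  letI modInst : Module (MvPolynomial (Fin n) A) N := Module.compHom N φ.toRingHom
  have hsmul : ∀ (p : MvPolynomial (Fin n) A) (m : N), p • m = φ p • m := fun _ _ => rfl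
  haveI t1 : IsScalarTower A (MvPolynomial (Fin n) A) N := by
    refine ⟨fun a p m => ?_⟩
    rw [hsmul, hsmul, map_smul, smul_assoc]
  haveI t2 : IsScalarTower (MvPolynomial (Fin n) A) B N := by
    refine ⟨fun p s m => ?_⟩
    rw [hsmul]
    change (φ p * s) • m = _
    rw [mul_smul]
  haveI t3 : IsScalarTower R (MvPolynomial (Fin n) A) N := by
    refine ⟨fun r b' m => ?_⟩
    rw [← algebraMap_smul A r b', smul_assoc, algebraMap_smul]
  have h1 : Module.Finite (MvPolynomial (Fin n) A) B :=
    Module.Finite.of_surjective (Algebra.linearMap (MvPolynomial (Fin n) A) B) hφ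
  have h2 : Module.Finite (MvPolynomial (Fin n) A) N := Module.Finite.trans B N
  have hU : (LinearMap.range u).FG := by
    rw [LinearMap.range_eq_map]
    exact (Module.Finite.fg_top).map u
  obtain ⟨f, hf, hfree⟩ := genFree_quot_mvPolynomial R A n N (LinearMap.range u) hU
  refine ⟨f, hf, ?_⟩
  have := hfree (Localization.Away f) (IsLocalization.Away.algebraMap_isUnit f)
  have hflat : Module.Flat (Localization.Away f)
      (Localization.Away f ⊗[R] (N ⧸ (LinearMap.range u).restrictScalars R)) := inferInstance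
  exact Module.Flat.of_linearEquiv ((IsLocalizedModule.isBaseChange (Submonoid.powers f)
    (Localization.Away f) (LocalizedModule.mkLinearMap (Submonoid.powers f) _)).equiv).symm

end main

end Groth.Agent.H73.GenFlatCoker
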