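import Mathlib.AlgebraicGeometry.AffineScheme
import Mathlib.RingTheory.Ideal.Maximal
import Mathlib.RingTheory.Spectrum.Prime.Topology

set_option autoImplicit false

universe u

namespace Groth.Agent.H73

open CategoryTheory CategoryTheory.Limits AlgebraicGeometry

/-- Affine version: for a ring map `φ : V → A` from a domain, a prime `p` of `A` in the closure
of the generic fibre has a generization in the generic fibre. -/
theorem exists_le_prime_comap_eq_bot {V A : Type u} [CommRing V] [IsDomain V] [CommRing A]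
    (φ : V →+* A) (p : PrimeSpectrum A)
    (hp : p ∈ closure {q : PrimeSpectrum A | q.asIdeal.comap φ = ⊥}) :
    ∃ q : PrimeSpectrum A, q ≤ p ∧ q.asIdeal.comap φ = ⊥ := by
  let S : Submonoid A := Submonoid.map φ (nonZeroDivisors V) ⊔ p.asIdeal.primeCompl
  by_cases h0 : (0 : A) ∈ S
  · exfalso
    obtain ⟨a, ha, t, ht, hat⟩ := Submonoid.mem_sup.mp h0
    obtain ⟨v, hv, rfl⟩ := Submonoid.mem_map.mp ha
    have hv0 : v ≠ 0 := nonZeroDivisors.ne_zero hv
    -- the basic open `D(t)` is a neighbourhood of `p`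
    have hopen : IsOpen (PrimeSpectrum.basicOpen t : Set (PrimeSpectrum A)) :=
      (PrimeSpectrum.basicOpen t).isOpen
    have hpt : p ∈ (PrimeSpectrum.basicOpen t : Set (PrimeSpectrum A)) := ht
    obtain ⟨q, hqt, hq⟩ := mem_closure_iff.mp hp _ hopen hpt
    have hq' : q.asIdeal.comap φ = ⊥ := hq
    have h1 : φ v * t ∈ q.asIdeal := by
      rw [hat]
      exact q.asIdeal.zero_mem
    rcases q.isPrime.mem_or_mem h1 with h2 | h2
    · have : v ∈ q.asIdeal.comap φ := h2
      rw [hq'] at this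
      exact hv0 ((Ideal.mem_bot).mp this)
    · exact hqt h2
  · have hdisj : Disjoint ((⊥ : Ideal A) : Set A) (S : Set A) := by
      rw [Set.disjoint_left]
      intro a ha haS
      have : a = 0 := (Ideal.mem_bot).mp ha
      rw [this] at haS
      exact h0 haS
    obtain ⟨q, hq, -, hqS⟩ := Ideal.exists_le_prime_disjoint (⊥ : Ideal A) S hdisj
    refine ⟨⟨q, hq⟩, ?_, ?_⟩
    · intro a ha
      by_contra hap
      have : a ∈ S := (le_sup_right : p.asIdeal.primeCompl ≤ S) hap
      exact Set.disjoint_left.mp hqS ha this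
    · rw [eq_bot_iff]
      intro v hv
      rw [Ideal.mem_bot]
      by_contra hv0
      have hvS : φ v ∈ S := (le_sup_left : Submonoid.map φ (nonZeroDivisors V) ≤ S)
        (Submonoid.mem_map.mpr ⟨v, mem_nonZeroDivisors_of_ne_zero hv0, rfl⟩)
      exact Set.disjoint_left.mp hqS hv hvS

/-- Scheme version. -/
theorem exists_generization_of_mem_closure_generic_fibre {V : Type u} [CommRing V] [IsDomain V]
    {X : Scheme.{u}} (f : X ⟶ Spec (CommRingCat.of V)) (x : X)
    (hx : x ∈ closure (f ⁻¹' {(⟨⊥, Ideal.isPrime_bot⟩ : PrimeSpectrum V)})) :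
    ∃ x' : X, x' ⤳ x ∧ f x' = (⟨⊥, Ideal.isPrime_bot⟩ : PrimeSpectrum V) := by
  obtain ⟨R, j, hj, ⟨p, rfl⟩, -⟩ :=
    Scheme.exists_affine_mem_range_and_range_subset (x := x) (U := ⊤) trivial
  obtain ⟨φ, hφ⟩ := Spec.map_surjective (j ≫ f)
  have hpre : j ⁻¹' closure (f ⁻¹' {(⟨⊥, Ideal.isPrime_bot⟩ : PrimeSpectrum V)}) =
      closure (j ⁻¹' (f ⁻¹' {(⟨⊥, Ideal.isPrime_bot⟩ : PrimeSpectrum V)})) :=
    j.isOpenEmbedding.isOpenMap.preimage_closure_eq_closure_preimage j.continuous _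
  have hset : (j ⁻¹' (f ⁻¹' {(⟨⊥, Ideal.isPrime_bot⟩ : PrimeSpectrum V)}) : Set (Spec R)) =
      {q : PrimeSpectrum R | q.asIdeal.comap φ.hom = ⊥} := by
    ext q
    show f (j q) = _ ↔ q.asIdeal.comap φ.hom = ⊥
    rw [← Scheme.Hom.comp_apply, ← hφ]
    constructor
    · intro h
      exact congrArg PrimeSpectrum.asIdeal h
    · intro h
      exact PrimeSpectrum.ext h
  have hp : p ∈ closure {q : PrimeSpectrum R | q.asIdeal.comap φ.hom = ⊥} := by
    have h1 : p ∈ j ⁻¹' closure (f ⁻¹' {(⟨⊥, Ideal.isPrime_bot⟩ : PrimeSpectrum V)}) := hx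
    rw [hpre, hset] at h1
    exact h1
  obtain ⟨q, hqp, hq⟩ := exists_le_prime_comap_eq_bot φ.hom p hp
  refine ⟨j q, ?_, ?_⟩
  · exact ((PrimeSpectrum.le_iff_specializes q p).mp hqp).map j.continuous
  · rw [← Scheme.Hom.comp_apply, ← hφ]
    exact PrimeSpectrum.ext hq

end Groth.Agent.H73
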