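import Mathlib

/-!
# l-torsion of the cokernel of a symmetric connected integer matrix (graph Laplacian argument)

`core`: abstract dimension count with an incidence matrix.
`finrank_ker_le`: dim ker (A mod l) + n ≤ e + 2.
`card_torsion_le`: the bound on the l-torsion of coker A.
-/

namespace Groth.Agent.H73.GraphTorsion

open Finset Module Matrix


section core
variable {F : Type*} [Field F] {n : ℕ} {E : Type*}

/-- incidence matrix -/
def inc (s t : E → Fin n) : Matrix E (Fin n) F :=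
  fun p i => (if s p = i then 1 else 0) - (if t p = i then 1 else 0)

lemma inc_mulVec (s t : E → Fin n) (u : Fin n → F) (p : E) :
    ((inc s t : Matrix E (Fin n) F).mulVec u) p = u (s p) - u (t p) := by
  simp [inc, Matrix.mulVec, dotProduct, sub_mul, Finset.sum_sub_distrib]

lemma finrank_le_one_of_le_span {V : Type*} [AddCommGroup V] [Module F V] [FiniteDimensional F V]
    (S : Submodule F V) (v : V) (h : S ≤ Submodule.span F {v}) : finrank F S ≤ 1 := by
  refine (Submodule.finrank_mono h).trans ?_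
  have := finrank_span_le_card (R := F) ({v} : Set V)
  simpa using this

theorem core [Fintype E] (s t : E → Fin n)
    (hconn : ∀ u : Fin n → F, (∀ p, u (s p) = u (t p)) → ∀ i j, u i = u j)
    (K : Submodule F (Fin n → F)) (Φ : (Fin n → F) →ₗ[F] (E → F))
    (hΦ : finrank F (LinearMap.ker Φ) ≤ 1)
    (hK : ∀ v ∈ K, (inc s t : Matrix E (Fin n) F)ᵀ.mulVec (Φ v) = 0) :
    finrank F K + n ≤ Fintype.card E + 2 := by
  set N : Matrix E (Fin n) F := inc s t with hN
  have h1 : finrank F (LinearMap.ker N.mulVecLin) ≤ 1 := by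
    apply finrank_le_one_of_le_span _ (fun _ => (1:F))
    intro u hu
    rw [LinearMap.mem_ker, Matrix.mulVecLin_apply] at hu
    have hu' : ∀ p, u (s p) = u (t p) := fun p => by
      have := congrFun hu p
      rw [hN, inc_mulVec] at this
      exact sub_eq_zero.mp this
    have hc := hconn u hu'
    rcases Nat.eq_zero_or_pos n with h0 | hpos
    · subst h0
      have : u = 0 := Subsingleton.elim _ _
      rw [this]; exact Submodule.zero_mem _
    · rw [Submodule.mem_span_singleton]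
      refine ⟨u ⟨0, hpos⟩, ?_⟩
      ext i; simp [hc i ⟨0, hpos⟩]
  have h2 : N.rank + finrank F (LinearMap.ker N.mulVecLin) = n := by
    have := LinearMap.finrank_range_add_finrank_ker N.mulVecLin
    simpa [Matrix.rank] using this
  have h3 : Nᵀ.rank + finrank F (LinearMap.ker Nᵀ.mulVecLin) = Fintype.card E := by
    have := LinearMap.finrank_range_add_finrank_ker Nᵀ.mulVecLin
    simpa [Matrix.rank] using this
  have h4 : Nᵀ.rank = N.rank := Matrix.rank_transpose N
  have h6 : finrank F K ≤ finrank F (LinearMap.ker Nᵀ.mulVecLin) + finrank F (LinearMap.ker Φ) := by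
    let f' : K →ₗ[F] LinearMap.ker Nᵀ.mulVecLin :=
      (Φ.domRestrict K).codRestrict _ (fun v => by
        rw [LinearMap.mem_ker, Matrix.mulVecLin_apply]
        exact hK v.1 v.2)
    have e1 := LinearMap.finrank_range_add_finrank_ker f'
    have e2 : finrank F (LinearMap.range f') ≤ finrank F (LinearMap.ker Nᵀ.mulVecLin) :=
      Submodule.finrank_le _
    have e3 : finrank F (LinearMap.ker f') ≤ finrank F (LinearMap.ker Φ) := by
      let g : LinearMap.ker f' →ₗ[F] LinearMap.ker Φ :=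
        ((K.subtype).domRestrict _).codRestrict _ (fun v => by
          have := v.2
          rw [LinearMap.mem_ker] at this ⊢
          have h := congrArg Subtype.val this
          exact h)
      apply LinearMap.finrank_le_finrank_of_injective (f := g)
      intro a b hab
      have := congrArg Subtype.val hab
      apply Subtype.ext; apply Subtype.ext
      simpa [g] using this
    omega
  omega

end core




section apply
variable {n : ℕ} (A : Matrix (Fin n) (Fin n) ℤ)

/-- the edge set -/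
abbrev edges : Finset (Fin n × Fin n) := univ.filter fun p : Fin n × Fin n => p.1 < p.2 ∧ 0 < A p.1 p.2

theorem const_of_edges {α : Type*} (hsymm : A.IsSymm) (hA : ∀ i j, i ≠ j → 0 ≤ A i j)
    (hconn : ∀ I : Finset (Fin n), I.Nonempty → I ≠ univ → ∃ i ∈ I, ∃ j ∉ I, A i j ≠ 0)
    (u : Fin n → α) (hu : ∀ p ∈ edges A, u p.1 = u p.2) (i j : Fin n) : u i = u j := by
  classical
  by_contra hne
  let I : Finset (Fin n) := univ.filter fun k => u k = u i
  have hI1 : I.Nonempty := ⟨i, by simp [I]⟩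
  have hI2 : I ≠ univ := by
    intro h
    have : j ∈ I := by rw [h]; exact mem_univ _
    simp only [I, mem_filter, mem_univ, true_and] at this
    exact hne this.symm
  obtain ⟨a, ha, b, hb, hab⟩ := hconn I hI1 hI2
  simp only [I, mem_filter, mem_univ, true_and] at ha hb
  have hne' : a ≠ b := by rintro rfl; exact hb ha
  have hpos : 0 < A a b := lt_of_le_of_ne (hA a b hne') (Ne.symm hab)
  rcases lt_or_gt_of_ne hne' with h | h
  · have := hu (a, b) (by simp [edges, h, hpos])
    exact hb (this.symm.trans ha)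
  · have hpos' : 0 < A b a := by rw [← hsymm.apply a b] at hpos; exact hpos
    have := hu (b, a) (by simp [edges, h, hpos'])
    exact hb (this.trans ha)

end apply




section apply
variable {n : ℕ} (A : Matrix (Fin n) (Fin n) ℤ)

theorem sum_edges_eq {F : Type*} [Field F] (hsymm : A.IsSymm) (hA : ∀ i j, i ≠ j → 0 ≤ A i j)
    (f : Fin n → Fin n → F) (hf : ∀ a b, f b a = - f a b) (hf0 : ∀ a b, A a b = 0 → f a b = 0)
    (hfd : ∀ a, f a a = 0) (i : Fin n) :
    ∑ p : ↥(edges A), ((if p.1.1 = i then (1:F) else 0) - (if p.1.2 = i then 1 else 0)) * f p.1.1 p.1.2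
      = ∑ j, f i j := by
  classical
  rw [Finset.sum_coe_sort (edges A)
    (fun p => ((if p.1 = i then (1:F) else 0) - (if p.2 = i then 1 else 0)) * f p.1 p.2)]
  rw [edges, Finset.sum_filter]
  obtain ⟨G1, hG1⟩ : ∃ G1 : Fin n → Fin n → F, G1 = fun a b => if (a < b ∧ 0 < A a b) then f a b else 0 := ⟨_, rfl⟩
  have e1 : ∀ a b, (if (a < b ∧ 0 < A a b) then
      ((if a = i then (1:F) else 0) - (if b = i then 1 else 0)) * f a b else 0) =
      (if a = i then G1 a b else 0) - (if b = i then G1 a b else 0) := by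
    intro a b
    simp only [hG1]
    split_ifs <;> simp
  rw [Fintype.sum_prod_type' (f := fun a b => if (a < b ∧ 0 < A a b) then
      ((if a = i then (1:F) else 0) - (if b = i then 1 else 0)) * f a b else 0)]
  rw [Finset.sum_congr rfl (fun x _ => Finset.sum_congr rfl (fun y _ => e1 x y))]
  simp_rw [Finset.sum_sub_distrib]
  have e2 : ∀ a, (∑ b, if a = i then G1 a b else 0) = if a = i then ∑ b, G1 a b else 0 := by
    intro a; split_ifs <;> simp
  simp_rw [e2]
  simp only [Finset.sum_ite_eq', mem_univ, if_true]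
  rw [← Finset.sum_sub_distrib]
  refine Finset.sum_congr rfl (fun j _ => ?_)
  simp only [hG1]
  rcases lt_trichotomy i j with h | h | h
  · have h' : ¬ j < i := not_lt.mpr h.le
    by_cases hp : 0 < A i j
    · simp [h, hp, h']
    · have : A i j = 0 := le_antisymm (not_lt.mp hp) (hA i j h.ne)
      simp [h, hp, h', hf0 i j this]
  · subst h
    simp [hfd i]
  · have h' : ¬ i < j := not_lt.mpr h.le
    by_cases hp : 0 < A j i
    · simp [h, hp, h', hf j i]
    · have h0 : A j i = 0 := le_antisymm (not_lt.mp hp) (hA j i h.ne)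
      have : A i j = 0 := (hsymm.apply i j).symm.trans h0
      simp [h, hp, h', hf0 i j this]

end apply




section apply
variable {n : ℕ} (A : Matrix (Fin n) (Fin n) ℤ)

theorem finrank_ker_le (m : Fin n → ℤ) (hsymm : A.IsSymm) (hA : ∀ i j, i ≠ j → 0 ≤ A i j)
    (hAm : A.mulVec m = 0)
    (hconn : ∀ I : Finset (Fin n), I.Nonempty → I ≠ univ → ∃ i ∈ I, ∃ j ∉ I, A i j ≠ 0)
    (ℓ : ℕ) [Fact ℓ.Prime] (hℓA : ∀ i j, A i j ≠ 0 → ¬ ((ℓ : ℤ) ∣ A i j))
    (hℓm : ∀ i, ¬ ((ℓ : ℤ) ∣ m i)) :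
    finrank (ZMod ℓ) (LinearMap.ker (A.map (Int.cast : ℤ → ZMod ℓ)).mulVecLin) + n
      ≤ (edges A).card + 2 := by
  classical
  set F := ZMod ℓ
  set Ab : Matrix (Fin n) (Fin n) F := A.map (Int.cast : ℤ → ZMod ℓ) with hAb
  set mb : Fin n → F := fun i => (m i : F) with hmb
  have hmb0 : ∀ i, mb i ≠ 0 := fun i h => hℓm i ((ZMod.intCast_zmod_eq_zero_iff_dvd _ _).mp h)
  have hAb0 : ∀ i j, A i j ≠ 0 → Ab i j ≠ 0 := fun i j h h' =>
    hℓA i j h ((ZMod.intCast_zmod_eq_zero_iff_dvd _ _).mp h')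
  have hAbs : ∀ i j, Ab i j = Ab j i := fun i j => by
    simp only [hAb, Matrix.map_apply]; rw [hsymm.apply j i]
  have hAbm : ∀ i, ∑ j, Ab i j * mb j = 0 := by
    intro i
    have := congrFun hAm i
    simp only [Matrix.mulVec, dotProduct, Pi.zero_apply] at this
    have h2 : ((∑ j, A i j * m j : ℤ) : F) = 0 := by rw [this]; simp
    rw [Int.cast_sum] at h2
    simpa [hAb, hmb] using h2
  let Φ : (Fin n → F) →ₗ[F] (↥(edges A) → F) :=
    { toFun := fun v p => Ab p.1.1 p.1.2 * (mb p.1.2 * v p.1.1 - mb p.1.1 * v p.1.2)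
      map_add' := fun v w => by ext p; simp only [Pi.add_apply]; ring
      map_smul' := fun c v => by ext p; simp only [Pi.smul_apply, smul_eq_mul, RingHom.id_apply]; ring }
  have key := core (F := F) (E := ↥(edges A)) (fun p => p.1.1) (fun p => p.1.2)
    (fun u hu => const_of_edges A hsymm hA hconn u (fun p hp => hu ⟨p, hp⟩))
    (LinearMap.ker Ab.mulVecLin) Φ ?_ ?_
  · rw [Fintype.card_coe] at key; exact key
  · -- ker Φ
    apply finrank_le_one_of_le_span _ mb
    intro v hv
    rw [LinearMap.mem_ker] at hv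
    have hu : ∀ p ∈ edges A, v p.1 / mb p.1 = v p.2 / mb p.2 := by
      intro p hp
      have h1 := congrFun hv ⟨p, hp⟩
      simp only [Φ, LinearMap.coe_mk, AddHom.coe_mk, Pi.zero_apply] at h1
      have hpA : A p.1 p.2 ≠ 0 := by
        simp only [edges, mem_filter, mem_univ, true_and] at hp
        exact hp.2.ne'
      have h2 := (mul_eq_zero.mp h1).resolve_left (hAb0 _ _ hpA)
      rw [div_eq_div_iff (hmb0 _) (hmb0 _)]
      linear_combination h2
    have hc := const_of_edges A hsymm hA hconn (fun i => v i / mb i) hu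
    rcases Nat.eq_zero_or_pos n with h0 | hpos
    · subst h0
      have : v = 0 := Subsingleton.elim _ _
      rw [this]; exact Submodule.zero_mem _
    · rw [Submodule.mem_span_singleton]
      refine ⟨v ⟨0, hpos⟩ / mb ⟨0, hpos⟩, ?_⟩
      ext i
      have := hc i ⟨0, hpos⟩
      simp only [Pi.smul_apply, smul_eq_mul]
      rw [← this]
      exact div_mul_cancel₀ _ (hmb0 i)
  · intro v hv
    rw [LinearMap.mem_ker, Matrix.mulVecLin_apply] at hv
    ext i
    simp only [Matrix.mulVec, dotProduct, Matrix.transpose_apply, Pi.zero_apply, inc]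
    have := sum_edges_eq A hsymm hA (fun a b => Ab a b * (mb b * v a - mb a * v b))
      (fun a b => by rw [hAbs b a]; ring)
      (fun a b h => by simp [hAb, h]) (fun a => by ring) i
    simp only [Φ, LinearMap.coe_mk, AddHom.coe_mk]
    rw [this]
    have hvi : ∑ j, Ab i j * v j = 0 := by
      have := congrFun hv i
      simpa [Matrix.mulVec, dotProduct] using this
    calc ∑ j, Ab i j * (mb j * v i - mb i * v j)
        = v i * ∑ j, Ab i j * mb j - mb i * ∑ j, Ab i j * v j := by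
          rw [Finset.mul_sum, Finset.mul_sum, ← Finset.sum_sub_distrib]
          exact Finset.sum_congr rfl (fun j _ => by ring)
      _ = 0 := by rw [hAbm i, hvi]; ring

end apply




section apply
variable {n : ℕ} (A : Matrix (Fin n) (Fin n) ℤ)

theorem card_torsion_le (m : Fin n → ℤ) (hsymm : A.IsSymm) (hA : ∀ i j, i ≠ j → 0 ≤ A i j)
    (hAm : A.mulVec m = 0)
    (hconn : ∀ I : Finset (Fin n), I.Nonempty → I ≠ univ → ∃ i ∈ I, ∃ j ∉ I, A i j ≠ 0)
    (ℓ : ℕ) (hℓ : ℓ.Prime) (hℓA : ∀ i j, A i j ≠ 0 → ¬ ((ℓ : ℤ) ∣ A i j))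
    (hℓm : ∀ i, ¬ ((ℓ : ℤ) ∣ m i)) :
    Nat.card (Submodule.torsionBy ℤ ((Fin n → ℤ) ⧸ LinearMap.range (Matrix.mulVecLin A)) (ℓ : ℤ))
      ≤ ℓ ^ ((edges A).card + 1 - n) := by
  classical
  have : Fact ℓ.Prime := ⟨hℓ⟩
  rcases Nat.eq_zero_or_pos n with h0 | hpos
  · subst h0
    have : Subsingleton ((Fin 0 → ℤ) ⧸ LinearMap.range (Matrix.mulVecLin A)) :=
      Quotient.instSubsingletonQuotient _
    rw [Nat.card_of_subsingleton (0 : Submodule.torsionBy ℤ ((Fin 0 → ℤ) ⧸ LinearMap.range (Matrix.mulVecLin A)) (ℓ : ℤ))]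
    exact Nat.one_le_pow _ _ hℓ.pos
  set Ab : Matrix (Fin n) (Fin n) (ZMod ℓ) := A.map (Int.cast : ℤ → ZMod ℓ) with hAb
  set K := LinearMap.ker Ab.mulVecLin with hK
  set T := Submodule.torsionBy ℤ ((Fin n → ℤ) ⧸ LinearMap.range (Matrix.mulVecLin A)) (ℓ : ℤ) with hT
  have hmb0 : ∀ i, ((m i : ℤ) : ZMod ℓ) ≠ 0 := fun i h => hℓm i ((ZMod.intCast_zmod_eq_zero_iff_dvd _ _).mp h)
  have castA : ∀ w : Fin n → ℤ, Ab.mulVec (fun i => ((w i : ℤ) : ZMod ℓ)) = fun i => (((A.mulVec w) i : ℤ) : ZMod ℓ) := by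
    intro w; ext i
    simp only [Matrix.mulVec, dotProduct, hAb, Matrix.map_apply]
    rw [Int.cast_sum]
    simp
  have hex : ∀ x : T, ∃ y : Fin n → ℤ, ∃ xt : Fin n → ℤ,
      Submodule.Quotient.mk xt = x.1 ∧ A.mulVec y = (ℓ : ℤ) • xt := by
    intro x
    obtain ⟨xt, hxt⟩ := Submodule.Quotient.mk_surjective _ x.1
    have hx : (ℓ : ℤ) • x.1 = 0 := (Submodule.mem_torsionBy_iff _ _).mp x.2
    rw [← hxt, ← Submodule.Quotient.mk_smul, Submodule.Quotient.mk_eq_zero] at hx
    obtain ⟨y, hy⟩ := hx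
    exact ⟨y, xt, hxt, hy⟩
  choose y xt h1 h2 using hex
  let ι : T × ZMod ℓ → K := fun xc =>
    ⟨fun i => ((y xc.1 i : ℤ) : ZMod ℓ) + xc.2 * ((m i : ℤ) : ZMod ℓ), by
      rw [hK, LinearMap.mem_ker, Matrix.mulVecLin_apply]
      have e1 : (fun i => ((y xc.1 i : ℤ) : ZMod ℓ) + xc.2 * ((m i : ℤ) : ZMod ℓ)) =
          (fun i => ((y xc.1 i : ℤ) : ZMod ℓ)) + xc.2 • (fun i => ((m i : ℤ) : ZMod ℓ)) := by
        ext i; simp
      rw [e1, Matrix.mulVec_add, Matrix.mulVec_smul, castA, castA, hAm, h2]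
      ext i; simp⟩
  have hι : Function.Injective ι := by
    rintro ⟨x₁, c₁⟩ ⟨x₂, c₂⟩ h
    have h' : ∀ i, ((y x₁ i : ℤ) : ZMod ℓ) + c₁ * ((m i : ℤ) : ZMod ℓ) = ((y x₂ i : ℤ) : ZMod ℓ) + c₂ * ((m i : ℤ) : ZMod ℓ) :=
      fun i => congrFun (congrArg Subtype.val h) i
    obtain ⟨c, hc⟩ := ZMod.intCast_surjective (c₂ - c₁)
    have hdvd : ∀ i, ∃ z : ℤ, y x₁ i - y x₂ i - c * m i = (ℓ : ℤ) * z := by
      intro i
      have : (((y x₁ i - y x₂ i - c * m i : ℤ)) : ZMod ℓ) = 0 := by
        push_cast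
        rw [hc]
        linear_combination h' i
      exact (ZMod.intCast_zmod_eq_zero_iff_dvd _ _).mp this
    choose z hz using hdvd
    have hyz : y x₁ - y x₂ = c • m + (ℓ : ℤ) • z := by
      ext i
      simp only [Pi.sub_apply, Pi.add_apply, Pi.smul_apply, smul_eq_mul]
      linarith [hz i]
    have hA1 : A.mulVec (y x₁ - y x₂) = (ℓ : ℤ) • A.mulVec z := by
      rw [hyz, Matrix.mulVec_add, Matrix.mulVec_smul, Matrix.mulVec_smul, hAm, smul_zero, zero_add]
    have hA2 : A.mulVec (y x₁ - y x₂) = (ℓ : ℤ) • (xt x₁ - xt x₂) := by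
      rw [Matrix.mulVec_sub, h2, h2, smul_sub]
    have hℓ0 : (ℓ : ℤ) ≠ 0 := by exact_mod_cast hℓ.ne_zero
    have hx12 : xt x₁ - xt x₂ = A.mulVec z := by
      have := hA2.symm.trans hA1
      ext i
      have hi := congrFun this i
      simp only [Pi.smul_apply, smul_eq_mul] at hi
      exact mul_left_cancel₀ hℓ0 hi
    have hxx : x₁ = x₂ := by
      apply Subtype.ext
      rw [← h1 x₁, ← h1 x₂, Submodule.Quotient.eq]
      exact ⟨z, hx12.symm⟩
    subst hxx
    have hcc : c₁ = c₂ := by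
      have := h' ⟨0, hpos⟩
      have h3 : c₁ * ((m ⟨0, hpos⟩ : ℤ) : ZMod ℓ) = c₂ * ((m ⟨0, hpos⟩ : ℤ) : ZMod ℓ) := add_left_cancel this
      exact mul_right_cancel₀ (hmb0 _) h3
    rw [hcc]
  have hfin : Finite K := inferInstance
  have hcard := Nat.card_le_card_of_injective ι hι
  have hKc : Nat.card K = ℓ ^ finrank (ZMod ℓ) K := by
    have := Module.natCard_eq_pow_finrank (K := ZMod ℓ) (V := ↥K)
    rwa [Nat.card_zmod] at this
  rw [Nat.card_prod, Nat.card_zmod, hKc] at hcard
  have hdim := finrank_ker_le A m hsymm hA hAm hconn ℓ hℓA hℓm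
  rw [← hAb, ← hK] at hdim
  -- finrank K ≥ 1
  have hK1 : 1 ≤ finrank (ZMod ℓ) K := by
    have hmK : (fun i => ((m i : ℤ) : ZMod ℓ)) ∈ K := by
      rw [hK, LinearMap.mem_ker, Matrix.mulVecLin_apply, castA, hAm]
      ext i; simp
    have : 0 < finrank (ZMod ℓ) K := by
      apply Module.finrank_pos_iff_exists_ne_zero.mpr
      refine ⟨⟨_, hmK⟩, fun h => ?_⟩
      have := congrFun (congrArg Subtype.val h) ⟨0, hpos⟩
      exact hmb0 _ this
    exact this
  obtain ⟨k, hk⟩ : ∃ k, finrank (ZMod ℓ) K = k + 1 := ⟨finrank (ZMod ℓ) K - 1, by omega⟩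
  rw [hk, pow_succ] at hcard
  have h3 : Nat.card T ≤ ℓ ^ k := Nat.le_of_mul_le_mul_right hcard hℓ.pos
  refine h3.trans (Nat.pow_le_pow_right hℓ.pos ?_)
  omega

end apply


end Groth.Agent.H73.GraphTorsion
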