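import Mathlib.CategoryTheory.Monoidal.Cartesian.Grp

set_option autoImplicit false

namespace Groth.Agent.H73

open CategoryTheory MonoidalCategory CartesianMonoidalCategory Limits
open scoped MonObj

section
variable {C : Type*} [Category C] [CartesianMonoidalCategory C]

lemma isMonHom_of_hom_eq {M N : C} [MonObj M] [MonObj N] (f : M ⟶ N)
    (h1 : η[M] ≫ f = η[N]) (h2 : μ[M] ≫ f = (fst M M ≫ f) * (snd M M ≫ f)) : IsMonHom f where
  one_hom := h1
  mul_hom := by rw [h2, Hom.mul_def, lift_fst_comp_snd_comp]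

variable [BraidedCategory C]

theorem exists_hom_section_of_const {L G B : C} [GrpObj L] [GrpObj G] [GrpObj B]
    [IsCommMonObj G] [IsCommMonObj B]
    (i : L ⟶ G) (π : G ⟶ B) [IsMonHom π] (hker : IsPullback i (toUnit L) π η[B])
    (hconst : ∀ f : B ⊗ B ⟶ L, ∃ l : 𝟙_ C ⟶ L, f = toUnit (B ⊗ B) ≫ l)
    (s : B ⟶ G) (hs : s ≫ π = 𝟙 B) : ∃ s' : B ⟶ G, IsMonHom s' ∧ s' ≫ π = 𝟙 B := by
  -- the defect of additivity of `s`
  set d : B ⊗ B ⟶ G := (μ[B] ≫ s) * (fst B B ≫ s)⁻¹ * (snd B B ≫ s)⁻¹ with hd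
  have hdπ : d ≫ π = toUnit (B ⊗ B) ≫ η[B] := by
    rw [hd, MonObj.mul_comp, MonObj.mul_comp, GrpObj.inv_comp, GrpObj.inv_comp, Category.assoc,
      Category.assoc, Category.assoc, hs, Category.comp_id, Category.comp_id, Category.comp_id,
      MonObj.mul_eq_mul, ← Hom.one_def]
    rw [mul_assoc, mul_assoc, mul_left_comm (snd B B), mul_inv_cancel, mul_one, mul_inv_cancel]
  obtain ⟨l, hl⟩ := hconst (hker.lift d (toUnit _) hdπ)
  have hdc : d = toUnit (B ⊗ B) ≫ (l ≫ i) := by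
    rw [← Category.assoc, ← hl, hker.lift_fst]
  set c : 𝟙_ C ⟶ G := l ≫ i with hc
  have hcπ : c ≫ π = η[B] := by
    rw [hc, Category.assoc, hker.w, ← Category.assoc, toUnit_unique (l ≫ toUnit L) (𝟙 _),
      Category.id_comp]
  -- evaluate the defect at the unit
  have hc' : c = (η[B] ≫ s)⁻¹ := by
    have h1 : lift η[B] η[B] ≫ d = c := by
      rw [hdc, ← Category.assoc, toUnit_unique (lift η[B] η[B] ≫ toUnit (B ⊗ B)) (𝟙 _),
        Category.id_comp]
    rw [← h1, hd, MonObj.comp_mul, MonObj.comp_mul, GrpObj.comp_inv, GrpObj.comp_inv,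
      lift_fst_assoc, lift_snd_assoc]
    have h2 : lift η[B] η[B] ≫ μ[B] = η[B] := by
      rw [← Hom.mul_def, MonObj.one_eq_one, mul_one]
    rw [← Category.assoc, h2, mul_inv_cancel, one_mul]
  refine ⟨s * (toUnit B ≫ c), ?_, ?_⟩
  · apply isMonHom_of_hom_eq
    · rw [MonObj.comp_mul, ← Category.assoc, toUnit_unique (η[B] ≫ toUnit B) (𝟙 _),
        Category.id_comp, hc', mul_inv_cancel, MonObj.one_eq_one]
    · have e1 : μ[B] ≫ toUnit B ≫ c = d := by
        rw [hdc, ← Category.assoc, toUnit_unique (μ[B] ≫ toUnit B) (toUnit _)]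
      have e2 : fst B B ≫ toUnit B ≫ c = d := by
        rw [hdc, ← Category.assoc, toUnit_unique (fst B B ≫ toUnit B) (toUnit _)]
      have e3 : snd B B ≫ toUnit B ≫ c = d := by
        rw [hdc, ← Category.assoc, toUnit_unique (snd B B ≫ toUnit B) (toUnit _)]
      rw [MonObj.comp_mul, MonObj.comp_mul, MonObj.comp_mul, e1, e2, e3]
      have e4 : μ[B] ≫ s = d * (fst B B ≫ s) * (snd B B ≫ s) := by
        rw [hd, mul_assoc, mul_assoc, mul_assoc, mul_left_comm (snd B B ≫ s)⁻¹, inv_mul_cancel,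
          mul_one, inv_mul_cancel, mul_one]
      rw [e4]
      simp only [mul_comm, mul_left_comm]
  · rw [MonObj.mul_comp, hs, Category.assoc, hcπ, ← Hom.one_def, mul_one]

end

end Groth.Agent.H73
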