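import Mathlib
import Groth.Prelude.Def_HRes
import Groth.Agent.H4.MapExtNat

/-!
helper73: identity and composition laws for the big-site restriction maps `HRes.pull`
(S14708, S14709). Uses helper4's `mapExactFunctor_naturality` / `mapExactFunctor_comp_functor`.
-/

set_option autoImplicit false

namespace Groth.Agent.H73.HResCoh

open CategoryTheory CategoryTheory.Limits AlgebraicGeometry Opposite Abelian

universe w v u

section Id

variable {C : Type u} [Category.{v} C] [Abelian C] [HasExt.{w} C]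

attribute [local instance] Ext.subsingleton_of_injective in
theorem mapExactFunctor_id [EnoughInjectives C] {A B : C} {n : ℕ} (e : Ext.{w} A B n) :
    (e.mapExactFunctor (𝟭 C) : Ext.{w} _ _ n) = e := by
  induction n generalizing B with
  | zero =>
    rcases (Ext.mk₀_bijective A B).2 e with ⟨f, rfl⟩
    rw [Ext.mapExactFunctor_mk₀]
    rfl
  | succ n hn =>
    let I : InjectivePresentation B := Classical.arbitrary _
    let S := ShortComplex.mk _ _ (cokernel.condition I.f)
    have : Injective S.X₂ := I.injective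
    have hS : S.ShortExact := { exact := ShortComplex.exact_cokernel I.f }
    obtain ⟨e', rfl⟩ := Ext.covariant_sequence_exact₁ A hS e (by subsingleton) rfl
    rw [Ext.mapExactFunctor_comp, hn e', Ext.mapExactFunctor_extClass]
    rfl

end Id

section Big

universe u'

variable (K : Precoverage Scheme.{u'})

set_option maxHeartbeats 1000000

section IdLaw

variable (S : Scheme.{u'}) (M : AddCommGrpCat.{u'+1})

theorem pullConst_id : (HRes.pullConst K (𝟙 S) M).inv ≫ ((K.toGrothendieck.overMapPullbackId AddCommGrpCat.{u'+1} S).hom.app ((constantSheaf (QuotSh.J K S) AddCommGrpCat.{u'+1}).obj M)) = 𝟙 _ := by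
  apply Sheaf.hom_ext
  apply sheafify_hom_ext _ _ _ ((constantSheaf (QuotSh.J K S) AddCommGrpCat.{u'+1}).obj M).property
  have h1 := Functor.toSheafify_pullbackSheafificationCompatibility (Over.map (𝟙 S)) AddCommGrpCat.{u'+1}
    (QuotSh.J K S) (QuotSh.J K S) ((Functor.const _).obj M)
  refine NatTrans.ext (funext fun U => ?_)
  let F : (Over S)ᵒᵖ ⥤ AddCommGrpCat.{u'+1} := (Functor.const (Over S)ᵒᵖ).obj M
  let X := (constantSheaf (QuotSh.J K S) AddCommGrpCat.{u'+1}).obj M
  let c := HRes.pullConst K (𝟙 S) M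
  let a := (K.toGrothendieck.overMapPullbackId AddCommGrpCat.{u'+1} S).hom.app X
  have h2 : (toSheafify (QuotSh.J K S) F).app U ≫ c.inv.hom.app U =
      (toSheafify (QuotSh.J K S) F).app (op ((Over.map (𝟙 S)).obj U.unop)) := congr_app h1 U
  have h3 : a.hom.app U = (sheafify (QuotSh.J K S) F).map ((Over.mapId S).inv.app (unop U)).op :=
    GrothendieckTopology.overMapPullbackId_hom_app_hom_app _ _ _ _ _
  have h4 := (toSheafify (QuotSh.J K S) F).naturality ((Over.mapId S).inv.app (unop U)).op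
  change (toSheafify (QuotSh.J K S) F).app U ≫ (c.inv.hom.app U ≫ a.hom.app U) =
    (toSheafify (QuotSh.J K S) F).app U ≫ 𝟙 _
  rw [Category.comp_id]
  have s2 : ((toSheafify (QuotSh.J K S) F).app U ≫ c.inv.hom.app U) ≫ a.hom.app U =
      (toSheafify (QuotSh.J K S) F).app (op ((Over.map (𝟙 S)).obj U.unop)) ≫
          (sheafify (QuotSh.J K S) F).map ((Over.mapId S).inv.app (unop U)).op := by rw [h2, h3]; rfl
  exact ((Category.assoc _ _ _).symm.trans s2).trans (h4.symm.trans (Category.id_comp _))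

theorem pull_id (F : BigSite.Ab K S) (n : ℕ) (x : BigSite.H K S F n) :
    Sheaf.H.map ((K.toGrothendieck.overMapPullbackId AddCommGrpCat.{u' + 1} S).hom.app F) n
      (HRes.pull K (𝟙 S) F n x) = x := by
  rw [Sheaf.H.map_apply, HRes.pull_apply, Ext.comp_assoc_of_third_deg_zero]
  let α := K.toGrothendieck.overMapPullbackId AddCommGrpCat.{u' + 1} S
  let Z := (constantSheaf (QuotSh.J K S) AddCommGrpCat.{u'+1}).obj (AddCommGrpCat.of (ULift.{u' + 1} ℤ))
  let c := HRes.pullConst K (𝟙 S) (AddCommGrpCat.of (ULift.{u' + 1} ℤ))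
  have hnat : (x.mapExactFunctor (BigSite.pullBig K (𝟙 S) AddCommGrpCat.{u'+1}) : Ext.{u'+1} _ _ n).comp
      (Ext.mk₀ (α.hom.app F)) (add_zero n) = (Ext.mk₀ (α.hom.app Z)).comp x (zero_add n) := by
    have := Groth.Agent.H4.MapExtNat.mapExactFunctor_naturality.{u'+1, u'+1} α.hom x
    rwa [Groth.Agent.H73.HResCoh.mapExactFunctor_id] at this
  exact (congrArg (fun z => (Ext.mk₀ c.inv).comp z (zero_add n)) hnat).trans
    ((Ext.mk₀_comp_mk₀_assoc _ _ _).trans
      ((congrArg (fun t => (Ext.mk₀ t).comp x (zero_add n)) (pullConst_id K S _)).trans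
        (Ext.mk₀_id_comp x)))

end IdLaw

section CompLaw

variable {S T T' : Scheme.{u'}} (f : T ⟶ S) (g : T' ⟶ T) (M : AddCommGrpCat.{u'+1})

theorem pullConst_comp :
    (HRes.pullConst K g M).inv ≫ (BigSite.pullBig K g AddCommGrpCat.{u'+1}).map (HRes.pullConst K f M).inv ≫
      (K.toGrothendieck.overMapPullbackComp AddCommGrpCat.{u'+1} g f).hom.app
        ((constantSheaf (QuotSh.J K S) AddCommGrpCat.{u'+1}).obj M) =
    (HRes.pullConst K (g ≫ f) M).inv := by
  apply Sheaf.hom_ext
  apply sheafify_hom_ext _ _ _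
    ((BigSite.pullBig K (g ≫ f) AddCommGrpCat.{u'+1}).obj
      ((constantSheaf (QuotSh.J K S) AddCommGrpCat.{u'+1}).obj M)).property
  have h1f := Functor.toSheafify_pullbackSheafificationCompatibility (Over.map f) AddCommGrpCat.{u'+1}
    (QuotSh.J K T) (QuotSh.J K S) ((Functor.const _).obj M)
  have h1g := Functor.toSheafify_pullbackSheafificationCompatibility (Over.map g) AddCommGrpCat.{u'+1}
    (QuotSh.J K T') (QuotSh.J K T) ((Functor.const _).obj M)
  have h1gf := Functor.toSheafify_pullbackSheafificationCompatibility (Over.map (g ≫ f))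
    AddCommGrpCat.{u'+1} (QuotSh.J K T') (QuotSh.J K S) ((Functor.const _).obj M)
  refine NatTrans.ext (funext fun U => ?_)
  let FS : (Over S)ᵒᵖ ⥤ AddCommGrpCat.{u'+1} := (Functor.const (Over S)ᵒᵖ).obj M
  let FT : (Over T)ᵒᵖ ⥤ AddCommGrpCat.{u'+1} := (Functor.const (Over T)ᵒᵖ).obj M
  let FT' : (Over T')ᵒᵖ ⥤ AddCommGrpCat.{u'+1} := (Functor.const (Over T')ᵒᵖ).obj M
  let X := (constantSheaf (QuotSh.J K S) AddCommGrpCat.{u'+1}).obj M
  let cf := HRes.pullConst K f M
  let cg := HRes.pullConst K g M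
  let cgf := HRes.pullConst K (g ≫ f) M
  let b := (K.toGrothendieck.overMapPullbackComp AddCommGrpCat.{u'+1} g f).hom.app X
  have h2g : (toSheafify (QuotSh.J K T') FT').app U ≫ cg.inv.hom.app U =
      (toSheafify (QuotSh.J K T) FT).app (op ((Over.map g).obj U.unop)) := congr_app h1g U
  have h2f : (toSheafify (QuotSh.J K T) FT).app (op ((Over.map g).obj U.unop)) ≫
      cf.inv.hom.app (op ((Over.map g).obj U.unop)) =
      (toSheafify (QuotSh.J K S) FS).app (op ((Over.map f).obj ((Over.map g).obj U.unop))) :=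
    congr_app h1f (op ((Over.map g).obj U.unop))
  have h2gf : (toSheafify (QuotSh.J K T') FT').app U ≫ cgf.inv.hom.app U =
      (toSheafify (QuotSh.J K S) FS).app (op ((Over.map (g ≫ f)).obj U.unop)) := congr_app h1gf U
  have h3 : b.hom.app U = (sheafify (QuotSh.J K S) FS).map ((Over.mapComp g f).hom.app (unop U)).op :=
    GrothendieckTopology.overMapPullbackComp_hom_app_hom_app _ _ _ _ _ _
  have h4 := (toSheafify (QuotSh.J K S) FS).naturality ((Over.mapComp g f).hom.app (unop U)).op
  change (toSheafify (QuotSh.J K T') FT').app U ≫ (cg.inv.hom.app U ≫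
      (cf.inv.hom.app (op ((Over.map g).obj U.unop)) ≫ b.hom.app U)) =
    (toSheafify (QuotSh.J K T') FT').app U ≫ cgf.inv.hom.app U
  have s2 : ((toSheafify (QuotSh.J K T') FT').app U ≫ cg.inv.hom.app U) ≫
      (cf.inv.hom.app (op ((Over.map g).obj U.unop)) ≫ b.hom.app U) =
      ((toSheafify (QuotSh.J K T) FT).app (op ((Over.map g).obj U.unop)) ≫
        cf.inv.hom.app (op ((Over.map g).obj U.unop))) ≫ b.hom.app U := by
    rw [h2g]; exact (Category.assoc _ _ _).symm
  have s3 : ((toSheafify (QuotSh.J K T) FT).app (op ((Over.map g).obj U.unop)) ≫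
        cf.inv.hom.app (op ((Over.map g).obj U.unop))) ≫ b.hom.app U =
      (toSheafify (QuotSh.J K S) FS).app (op ((Over.map f).obj ((Over.map g).obj U.unop))) ≫
        (sheafify (QuotSh.J K S) FS).map ((Over.mapComp g f).hom.app (unop U)).op := by
    rw [h2f, h3]; rfl
  exact ((Category.assoc _ _ _).symm.trans (s2.trans s3)).trans
    ((h4.symm.trans (Category.id_comp _)).trans h2gf.symm)

theorem pull_comp (F : BigSite.Ab K S) (n : ℕ) (x : BigSite.H K S F n) :
    HRes.pull K (g ≫ f) F n x =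
      Sheaf.H.map ((K.toGrothendieck.overMapPullbackComp AddCommGrpCat.{u' + 1} g f).hom.app F) n
        (HRes.pull K g ((BigSite.pullBig K f AddCommGrpCat.{u' + 1}).obj F) n (HRes.pull K f F n x)) := by
  rw [Sheaf.H.map_apply, HRes.pull_apply, HRes.pull_apply, HRes.pull_apply,
    Ext.mapExactFunctor_comp, Ext.mapExactFunctor_mk₀, Ext.comp_assoc_of_third_deg_zero,
    Ext.comp_assoc_of_third_deg_zero]
  let β := K.toGrothendieck.overMapPullbackComp AddCommGrpCat.{u' + 1} g f
  let Z := (constantSheaf (QuotSh.J K S) AddCommGrpCat.{u'+1}).obj (AddCommGrpCat.of (ULift.{u' + 1} ℤ))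
  have : PreservesFiniteLimits (BigSite.pullBig K f AddCommGrpCat.{u'+1} ⋙
      BigSite.pullBig K g AddCommGrpCat.{u'+1}) := comp_preservesFiniteLimits _ _
  have hcomp : ((x.mapExactFunctor (BigSite.pullBig K f AddCommGrpCat.{u'+1}) : Ext.{u'+1} _ _ n).mapExactFunctor (BigSite.pullBig K g AddCommGrpCat.{u'+1}) : Ext.{u'+1} _ _ n) =
      x.mapExactFunctor (BigSite.pullBig K f AddCommGrpCat.{u'+1} ⋙ BigSite.pullBig K g AddCommGrpCat.{u'+1}) :=
    (Groth.Agent.H4.MapExtNat.mapExactFunctor_comp_functor.{u'+1, u'+1, u'+1} (BigSite.pullBig K f AddCommGrpCat.{u'+1}) (BigSite.pullBig K g AddCommGrpCat.{u'+1}) x).symm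
  have hnat : (x.mapExactFunctor (BigSite.pullBig K f AddCommGrpCat.{u'+1} ⋙ BigSite.pullBig K g AddCommGrpCat.{u'+1}) : Ext.{u'+1} _ _ n).comp
      (Ext.mk₀ (β.hom.app F)) (add_zero n) =
      (Ext.mk₀ (β.hom.app Z)).comp (x.mapExactFunctor (BigSite.pullBig K (g ≫ f) AddCommGrpCat.{u'+1}) : Ext.{u'+1} _ _ n) (zero_add n) :=
    Groth.Agent.H4.MapExtNat.mapExactFunctor_naturality.{u'+1, u'+1} β.hom x
  rw [hcomp, hnat, Ext.mk₀_comp_mk₀_assoc, Ext.mk₀_comp_mk₀_assoc, Category.assoc,
    pullConst_comp]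

end CompLaw

end Big

end Groth.Agent.H73.HResCoh
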