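import Mathlib

set_option autoImplicit false
set_option linter.unusedSectionVars false
open TensorProduct

/-!
# The admissibility-defect sequence for a tower of fields (helper73, for S5837)

`0 → Δ(L/K) ⊗_L M → Δ(M/K) → Δ(M/L) → 0` in rank form.
-/

namespace Groth.Agent.H73.ImperfTower

section Flat
variable {R : Type*} (A : Type*) [CommRing R] [CommRing A] [Algebra R A] [Module.Flat R A]
  {V W W' : Type*} [AddCommGroup V] [Module R V] [AddCommGroup W] [Module R W]
  [AddCommGroup W'] [Module R W']

lemma ker_baseChange (h : V →ₗ[R] W) :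
    LinearMap.ker (h.baseChange A) = (LinearMap.ker h).baseChange A := by
  have hex : Function.Exact ((LinearMap.ker h).subtype.lTensor A) (h.lTensor A) :=
    Module.Flat.lTensor_exact A (LinearMap.exact_subtype_ker_map h)
  ext t
  rw [Submodule.baseChange, LinearMap.mem_ker, LinearMap.mem_range]
  have h1 := hex t
  rw [Set.mem_range] at h1
  have e1 : (h.baseChange A) t = (h.lTensor A) t := by
    rw [LinearMap.baseChange_eq_ltensor]
  have e2 : ∀ y, ((LinearMap.ker h).subtype.baseChange A) y
      = ((LinearMap.ker h).subtype.lTensor A) y := by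
    intro y; rw [LinearMap.baseChange_eq_ltensor]
  rw [e1, h1]
  simp only [e2]

lemma ker_baseChange_inf (f : V →ₗ[R] W) (g : V →ₗ[R] W') :
    LinearMap.ker (f.baseChange A) ⊓ LinearMap.ker (g.baseChange A)
      = (LinearMap.ker f ⊓ LinearMap.ker g).baseChange A := by
  rw [← LinearMap.ker_prod, ← LinearMap.ker_prod f g, ← ker_baseChange]
  have hc : (TensorProduct.prodRight R A A W W').toLinearMap ∘ₗ ((f.prod g).baseChange A)
      = (f.baseChange A).prod (g.baseChange A) := by
    ext t <;> simp
  rw [← hc, LinearMap.ker_comp]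
  ext t
  simp

end Flat

section Field
universe w v
variable {L : Type v} (M : Type w) [Field L] [Field M] [Algebra L M]
  {V : Type w} {W W' : Type*} [AddCommGroup V] [Module L V] [AddCommGroup W] [Module L W]
  [AddCommGroup W'] [Module L W']

lemma rank_baseChange_submodule (N : Submodule L V) :
    Module.rank M ↥(N.baseChange M) = Cardinal.lift.{w} (Module.rank L ↥N) := by
  have hinj : Function.Injective (N.subtype.baseChange M) := by
    rw [LinearMap.baseChange_eq_ltensor]
    exact Module.Flat.lTensor_preserves_injective_linearMap _ N.subtype_injective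
  rw [Submodule.baseChange, rank_range_of_injective _ hinj, Module.rank_baseChange]

end Field

section Abstract
universe w
variable {F : Type*} [Field F] {X Y : Type w} [AddCommGroup X] [Module F X]
  [AddCommGroup Y] [Module F Y]

lemma rank_eq_add_of_restrict_surj (φ : X →ₗ[F] Y) (P : Submodule F X) (Q : Submodule F Y)
    (hwd : ∀ x ∈ P, φ x ∈ Q) (hsurj : ∀ y ∈ Q, ∃ x ∈ P, φ x = y) :
    Module.rank F ↥P = Module.rank F ↥Q + Module.rank F ↥(P ⊓ LinearMap.ker φ) := by
  have hrn := LinearMap.rank_range_add_rank_ker (φ.restrict hwd)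
  have hs : LinearMap.range (φ.restrict hwd) = ⊤ := by
    rw [LinearMap.range_eq_top]
    rintro ⟨y, hy⟩
    obtain ⟨x, hx, rfl⟩ := hsurj y hy
    exact ⟨⟨x, hx⟩, Subtype.ext rfl⟩
  have h3 : Module.rank F ↥((LinearMap.ker φ).comap P.subtype)
      = Module.rank F ↥(P ⊓ LinearMap.ker φ) := by
    rw [← Submodule.map_comap_subtype]
    exact (Submodule.equivMapOfInjective P.subtype P.subtype_injective _).rank_eq
  rw [hs, rank_top, LinearMap.ker_restrict hwd, h3] at hrn
  exact hrn.symm

lemma rank_map_equiv {X' : Type w} [AddCommGroup X'] [Module F X'] (e : X' ≃ₗ[F] X)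
    (N : Submodule F X') :
    Module.rank F ↥(N.map e.toLinearMap) = Module.rank F ↥N :=
  (Submodule.equivMapOfInjective e.toLinearMap e.injective _).rank_eq.symm

end Abstract

section Main
universe u u' w
variable {k₀ : Type u} {k : Type u'} {K L M : Type w}
    [Field k₀] [Field k] [Field K] [Field L] [Field M] [Algebra k₀ k]
    [Algebra k₀ K] [Algebra k K] [IsScalarTower k₀ k K] [Algebra k₀ L] [Algebra k L] [IsScalarTower k₀ k L]
    [Algebra K L] [Algebra K M] [Algebra L M] [IsScalarTower K L M]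
    [Algebra k₀ M] [Algebra k M] [IsScalarTower k₀ K L] [IsScalarTower k K L]
    [IsScalarTower k₀ K M] [IsScalarTower k K M] [IsScalarTower k₀ L M] [IsScalarTower k L M]

omit [IsScalarTower k₀ k K] [IsScalarTower k₀ k L] [Algebra k₀ k] [Algebra k K] [Algebra k L]
  [Algebra k M] [IsScalarTower k K L] [IsScalarTower k K M] [IsScalarTower k L M] in
lemma map_map_KLM (ω : Ω[K⁄k₀]) :
    KaehlerDifferential.map k₀ k₀ L M (KaehlerDifferential.map k₀ k₀ K L ω)
      = KaehlerDifferential.map k₀ k₀ K M ω := by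
  have h : ((KaehlerDifferential.map k₀ k₀ L M).restrictScalars K) ∘ₗ
      (KaehlerDifferential.map k₀ k₀ K L) = KaehlerDifferential.map k₀ k₀ K M := by
    apply LinearMap.ext_on (KaehlerDifferential.span_range_derivation k₀ K)
    rintro _ ⟨a, rfl⟩
    simp [← IsScalarTower.algebraMap_apply]
  exact LinearMap.congr_fun h ω

lemma map_map_kKL (ω : Ω[K⁄k₀]) :
    KaehlerDifferential.map k k K L (KaehlerDifferential.map k₀ k K K ω)
      = KaehlerDifferential.map k₀ k L L (KaehlerDifferential.map k₀ k₀ K L ω) := by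
  have h : (KaehlerDifferential.map k k K L) ∘ₗ (KaehlerDifferential.map k₀ k K K)
      = ((KaehlerDifferential.map k₀ k L L).restrictScalars K) ∘ₗ
        (KaehlerDifferential.map k₀ k₀ K L) := by
    apply LinearMap.ext_on (KaehlerDifferential.span_range_derivation k₀ K)
    rintro _ ⟨a, rfl⟩
    simp
  exact LinearMap.congr_fun h ω

open TensorProduct.AlgebraTensorModule in
omit [IsScalarTower k₀ k K] [IsScalarTower k₀ k L] [Algebra k₀ k] [Algebra k K] [Algebra k L]
  [Algebra k M] [IsScalarTower k K L] [IsScalarTower k K M] [IsScalarTower k L M] in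
lemma F1 (t : M ⊗[L] (L ⊗[K] Ω[K⁄k₀])) :
    KaehlerDifferential.mapBaseChange k₀ L M
        ((KaehlerDifferential.mapBaseChange k₀ K L).baseChange M t)
      = KaehlerDifferential.mapBaseChange k₀ K M
          (cancelBaseChange K L M M (Ω[K⁄k₀]) t) := by
  induction t with
  | zero => simp
  | add x y hx hy => simp only [map_add, hx, hy]
  | tmul m w =>
    induction w with
    | zero => simp
    | add x y hx hy => simp only [TensorProduct.tmul_add, map_add, hx, hy]
    | tmul l ω =>
      simp only [LinearMap.baseChange_tmul, KaehlerDifferential.mapBaseChange_tmul,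
        cancelBaseChange_tmul, map_smul, map_map_KLM]
      rw [smul_comm, smul_assoc]

open TensorProduct.AlgebraTensorModule in
lemma F2 (t : M ⊗[L] (L ⊗[K] Ω[K⁄k₀])) :
    (KaehlerDifferential.map k₀ k K K).baseChange M (cancelBaseChange K L M M (Ω[K⁄k₀]) t)
      = cancelBaseChange K L M M (Ω[K⁄k])
          (((KaehlerDifferential.map k₀ k K K).baseChange L).baseChange M t) := by
  induction t with
  | zero => simp
  | add x y hx hy => simp only [map_add, hx, hy]
  | tmul m w =>
    induction w with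
    | zero => simp
    | add x y hx hy => simp only [TensorProduct.tmul_add, map_add, hx, hy]
    | tmul l ω =>
      simp only [LinearMap.baseChange_tmul, cancelBaseChange_tmul]

lemma F3' : (KaehlerDifferential.mapBaseChange k K L) ∘ₗ
      ((KaehlerDifferential.map k₀ k K K).baseChange L)
    = (KaehlerDifferential.map k₀ k L L) ∘ₗ (KaehlerDifferential.mapBaseChange k₀ K L) := by
  apply LinearMap.ext
  intro w
  induction w with
  | zero => simp
  | add x y hx hy => simp only [map_add, hx, hy]
  | tmul l ω =>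
    simp only [LinearMap.comp_apply, LinearMap.baseChange_tmul,
      KaehlerDifferential.mapBaseChange_tmul, map_smul, map_map_kKL]

lemma F3 (t : M ⊗[L] (L ⊗[K] Ω[K⁄k₀])) :
    (KaehlerDifferential.mapBaseChange k K L).baseChange M
        (((KaehlerDifferential.map k₀ k K K).baseChange L).baseChange M t)
      = (KaehlerDifferential.map k₀ k L L).baseChange M
          ((KaehlerDifferential.mapBaseChange k₀ K L).baseChange M t) := by
  have := congrArg (fun h => h.baseChange M) (F3' (k₀ := k₀) (k := k) (K := K) (L := L))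
  simp only [LinearMap.baseChange_comp] at this
  exact LinearMap.congr_fun this t

/-- the generators `1 ⊗ d c`, `c ∈ k`. -/
lemma ker_gLM_le :
    LinearMap.ker ((KaehlerDifferential.map k₀ k L L).baseChange M)
      ≤ Submodule.span M (TensorProduct.mk L M (Ω[L⁄k₀]) 1 ''
          Set.range (fun c : k => KaehlerDifferential.D k₀ L (algebraMap k L c))) := by
  rw [ker_baseChange, ← KaehlerDifferential.range_mapBaseChange, ← Submodule.baseChange_span]
  apply Submodule.baseChange_mono
  rw [LinearMap.range_eq_map, ← Submodule.baseChange_top (R := k) (M := Ω[k⁄k₀]) L,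
    ← KaehlerDifferential.span_range_derivation k₀ k, Submodule.baseChange_span,
    Submodule.map_span, Submodule.span_le]
  rintro _ ⟨_, ⟨_, ⟨c, rfl⟩, rfl⟩, rfl⟩
  apply Submodule.subset_span
  refine ⟨c, ?_⟩
  simp

open TensorProduct.AlgebraTensorModule in
theorem main :
    Module.rank M ↥(LinearMap.ker (KaehlerDifferential.mapBaseChange k₀ K M) ⊓
          LinearMap.ker ((KaehlerDifferential.map k₀ k K K).baseChange M)) =
      Module.rank M ↥(LinearMap.ker (KaehlerDifferential.mapBaseChange k₀ L M) ⊓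
            LinearMap.ker ((KaehlerDifferential.map k₀ k L L).baseChange M)) +
        Module.rank L ↥(LinearMap.ker (KaehlerDifferential.mapBaseChange k₀ K L) ⊓
            LinearMap.ker ((KaehlerDifferential.map k₀ k K K).baseChange L)) := by
  -- notation
  let e : M ⊗[L] (L ⊗[K] Ω[K⁄k₀]) ≃ₗ[M] M ⊗[K] Ω[K⁄k₀] := cancelBaseChange K L M M (Ω[K⁄k₀])
  let e' : M ⊗[L] (L ⊗[K] Ω[K⁄k]) ≃ₗ[M] M ⊗[K] Ω[K⁄k] := cancelBaseChange K L M M (Ω[K⁄k])
  let f : L ⊗[K] Ω[K⁄k₀] →ₗ[L] Ω[L⁄k₀] := KaehlerDifferential.mapBaseChange k₀ K L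
  let g : L ⊗[K] Ω[K⁄k₀] →ₗ[L] L ⊗[K] Ω[K⁄k] := (KaehlerDifferential.map k₀ k K K).baseChange L
  let gKM : M ⊗[K] Ω[K⁄k₀] →ₗ[M] M ⊗[K] Ω[K⁄k] := (KaehlerDifferential.map k₀ k K K).baseChange M
  let gLM : M ⊗[L] Ω[L⁄k₀] →ₗ[M] M ⊗[L] Ω[L⁄k] := (KaehlerDifferential.map k₀ k L L).baseChange M
  let φ : M ⊗[K] Ω[K⁄k₀] →ₗ[M] M ⊗[L] Ω[L⁄k₀] := (f.baseChange M) ∘ₗ e.symm.toLinearMap
  let DMK : Submodule M (M ⊗[K] Ω[K⁄k₀]) :=
    LinearMap.ker (KaehlerDifferential.mapBaseChange k₀ K M) ⊓ LinearMap.ker gKM
  let DML : Submodule M (M ⊗[L] Ω[L⁄k₀]) :=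
    LinearMap.ker (KaehlerDifferential.mapBaseChange k₀ L M) ⊓ LinearMap.ker gLM
  -- basic compatibilities
  have hF1 : ∀ x, KaehlerDifferential.mapBaseChange k₀ L M (φ x)
      = KaehlerDifferential.mapBaseChange k₀ K M x := by
    intro x
    have := F1 (k₀ := k₀) (K := K) (L := L) (M := M) (e.symm x)
    rw [show cancelBaseChange K L M M (Ω[K⁄k₀]) (e.symm x) = x from e.apply_symm_apply x] at this
    exact this
  have hF2 : ∀ x, gKM x = e' ((g.baseChange M) (e.symm x)) := by
    intro x
    have := F2 (k₀ := k₀) (k := k) (K := K) (L := L) (M := M) (e.symm x)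
    rw [show cancelBaseChange K L M M (Ω[K⁄k₀]) (e.symm x) = x from e.apply_symm_apply x] at this
    exact this
  have hF3 : ∀ x, gLM (φ x)
      = (KaehlerDifferential.mapBaseChange k K L).baseChange M ((g.baseChange M) (e.symm x)) := by
    intro x
    exact (F3 (k₀ := k₀) (k := k) (K := K) (L := L) (M := M) (e.symm x)).symm
  have hgM0 : ∀ x, gKM x = 0 → (g.baseChange M) (e.symm x) = 0 := by
    intro x hx
    rw [hF2 x] at hx
    exact (LinearEquiv.map_eq_zero_iff e').1 hx
  -- well-definedness
  have hwd : ∀ x ∈ DMK, φ x ∈ DML := by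
    intro x hx
    have hx1 : KaehlerDifferential.mapBaseChange k₀ K M x = 0 := hx.1
    have hx2 : gKM x = 0 := hx.2
    refine ⟨?_, ?_⟩
    · show KaehlerDifferential.mapBaseChange k₀ L M (φ x) = 0
      rw [hF1, hx1]
    · show gLM (φ x) = 0
      rw [hF3, hgM0 x hx2, map_zero]
  -- surjectivity
  have hsurj : ∀ y ∈ DML, ∃ x ∈ DMK, φ x = y := by
    intro y hy
    have hy1 : KaehlerDifferential.mapBaseChange k₀ L M y = 0 := hy.1
    have hy2 : y ∈ LinearMap.ker gLM := hy.2
    have hy3 := ker_gLM_le (k₀ := k₀) (k := k) (L := L) (M := M) hy2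
    have hle : Submodule.span M (TensorProduct.mk L M (Ω[L⁄k₀]) 1 ''
          Set.range (fun c : k => KaehlerDifferential.D k₀ L (algebraMap k L c)))
        ≤ (Submodule.span M (TensorProduct.mk K M (Ω[K⁄k₀]) 1 ''
          Set.range (fun c : k => KaehlerDifferential.D k₀ K (algebraMap k K c)))).map φ := by
      rw [Submodule.map_span, Submodule.span_le]
      rintro _ ⟨_, ⟨c, rfl⟩, rfl⟩
      apply Submodule.subset_span
      refine ⟨_, ⟨_, ⟨c, rfl⟩, rfl⟩, ?_⟩
      show (f.baseChange M) (e.symm (1 ⊗ₜ[K] KaehlerDifferential.D k₀ K (algebraMap k K c))) = _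
      simp [e, f, ← IsScalarTower.algebraMap_apply]
    obtain ⟨x, hx, rfl⟩ := hle hy3
    have hxg : gKM x = 0 := by
      have hle2 : Submodule.span M (TensorProduct.mk K M (Ω[K⁄k₀]) 1 ''
          Set.range (fun c : k => KaehlerDifferential.D k₀ K (algebraMap k K c)))
          ≤ LinearMap.ker gKM := by
        rw [Submodule.span_le]
        rintro _ ⟨_, ⟨c, rfl⟩, rfl⟩
        show gKM _ = 0
        simp [gKM]
      exact hle2 hx
    have hxD : x ∈ DMK := by
      refine ⟨?_, hxg⟩
      show KaehlerDifferential.mapBaseChange k₀ K M x = 0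
      rw [← hF1, hy1]
    exact ⟨x, hxD, rfl⟩
  -- kernel
  have h2 : DMK ⊓ LinearMap.ker φ
      = (LinearMap.ker (f.baseChange M) ⊓ LinearMap.ker (g.baseChange M)).map e.toLinearMap := by
    ext x
    rw [Submodule.mem_map_equiv]
    constructor
    · rintro ⟨hxD, hxφ⟩
      exact ⟨hxφ, hgM0 x hxD.2⟩
    · rintro ⟨hx1, hx2⟩
      have hφ : φ x = 0 := hx1
      have hg' : (g.baseChange M) (e.symm x) = 0 := hx2
      refine ⟨⟨?_, ?_⟩, hφ⟩
      · show KaehlerDifferential.mapBaseChange k₀ K M x = 0
        rw [← hF1, hφ, map_zero]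
      · show gKM x = 0
        rw [hF2, hg', map_zero]
  have hmain := rank_eq_add_of_restrict_surj φ DMK DML hwd hsurj
  rw [h2, rank_map_equiv, ker_baseChange_inf, rank_baseChange_submodule, Cardinal.lift_id]
    at hmain
  exact hmain

end Main

end Groth.Agent.H73.ImperfTower
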