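import Mathlib
import Groth.Prelude.Def_W4stkalgebra1Int

/-!
# Integrality over an ideal and the Rees algebra
-/

set_option autoImplicit false

open Polynomial

namespace Groth.Agent.H73.IntOverIdeal

variable {R S : Type*} [CommRing R] [CommRing S] [Algebra R S] (I : Ideal R)

/-- The ring map from the Rees algebra of `I` to `S[t]`. -/
noncomputable def reesMap : reesAlgebra I →+* S[X] :=
  (Polynomial.mapRingHom (algebraMap R S)).comp (reesAlgebra I).val.toRingHom

theorem reesMap_apply (a : reesAlgebra I) :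
    reesMap (S := S) I a = Polynomial.map (algebraMap R S) (a : R[X]) := rfl

/-- A polynomial of the shape `X^d + ∑_{j<d} C (c j) X^j`. -/
theorem degree_sum_lt {A : Type*} [CommRing A] (d : ℕ) (c : ℕ → A) :
    (∑ j ∈ Finset.range d, C (c j) * X ^ j : A[X]).degree < (d : WithBot ℕ) := by
  refine lt_of_le_of_lt (degree_sum_le _ _) ?_
  refine (Finset.sup_lt_iff (WithBot.bot_lt_coe d)).mpr ?_
  intro j hj
  refine lt_of_le_of_lt (degree_C_mul_X_pow_le j (c j)) ?_
  exact WithBot.coe_lt_coe.mpr (Finset.mem_range.mp hj)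

theorem coeff_sum_of_lt {A : Type*} [CommRing A] (d : ℕ) (c : ℕ → A) {i : ℕ} (hi : i < d) :
    (∑ j ∈ Finset.range d, C (c j) * X ^ j : A[X]).coeff i = c i := by
  rw [finsetSum_coeff]
  simp only [coeff_C_mul, coeff_X_pow]
  rw [Finset.sum_eq_single i]
  · simp
  · intro j _ hji
    rw [if_neg (Ne.symm hji), mul_zero]
  · intro h
    exact absurd (Finset.mem_range.mpr hi) h

theorem natDegree_X_pow_add_sum {A : Type*} [CommRing A] [Nontrivial A] (d : ℕ) (c : ℕ → A) :
    (X ^ d + ∑ j ∈ Finset.range d, C (c j) * X ^ j : A[X]).natDegree = d := by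
  have h := degree_sum_lt d c
  have hdeg : (X ^ d + ∑ j ∈ Finset.range d, C (c j) * X ^ j : A[X]).degree = (d : WithBot ℕ) := by
    rw [degree_add_eq_left_of_degree_lt, degree_X_pow]
    rwa [degree_X_pow]
  exact natDegree_eq_of_degree_eq_some hdeg

theorem coeff_X_pow_add_sum_of_lt {A : Type*} [CommRing A] (d : ℕ) (c : ℕ → A) {i : ℕ}
    (hi : i < d) :
    (X ^ d + ∑ j ∈ Finset.range d, C (c j) * X ^ j : A[X]).coeff i = c i := by
  rw [coeff_add, coeff_X_pow, if_neg hi.ne, zero_add, coeff_sum_of_lt d c hi]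

/-- Forward direction: integral over `I` implies `g t` integral over the Rees algebra. -/
theorem isIntegralElem_of_isIntegralOverIdeal {g : S}
    (h : W4stkalgebra1.IsIntegralOverIdeal I g) :
    (reesMap (S := S) I).IsIntegralElem (C g * X) := by
  obtain ⟨p, hpm, hpc, hpe⟩ := h
  set d := p.natDegree with hd
  have hmem : ∀ j, monomial (d - j) (p.coeff j) ∈ reesAlgebra I := by
    intro j
    rw [reesAlgebra.monomial_mem]
    rcases Nat.lt_or_ge j d with hj | hj
    · exact hpc j hj
    · rw [Nat.sub_eq_zero_of_le hj, pow_zero, Ideal.one_eq_top]; trivial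
  let a : ℕ → reesAlgebra I := fun j => ⟨monomial (d - j) (p.coeff j), hmem j⟩
  refine ⟨X ^ d + ∑ j ∈ Finset.range d, C (a j) * X ^ j, monic_X_pow_add (degree_sum_lt d a), ?_⟩
  have hp : p = X ^ d + ∑ j ∈ Finset.range d, C (p.coeff j) * X ^ j := hpm.as_sum
  have hpe' : g ^ d + ∑ j ∈ Finset.range d, algebraMap R S (p.coeff j) * g ^ j = 0 := by
    rw [hp] at hpe
    simpa [eval₂_add, eval₂_finsetSum] using hpe
  have key : ∀ j ∈ Finset.range d,
      reesMap (S := S) I (a j) * (C g * X) ^ j =
        X ^ d * C (algebraMap R S (p.coeff j) * g ^ j) := by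
    intro j hj
    have hjd : j ≤ d := (Finset.mem_range.mp hj).le
    rw [reesMap_apply]
    simp only [a, map_monomial, mul_pow, ← C_pow]
    rw [← C_mul_X_pow_eq_monomial]
    have : X ^ d = (X ^ (d - j) * X ^ j : S[X]) := by rw [← pow_add, Nat.sub_add_cancel hjd]
    rw [this, C_mul]
    ring
  simp only [eval₂_add, eval₂_pow, eval₂_X, eval₂_finsetSum, eval₂_mul, eval₂_C]
  rw [Finset.sum_congr rfl key, ← Finset.mul_sum, mul_pow, ← C_pow]
  have : (C (g ^ d) * X ^ d + X ^ d * ∑ j ∈ Finset.range d, C (algebraMap R S (p.coeff j) * g ^ j)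
      : S[X]) = X ^ d * C (g ^ d + ∑ j ∈ Finset.range d, algebraMap R S (p.coeff j) * g ^ j) := by
    rw [C_add, map_sum]
    ring
  rw [this, hpe', C_0, mul_zero]

/-- Backward direction. -/
theorem isIntegralOverIdeal_of_isIntegralElem {g : S}
    (h : (reesMap (S := S) I).IsIntegralElem (C g * X)) :
    W4stkalgebra1.IsIntegralOverIdeal I g := by
  rcases subsingleton_or_nontrivial R with hR | hR
  · -- trivial ring
    refine ⟨1, monic_one, ?_, ?_⟩
    · intro j hj; simp at hj
    · have : Subsingleton S := (algebraMap R S).codomain_trivial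
      exact Subsingleton.elim _ _
  obtain ⟨q, hqm, hqe⟩ := h
  set d := q.natDegree with hd
  let c : ℕ → R := fun j => ((q.coeff j : reesAlgebra I) : R[X]).coeff (d - j)
  refine ⟨X ^ d + ∑ j ∈ Finset.range d, C (c j) * X ^ j, monic_X_pow_add (degree_sum_lt d c),
    ?_, ?_⟩
  · rw [natDegree_X_pow_add_sum]
    intro j hj
    rw [coeff_X_pow_add_sum_of_lt d c hj]
    exact (mem_reesAlgebra_iff I _).mp (q.coeff j).2 (d - j)
  · -- take the coefficient of `X^d`
    have h1 := congrArg (fun f : S[X] => f.coeff d) hqe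
    simp only [coeff_zero] at h1
    rw [eval₂_eq_sum_range, finsetSum_coeff] at h1
    have key : ∀ j ∈ Finset.range (d + 1),
        (reesMap (S := S) I (q.coeff j) * (C g * X) ^ j).coeff d =
          algebraMap R S (c j) * g ^ j := by
      intro j hj
      have hjd : j ≤ d := Nat.lt_succ_iff.mp (Finset.mem_range.mp hj)
      rw [reesMap_apply, mul_pow, ← C_pow, ← mul_assoc, coeff_mul_X_pow', if_pos hjd, coeff_mul_C,
        coeff_map]
    rw [Finset.sum_congr rfl key, Finset.sum_range_succ] at h1
    have hcd : c d = 1 := by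
      have : q.coeff d = 1 := hqm
      simp only [c, this, Nat.sub_self]
      simp
    rw [hcd, map_one, one_mul] at h1
    simp only [eval₂_add, eval₂_pow, eval₂_X, eval₂_finsetSum, eval₂_mul, eval₂_C]
    rw [add_comm]
    exact h1

theorem isIntegralOverIdeal_iff {g : S} :
    W4stkalgebra1.IsIntegralOverIdeal I g ↔ (reesMap (S := S) I).IsIntegralElem (C g * X) :=
  ⟨isIntegralElem_of_isIntegralOverIdeal I, isIntegralOverIdeal_of_isIntegralElem I⟩

/-- Constants coming from `R` are in the image of the Rees algebra. -/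
theorem reesMap_C (r : R) :
    reesMap (S := S) I (algebraMap R (reesAlgebra I) r) = C (algebraMap R S r) := by
  rw [reesMap_apply]
  simp

/-- Elements integral over `R` give constants integral over the Rees algebra. -/
theorem isIntegralElem_C_of_isIntegral {s : S} (hs : IsIntegral R s) :
    (reesMap (S := S) I).IsIntegralElem (C s) := by
  obtain ⟨p, hpm, hpe⟩ := hs
  refine ⟨p.map (algebraMap R (reesAlgebra I)), hpm.map _, ?_⟩
  rw [eval₂_map]
  have : (reesMap (S := S) I).comp (algebraMap R (reesAlgebra I)) = C.comp (algebraMap R S) := by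
    ext r
    simp [reesMap_C]
  rw [this, ← Polynomial.hom_eval₂, hpe, map_zero]

/-- The elements integral over `I` form a submodule. -/
noncomputable def integralSubmodule : Submodule R S where
  carrier := {s | W4stkalgebra1.IsIntegralOverIdeal I s}
  zero_mem' := by
    change W4stkalgebra1.IsIntegralOverIdeal I 0
    rw [isIntegralOverIdeal_iff]
    simpa using RingHom.isIntegralElem_zero (f := reesMap (S := S) I)
  add_mem' := by
    intro x y hx hy
    change W4stkalgebra1.IsIntegralOverIdeal I _ at hx hy ⊢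
    rw [isIntegralOverIdeal_iff] at hx hy ⊢
    have := RingHom.IsIntegralElem.add _ hx hy
    rwa [← add_mul, ← C_add] at this
  smul_mem' := by
    intro r x hx
    change W4stkalgebra1.IsIntegralOverIdeal I _ at hx ⊢
    rw [isIntegralOverIdeal_iff] at hx ⊢
    have h1 : (reesMap (S := S) I).IsIntegralElem (C (algebraMap R S r)) := by
      rw [← reesMap_C I]
      exact RingHom.isIntegralElem_map _
    have := RingHom.IsIntegralElem.mul _ h1 hx
    rwa [← mul_assoc, ← C_mul, ← Algebra.smul_def] at this

theorem mul_isIntegralOverIdeal {s s' : S} (hs : IsIntegral R s)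
    (hs' : W4stkalgebra1.IsIntegralOverIdeal I s') :
    W4stkalgebra1.IsIntegralOverIdeal I (s * s') := by
  rw [isIntegralOverIdeal_iff] at hs' ⊢
  have := RingHom.IsIntegralElem.mul _ (isIntegralElem_C_of_isIntegral I hs) hs'
  rwa [← mul_assoc, ← C_mul] at this

end Groth.Agent.H73.IntOverIdeal
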