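import Mathlib

/-!
# Invariants of a finite group of invertible order acting on a finitely presented algebra
-/

set_option autoImplicit false
set_option linter.style.haveILetI false
set_option linter.unusedSectionVars false

namespace Groth.Agent.H73.InvFP

universe u v w

variable {R : Type u} {A : Type v} [CommRing R] [CommRing A] [Algebra R A]
  {G : Type w} [Group G] [MulSemiringAction G A] [SMulCommClass G R A]

instance isInvariant : Algebra.IsInvariant (FixedPoints.subalgebra R A G) A G where
  isInvariant b hb := ⟨⟨b, hb⟩, rfl⟩

theorem sum_smul_mem [Fintype G] (u : R) (a : A) :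
    u • ∑ g : G, g • a ∈ FixedPoints.subalgebra R A G := by
  intro h
  change h • (u • ∑ g : G, g • a) = u • ∑ g : G, g • a
  rw [smul_comm, Finset.smul_sum]
  congr 1
  exact Fintype.sum_bijective (fun g => h * g) (Group.mulLeft_bijective h) _ _
    (fun g => (mul_smul h g a).symm)

variable (R A G) in
/-- The Reynolds operator `a ↦ u • ∑ g, g • a` as an `A^G`-linear map `A → A^G`. -/
noncomputable def reynolds [Fintype G] (u : R) :
    A →ₗ[FixedPoints.subalgebra R A G] FixedPoints.subalgebra R A G where
  toFun a := ⟨u • ∑ g : G, g • a, sum_smul_mem u a⟩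
  map_add' a b := by
    apply Subtype.ext
    change u • ∑ g : G, g • (a + b) = u • ∑ g : G, g • a + u • ∑ g : G, g • b
    simp only [smul_add, Finset.sum_add_distrib]
  map_smul' b a := by
    apply Subtype.ext
    change u • ∑ g : G, g • ((b : A) * a) = (b : A) * (u • ∑ g : G, g • a)
    have : ∀ g : G, g • ((b : A) * a) = (b : A) * g • a := by
      intro g
      rw [smul_mul', b.2 g]
    simp only [this, ← Finset.mul_sum]
    rw [mul_smul_comm]

theorem reynolds_coe [Fintype G] (u : R) (a : A) :
    ((reynolds R A G u a : FixedPoints.subalgebra R A G) : A) = u • ∑ g : G, g • a := rfl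

theorem reynolds_apply_mem [Fintype G] {u : R} (hu : u * ((Fintype.card G : ℕ) : R) = 1)
    (b : FixedPoints.subalgebra R A G) : reynolds R A G u (b : A) = b := by
  ext
  rw [reynolds_coe]
  have : ∀ g : G, g • (b : A) = (b : A) := b.2
  simp only [this, Finset.sum_const, Finset.card_univ]
  rw [← Nat.cast_smul_eq_nsmul R, smul_smul, hu, one_smul]

theorem main [Finite G] [Algebra.FinitePresentation R A]
    (hG : IsUnit ((Nat.card G : ℕ) : R)) :
    Algebra.FinitePresentation R (FixedPoints.subalgebra R A G) := by
  classical
  cases nonempty_fintype G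
  haveI : Algebra.IsIntegral (FixedPoints.subalgebra R A G) A :=
    Algebra.IsInvariant.isIntegral (FixedPoints.subalgebra R A G) A G
  obtain ⟨u, hu⟩ : ∃ u : R, u * ((Fintype.card G : ℕ) : R) = 1 := by
    rw [Nat.card_eq_fintype_card] at hG
    exact ⟨↑hG.unit⁻¹, by rw [mul_comm]; exact hG.mul_val_inv⟩
  -- generators of `A` and their integral equations over the invariants
  obtain ⟨s, hs⟩ := (Algebra.FiniteType.out : (⊤ : Subalgebra R A).FG)
  have hint : ∀ a : A, ∃ p : Polynomial (FixedPoints.subalgebra R A G), p.Monic ∧
      Polynomial.eval₂ (algebraMap (FixedPoints.subalgebra R A G) A) a p = 0 :=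
    fun a => Algebra.IsIntegral.isIntegral a
  choose p hpmonic hproot using hint
  -- the subalgebra generated by all the coefficients
  have hCft : Algebra.FiniteType R
      (Algebra.adjoin R ((s.biUnion (fun a => (p a).coeffs) : Finset _) : Set
        (FixedPoints.subalgebra R A G))) :=
    (Subalgebra.fg_iff_finiteType _).mp (Subalgebra.fg_adjoin_finset _)
  have hsint : ∀ a ∈ s, IsIntegral (Algebra.adjoin R ((s.biUnion (fun a => (p a).coeffs) :
      Finset _) : Set (FixedPoints.subalgebra R A G))) a := by
    intro a ha
    have hlift : p a ∈ Polynomial.lifts (algebraMap (Algebra.adjoin R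
        ((s.biUnion (fun a => (p a).coeffs) : Finset _) : Set (FixedPoints.subalgebra R A G)))
        (FixedPoints.subalgebra R A G)) := by
      rw [Polynomial.lifts_iff_coeff_lifts]
      intro n
      by_cases h0 : (p a).coeff n = 0
      · exact ⟨0, by rw [h0, map_zero]⟩
      · have hmem : (p a).coeff n ∈ s.biUnion (fun a => (p a).coeffs) :=
          Finset.mem_biUnion.mpr ⟨a, ha, Polynomial.coeff_mem_coeffs h0⟩
        exact ⟨⟨_, Algebra.subset_adjoin hmem⟩, rfl⟩
    obtain ⟨q, hq, -, hqm⟩ := Polynomial.lifts_and_natDegree_eq_and_monic hlift (hpmonic a)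
    refine ⟨q, hqm, ?_⟩
    rw [IsScalarTower.algebraMap_eq _ (FixedPoints.subalgebra R A G) A, ← Polynomial.eval₂_map, hq]
    exact hproot a
  have hadj : Algebra.adjoin (Algebra.adjoin R ((s.biUnion (fun a => (p a).coeffs) :
      Finset _) : Set (FixedPoints.subalgebra R A G))) (s : Set A) = ⊤ := by
    apply top_le_iff.mp
    rintro x -
    have hx : x ∈ Algebra.adjoin R (s : Set A) := by rw [hs]; trivial
    induction hx using Algebra.adjoin_induction with
    | mem y hy => exact Algebra.subset_adjoin hy
    | algebraMap r =>
      rw [IsScalarTower.algebraMap_apply R (Algebra.adjoin R ((s.biUnion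
        (fun a => (p a).coeffs) : Finset _) : Set (FixedPoints.subalgebra R A G))) A]
      exact Subalgebra.algebraMap_mem _ _
    | add y z _ _ hy hz => exact Subalgebra.add_mem _ hy hz
    | mul y z _ _ hy hz => exact Subalgebra.mul_mem _ hy hz
  haveI hCA : Module.Finite (Algebra.adjoin R ((s.biUnion (fun a => (p a).coeffs) :
      Finset _) : Set (FixedPoints.subalgebra R A G))) A := by
    rw [Module.finite_def, ← Algebra.top_toSubmodule, ← hadj]
    exact fg_adjoin_of_finite s.finite_toSet hsint
  -- the invariants are finite over that subalgebra, via the Reynolds operator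
  have hρsurj : Function.Surjective (reynolds R A G u) :=
    fun b => ⟨(b : A), reynolds_apply_mem hu b⟩
  haveI hCB : Module.Finite (Algebra.adjoin R ((s.biUnion (fun a => (p a).coeffs) :
      Finset _) : Set (FixedPoints.subalgebra R A G))) (FixedPoints.subalgebra R A G) :=
    Module.Finite.of_surjective ((reynolds R A G u).restrictScalars _) hρsurj
  haveI hBft : Algebra.FiniteType R (FixedPoints.subalgebra R A G) :=
    Algebra.FiniteType.trans hCft inferInstance
  haveI hBA : Module.Finite (FixedPoints.subalgebra R A G) A :=
    Module.Finite.of_restrictScalars_finite (Algebra.adjoin R ((s.biUnion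
      (fun a => (p a).coeffs) : Finset _) : Set (FixedPoints.subalgebra R A G))) _ A
  -- a polynomial ring mapping onto the invariants
  obtain ⟨n, f, hf⟩ := Algebra.FiniteType.iff_quotient_mvPolynomial''.mp hBft
  letI : Algebra (MvPolynomial (Fin n) R) (FixedPoints.subalgebra R A G) := f.toRingHom.toAlgebra
  haveI : IsScalarTower R (MvPolynomial (Fin n) R) (FixedPoints.subalgebra R A G) :=
    IsScalarTower.of_algebraMap_eq (fun r => (f.commutes r).symm)
  letI : Algebra (MvPolynomial (Fin n) R) A :=
    ((algebraMap (FixedPoints.subalgebra R A G) A).comp f.toRingHom).toAlgebra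
  haveI : IsScalarTower (MvPolynomial (Fin n) R) (FixedPoints.subalgebra R A G) A :=
    IsScalarTower.of_algebraMap_eq (fun _ => rfl)
  haveI : IsScalarTower R (MvPolynomial (Fin n) R) A :=
    IsScalarTower.of_algebraMap_eq (fun r => by
      change algebraMap R A r = algebraMap (FixedPoints.subalgebra R A G) A
        (f (algebraMap R _ r))
      rw [f.commutes]
      rfl)
  haveI : Algebra.FinitePresentation (MvPolynomial (Fin n) R) A :=
    Algebra.FinitePresentation.of_restrict_scalars_finitePresentation R _ A
  haveI : Module.Finite (MvPolynomial (Fin n) R) (FixedPoints.subalgebra R A G) :=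
    Module.Finite.of_surjective (Algebra.linearMap _ _) hf
  haveI : Module.Finite (MvPolynomial (Fin n) R) A :=
    Module.Finite.trans (FixedPoints.subalgebra R A G) A
  haveI : Module.FinitePresentation (MvPolynomial (Fin n) R) A :=
    Module.FinitePresentation.of_finite_of_finitePresentation _ _
  -- the invariants are a direct summand of `A` as a module over the polynomial ring
  have hker : (LinearMap.ker ((reynolds R A G u).restrictScalars (MvPolynomial (Fin n) R))).FG := by
    have hk : LinearMap.ker ((reynolds R A G u).restrictScalars (MvPolynomial (Fin n) R)) =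
        LinearMap.range (LinearMap.id -
          ((Algebra.linearMap (FixedPoints.subalgebra R A G) A).restrictScalars
            (MvPolynomial (Fin n) R)) ∘ₗ
          ((reynolds R A G u).restrictScalars (MvPolynomial (Fin n) R))) := by
      ext a
      constructor
      · intro ha
        refine ⟨a, ?_⟩
        rw [LinearMap.mem_ker, LinearMap.restrictScalars_apply] at ha
        simp only [LinearMap.sub_apply, LinearMap.id_apply, LinearMap.comp_apply,
          LinearMap.restrictScalars_apply, ha, map_zero, sub_zero]
      · rintro ⟨a, rfl⟩
        rw [LinearMap.mem_ker, LinearMap.restrictScalars_apply]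
        simp only [LinearMap.sub_apply, LinearMap.id_apply, LinearMap.comp_apply,
          LinearMap.restrictScalars_apply, map_sub, Algebra.linearMap_apply]
        rw [sub_eq_zero]
        exact (reynolds_apply_mem hu _).symm
    rw [hk, LinearMap.range_eq_map]
    exact Module.Finite.fg_top.map _
  haveI : Module.FinitePresentation (MvPolynomial (Fin n) R) (FixedPoints.subalgebra R A G) :=
    Module.finitePresentation_of_surjective
      ((reynolds R A G u).restrictScalars (MvPolynomial (Fin n) R)) hρsurj hker
  have hJ : (LinearMap.ker (Algebra.linearMap (MvPolynomial (Fin n) R)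
      (FixedPoints.subalgebra R A G))).FG :=
    Module.FinitePresentation.fg_ker _ hf
  exact Algebra.FinitePresentation.of_surjective hf hJ

end Groth.Agent.H73.InvFP
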