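import Mathlib
import Groth.Agent.H15.LenRank

/-!
# The Krull–Akizuki length lemma

For a Noetherian domain `R` of dimension `≤ 1` with fraction field `K`, an `R`-submodule `M` of
`K^r` and `x ≠ 0`, one has `ℓ(M/xM) ≤ r · ℓ(R/xR) < ∞`.
-/

set_option autoImplicit false
set_option linter.style.haveILetI false
set_option linter.unusedSectionVars false

open Function
open scoped Pointwise

namespace Groth.Agent.H73.KALength

open Groth.Agent.H15.Len

section general

variable {R : Type*} [CommRing R]

/-- If all finitely generated submodules of `Q` have length `≤ c`, so does `Q`. -/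
theorem length_le_of_forall_fg {Q : Type*} [AddCommGroup Q] [Module R Q] (c : ℕ∞)
    (h : ∀ Q' : Submodule R Q, Q'.FG → Module.length R Q' ≤ c) : Module.length R Q ≤ c := by
  classical
  rw [Module.length_eq_height, Order.height_le_iff]
  intro p _
  -- choose witnesses of strictness
  have hstep : ∀ i : Fin p.length, ∃ y, y ∈ p i.succ ∧ y ∉ p i.castSucc := fun i =>
    SetLike.exists_of_lt (p.step i)
  choose y hy1 hy2 using hstep
  let Q' : Submodule R Q := Submodule.span R (Set.range y)
  have hQ' : Q'.FG := Submodule.fg_span (Set.finite_range y)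
  let p' : LTSeries (Submodule R Q') :=
    { length := p.length
      toFun := fun i => (p i).comap Q'.subtype
      step := fun i => by
        refine lt_of_le_of_ne (Submodule.comap_mono (p.step i).le) ?_
        intro heq
        have hyQ : y i ∈ Q' := Submodule.subset_span ⟨i, rfl⟩
        have h1 : (⟨y i, hyQ⟩ : Q') ∈ (p i.succ).comap Q'.subtype := hy1 i
        rw [← heq] at h1
        exact hy2 i h1 }
  have h1 : (p'.length : ℕ∞) ≤ Order.height p'.last := Order.length_le_height_last
  have h2 : Order.height p'.last ≤ Order.height (⊤ : Submodule R Q') := Order.height_mono le_top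
  have h3 : Module.length R Q' ≤ c := h Q' hQ'
  rw [Module.length_eq_height] at h3
  exact (h1.trans h2).trans h3

/-- Reduction of `ℓ(M/xM) ≤ c` to finitely generated submodules of `M`. -/
theorem length_quotSMulTop_le_of_forall_fg {M : Type*} [AddCommGroup M] [Module R M] (x : R)
    (c : ℕ∞)
    (h : ∀ M' : Submodule R M, M'.FG → Module.length R (QuotSMulTop x M') ≤ c) :
    Module.length R (QuotSMulTop x M) ≤ c := by
  classical
  refine length_le_of_forall_fg c fun Q' hQ' => ?_
  obtain ⟨F, hF⟩ := hQ'
  have hlift : ∀ q : QuotSMulTop x M, ∃ m : M, Submodule.Quotient.mk m = q :=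
    fun q => Submodule.Quotient.mk_surjective _ q
  choose lift hlift using hlift
  let M' : Submodule R M := Submodule.span R (lift '' (F : Set (QuotSMulTop x M)))
  have hM' : M'.FG := Submodule.fg_span (F.finite_toSet.image lift)
  let ψ : QuotSMulTop x M' →ₗ[R] QuotSMulTop x M := QuotSMulTop.map x M'.subtype
  have hle : Q' ≤ LinearMap.range ψ := by
    rw [← hF, Submodule.span_le]
    intro q hq
    have hm : lift q ∈ M' := Submodule.subset_span ⟨q, hq, rfl⟩
    refine ⟨Submodule.Quotient.mk ⟨lift q, hm⟩, ?_⟩
    change QuotSMulTop.map x M'.subtype (Submodule.Quotient.mk ⟨lift q, hm⟩) = q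
    rw [QuotSMulTop.map_apply_mk]
    exact hlift q
  calc Module.length R Q' ≤ Module.length R (LinearMap.range ψ) :=
        Module.length_le_of_injective (Submodule.inclusion hle) (Submodule.inclusion_injective hle)
    _ ≤ Module.length R (QuotSMulTop x M') :=
        Module.length_le_of_surjective ψ.rangeRestrict ψ.surjective_rangeRestrict
    _ ≤ c := h M' hM'

end general

section main

variable {R : Type*} [CommRing R] [IsDomain R] [IsNoetherianRing R] [Ring.KrullDimLE 1 R]
  {K : Type*} [Field K] [Algebra R K] [IsFractionRing R K]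

/-- Multiplication by `x ≠ 0` is injective on modules embedded in `K^r`. -/
theorem length_ker_smul_eq_zero (r : ℕ) {N : Type*} [AddCommGroup N] [Module R N]
    (ψ : N →ₗ[R] (Fin r → K)) (hψ : Injective ψ) (x : R) (hx : x ≠ 0) :
    Module.length R (LinearMap.ker (x • (LinearMap.id : N →ₗ[R] N))) = 0 := by
  rw [Module.length_eq_zero_iff]
  have hu0 : ∀ u : LinearMap.ker (x • (LinearMap.id : N →ₗ[R] N)), (u : N) = 0 := by
    intro u
    have h1 : x • (u : N) = 0 := by
      have := u.2
      rwa [LinearMap.mem_ker, LinearMap.smul_apply, LinearMap.id_apply] at this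
    apply hψ
    rw [map_zero]
    have h2 : x • ψ u = 0 := by rw [← map_smul, h1, map_zero]
    have h3 : algebraMap R K x • ψ u = 0 := by rwa [algebraMap_smul]
    have hxK : algebraMap R K x ≠ 0 := by
      rwa [Ne, IsFractionRing.to_map_eq_zero_iff]
    exact (smul_eq_zero.mp h3).resolve_left hxK
  exact ⟨fun u v => Subtype.ext (by rw [hu0 u, hu0 v])⟩

/-- The finitely generated case. -/
theorem length_quotSMulTop_le_of_finite (r : ℕ) {P : Type*} [AddCommGroup P] [Module R P]
    [Module.Finite R P] (ι : P →ₗ[R] (Fin r → K)) (hι : Injective ι) (x : R) (hx : x ≠ 0) :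
    Module.length R (QuotSMulTop x P) ≤ r * Module.length R (R ⧸ Ideal.span {x}) := by
  classical
  have hxnz : x ∈ nonZeroDivisors R := mem_nonZeroDivisors_of_ne_zero hx
  -- a `K`-basis of the span of the image, chosen inside the image
  obtain ⟨b, hbsub, hbspan, hbli⟩ := exists_linearIndependent K (Set.range ι)
  have hbfin : b.Finite := hbli.setFinite
  letI : Fintype b := hbfin.fintype
  set s := Fintype.card b with hs
  have hsr : s ≤ r := by
    have h1 : Fintype.card b ≤ Module.finrank K (Fin r → K) := hbli.fintype_card_le_finrank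
    rwa [Module.finrank_fin_fun] at h1
  let e : Fin s ≃ b := (Fintype.equivFin b).symm
  have hpre : ∀ j : Fin s, ∃ p : P, ι p = (e j : Fin r → K) := fun j => hbsub (e j).2
  choose m' hm' using hpre
  have hli' : LinearIndependent K (fun j => ι (m' j)) := by
    have : (fun j => ι (m' j)) = (fun y : b => (y : Fin r → K)) ∘ e := by
      funext j; exact hm' j
    rw [this]
    exact hbli.comp e e.injective
  have hliR : LinearIndependent R m' := by
    have h1 : LinearIndependent R (ι ∘ m') := hli'.restrict_scalars' R
    exact LinearIndependent.of_comp ι h1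
  let φ : (Fin s → R) →ₗ[R] P := Fintype.linearCombination R m'
  have hφinj : Injective φ :=
    linearIndependent_iff_injective_fintypeLinearCombination.mp hliR
  have hφ : ∀ a, φ a = ∑ j, a j • m' j := fun a => Fintype.linearCombination_apply R m' a
  -- the cokernel is torsion
  have hspan : Submodule.span K (Set.range fun j => ι (m' j)) = Submodule.span K (Set.range ι) := by
    rw [← hbspan]
    congr 1
    ext v
    constructor
    · rintro ⟨j, rfl⟩
      change ι (m' j) ∈ b
      rw [hm' j]; exact (e j).2
    · intro hv
      refine ⟨e.symm ⟨v, hv⟩, ?_⟩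
      change ι (m' (e.symm ⟨v, hv⟩)) = v
      rw [hm']; simp
  have htors : ∀ q : P ⧸ LinearMap.range φ, ∃ w ∈ nonZeroDivisors R, w • q = 0 := by
    intro q
    obtain ⟨p, rfl⟩ := Submodule.mkQ_surjective _ q
    have hp : ι p ∈ Submodule.span K (Set.range fun j => ι (m' j)) := by
      rw [hspan]; exact Submodule.subset_span ⟨p, rfl⟩
    obtain ⟨c, hc⟩ := (Submodule.mem_span_range_iff_exists_fun K).mp hp
    obtain ⟨d, hd⟩ := IsLocalization.exist_integer_multiples (nonZeroDivisors R) Finset.univ c
    choose a ha using fun j => hd j (Finset.mem_univ j)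
    refine ⟨d, d.2, ?_⟩
    rw [← map_smul, Submodule.mkQ_apply, Submodule.Quotient.mk_eq_zero]
    refine ⟨a, ?_⟩
    apply hι
    rw [hφ, map_sum, map_smul, ← hc, Finset.smul_sum]
    refine Finset.sum_congr rfl fun j _ => ?_
    rw [map_smul, ← algebraMap_smul K (a j) (ι (m' j)), ha j, smul_assoc]
  obtain ⟨w, hwS, hw⟩ := exists_smul_eq_zero_of_finite (nonZeroDivisors R)
    (P ⧸ LinearMap.range φ) htors
  have hQfin : IsFiniteLength R (P ⧸ LinearMap.range φ) :=
    isFiniteLength_of_smul_eq_zero hwS _ hw
  have hd := defect_additive x φ (LinearMap.range φ).mkQ hφinj (Submodule.mkQ_surjective _)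
    (LinearMap.exact_map_mkQ_range φ)
  rw [length_ker_smul_eq_zero r (ι.comp φ) (hι.comp hφinj) x hx,
    length_ker_smul_eq_zero r ι hι x hx, zero_add, zero_add] at hd
  have hQ := length_ker_eq_length_coker hQfin (x • (LinearMap.id : _ →ₗ[R] (P ⧸ LinearMap.range φ)))
  rw [← length_quotSMulTop] at hQ
  have hfin : Module.length R (QuotSMulTop x (P ⧸ LinearMap.range φ)) ≠ ⊤ := by
    rw [Module.length_ne_top_iff]
    exact hQfin.of_surjective (f := Submodule.mkQ _) (Submodule.mkQ_surjective _)
  rw [hQ] at hd
  have hmain : Module.length R (QuotSMulTop x P) = Module.length R (QuotSMulTop x (Fin s → R)) := by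
    rw [add_comm] at hd
    exact ENat.add_left_injective_of_ne_top hfin hd
  rw [hmain, length_quotSMulTop_pi]
  gcongr

/-- **Krull–Akizuki length lemma.** -/
theorem length_quotSMulTop_le (r : ℕ) (M : Submodule R (Fin r → K)) (x : R) (hx : x ≠ 0) :
    Module.length R (QuotSMulTop x M) ≤ r * Module.length R (R ⧸ Ideal.span {x}) := by
  refine length_quotSMulTop_le_of_forall_fg x _ fun M' hM' => ?_
  haveI : Module.Finite R M' := Module.Finite.iff_fg.mpr hM'
  exact length_quotSMulTop_le_of_finite r (M.subtype.comp M'.subtype)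
    ((Submodule.subtype_injective M).comp (Submodule.subtype_injective M')) x hx

theorem length_quotient_span_ne_top (x : R) (hx : x ≠ 0) :
    Module.length R (R ⧸ Ideal.span {x}) ≠ ⊤ := by
  rw [Module.length_ne_top_iff]
  exact isFiniteLength_quotient_span_singleton R (mem_nonZeroDivisors_of_ne_zero hx)

/-- The form used in the statements. -/
theorem length_quotient_span_smul_le (r : ℕ) (M : Submodule R (Fin r → K)) (x : R) (hx : x ≠ 0) :
    Module.length R (M ⧸ (Ideal.span ({x} : Set R) • (⊤ : Submodule R M))) ≤
      r * Module.length R (R ⧸ Ideal.span ({x} : Set R)) := by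
  have h := length_quotSMulTop_le r M x hx
  have heq : (Ideal.span ({x} : Set R) • (⊤ : Submodule R M)) = x • (⊤ : Submodule R M) :=
    Submodule.ideal_span_singleton_smul x ⊤
  rw [(Submodule.quotEquivOfEq _ _ heq).length_eq]
  exact h

end main

end Groth.Agent.H73.KALength
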