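import Mathlib

/-!
# Finitely presented modules with locally constant fibre rank over a reduced ring are projective
-/

set_option autoImplicit false

universe u v w

namespace Groth.Agent.H73.ReducedProj

open TensorProduct

section

variable {A : Type u} [CommRing A] {M : Type v} [AddCommGroup M] [Module A M]

/-- The dimension of `K ⊗ M` for a field `K` over `A` only depends on the kernel of `A → K`. -/
theorem finrank_tensor_eq_of_ker (K : Type w) [Field K] [Algebra A K] (q : Ideal A) [q.IsPrime]
    (hq : RingHom.ker (algebraMap A K) = q) :
    Module.finrank K (K ⊗[A] M) = Module.finrank q.ResidueField (q.ResidueField ⊗[A] M) := by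
  let φ : q.ResidueField →ₐ[A] K := Ideal.ResidueField.liftₐ q (Algebra.ofId A K)
    (by rw [← hq]; exact le_rfl) (by
      intro x hx
      have : algebraMap A K x ≠ 0 := by
        intro h0
        apply hx
        rw [← hq]
        exact h0
      exact isUnit_iff_ne_zero.mpr this)
  let _ : Algebra q.ResidueField K := φ.toRingHom.toAlgebra
  have : IsScalarTower A q.ResidueField K :=
    IsScalarTower.of_algebraMap_eq (fun x => (φ.commutes x).symm)
  have e : K ⊗[q.ResidueField] (q.ResidueField ⊗[A] M) ≃ₗ[K] K ⊗[A] M :=
    TensorProduct.AlgebraTensorModule.cancelBaseChange A q.ResidueField K K M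
  rw [← e.finrank_eq, Module.finrank_baseChange]

/-- The fibre rank function of a module on the prime spectrum. -/
noncomputable def fibreRank (A : Type u) [CommRing A] (M : Type v) [AddCommGroup M] [Module A M]
    (x : PrimeSpectrum A) : ℕ :=
  Module.finrank x.asIdeal.ResidueField (x.asIdeal.ResidueField ⊗[A] M)

/-- The dimension of `K ⊗_R (R ⊗_A M)` for a field `K` over `R`, `R` an `A`-algebra. -/
theorem finrank_tensor_tensor (R : Type w) [CommRing R] [Algebra A R] (K : Type w) [Field K]
    [Algebra R K] [Algebra A K] [IsScalarTower A R K] (q : Ideal A) [q.IsPrime]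
    (hq : (RingHom.ker (algebraMap R K)).comap (algebraMap A R) = q) :
    Module.finrank K (K ⊗[R] (R ⊗[A] M)) = fibreRank A M ⟨q, inferInstance⟩ := by
  have e : K ⊗[R] (R ⊗[A] M) ≃ₗ[K] K ⊗[A] M :=
    TensorProduct.AlgebraTensorModule.cancelBaseChange A R K K M
  rw [e.finrank_eq]
  refine finrank_tensor_eq_of_ker K q ?_
  rw [← hq]
  ext x
  simp only [RingHom.mem_ker, Ideal.mem_comap]
  rw [IsScalarTower.algebraMap_apply A R K]

/-- Over a reduced ring, a finite module with locally constant fibre rank is free at every
prime. -/
theorem free_localization_of_isLocallyConstant [IsReduced A] [Module.Finite A M]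
    (h : IsLocallyConstant (fibreRank A M)) (p : Ideal A) [p.IsPrime] :
    Module.Free (Localization.AtPrime p) (Localization.AtPrime p ⊗[A] M) := by
  classical
  let R := Localization.AtPrime p
  let M' := R ⊗[A] M
  let k := IsLocalRing.ResidueField R
  have hfin : Module.Finite R M' := inferInstance
  let ι := Module.Free.ChooseBasisIndex k (k ⊗[R] M')
  let b : Module.Basis ι k (k ⊗[R] M') := Module.Free.chooseBasis k (k ⊗[R] M')
  obtain ⟨v, hv⟩ := (TensorProduct.mk_surjective R M' k Ideal.Quotient.mk_surjective).comp_left b
  have hspan : Submodule.span R (Set.range v) = ⊤ :=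
    IsLocalRing.span_eq_top_of_tmul_eq_basis v b (congr_fun hv)
  have hcard : Fintype.card ι = fibreRank A M ⟨p, inferInstance⟩ := by
    rw [← Module.finrank_eq_card_chooseBasisIndex]
    refine finrank_tensor_tensor R k p ?_
    rw [IsLocalRing.ResidueField.algebraMap_eq, IsLocalRing.ker_residue]
    exact IsLocalization.AtPrime.under_maximalIdeal R p
  have hli : LinearIndependent R v := by
    rw [Fintype.linearIndependent_iff]
    intro g hg i
    have hnil : g i ∈ nilradical R := by
      rw [nilradical_eq_sInf, Ideal.mem_sInf]
      intro q' hq'
      have : q'.IsPrime := hq'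
      let K := q'.ResidueField
      let w : ι → K ⊗[R] M' := fun j => (1 : K) ⊗ₜ v j
      have hwspan : ⊤ ≤ Submodule.span K (Set.range w) := by
        have h1 : Set.range w = TensorProduct.mk R K M' 1 '' Set.range v := by
          rw [← Set.range_comp]
          rfl
        rw [h1, ← Submodule.baseChange_span, hspan, Submodule.baseChange_top]
      have hq'p : q'.comap (algebraMap A R) ≤ p := by
        have h1 : q' ≤ IsLocalRing.maximalIdeal R := IsLocalRing.le_maximalIdeal this.ne_top
        have h2 := Ideal.comap_mono (f := algebraMap A R) h1
        rwa [show Ideal.comap (algebraMap A R) (IsLocalRing.maximalIdeal R) = p from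
          IsLocalization.AtPrime.under_maximalIdeal R p] at h2
      have hrank : Module.finrank K (K ⊗[R] M') = Fintype.card ι := by
        rw [hcard, finrank_tensor_tensor R K (q'.comap (algebraMap A R))
          (by rw [Ideal.ker_algebraMap_residueField])]
        have hsp : (⟨q'.comap (algebraMap A R), inferInstance⟩ : PrimeSpectrum A) ⤳
            ⟨p, inferInstance⟩ := by
          rw [← PrimeSpectrum.le_iff_specializes]
          exact hq'p
        exact (hsp.map h.continuous).eq
      have hwli : LinearIndependent K w :=
        linearIndependent_of_top_le_span_of_card_eq_finrank hwspan hrank.symm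
      have hsum : ∑ j, algebraMap R K (g j) • w j = 0 := by
        have h1 := congrArg (TensorProduct.mk R K M' 1) hg
        rw [map_sum, map_zero] at h1
        rw [← h1]
        refine Finset.sum_congr rfl (fun j _ => ?_)
        rw [TensorProduct.mk_apply, TensorProduct.tmul_smul, TensorProduct.smul_tmul',
          TensorProduct.smul_tmul', Algebra.smul_def (g j) (1 : K), mul_one, smul_eq_mul, mul_one]
      have h0 := Fintype.linearIndependent_iff.mp hwli _ hsum i
      rwa [← RingHom.mem_ker, Ideal.ker_algebraMap_residueField] at h0
    rwa [nilradical_eq_zero, Ideal.zero_eq_bot, Ideal.mem_bot] at hnil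
  exact Module.Free.of_basis (Module.Basis.mk hli hspan.ge)

/-- Over a reduced ring, a finitely presented module with locally constant fibre rank is
projective. -/
theorem projective_of_isLocallyConstant [IsReduced A] [Module.FinitePresentation A M]
    (h : IsLocallyConstant (fibreRank A M)) : Module.Projective A M := by
  refine Module.projective_of_localization_maximal' (fun m _ => Localization.AtPrime m)
    (fun m _ => Localization.AtPrime m ⊗[A] M)
    (fun m _ => TensorProduct.mk A (Localization.AtPrime m) M 1) ?_
  intro m hm
  have := free_localization_of_isLocallyConstant h m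
  infer_instance

end

end Groth.Agent.H73.ReducedProj
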