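import Mathlib
import Groth.Agent.H73.FibreRank
import Groth.Agent.H73.ReducedProj
import Groth.Agent.H73.FlatQis

/-!
# Locally constant kernel rank over a reduced Noetherian ring
-/

set_option autoImplicit false

universe u v

namespace Groth.Agent.H73.KerRank

open TensorProduct

variable {A : Type u} [CommRing A] {M F : Type v} [AddCommGroup M] [Module A M]
  [Module.Finite A M] [AddCommGroup F] [Module A F] [Module.Finite A F] [Module.Free A F]
  (δ : M →ₗ[A] F)

theorem isLocallyConstant_fibreRank (h : IsLocallyConstant (fun x : PrimeSpectrum A =>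
      Module.finrank x.asIdeal.ResidueField
        (LinearMap.ker (δ.baseChange x.asIdeal.ResidueField)))) :
    IsLocallyConstant (ReducedProj.fibreRank A M) ∧
      IsLocallyConstant (ReducedProj.fibreRank A (F ⧸ LinearMap.range δ)) := by
  rw [IsLocallyConstant.iff_eventually_eq] at h
  rw [IsLocallyConstant.iff_eventually_eq, IsLocallyConstant.iff_eventually_eq]
  have key : ∀ x : PrimeSpectrum A, ∀ᶠ y in nhds x,
      ReducedProj.fibreRank A M y = ReducedProj.fibreRank A M x ∧
      ReducedProj.fibreRank A (F ⧸ LinearMap.range δ) y =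
        ReducedProj.fibreRank A (F ⧸ LinearMap.range δ) x := by
    intro x
    have hM := eventually_finrank_residueField_tensor_le (M := M) x
    have hC := eventually_finrank_residueField_tensor_le (M := F ⧸ LinearMap.range δ) x
    have : Nontrivial A := ⟨⟨0, 1, fun h0 => x.2.ne_top ((Ideal.eq_top_iff_one _).mpr
      (by rw [← h0]; exact zero_mem _))⟩⟩
    filter_upwards [hM, hC, h x] with y h1 h2 h3
    have e := finrank_ker_baseChange_add δ x.asIdeal.ResidueField
    have e' := finrank_ker_baseChange_add δ y.asIdeal.ResidueField
    simp only [ReducedProj.fibreRank] at h3 ⊢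
    omega
  exact ⟨fun x => (key x).mono (fun y hy => hy.1), fun x => (key x).mono (fun y hy => hy.2)⟩

theorem main [IsNoetherianRing A] [IsReduced A]
    (h : IsLocallyConstant (fun x : PrimeSpectrum A =>
      Module.finrank x.asIdeal.ResidueField
        (LinearMap.ker (δ.baseChange x.asIdeal.ResidueField)))) :
    Module.Projective A M ∧ Module.Projective A (LinearMap.ker δ) ∧
      Module.Projective A (F ⧸ LinearMap.range δ) ∧
      ∀ (N : Type v) [AddCommGroup N] [Module A N],
        Function.Injective (LinearMap.rTensor N (LinearMap.ker δ).subtype) ∧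
        Function.Exact (LinearMap.rTensor N (LinearMap.ker δ).subtype)
          (LinearMap.rTensor N δ) := by
  obtain ⟨hM, hC⟩ := isLocallyConstant_fibreRank δ h
  have : Module.FinitePresentation A M := Module.finitePresentation_of_finite A M
  have : Module.FinitePresentation A (F ⧸ LinearMap.range δ) :=
    Module.finitePresentation_of_finite A _
  have pM : Module.Projective A M := ReducedProj.projective_of_isLocallyConstant hM
  have pC : Module.Projective A (F ⧸ LinearMap.range δ) :=
    ReducedProj.projective_of_isLocallyConstant hC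
  -- `range δ` is a direct summand of `F`
  obtain ⟨σ, hσ⟩ := Module.projective_lifting_property (LinearMap.range δ).mkQ LinearMap.id
    (Submodule.mkQ_surjective _)
  have hσ' : ∀ c, (LinearMap.range δ).mkQ (σ c) = c := fun c => LinearMap.congr_fun hσ c
  let e : F →ₗ[A] F := LinearMap.id - σ ∘ₗ (LinearMap.range δ).mkQ
  have he : ∀ x, e x ∈ LinearMap.range δ := by
    intro x
    have h1 : e x ∈ LinearMap.ker (LinearMap.range δ).mkQ := by
      rw [LinearMap.mem_ker, LinearMap.sub_apply,
        map_sub, LinearMap.comp_apply, hσ', LinearMap.id_apply, sub_self]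
    rwa [Submodule.ker_mkQ] at h1
  let ρ : F →ₗ[A] LinearMap.range δ := e.codRestrict (LinearMap.range δ) he
  have hρ : ρ ∘ₗ (LinearMap.range δ).subtype = LinearMap.id := by
    ext y
    have h0 : (LinearMap.range δ).mkQ (y : F) = 0 := by
      rw [← LinearMap.mem_ker, Submodule.ker_mkQ]
      exact y.2
    simp [ρ, e, h0]
  have pR : Module.Projective A (LinearMap.range δ) :=
    Module.Projective.of_split (LinearMap.range δ).subtype ρ hρ
  -- `ker δ` is a direct summand of `M`
  obtain ⟨τ, hτ⟩ := Module.projective_lifting_property δ.rangeRestrict LinearMap.id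
    δ.surjective_rangeRestrict
  have hτ' : ∀ c, δ.rangeRestrict (τ c) = c := fun c => LinearMap.congr_fun hτ c
  let e' : M →ₗ[A] M := LinearMap.id - τ ∘ₗ δ.rangeRestrict
  have he' : ∀ x, e' x ∈ LinearMap.ker δ := by
    intro x
    have h1 : δ (τ (δ.rangeRestrict x)) = δ x := by
      have := congrArg Subtype.val (hτ' (δ.rangeRestrict x))
      simpa using this
    rw [LinearMap.mem_ker, LinearMap.sub_apply, map_sub, LinearMap.comp_apply,
      LinearMap.id_apply, h1, sub_self]
  let ρ' : M →ₗ[A] LinearMap.ker δ := e'.codRestrict (LinearMap.ker δ) he'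
  have hρ' : ρ' ∘ₗ (LinearMap.ker δ).subtype = LinearMap.id := by
    ext y
    have h0 : δ.rangeRestrict (y : M) = 0 := by
      apply Subtype.ext
      simp
    simp [ρ', e', h0]
  have pK : Module.Projective A (LinearMap.ker δ) :=
    Module.Projective.of_split (LinearMap.ker δ).subtype ρ' hρ'
  refine ⟨pM, pK, pC, fun N _ _ => ⟨?_, ?_⟩⟩
  · have hl : Function.LeftInverse (LinearMap.rTensor N ρ')
        (LinearMap.rTensor N (LinearMap.ker δ).subtype) := by
      intro z
      rw [← LinearMap.comp_apply, ← LinearMap.rTensor_comp, hρ', LinearMap.rTensor_id,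
        LinearMap.id_apply]
    exact hl.injective
  · have : Module.Flat A (LinearMap.range (LinearMap.range δ).mkQ) := by
      rw [Submodule.range_mkQ]
      exact Module.Flat.of_linearEquiv Submodule.topEquiv
    refine FlatQis.exact_rTensor_of_flat_range (LinearMap.ker δ).subtype δ
      (LinearMap.range δ).mkQ ?_ ?_ N
    · exact LinearMap.exact_subtype_ker_map δ
    · exact LinearMap.exact_map_mkQ_range δ

end Groth.Agent.H73.KerRank
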