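import Mathlib

/-!
# Maximal Kummer level and `p^n`-th powers modulo the uniformizer

Elementary lemmas on binomial coefficients `choose (p^n) i` and the expansions of
`(1 + π^j T)^(p^n)`, and the main descent argument.
-/

set_option autoImplicit false

open Polynomial

namespace Groth.Agent.H73.KummerLevel

/-- The basic numerical inequality. -/
theorem core_ineq {p n s : ℕ} (hp : 2 ≤ p) (hs : s < n) :
    p ^ n ≤ (n - s) * (p ^ (n - 1) * (p - 1)) + p ^ s := by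
  obtain ⟨k, rfl⟩ : ∃ k, n = k + 1 := ⟨n - 1, by omega⟩
  obtain ⟨q, rfl⟩ : ∃ q, p = q + 1 := ⟨p - 1, by omega⟩
  have hq : 1 ≤ q := by omega
  simp only [Nat.add_sub_cancel]
  rcases Nat.lt_or_ge s k with h | h
  · have h2 : 2 ≤ k + 1 - s := by omega
    have h3 : (q + 1) ^ (k + 1) ≤ 2 * ((q + 1) ^ k * q) := by
      rw [pow_succ]
      have : 0 < (q + 1) ^ k := by positivity
      nlinarith
    calc (q + 1) ^ (k + 1) ≤ 2 * ((q + 1) ^ k * q) := h3
      _ ≤ (k + 1 - s) * ((q + 1) ^ k * q) := Nat.mul_le_mul_right _ h2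
      _ ≤ _ := Nat.le_add_right _ _
  · have : s = k := by omega
    subst this
    have : s + 1 - s = 1 := by omega
    rw [this, pow_succ]
    ring_nf
    exact le_refl _

/-- `p^(n-s)` divides `choose (p^n) (p^s * i')` when `p ∤ i'`. -/
theorem pow_dvd_choose {p : ℕ} (hp : p.Prime) {n s i' : ℕ} (hi' : ¬ p ∣ i')
    (_hle : p ^ s * i' ≤ p ^ n) (hsn : s ≤ n) :
    p ^ (n - s) ∣ Nat.choose (p ^ n) (p ^ s * i') := by
  have hi0 : p ^ s * i' ≠ 0 := by
    intro h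
    rcases Nat.mul_eq_zero.mp h with h | h
    · exact (pow_pos hp.pos s).ne' h
    · exact hi' (h ▸ dvd_zero p)
  obtain ⟨k, hk⟩ : ∃ k, p ^ s * i' = k + 1 := ⟨p ^ s * i' - 1, by omega⟩
  obtain ⟨N, hN⟩ : ∃ N, p ^ n = N + 1 := ⟨p ^ n - 1, by have := pow_pos hp.pos n; omega⟩
  have h1 := Nat.add_one_mul_choose_eq N k
  rw [← hN, ← hk] at h1
  -- p^n * choose N k = choose (p^n) i * i
  have h2 : p ^ s * p ^ (n - s) ∣ p ^ s * (Nat.choose (p ^ n) (p ^ s * i') * i') := by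
    rw [← pow_add, Nat.add_sub_cancel' hsn]
    refine ⟨Nat.choose N k, ?_⟩
    rw [h1]; ring
  have h3 : p ^ (n - s) ∣ Nat.choose (p ^ n) (p ^ s * i') * i' :=
    Nat.dvd_of_mul_dvd_mul_left (pow_pos hp.pos s) h2
  exact Nat.Coprime.dvd_of_dvd_mul_right
    (Nat.Coprime.pow_left _ ((Nat.Prime.coprime_iff_not_dvd hp).mpr hi')) h3

variable {A : Type*} [CommRing A]

/-- Common part: `π^(E*(n-s))` divides `choose (p^n) i` in `A`. -/
theorem pow_dvd_choose_cast {p : ℕ} (hp : p.Prime) {π : A} {E : ℕ} (hE : π ^ E ∣ (p : A))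
    {n s i' : ℕ} (hi' : ¬ p ∣ i') (hle : p ^ s * i' ≤ p ^ n) (hsn : s ≤ n) :
    π ^ (E * (n - s)) ∣ ((Nat.choose (p ^ n) (p ^ s * i') : ℕ) : A) := by
  have h1 : ((p ^ (n - s) : ℕ) : A) ∣ ((Nat.choose (p ^ n) (p ^ s * i') : ℕ) : A) :=
    Nat.cast_dvd_cast (pow_dvd_choose hp hi' hle hsn)
  refine dvd_trans ?_ h1
  rw [Nat.cast_pow, pow_mul]
  exact pow_dvd_pow_of_dvd hE _

/-- Divisibility (b): `π^(a p^n) ∣ choose (p^n) i * π^(a i)` for `0 < i ≤ p^n`. -/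
theorem dvd_b {p : ℕ} (hp : p.Prime) {π : A} {n a : ℕ} (_hn : 0 < n)
    (hE : π ^ (p ^ (n - 1) * (p - 1) * a) ∣ (p : A)) {i : ℕ} (hi0 : 0 < i) (hi : i ≤ p ^ n) :
    π ^ (a * p ^ n) ∣ ((Nat.choose (p ^ n) i : ℕ) : A) * π ^ (a * i) := by
  obtain ⟨s, i', hi', rfl⟩ := Nat.exists_eq_pow_mul_and_not_dvd hi0.ne' p hp.ne_one
  have hi'0 : 0 < i' := Nat.pos_of_ne_zero (fun h => hi' (h ▸ dvd_zero p))
  have hps : p ^ s ≤ p ^ s * i' := Nat.le_mul_of_pos_right _ hi'0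
  have hsn : s ≤ n := (Nat.pow_le_pow_iff_right hp.one_lt).mp (hps.trans hi)
  rcases Nat.lt_or_ge s n with hlt | hge
  · have h1 := pow_dvd_choose_cast hp hE hi' hi hsn
    have h2 : π ^ (p ^ (n - 1) * (p - 1) * a * (n - s) + a * (p ^ s * i')) ∣
        ((Nat.choose (p ^ n) (p ^ s * i') : ℕ) : A) * π ^ (a * (p ^ s * i')) := by
      rw [pow_add]
      exact mul_dvd_mul h1 dvd_rfl
    refine dvd_trans (pow_dvd_pow _ ?_) h2
    have h3 := core_ineq hp.two_le hlt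
    calc a * p ^ n ≤ a * ((n - s) * (p ^ (n - 1) * (p - 1)) + p ^ s) := Nat.mul_le_mul_left _ h3
      _ = p ^ (n - 1) * (p - 1) * a * (n - s) + a * p ^ s := by ring
      _ ≤ _ := by
        have : a * p ^ s ≤ a * (p ^ s * i') := Nat.mul_le_mul_left _ hps
        omega
  · have hs : s = n := le_antisymm hsn hge
    subst hs
    have : i' = 1 := by
      have : s = s := rfl
      have h4 : p ^ s * i' ≤ p ^ s * 1 := by simpa using hi
      have := Nat.le_of_mul_le_mul_left h4 (pow_pos hp.pos s)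
      omega
    subst this
    simp

/-- Divisibility (a): `π^(j p^n + 1) ∣ choose (p^n) i * π^(j i)` for `0 < i < p^n`. -/
theorem dvd_a {p : ℕ} (hp : p.Prime) {π : A} {n j : ℕ} (_hn : 0 < n)
    (hE : π ^ (p ^ (n - 1) * (p - 1) * (j + 1)) ∣ (p : A)) {i : ℕ} (hi0 : 0 < i)
    (hi : i < p ^ n) :
    π ^ (j * p ^ n + 1) ∣ ((Nat.choose (p ^ n) i : ℕ) : A) * π ^ (j * i) := by
  obtain ⟨s, i', hi', rfl⟩ := Nat.exists_eq_pow_mul_and_not_dvd hi0.ne' p hp.ne_one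
  have hi'0 : 0 < i' := Nat.pos_of_ne_zero (fun h => hi' (h ▸ dvd_zero p))
  have hps : p ^ s ≤ p ^ s * i' := Nat.le_mul_of_pos_right _ hi'0
  have hlt : s < n := (Nat.pow_lt_pow_iff_right hp.one_lt).mp (lt_of_le_of_lt hps hi)
  have h1 := pow_dvd_choose_cast hp hE hi' hi.le hlt.le
  have h2 : π ^ (p ^ (n - 1) * (p - 1) * (j + 1) * (n - s) + j * (p ^ s * i')) ∣
      ((Nat.choose (p ^ n) (p ^ s * i') : ℕ) : A) * π ^ (j * (p ^ s * i')) := by
    rw [pow_add]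
    exact mul_dvd_mul h1 dvd_rfl
  refine dvd_trans (pow_dvd_pow _ ?_) h2
  have h3 := core_ineq hp.two_le hlt
  have h5 : 1 ≤ (n - s) * (p ^ (n - 1) * (p - 1)) := by
    have h6 : 0 < n - s := by omega
    have h7 : 0 < p ^ (n - 1) := pow_pos hp.pos _
    have h8 : 0 < p - 1 := by have := hp.two_le; omega
    exact Nat.mul_pos h6 (Nat.mul_pos h7 h8)
  calc j * p ^ n + 1 ≤ j * ((n - s) * (p ^ (n - 1) * (p - 1)) + p ^ s) +
        (n - s) * (p ^ (n - 1) * (p - 1)) := by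
          have := Nat.mul_le_mul_left j h3
          omega
    _ = p ^ (n - 1) * (p - 1) * (j + 1) * (n - s) + j * p ^ s := by ring
    _ ≤ _ := by
      have : j * p ^ s ≤ j * (p ^ s * i') := Nat.mul_le_mul_left _ hps
      omega

/-- Coefficients of `(1 + C a * X)^m`. -/
theorem coeff_one_add_C_mul_X_pow (a : A) (m i : ℕ) :
    ((1 + C a * X : A[X]) ^ m).coeff i = (Nat.choose m i : A) * a ^ i := by
  have : (1 + C a * X : A[X]) ^ m = ((1 + X : A[X]) ^ m).comp (C a * X) := by simp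
  rw [this, comp_C_mul_X_coeff, coeff_one_add_X_pow]

/-- Expansion (a): `(1 + π^j X)^(p^n) = 1 + π^(j p^n) X^(p^n) + π^(j p^n + 1) Q` with
`deg Q < p^n`. -/
theorem exists_expansion_a [IsDomain A] {p : ℕ} (hp : p.Prime) {π : A} (hπ : π ≠ 0) {n j : ℕ}
    (hn : 0 < n) (hE : π ^ (p ^ (n - 1) * (p - 1) * (j + 1)) ∣ (p : A)) :
    ∃ Q : A[X], Q.degree < (p ^ n : ℕ) ∧
      (1 + C (π ^ j) * X : A[X]) ^ (p ^ n) =
        1 + C (π ^ (j * p ^ n)) * X ^ (p ^ n) + C (π ^ (j * p ^ n + 1)) * Q := by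
  set m := p ^ n with hm
  have hm0 : 0 < m := pow_pos hp.pos n
  set F : A[X] := (1 + C (π ^ j) * X : A[X]) ^ m - 1 - C (π ^ (j * m)) * X ^ m with hF
  have hcoeff : ∀ i, F.coeff i = (Nat.choose m i : A) * (π ^ j) ^ i - (if i = 0 then 1 else 0)
      - (if i = m then π ^ (j * m) else 0) := by
    intro i
    rw [hF, coeff_sub, coeff_sub, coeff_one_add_C_mul_X_pow, coeff_one, coeff_C_mul, coeff_X_pow]
    simp only [mul_ite, mul_one, mul_zero]
  have hdvd : C (π ^ (j * m + 1)) ∣ F := by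
    rw [C_dvd_iff_dvd_coeff]
    intro i
    rw [hcoeff]
    rcases Nat.eq_zero_or_pos i with rfl | hi0
    · simp [hm0.ne]
    rcases lt_trichotomy i m with hlt | rfl | hgt
    · rw [if_neg hi0.ne', if_neg hlt.ne, sub_zero, sub_zero, ← pow_mul]
      exact dvd_a hp hn hE hi0 hlt
    · rw [if_neg hm0.ne', if_pos rfl, Nat.choose_self, ← pow_mul]
      simp
    · rw [if_neg hi0.ne', if_neg hgt.ne', Nat.choose_eq_zero_of_lt hgt]
      simp
  obtain ⟨Q, hQ⟩ := hdvd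
  refine ⟨Q, ?_, ?_⟩
  · have hFdeg : F.degree < (m : ℕ) := by
      rw [degree_lt_iff_coeff_zero]
      intro i hi
      rw [hcoeff]
      rcases hi.eq_or_lt with rfl | hgt
      · rw [if_neg hm0.ne', if_pos rfl, Nat.choose_self, ← pow_mul]
        simp
      · rw [if_neg (by omega), if_neg hgt.ne', Nat.choose_eq_zero_of_lt hgt]
        simp
    rwa [hQ, degree_C_mul (pow_ne_zero _ hπ)] at hFdeg
  · rw [← hQ, hF]
    ring

/-- Expansion (b): `(1 + π^(j+1) X)^(p^n) = 1 + π^((j+1) p^n) P`. -/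
theorem exists_expansion_b {p : ℕ} (hp : p.Prime) {π : A} {n a : ℕ}
    (hn : 0 < n) (hE : π ^ (p ^ (n - 1) * (p - 1) * a) ∣ (p : A)) :
    ∃ P : A[X], (1 + C (π ^ a) * X : A[X]) ^ (p ^ n) = 1 + C (π ^ (a * p ^ n)) * P := by
  set m := p ^ n with hm
  have hm0 : 0 < m := pow_pos hp.pos n
  have hdvd : C (π ^ (a * m)) ∣ (1 + C (π ^ a) * X : A[X]) ^ m - 1 := by
    rw [C_dvd_iff_dvd_coeff]
    intro i
    rw [coeff_sub, coeff_one_add_C_mul_X_pow, coeff_one]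
    rcases Nat.eq_zero_or_pos i with rfl | hi0
    · simp
    rcases Nat.lt_or_ge m i with hgt | hle
    · rw [if_neg hi0.ne', Nat.choose_eq_zero_of_lt hgt]
      simp
    · rw [if_neg hi0.ne', sub_zero, ← pow_mul]
      exact dvd_b hp hn hE hi0 hle
  obtain ⟨P, hP⟩ := hdvd
  exact ⟨P, by rw [← hP]; ring⟩

end Groth.Agent.H73.KummerLevel
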