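import Mathlib
import Groth.Agent.H73.KummerLevel

/-!
# Maximal Kummer level: the main descent argument
-/

set_option autoImplicit false

open Polynomial

namespace Groth.Agent.H73.KummerLevel

/-- Auxiliary form with explicit fraction fields. -/
theorem exists_algebraMap_eq_of_isIntegral_of_mul_aux {A L K KL : Type*} [CommRing A] [IsDomain A]
    [IsIntegrallyClosed A] [CommRing L] [IsDomain L] [Algebra A L]
    [Field K] [Algebra A K] [IsFractionRing A K] [Field KL] [Algebra L KL] [IsFractionRing L KL]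
    (hinj : Function.Injective (algebraMap A L)) {b : L} (hb : IsIntegral A b) {d a : A}
    (hd : d ≠ 0) (hda : algebraMap A L d * b = algebraMap A L a) :
    ∃ a' : A, algebraMap A L a' = b := by
  let g : A →+* KL := (algebraMap L KL).comp (algebraMap A L)
  have hg : Function.Injective g :=
    (IsFractionRing.injective L KL).comp hinj
  let φ : K →+* KL := IsFractionRing.lift hg
  have hφ : φ.comp (algebraMap A K) = g :=
    RingHom.ext fun x => IsFractionRing.lift_algebraMap hg x
  have hdK : algebraMap A K d ≠ 0 := by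
    rwa [Ne, IsFractionRing.to_map_eq_zero_iff]
  let β : K := algebraMap A K a / algebraMap A K d
  obtain ⟨Φ, hΦm, hΦ⟩ := hb
  have hgd : g d ≠ 0 := by
    rw [Ne, map_eq_zero_iff g hg]; exact hd
  have h1 : φ β = algebraMap L KL b := by
    have h2 : φ β = g a / g d := by
      rw [← hφ]
      simp only [β, map_div₀, RingHom.comp_apply]
    rw [h2, div_eq_iff hgd]
    simp only [g, RingHom.comp_apply]
    rw [← hda, map_mul, mul_comm]
  have hβ : IsIntegral A β := by
    refine ⟨Φ, hΦm, ?_⟩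
    apply φ.injective
    rw [map_zero, Polynomial.hom_eval₂, hφ, h1]
    have h3 : Polynomial.eval₂ g (algebraMap L KL b) Φ =
        algebraMap L KL (Polynomial.eval₂ (algebraMap A L) b Φ) := by
      rw [Polynomial.hom_eval₂]
    rw [h3, hΦ, map_zero]
  obtain ⟨a', ha'⟩ := (IsIntegrallyClosed.isIntegral_iff (R := A) (K := K)).mp hβ
  refine ⟨a', ?_⟩
  have h4 : a' * d = a := by
    apply IsFractionRing.injective A K
    rw [map_mul, ha']
    exact div_mul_cancel₀ _ hdK
  have h5 : algebraMap A L d * algebraMap A L a' = algebraMap A L d * b := by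
    rw [hda, ← h4, map_mul, mul_comm]
  have hdL : algebraMap A L d ≠ 0 := by
    rw [Ne, map_eq_zero_iff _ hinj]; exact hd
  exact mul_left_cancel₀ hdL h5

/-- If `A` is an integrally closed domain inside a domain `L`, `b ∈ L` is integral over `A` and
`d * b ∈ A` for some nonzero `d ∈ A`, then `b ∈ A`. -/
theorem exists_algebraMap_eq_of_isIntegral_of_mul {A L : Type*} [CommRing A] [IsDomain A]
    [IsIntegrallyClosed A] [CommRing L] [IsDomain L] [Algebra A L]
    (hinj : Function.Injective (algebraMap A L)) {b : L} (hb : IsIntegral A b) {d a : A}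
    (hd : d ≠ 0) (hda : algebraMap A L d * b = algebraMap A L a) :
    ∃ a' : A, algebraMap A L a' = b :=
  exists_algebraMap_eq_of_isIntegral_of_mul_aux (K := FractionRing A) (KL := FractionRing L)
    hinj hb hd hda

/-- The main descent argument. -/
theorem main {A L : Type*} [CommRing A] [IsDomain A] [IsIntegrallyClosed A]
    [CommRing L] [IsDomain L] [Algebra A L] (hinj : Function.Injective (algebraMap A L))
    (p : ℕ) [hpf : Fact p.Prime] (π : A) (hπ0 : π ≠ 0) (hπu : IsUnit (algebraMap A L π))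
    (n : ℕ) (hn : 0 < n)
    (hlift : ∀ a : A, IsUnit (Ideal.Quotient.mk (Ideal.span {π}) a) → IsUnit a)
    (f g : Aˣ) (j : ℕ) (hj : π ^ (p ^ (n - 1) * (p - 1) * (j + 1)) ∣ (p : A)) (f₀ : A)
    (hfg : (f : A) * (g : A) ^ (p ^ n) = 1 + π ^ (j * p ^ n) * f₀)
    (hmax : ∀ (g' : Aˣ) (c : A), (f : A) * (g' : A) ^ (p ^ n) ≠ 1 + π ^ ((j + 1) * p ^ n) * c)
    (Z : L) (hZ : Z ^ (p ^ n) = algebraMap A L f)
    (hred : (Ideal.span {algebraMap A (integralClosure A L) π}).IsRadical)
    (g₀ : A) : f₀ - g₀ ^ (p ^ n) ∉ Ideal.span {π} := by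
  have hp : p.Prime := hpf.out
  set m := p ^ n with hm
  have hm0 : 0 < m := pow_pos hp.pos n
  intro hmem
  obtain ⟨c, hc⟩ := Ideal.mem_span_singleton'.mp hmem
  -- Part 1: improve `g`
  obtain ⟨Q, hQdeg, hQ⟩ := exists_expansion_a hp hπ0 hn hj
  set h : A := 1 + π ^ j * g₀ with hh
  set q : A := Q.eval g₀ with hq
  have hexp1 : h ^ m = 1 + π ^ (j * m) * g₀ ^ m + π ^ (j * m + 1) * q := by
    have := congrArg (Polynomial.eval g₀) hQ
    simpa using this
  have hf₀ : f₀ = g₀ ^ m + c * π := by rw [hc]; ring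
  have hfg' : (f : A) * (g : A) ^ m = h ^ m + π ^ (j * m + 1) * (c - q) := by
    rw [hfg, hexp1, hf₀]; ring
  have hhu : IsUnit h := by
    apply hlift
    have h1 : Ideal.Quotient.mk (Ideal.span {π}) (h ^ m) =
        Ideal.Quotient.mk (Ideal.span {π}) ((f : A) * (g : A) ^ m) := by
      rw [hfg', map_add, left_eq_add, Ideal.Quotient.eq_zero_iff_mem, pow_succ, mul_assoc]
      exact Ideal.mul_mem_left _ _ (Ideal.mul_mem_right _ _ (Ideal.mem_span_singleton_self π))
    have h2 : IsUnit (Ideal.Quotient.mk (Ideal.span {π}) (h ^ m)) := by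
      rw [h1]
      exact ((f.isUnit.mul (g.isUnit.pow m))).map _
    rw [map_pow] at h2
    exact (isUnit_pow_iff hm0.ne').mp h2
  obtain ⟨hu, hhu'⟩ := hhu
  set g' : Aˣ := g * hu⁻¹ with hg'
  set c₂ : A := (c - q) * ((hu⁻¹ : Aˣ) : A) ^ m with hc₂
  have hfg'' : (f : A) * (g' : A) ^ m = 1 + π ^ (j * m + 1) * c₂ := by
    have h3 : ((hu : A) * ((hu⁻¹ : Aˣ) : A)) ^ m = 1 := by
      rw [← Units.val_mul, mul_inv_cancel, Units.val_one, one_pow]
    calc (f : A) * (g' : A) ^ m = ((f : A) * (g : A) ^ m) * ((hu⁻¹ : Aˣ) : A) ^ m := by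
          rw [hg', Units.val_mul, mul_pow]; ring
      _ = (h ^ m + π ^ (j * m + 1) * (c - q)) * ((hu⁻¹ : Aˣ) : A) ^ m := by rw [hfg']
      _ = ((hu : A) * ((hu⁻¹ : Aˣ) : A)) ^ m + π ^ (j * m + 1) * c₂ := by
          rw [hhu', hc₂]; ring_nf
      _ = _ := by rw [h3]
  -- Part 2: the element `W`
  set πL : L := algebraMap A L π with hπL
  obtain ⟨u, hu1⟩ := hπu
  have huL : (u : L) = πL := hu1
  set y : L := Z * algebraMap A L g' with hy
  have hym : y ^ m = 1 + πL ^ (j * m + 1) * algebraMap A L c₂ := by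
    rw [hy, mul_pow, hZ, ← map_pow, ← map_mul, hfg'']
    simp [hπL]
  set W : L := (y - 1) * ((u⁻¹ : Lˣ) : L) ^ j with hW
  have hyW : y = 1 + πL ^ j * W := by
    rw [hW, ← huL]
    have : (u : L) ^ j * ((u⁻¹ : Lˣ) : L) ^ j = 1 := by
      rw [← mul_pow, ← Units.val_mul, mul_inv_cancel, Units.val_one, one_pow]
    calc y = 1 + (y - 1) * ((u : L) ^ j * ((u⁻¹ : Lˣ) : L) ^ j) := by rw [this]; ring
      _ = _ := by ring
  have hexp2 : (1 + πL ^ j * W) ^ m =
      1 + πL ^ (j * m) * W ^ m + πL ^ (j * m + 1) * Polynomial.aeval W Q := by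
    have := congrArg (Polynomial.aeval W) hQ
    simpa [hπL] using this
  have hπL0 : πL ≠ 0 := by
    rw [hπL, Ne, map_eq_zero_iff _ hinj]; exact hπ0
  have hWeq : W ^ m = πL * (algebraMap A L c₂ - Polynomial.aeval W Q) := by
    have h4 : πL ^ (j * m) * W ^ m =
        πL ^ (j * m) * (πL * (algebraMap A L c₂ - Polynomial.aeval W Q)) := by
      have h5 := hym
      rw [hyW, hexp2] at h5
      have h6 : πL ^ (j * m) * W ^ m = πL ^ (j * m + 1) * algebraMap A L c₂ -
          πL ^ (j * m + 1) * Polynomial.aeval W Q := by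
        linear_combination h5
      rw [h6, pow_succ]; ring
    exact mul_left_cancel₀ (pow_ne_zero _ hπL0) h4
  have hWint : IsIntegral A W := by
    refine ⟨X ^ m + (C π * Q - C (π * c₂)), monic_X_pow_add ?_, ?_⟩
    · refine lt_of_le_of_lt (degree_sub_le _ _) (max_lt ?_ ?_)
      · exact lt_of_le_of_lt (degree_C_mul hπ0).le hQdeg
      · exact lt_of_le_of_lt degree_C_le (by exact_mod_cast hm0)
    · rw [← Polynomial.aeval_def]
      simp only [map_add, map_sub, map_mul, map_pow, aeval_X, aeval_C]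
      rw [hWeq, ← hπL]; ring
  -- Part 3: `W ∈ π B`
  set B := integralClosure A L with hB
  set πB : B := algebraMap A B π with hπB
  have hπBL : (πB : L) = πL := rfl
  let Wb : B := ⟨W, hWint⟩
  have hWb : Wb ^ m ∈ Ideal.span {πB} := by
    rw [Ideal.mem_span_singleton']
    refine ⟨algebraMap A B c₂ - Polynomial.aeval Wb Q, ?_⟩
    apply Subtype.ext
    have h7 : ((Polynomial.aeval Wb Q : B) : L) = Polynomial.aeval W Q := by
      rw [← Subalgebra.coe_val, ← Polynomial.aeval_algHom_apply]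
      rfl
    rw [Subalgebra.coe_mul, Subalgebra.coe_sub, h7, Subalgebra.coe_pow]
    change (algebraMap A L c₂ - _) * πL = W ^ m
    rw [hWeq]; ring
  have hWb' : Wb ∈ Ideal.span {πB} := hred ⟨m, hWb⟩
  obtain ⟨W', hW'⟩ := Ideal.mem_span_singleton'.mp hWb'
  -- Part 4: expansion (b) in `B`
  have hjB : πB ^ (p ^ (n - 1) * (p - 1) * (j + 1)) ∣ (p : B) := by
    have := map_dvd (algebraMap A B) hj
    simpa [hπB] using this
  obtain ⟨P, hP⟩ := exists_expansion_b (A := B) hp hn hjB
  have hexp3 : (1 + πB ^ (j + 1) * W') ^ m = 1 + πB ^ ((j + 1) * m) * Polynomial.eval W' P := by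
    have := congrArg (Polynomial.eval W') hP
    simpa using this
  have hyB : y = ((1 + πB ^ (j + 1) * W' : B) : L) := by
    rw [hyW]
    have : W = ((W' * πB : B) : L) := by rw [hW']
    rw [this]
    push_cast
    rw [hπBL]; ring
  set b : B := Polynomial.eval W' P with hb
  have hfin : algebraMap A L (π ^ ((j + 1) * m)) * (b : L) =
      algebraMap A L ((f : A) * (g' : A) ^ m - 1) := by
    have h8 : y ^ m = algebraMap A L ((f : A) * (g' : A) ^ m) := by
      rw [hy, mul_pow, hZ, map_mul, map_pow]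
    have h9 : y ^ m = ((1 + πB ^ ((j + 1) * m) * b : B) : L) := by
      rw [hyB, ← Subalgebra.coe_pow, hexp3]
    rw [map_sub, map_one, ← h8, h9, Subalgebra.coe_add, Subalgebra.coe_one, Subalgebra.coe_mul,
      Subalgebra.coe_pow, hπBL, map_pow, ← hπL]
    ring
  obtain ⟨a', ha'⟩ := exists_algebraMap_eq_of_isIntegral_of_mul hinj b.2
    (pow_ne_zero ((j + 1) * m) hπ0) hfin
  refine hmax g' a' ?_
  apply hinj
  have : algebraMap A L ((f : A) * (g' : A) ^ m) =
      algebraMap A L ((f : A) * (g' : A) ^ m - 1) + 1 := by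
    rw [map_sub, map_one]; ring
  rw [this, ← hfin, ← ha']
  simp only [map_add, map_mul, map_one, map_pow]
  ring

end Groth.Agent.H73.KummerLevel
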