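import Mathlib
import Groth.Agent.H15.LenRank

/-!
# Lattices over a one-dimensional Noetherian domain
-/

set_option autoImplicit false
set_option linter.style.haveILetI false
set_option linter.unusedSectionVars false

open Function

namespace Groth.Agent.H73.LatticeDimOne

open Groth.Agent.H15.Len Submodule

variable {R K V : Type*} [CommRing R] [IsDomain R] [Field K] [Algebra R K] [IsFractionRing R K]
  [AddCommGroup V] [Module K V] [Module R V] [IsScalarTower R K V]

/-- Clearing denominators: if `M` spans `V` over `K`, every vector has a nonzero multiple in `M`. -/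
theorem exists_smul_mem_of_span_eq_top (M : Submodule R V)
    (hM : Submodule.span K (M : Set V) = ⊤) (v : V) : ∃ d ∈ nonZeroDivisors R, d • v ∈ M := by
  have hv : v ∈ Submodule.span K (M : Set V) := by rw [hM]; trivial
  induction hv using Submodule.span_induction with
  | mem x hx => exact ⟨1, one_mem _, by simpa using hx⟩
  | zero => exact ⟨1, one_mem _, by simp⟩
  | add x y _ _ hx hy =>
    obtain ⟨d₁, hd₁, h₁⟩ := hx
    obtain ⟨d₂, hd₂, h₂⟩ := hy
    refine ⟨d₁ * d₂, mul_mem hd₁ hd₂, ?_⟩
    rw [smul_add]
    refine M.add_mem ?_ ?_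
    · rw [mul_comm, mul_smul]; exact M.smul_mem _ h₁
    · rw [mul_smul]; exact M.smul_mem _ h₂
  | smul c x _ hx =>
    obtain ⟨d, hd, h⟩ := hx
    obtain ⟨⟨a, s⟩, hs⟩ := IsLocalization.surj (nonZeroDivisors R) c
    refine ⟨s * d, mul_mem s.2 hd, ?_⟩
    have h1 : (s : R) • c = algebraMap R K a := by
      rw [Algebra.smul_def, mul_comm]; exact hs
    have : ((s : R) * d) • c • x = a • d • x := by
      calc ((s : R) * d) • c • x = d • ((s : R) • c) • x := by
            rw [mul_comm, mul_smul, smul_assoc]
        _ = d • a • x := by rw [h1, algebraMap_smul]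
        _ = a • d • x := smul_comm _ _ _
    rw [this]
    exact M.smul_mem _ h

/-- A finitely generated submodule has a common denominator into a spanning submodule. -/
theorem exists_smul_le_of_span_eq_top (M N : Submodule R V)
    (hM : Submodule.span K (M : Set V) = ⊤) (hN : N.FG) :
    ∃ d ∈ nonZeroDivisors R, ∀ n ∈ N, d • n ∈ M := by
  classical
  obtain ⟨F, rfl⟩ := hN
  choose d hd hdm using fun v : V => exists_smul_mem_of_span_eq_top (K := K) M hM v
  refine ⟨∏ f ∈ F, d f, Submonoid.prod_mem _ (fun f _ => hd f), ?_⟩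
  intro n hn
  induction hn using Submodule.span_induction with
  | mem x hx =>
    rw [← Finset.mul_prod_erase F d hx, mul_comm, mul_smul]
    exact M.smul_mem _ (hdm x)
  | zero => simp
  | add x y _ _ hx hy => rw [smul_add]; exact M.add_mem hx hy
  | smul a x _ hx => rw [smul_comm]; exact M.smul_mem _ hx

/-- If `d • N ⊆ M` with `d ≠ 0` and `M ≤ N` spans..., then `N` spans as soon as... -/
theorem span_eq_top_of_smul_le (M N : Submodule R V)
    (hN : Submodule.span K (N : Set V) = ⊤) {d : R} (hd : d ∈ nonZeroDivisors R)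
    (h : ∀ n ∈ N, d • n ∈ M) : Submodule.span K (M : Set V) = ⊤ := by
  rw [eq_top_iff, ← hN, Submodule.span_le]
  intro n hn
  have hdK : algebraMap R K d ≠ 0 := by
    rw [Ne, IsFractionRing.to_map_eq_zero_iff]; exact nonZeroDivisors.ne_zero hd
  have : n = (algebraMap R K d)⁻¹ • (d • n) := by
    rw [← algebraMap_smul K d n, smul_smul, inv_mul_cancel₀ hdK, one_smul]
  rw [this]
  exact Submodule.smul_mem _ _ (Submodule.subset_span (h n hn))

variable [IsNoetherianRing R] [Ring.KrullDimLE 1 R]

/-- `N/M` has finite length if `N` is finitely generated and `d • N ⊆ M`. -/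
theorem isFiniteLength_quotient_of_smul_le {M N : Submodule R V} (hN : N.FG)
    {d : R} (hd : d ∈ nonZeroDivisors R) (h : ∀ n ∈ N, d • n ∈ M) :
    IsFiniteLength R (N ⧸ Submodule.comap N.subtype M) := by
  haveI : Module.Finite R N := Module.Finite.iff_fg.mpr hN
  refine isFiniteLength_of_smul_eq_zero hd _ fun q => ?_
  obtain ⟨n, rfl⟩ := Submodule.mkQ_surjective _ q
  rw [← map_smul, Submodule.mkQ_apply, Submodule.Quotient.mk_eq_zero]
  exact h n.1 n.2

/-- A module of finite length over a domain which is not a field is killed by a nonzero element. -/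
theorem exists_smul_eq_zero_of_isFiniteLength (hR : ¬ IsField R) {Q : Type*} [AddCommGroup Q]
    [Module R Q] (hQ : IsFiniteLength R Q) : ∃ d ∈ nonZeroDivisors R, ∀ q : Q, d • q = 0 := by
  have hQ' := isFiniteLength_iff_isNoetherian_isArtinian.mp hQ
  haveI : IsNoetherian R Q := hQ'.1
  haveI : Module.Finite R Q := inferInstance
  refine exists_smul_eq_zero_of_finite (nonZeroDivisors R) Q fun q => ?_
  by_contra hcon
  push Not at hcon
  -- `R → Q, r ↦ r • q` is injective, so `R` has finite length
  have hinj : Injective (LinearMap.toSpanSingleton R Q q) := by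
    rw [injective_iff_map_eq_zero]
    intro r hr
    by_contra hr0
    exact hcon r (mem_nonZeroDivisors_of_ne_zero hr0) hr
  have hRfl : IsFiniteLength R R := hQ.of_injective hinj
  have hart : IsArtinianRing R := (isFiniteLength_iff_isNoetherian_isArtinian.mp hRfl).2
  exact hR (IsArtinianRing.isField_of_isDomain R)

end Groth.Agent.H73.LatticeDimOne
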