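import Mathlib

/-!
# Units of Laurent polynomial rings over a domain, ring homs out of Laurent polynomial rings
-/

set_option autoImplicit false
open Polynomial LaurentPolynomial

namespace Groth.Agent.H73.LaurentUnits

universe u v

section ext

variable {R : Type u} [CommRing R] {S : Type v} [CommRing S]

/-- Ring homs out of a Laurent polynomial ring are determined by the constants and `T 1`. -/
theorem ringHom_ext' {φ ψ : R[T;T⁻¹] →+* S}
    (hC : ∀ a, φ (LaurentPolynomial.C a) = ψ (LaurentPolynomial.C a))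
    (hT : φ (T 1) = ψ (T 1)) : φ = ψ := by
  apply IsLocalization.ringHom_ext (Submonoid.powers (X : R[X]))
  apply Polynomial.ringHom_ext
  · intro a
    simp only [RingHom.comp_apply, LaurentPolynomial.algebraMap_eq_toLaurent,
      Polynomial.toLaurent_C]
    exact hC a
  · simp only [RingHom.comp_apply, LaurentPolynomial.algebraMap_eq_toLaurent,
      Polynomial.toLaurent_X]
    exact hT

end ext

section units

variable {D : Type u} [CommRing D] [IsDomain D]

/-- In `D[X]` over a domain, a divisor of a power of `X` is a unit constant times a power of `X`. -/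
theorem eq_C_mul_X_pow_of_mul_eq_X_pow {U V : D[X]} {N : ℕ} (h : U * V = X ^ N) :
    ∃ (a : D) (i : ℕ), IsUnit a ∧ U = Polynomial.C a * X ^ i := by
  have hdvd : U ∣ X ^ N := ⟨V, h.symm⟩
  obtain ⟨i, -, hi⟩ := (dvd_prime_pow (Polynomial.prime_X (R := D)) N).mp hdvd
  obtain ⟨w, hw⟩ := hi.symm
  obtain ⟨a, ha, haw⟩ := Polynomial.isUnit_iff.mp w.isUnit
  refine ⟨a, i, ha, ?_⟩
  rw [← hw, haw, mul_comm]

/-- Units of `D[T;T⁻¹]` over a domain are unit constants times powers of `T`. -/
theorem exists_eq_C_mul_T_of_isUnit {u : D[T;T⁻¹]} (hu : IsUnit u) :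
    ∃ (a : D) (n : ℤ), IsUnit a ∧ u = LaurentPolynomial.C a * T n := by
  obtain ⟨v, huv⟩ := hu.exists_right_inv
  obtain ⟨n, U, hU⟩ := exists_T_pow u
  obtain ⟨m, V, hV⟩ := exists_T_pow v
  have h1 : toLaurent (U * V) = toLaurent (X ^ (n + m) : D[X]) := by
    rw [map_mul, hU, hV, Polynomial.toLaurent_X_pow]
    calc u * T ↑n * (v * T ↑m) = (u * v) * (T ↑n * T ↑m) := by ring
      _ = T (↑n + ↑m) := by rw [huv, one_mul, T_add]
      _ = T (↑(n + m) : ℤ) := by push_cast; rfl
  have h2 : U * V = X ^ (n + m) := Polynomial.toLaurent_injective h1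
  obtain ⟨a, i, ha, hUa⟩ := eq_C_mul_X_pow_of_mul_eq_X_pow h2
  refine ⟨a, (i : ℤ) - n, ha, ?_⟩
  have h3 : u * T n = LaurentPolynomial.C a * T i := by
    rw [← hU, hUa, map_mul, Polynomial.toLaurent_C, Polynomial.toLaurent_X_pow]
  calc u = u * T n * T (-n) := by rw [mul_T_assoc, add_neg_cancel, T_zero, mul_one]
    _ = LaurentPolynomial.C a * T i * T (-n) := by rw [h3]
    _ = LaurentPolynomial.C a * T ((i : ℤ) - n) := by rw [mul_T_assoc, sub_eq_add_neg]

end units

section double

variable (k : Type u) [Field k]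

/-- `k[T;T⁻¹] → k`, `T ↦ 1`. -/
noncomputable def ev1 : k[T;T⁻¹] →+* k := LaurentPolynomial.eval₂ (RingHom.id k) 1

/-- The unit `T 1`. -/
noncomputable def unitT : (k[T;T⁻¹])ˣ := (isUnit_T (R := k) 1).unit

/-- `(k[T;T⁻¹])[T;T⁻¹] → k[T;T⁻¹]`: outer `T ↦ 1`, identity on coefficients. -/
noncomputable def θ₁ : (k[T;T⁻¹])[T;T⁻¹] →+* k[T;T⁻¹] :=
  LaurentPolynomial.eval₂ (RingHom.id _) 1

/-- `(k[T;T⁻¹])[T;T⁻¹] → k[T;T⁻¹]`: outer `T ↦ T`, inner `T ↦ 1`. -/
noncomputable def θ₂ : (k[T;T⁻¹])[T;T⁻¹] →+* k[T;T⁻¹] :=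
  LaurentPolynomial.eval₂ ((LaurentPolynomial.C).comp (ev1 k)) (unitT k)

theorem T_injective : Function.Injective (T : ℤ → k[T;T⁻¹]) := by
  intro a b h
  have := congrArg LaurentPolynomial.degree h
  rw [degree_T, degree_T] at this
  exact_mod_cast this

theorem unitT_zpow (b : ℤ) : ((unitT k ^ b : (k[T;T⁻¹])ˣ) : k[T;T⁻¹]) = T b := by
  have : unitT k = ⟨T 1, T (-1), by rw [← T_add]; simp, by rw [← T_add]; simp⟩ := by
    ext; rfl
  rw [this]
  induction b using Int.induction_on with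
  | zero => simp
  | succ i ih =>
    rw [zpow_add_one, Units.val_mul, ih, ← T_add]
  | pred i ih =>
    rw [zpow_sub_one, Units.val_mul, ih]
    change T (-(i:ℤ)) * T (-1) = _
    rw [← T_add]; rfl

/-- A unit of the double Laurent ring specializing to `T` under both `θ₁` and `θ₂` is `C T * T`. -/
theorem eq_of_specializations {u : (k[T;T⁻¹])[T;T⁻¹]} (hu : IsUnit u)
    (h1 : θ₁ k u = T 1) (h2 : θ₂ k u = T 1) :
    u = LaurentPolynomial.C (T 1) * T 1 := by
  obtain ⟨r, b, -, rfl⟩ := exists_eq_C_mul_T_of_isUnit hu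
  have hr : r = T 1 := by
    have : θ₁ k (LaurentPolynomial.C r * T b) = r := by
      simp [θ₁, LaurentPolynomial.eval₂_C_mul_T]
    rw [← this, h1]
  subst hr
  have hb : b = 1 := by
    have : θ₂ k (LaurentPolynomial.C (T 1) * T b) = T b := by
      rw [θ₂, LaurentPolynomial.eval₂_C_mul_T]
      have e1 : ev1 k (T 1) = 1 := by
        simp [ev1, LaurentPolynomial.eval₂_T]
      have e2 := unitT_zpow k b
      rw [RingHom.comp_apply, e1, map_one, one_mul, e2]
    rw [this] at h2
    exact T_injective k h2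
  rw [hb]

end double

end Groth.Agent.H73.LaurentUnits
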