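import Mathlib

/-!
# Regular sequences detected at associated primes

Let `B` be Noetherian, `rs` a list of elements of the Jacobson radical, `L` a finite `B`-module.
If every nonzero element of `L/(rs)L` has its annihilator disjoint from some multiplicative set `S`
of a family `PP`, and `rs` is a weakly regular sequence on the localizations `S⁻¹L` for `S ∈ PP`,
then `rs` is weakly regular on `L`.
-/

set_option autoImplicit false
universe u

namespace Groth.Agent.H73.LocReg

open RingTheory.Sequence Pointwise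

variable {B : Type u} [CommRing B]

section QuotLoc

variable (S : Submonoid B) {L L' : Type u} [AddCommGroup L] [Module B L] [AddCommGroup L']
  [Module B L'] (g : L →ₗ[B] L') [IsLocalizedModule S g] (r : B)

include g in
theorem smul_bijective (s : S) : Function.Bijective (fun y : L' => (s : B) • y) := by
  have h := (Module.End.isUnit_iff _).mp (IsLocalizedModule.map_units g s)
  exact h

theorem isLocalizedModule_quotSMulTop : IsLocalizedModule S (QuotSMulTop.map r g) := by
  refine ⟨fun s => ?_, fun y => ?_, fun {x₁ x₂} h => ?_⟩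
  · rw [Module.End.isUnit_iff]
    obtain ⟨hinj, hsurj⟩ := smul_bijective S g s
    constructor
    · rw [injective_iff_map_eq_zero]
      intro y hy
      obtain ⟨y', rfl⟩ := Submodule.Quotient.mk_surjective _ y
      have hy' : (s : B) • y' ∈ r • (⊤ : Submodule B L') := by
        rw [← Submodule.Quotient.mk_eq_zero, Submodule.Quotient.mk_smul]; exact hy
      obtain ⟨z, -, hz⟩ := (Submodule.mem_smul_pointwise_iff_exists _ _ _).mp hy'
      obtain ⟨z', rfl⟩ := hsurj z
      have h1 : y' = r • z' := hinj (by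
        show (s : B) • y' = (s : B) • (r • z')
        rw [← hz, smul_comm])
      rw [h1, Submodule.Quotient.mk_eq_zero]
      exact Submodule.smul_mem_pointwise_smul _ _ _ Submodule.mem_top
    · intro y
      obtain ⟨y', rfl⟩ := Submodule.Quotient.mk_surjective _ y
      obtain ⟨z, rfl⟩ := hsurj y'
      exact ⟨Submodule.Quotient.mk z, rfl⟩
  · obtain ⟨y', rfl⟩ := Submodule.Quotient.mk_surjective _ y
    obtain ⟨⟨l, s⟩, hls⟩ := IsLocalizedModule.surj S g y'
    refine ⟨⟨Submodule.Quotient.mk l, s⟩, ?_⟩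
    show s • (Submodule.Quotient.mk y' : QuotSMulTop r L') =
      QuotSMulTop.map r g (Submodule.Quotient.mk l)
    rw [QuotSMulTop.map_apply_mk, ← hls]
    rfl
  · obtain ⟨l₁, rfl⟩ := Submodule.Quotient.mk_surjective _ x₁
    obtain ⟨l₂, rfl⟩ := Submodule.Quotient.mk_surjective _ x₂
    rw [QuotSMulTop.map_apply_mk, QuotSMulTop.map_apply_mk, Submodule.Quotient.eq] at h
    obtain ⟨z, -, hz⟩ := (Submodule.mem_smul_pointwise_iff_exists _ _ _).mp h
    obtain ⟨⟨m, s⟩, hms⟩ := IsLocalizedModule.surj S g z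
    have hms' : (s : B) • z = g m := hms
    have h1 : g ((s : B) • (l₁ - l₂)) = g (r • m) := by
      rw [map_smul, map_sub, ← hz, map_smul, ← hms', smul_comm]
    obtain ⟨c, hc⟩ := IsLocalizedModule.exists_of_eq (S := S) h1
    have hc' : (c : B) • ((s : B) • (l₁ - l₂)) = (c : B) • (r • m) := hc
    refine ⟨c * s, ?_⟩
    show ((c * s : S) : B) • (Submodule.Quotient.mk l₁ : QuotSMulTop r L) =
      ((c * s : S) : B) • (Submodule.Quotient.mk l₂ : QuotSMulTop r L)
    rw [← sub_eq_zero, ← smul_sub, ← Submodule.Quotient.mk_sub, ← Submodule.Quotient.mk_smul,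
      Submodule.Quotient.mk_eq_zero, Submonoid.coe_mul, mul_smul, hc', smul_comm]
    exact Submodule.smul_mem_pointwise_smul _ _ _ Submodule.mem_top

end QuotLoc

/-- `rs` is weakly regular on the localization of `L` at `S` -/
def LocWR (S : Submonoid B) (L : Type u) [AddCommGroup L] [Module B L] (rs : List B) : Prop :=
  ∃ (LP : Type u) (_ : AddCommGroup LP) (_ : Module B LP) (g : L →ₗ[B] LP),
    IsLocalizedModule S g ∧ IsWeaklyRegular LP rs

theorem LocWR.cons {S : Submonoid B} {L : Type u} [AddCommGroup L] [Module B L] {r : B}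
    {rs : List B} (h : LocWR S L (r :: rs)) :
    (∀ u : L, r • u = 0 → ∃ t ∈ S, t • u = 0) ∧ LocWR S (QuotSMulTop r L) rs := by
  obtain ⟨LP, _, _, g, hg, hreg⟩ := h
  obtain ⟨h1, h2⟩ := (isWeaklyRegular_cons_iff _ _ _).mp hreg
  constructor
  · intro u hu
    have h3 : r • g u = 0 := by rw [← map_smul, hu, map_zero]
    have h4 : g u = 0 := (isSMulRegular_iff_right_eq_zero_of_smul.mp h1) _ h3
    obtain ⟨c, hc⟩ := (IsLocalizedModule.eq_zero_iff S g).mp h4
    exact ⟨c, c.2, hc⟩
  · exact ⟨QuotSMulTop r LP, inferInstance, inferInstance, QuotSMulTop.map r g,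
      isLocalizedModule_quotSMulTop S g r, h2⟩

theorem LocWR.exists_smul_eq_zero {S : Submonoid B} {L : Type u} [AddCommGroup L] [Module B L]
    {r : B} (h : ∀ u : L, r • u = 0 → ∃ t ∈ S, t • u = 0) :
    ∀ (k : ℕ) (u : L), r ^ k • u = 0 → ∃ t ∈ S, t • u = 0 := by
  intro k
  induction k with
  | zero => intro u hu; exact ⟨1, S.one_mem, by simpa using hu⟩
  | succ k ih =>
    intro u hu
    rw [pow_succ', mul_smul] at hu
    obtain ⟨t, ht, htu⟩ := h _ hu
    rw [smul_comm] at htu
    obtain ⟨t', ht', htu'⟩ := ih _ htu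
    exact ⟨t' * t, S.mul_mem ht' ht, by rw [mul_smul]; exact htu'⟩

section Krull

variable [IsNoetherianRing B] {L : Type u} [AddCommGroup L] [Module B L] [Module.Finite B L]

/-- Krull: a nonzero element is a power of `r` times an element not divisible by `r` -/
theorem exists_pow_smul_eq {r : B} (hr : r ∈ (⊥ : Ideal B).jacobson) {v : L} (hv : v ≠ 0) :
    ∃ (s : ℕ) (v' : L), v = r ^ s • v' ∧ v' ∉ r • (⊤ : Submodule B L) := by
  classical
  have hK : (⨅ i : ℕ, (Ideal.span {r}) ^ i • ⊤ : Submodule B L) = ⊥ :=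
    Ideal.iInf_pow_smul_eq_bot_of_le_jacobson _
      ((Ideal.span_singleton_le_iff_mem _).mpr hr)
  have hex : ∃ i, v ∉ ((Ideal.span {r}) ^ i • ⊤ : Submodule B L) := by
    by_contra hall
    push Not at hall
    have : v ∈ (⨅ i : ℕ, (Ideal.span {r}) ^ i • ⊤ : Submodule B L) :=
      (Submodule.mem_iInf _).mpr hall
    rw [hK] at this
    exact hv ((Submodule.mem_bot _).mp this)
  have hpow : ∀ i, ((Ideal.span {r}) ^ i • ⊤ : Submodule B L) = r ^ i • (⊤ : Submodule B L) :=
    fun i => by rw [Ideal.span_singleton_pow, Submodule.ideal_span_singleton_smul]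
  have hspec := Nat.find_spec hex
  have hmin := fun m => Nat.find_min hex (m := m)
  set s := Nat.find hex with hs
  have hs0 : s ≠ 0 := by
    intro h0
    rw [h0, pow_zero, Ideal.one_eq_top, Submodule.top_smul] at hspec
    exact hspec Submodule.mem_top
  obtain ⟨s', hs'⟩ := Nat.exists_eq_succ_of_ne_zero hs0
  have hmem : v ∈ ((Ideal.span {r}) ^ s' • ⊤ : Submodule B L) := by
    have := hmin s' (by omega)
    exact not_not.mp this
  rw [hpow] at hmem
  obtain ⟨v', -, hv'⟩ := (Submodule.mem_smul_pointwise_iff_exists _ _ _).mp hmem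
  refine ⟨s', v', hv'.symm, fun hdiv => ?_⟩
  obtain ⟨v'', -, hv''⟩ := (Submodule.mem_smul_pointwise_iff_exists _ _ _).mp hdiv
  apply hspec
  rw [hs', hpow]
  refine (Submodule.mem_smul_pointwise_iff_exists _ _ _).mpr ⟨v'', Submodule.mem_top, ?_⟩
  rw [← hv', ← hv'', pow_succ, mul_smul]

/-- a nonzero element survives, with its annihilator, modulo a regular sequence -/
theorem exists_ne_zero_quot : ∀ (rs : List B) (L : Type u) [AddCommGroup L] [Module B L]
    [Module.Finite B L], (∀ r ∈ rs, r ∈ (⊥ : Ideal B).jacobson) → IsWeaklyRegular L rs →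
    ∀ v : L, v ≠ 0 → ∃ w : L ⧸ (Ideal.ofList rs • ⊤ : Submodule B L),
      w ≠ 0 ∧ ∀ b : B, b • v = 0 → b • w = 0 := by
  intro rs
  induction rs with
  | nil =>
    intro L _ _ _ _ _ v hv
    refine ⟨Submodule.Quotient.mk v, ?_, ?_⟩
    · rw [Ne, Submodule.Quotient.mk_eq_zero, Ideal.ofList_nil, Submodule.bot_smul,
        Submodule.mem_bot]
      exact hv
    · intro b hb
      rw [← Submodule.Quotient.mk_smul, hb, Submodule.Quotient.mk_zero]
  | cons r rs ih =>
    intro L _ _ _ hrad hreg v hv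
    obtain ⟨h1, h2⟩ := (isWeaklyRegular_cons_iff _ _ _).mp hreg
    obtain ⟨s, v', hvv', hv'⟩ := exists_pow_smul_eq (hrad r List.mem_cons_self) hv
    have hbar : (Submodule.Quotient.mk v' : QuotSMulTop r L) ≠ 0 := by
      rw [Ne, Submodule.Quotient.mk_eq_zero]; exact hv'
    obtain ⟨w', hw', hann⟩ := ih (QuotSMulTop r L)
      (fun r' hr' => hrad r' (List.mem_cons_of_mem _ hr')) h2 _ hbar
    let e := Submodule.quotOfListConsSMulTopEquivQuotSMulTopInner L r rs
    refine ⟨e.symm w', (LinearEquiv.map_ne_zero_iff _).mpr hw', ?_⟩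
    intro b hb
    have h3 : r ^ s • (b • v') = 0 := by rw [smul_comm, ← hvv', hb]
    have h4 : b • v' = 0 := (isSMulRegular_iff_right_eq_zero_of_smul.mp (h1.pow s)) _ h3
    have h5 : b • (Submodule.Quotient.mk v' : QuotSMulTop r L) = 0 := by
      rw [← Submodule.Quotient.mk_smul, h4, Submodule.Quotient.mk_zero]
    rw [← map_smul, hann b h5, map_zero]

/-- regular sequences are detected at a family of localizations -/
theorem isWeaklyRegular_of_loc (PP : Set (Submonoid B)) : ∀ (rs : List B) (L : Type u)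
    [AddCommGroup L] [Module B L] [Module.Finite B L],
    (∀ r ∈ rs, r ∈ (⊥ : Ideal B).jacobson) →
    (∀ w : L ⧸ (Ideal.ofList rs • ⊤ : Submodule B L), w ≠ 0 →
      ∃ S ∈ PP, ∀ b : B, b • w = 0 → b ∉ S) →
    (∀ S ∈ PP, LocWR S L rs) → IsWeaklyRegular L rs := by
  intro rs
  induction rs with
  | nil => intro L _ _ _ _ _ _; exact IsWeaklyRegular.nil _ _
  | cons r rs ih =>
    intro L _ _ _ hrad hTF hloc
    let e := Submodule.quotOfListConsSMulTopEquivQuotSMulTopInner L r rs
    have hrad' : ∀ r' ∈ rs, r' ∈ (⊥ : Ideal B).jacobson :=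
      fun r' hr' => hrad r' (List.mem_cons_of_mem _ hr')
    have hTF' : ∀ w : QuotSMulTop r L ⧸ (Ideal.ofList rs • ⊤ : Submodule B (QuotSMulTop r L)),
        w ≠ 0 → ∃ S ∈ PP, ∀ b : B, b • w = 0 → b ∉ S := by
      intro w hw
      obtain ⟨S, hS, hb⟩ := hTF (e.symm w) ((LinearEquiv.map_ne_zero_iff _).mpr hw)
      refine ⟨S, hS, fun b hbw => hb b ?_⟩
      rw [← map_smul, hbw, map_zero]
    have h2 : IsWeaklyRegular (QuotSMulTop r L) rs :=
      ih (QuotSMulTop r L) hrad' hTF' (fun S hS => (hloc S hS).cons.2)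
    refine (isWeaklyRegular_cons_iff _ _ _).mpr ⟨?_, h2⟩
    rw [isSMulRegular_iff_right_eq_zero_of_smul]
    intro u hu
    by_contra hu0
    obtain ⟨s, u', huu', hu'⟩ := exists_pow_smul_eq (hrad r List.mem_cons_self) hu0
    have hbar : (Submodule.Quotient.mk u' : QuotSMulTop r L) ≠ 0 := by
      rw [Ne, Submodule.Quotient.mk_eq_zero]; exact hu'
    obtain ⟨w', hw', hann⟩ := exists_ne_zero_quot rs (QuotSMulTop r L) hrad' h2 _ hbar
    obtain ⟨S, hS, hdisj⟩ := hTF (e.symm w') ((LinearEquiv.map_ne_zero_iff _).mpr hw')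
    have hpow : r ^ (s + 1) • u' = 0 := by
      rw [pow_succ', mul_smul, ← huu', hu]
    obtain ⟨t, ht, htu⟩ := LocWR.exists_smul_eq_zero (hloc S hS).cons.1 (s + 1) u' hpow
    have h5 : t • (Submodule.Quotient.mk u' : QuotSMulTop r L) = 0 := by
      rw [← Submodule.Quotient.mk_smul, htu, Submodule.Quotient.mk_zero]
    refine hdisj t ?_ ht
    rw [← map_smul, hann t h5, map_zero]

end Krull

end Groth.Agent.H73.LocReg
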