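import Mathlib

/-!
# Over a base with finite spectrum, a local-étale algebra is étale

If `R` has finitely many primes, `B` is étale over `R` and `C = B_P` is the localization of `B` at a
prime, then `C = B_g` for some `g ∉ P`, hence `C` is étale over `R`.
-/

namespace Groth.Agent.H73.LocalEtaleFinite

universe u

variable {R B C : Type u} [CommRing R] [CommRing B] [CommRing C]
  [Algebra R B] [Algebra B C] [Algebra R C] [IsScalarTower R B C]

/-- In a ring with finite spectrum, every prime has a basic open neighbourhood consisting of its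
generizations. -/
theorem exists_notMem_forall_le [Finite (PrimeSpectrum B)] (P : Ideal B) [P.IsPrime] :
    ∃ g : B, g ∉ P ∧ ∀ Q : Ideal B, Q.IsPrime → g ∉ Q → Q ≤ P := by
  classical
  have := Fintype.ofFinite (PrimeSpectrum B)
  have hex : ∀ Q : PrimeSpectrum B, ∃ x : B, x ∉ P ∧ (¬ Q.asIdeal ≤ P → x ∈ Q.asIdeal) := by
    intro Q
    by_cases h : Q.asIdeal ≤ P
    · exact ⟨1, fun h1 => (Ideal.IsPrime.ne_top inferInstance) ((Ideal.eq_top_iff_one _).mpr h1),
        fun h' => absurd h h'⟩
    · obtain ⟨x, hxQ, hxP⟩ := Set.not_subset.mp h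
      exact ⟨x, hxP, fun _ => hxQ⟩
  choose x hxP hxQ using hex
  refine ⟨∏ Q, x Q, ?_, ?_⟩
  · intro h
    obtain ⟨Q, -, hQ⟩ := (Ideal.IsPrime.prod_mem_iff).mp h
    exact hxP Q hQ
  · intro Q hQ hg
    by_contra hle
    exact hg (Ideal.prod_mem Q (Finset.mem_univ (⟨Q, hQ⟩ : PrimeSpectrum B)) (hxQ ⟨Q, hQ⟩ hle))

theorem etale_of_isLocalization_atPrime [Algebra.Etale R B] [Finite (PrimeSpectrum R)]
    (P : Ideal B) [P.IsPrime] [IsLocalization.AtPrime C P] : Algebra.Etale R C := by
  classical
  have hfinB : Finite (PrimeSpectrum B) := by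
    have := Algebra.QuasiFinite.finite_comap_preimage (R := R) (S := B)
      (s := Set.univ) Set.finite_univ
    rw [Set.preimage_univ] at this
    exact Set.finite_univ_iff.mp this
  obtain ⟨g, hgP, hg⟩ := exists_notMem_forall_le P
  have hle : Submonoid.powers g ≤ P.primeCompl :=
    Submonoid.powers_le.mpr hgP
  have hunits : ∀ s ∈ P.primeCompl, IsUnit (algebraMap B (Localization.Away g) s) := by
    intro s hs
    by_contra hnu
    obtain ⟨m, hm, hsm⟩ := exists_max_ideal_of_mem_nonunits hnu
    have hQ : (m.comap (algebraMap B (Localization.Away g))).IsPrime :=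
      Ideal.comap_isPrime _ _
    have hgQ : g ∉ m.comap (algebraMap B (Localization.Away g)) := by
      intro h
      have hu : IsUnit (algebraMap B (Localization.Away g) g) :=
        IsLocalization.Away.algebraMap_isUnit g
      exact hm.ne_top (Ideal.eq_top_of_isUnit_mem _ h hu)
    exact hs (hg _ hQ hgQ hsm)
  have hloc : IsLocalization P.primeCompl (Localization.Away g) :=
    IsLocalization.of_le (Submonoid.powers g) P.primeCompl hle hunits
  have e1 : Localization.Away g ≃ₐ[B] C :=
    IsLocalization.algEquiv P.primeCompl (Localization.Away g) C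
  have e : Localization.Away g ≃ₐ[R] C := e1.restrictScalars R
  have h1 : Algebra.Etale B (Localization.Away g) := Algebra.Etale.of_isLocalizationAway g
  have h2 : Algebra.Etale R (Localization.Away g) := Algebra.Etale.comp R B (Localization.Away g)
  exact Algebra.Etale.of_equiv e

end Groth.Agent.H73.LocalEtaleFinite
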