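import Mathlib
import Groth.Agent.H73.NFConv
import Groth.Agent.H25.NormFlat

/-!
# Truncated versions of the step `K ⊂ K + (x)`

Level-by-level versions: if `gr_K(M)_j` is flat over `A/K` for `j < h`, then the same holds for
`K + (x)` and the comparison map `Phi_h` is bijective.  Retracts modulo a larger ideal.
-/

set_option autoImplicit false
universe u

namespace Groth.Agent.H73.NFStep

open RingTheory.Sequence

variable {A : Type u} [CommRing A] (K : Ideal A) (x : A) {M : Type u} [AddCommGroup M] [Module A M]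

/-- truncated form of `lemmaB` -/
theorem lemmaB' : ∀ (m n : ℕ),
    (∀ j, j ≤ n → ∀ u : M, x • u ∈ Kn K M j → u ∈ Kn K M j) →
    ∀ (w : ℕ → M), (∀ i, w i ∈ Kn K M (n - i)) →
    ∑ i ∈ Finset.range (m + 1), x ^ i • w i = 0 →
    ∀ i, i ≤ n → i ≤ m → ∃ b ∈ Kn K M (n - i + 1), ∃ c ∈ Kn K M (n - i), w i = b + x • c := by
  intro m
  induction m with
  | zero =>
    intro n _ w hw hsum i _ him
    obtain rfl : i = 0 := by omega
    simp only [zero_add, Finset.range_one, Finset.sum_singleton, pow_zero, one_smul] at hsum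
    exact ⟨0, zero_mem _, 0, zero_mem _, by simp [hsum]⟩
  | succ m ih =>
    intro n hR2 w hw hsum i hin him
    rw [Finset.sum_range_succ'] at hsum
    simp only [pow_zero, one_smul] at hsum
    set t : M := -∑ j ∈ Finset.range (m + 1), x ^ j • w (j + 1) with ht
    have hw0 : w 0 = x • t := by
      have : ∑ j ∈ Finset.range (m + 1), x ^ (j + 1) • w (j + 1) =
          x • ∑ j ∈ Finset.range (m + 1), x ^ j • w (j + 1) := by
        rw [Finset.smul_sum]
        refine Finset.sum_congr rfl fun j _ => ?_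
        rw [pow_succ', mul_smul]
      rw [this] at hsum
      rw [ht, smul_neg]
      exact eq_neg_of_add_eq_zero_right hsum
    have htn : t ∈ Kn K M n := hR2 n le_rfl t (by rw [← hw0]; simpa using hw 0)
    cases i with
    | zero => exact ⟨0, zero_mem _, t, by simpa using htn, by rw [zero_add]; exact hw0⟩
    | succ i =>
      set w' : ℕ → M := fun j => w (j + 1) + (if j = 0 then t else 0) with hw'
      have hw'mem : ∀ j, w' j ∈ Kn K M (n - 1 - j) := by
        intro j
        have h1 : w (j + 1) ∈ Kn K M (n - 1 - j) := by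
          have := hw (j + 1)
          rwa [show n - (j + 1) = n - 1 - j by omega] at this
        refine Submodule.add_mem _ h1 ?_
        split_ifs with hj
        · subst hj; exact Kn_anti K M (by omega) htn
        · exact zero_mem _
      have hsum' : ∑ j ∈ Finset.range (m + 1), x ^ j • w' j = 0 := by
        simp only [hw', smul_add, Finset.sum_add_distrib]
        rw [Finset.sum_eq_single (s := Finset.range (m + 1))
          (f := fun j => x ^ j • (if j = 0 then t else 0)) 0]
        · simp [ht]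
        · intro j _ hj; simp [hj]
        · intro h; simp at h
      obtain ⟨b, hb, c, hc, hbc⟩ := ih (n - 1) (fun j hj => hR2 j (by omega)) w' hw'mem hsum' i
        (by omega) (by omega)
      refine ⟨b - (if i = 0 then t else 0), ?_, c, ?_, ?_⟩
      · rw [show n - (i + 1) + 1 = n - 1 - i + 1 by omega]
        refine Submodule.sub_mem _ hb ?_
        split_ifs with hi
        · subst hi
          rw [show n - 1 - 0 + 1 = n by omega]; exact htn
        · exact zero_mem _
      · rwa [show n - (i + 1) = n - 1 - i by omega]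
      · have : w (i + 1) = w' i - (if i = 0 then t else 0) := by simp [hw']
        rw [this, hbc]; abel

/-- truncated form of `Phi_injective` -/
theorem Phi_injective' (n : ℕ)
    (hR2 : ∀ j, j ≤ n → ∀ u : M, x • u ∈ Kn K M j → u ∈ Kn K M j) :
    Function.Injective (Phi K x M n) := by
  classical
  rw [injective_iff_map_eq_zero]
  intro ξ hξ
  have hsurj : ∀ i : Fin (n + 1), ∃ u : ↥(Kn K M (n - i)),
      (Submodule.Quotient.mk (Submodule.Quotient.mk u) : Q K x M (n - i)) = ξ i := by
    intro i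
    obtain ⟨g, hg⟩ := Submodule.Quotient.mk_surjective _ (ξ i)
    obtain ⟨u, hu⟩ := Submodule.Quotient.mk_surjective _ g
    exact ⟨u, by rw [hu, hg]⟩
  choose u hu using hsurj
  have hξ' := hξ
  rw [Phi_apply] at hξ'
  simp only [← hu, PhiI_mk_mk] at hξ'
  have h1 : ∀ i : Fin (n + 1), (Submodule.Quotient.mk
      (alpha K x M n i (Nat.lt_succ_iff.mp i.2) (u i)) : Nn K x M n) =
      Submodule.mkQ _ (alpha K x M n i (Nat.lt_succ_iff.mp i.2) (u i)) := fun i => rfl
  simp only [h1] at hξ'
  rw [← map_sum, Submodule.mkQ_apply, Submodule.Quotient.mk_eq_zero, Submodule.mem_smul_top_iff,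
    Submodule.coe_sum] at hξ'
  simp only [coe_alpha] at hξ'
  have hz : ∑ i : Fin (n + 1), x ^ (i : ℕ) • ((u i : ↥(Kn K M (n - i))) : M) ∈
      (K ⊔ Ideal.span {x}) ^ (n + 1) • (⊤ : Submodule A M) := by
    rwa [pow_succ', mul_smul]
  obtain ⟨a, ha, ha0, hza⟩ := exists_expansion K x (n + 1) _ hz
  set v : ℕ → M := fun i => if h : i < n + 1 then ((u ⟨i, h⟩ : ↥(Kn K M (n - i))) : M) else 0
    with hv
  have hvmem : ∀ i, v i ∈ Kn K M (n - i) := by
    intro i
    simp only [hv]
    split_ifs with h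
    · exact (u ⟨i, h⟩).2
    · exact zero_mem _
  set w : ℕ → M := fun i => v i - a i with hw
  have hwmem : ∀ i, w i ∈ Kn K M (n - i) := fun i =>
    Submodule.sub_mem _ (hvmem i) (Kn_anti K M (by omega) (ha i))
  have hvi : ∀ i : Fin (n + 1), v i = ((u i : ↥(Kn K M (n - i))) : M) := fun i => by
    simp only [hv]
    rw [dif_pos i.2]
  have hvsum : ∑ i ∈ Finset.range (n + 1), x ^ i • v i =
      ∑ i : Fin (n + 1), x ^ (i : ℕ) • ((u i : ↥(Kn K M (n - i))) : M) := by
    rw [Finset.sum_range]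
    refine Finset.sum_congr rfl fun i _ => ?_
    rw [hvi]
  have hwsum : ∑ i ∈ Finset.range (n + 1 + 1), x ^ i • w i = 0 := by
    simp only [hw, smul_sub, Finset.sum_sub_distrib]
    rw [← hza, Finset.sum_range_succ, hvsum]
    have : v (n + 1) = 0 := by simp [hv]
    rw [this, smul_zero, add_zero, sub_self]
  have key := lemmaB' K x (n + 1) n hR2 w hwmem hwsum
  funext i
  obtain ⟨b, hb, c, hc, hbc⟩ := key i (Nat.lt_succ_iff.mp i.2) (by omega)
  rw [← hu i]
  have hui : ((u i : ↥(Kn K M (n - i))) : M) = (b + a i) + x • c := by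
    have : w i = ((u i : ↥(Kn K M (n - i))) : M) - a i := by simp only [hw]; rw [hvi]
    rw [this] at hbc
    rw [sub_eq_iff_eq_add] at hbc
    rw [hbc]; abel
  have hb' : b + a i ∈ Kn K M (n - i + 1) := by
    refine Submodule.add_mem _ hb ?_
    have := ha i
    rwa [show n + 1 - (i : ℕ) = n - i + 1 by omega] at this
  have hdec : u i = ⟨b + a i, Kn_anti K M (Nat.le_succ _) hb'⟩ + x • ⟨c, hc⟩ :=
    Subtype.ext hui
  rw [hdec, Submodule.Quotient.mk_add, Submodule.Quotient.mk_smul]
  have h2 : (Submodule.Quotient.mk (⟨b + a i, Kn_anti K M (Nat.le_succ _) hb'⟩ :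
      ↥(Kn K M (n - i))) : G K M (n - i)) = 0 := by
    rw [Submodule.Quotient.mk_eq_zero, Submodule.mem_smul_top_iff, ← Kn_succ]
    exact hb'
  rw [h2, zero_add, Pi.zero_apply, Submodule.Quotient.mk_eq_zero]
  exact Submodule.smul_mem_smul (Ideal.mem_sup_right (Ideal.mem_span_singleton_self x))
    Submodule.mem_top

/-- regularity on the pieces below level `h` gives the filtration property up to level `h` -/
theorem hR2_of_regular (h : ℕ) (hreg : ∀ j, j < h → IsSMulRegular (G K M j) x) :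
    ∀ j, j ≤ h → ∀ u : M, x • u ∈ Kn K M j → u ∈ Kn K M j := by
  intro j
  induction j with
  | zero => intro _ u _; rw [Kn_zero]; exact Submodule.mem_top
  | succ j ih =>
    intro hj u hu
    have huj : u ∈ Kn K M j := ih (by omega) u (Kn_anti K M (Nat.le_succ j) hu)
    have h0 : x • (Submodule.Quotient.mk ⟨u, huj⟩ : G K M j) = 0 := by
      rw [← Submodule.Quotient.mk_smul, Submodule.Quotient.mk_eq_zero,
        Submodule.mem_smul_top_iff, ← Kn_succ]
      exact hu
    have h1 := (isSMulRegular_iff_right_eq_zero_of_smul.mp (hreg j (by omega))) _ h0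
    rw [Submodule.Quotient.mk_eq_zero, Submodule.mem_smul_top_iff, ← Kn_succ] at h1
    exact h1

/-- the local flatness criterion for one element -/
theorem flat_iff_one [IsNoetherianRing A] (hx : x ∈ (⊥ : Ideal A).jacobson)
    (hxreg : IsSMulRegular (A ⧸ K) x) (N : Type u) [AddCommGroup N] [Module A N]
    [Module (A ⧸ K) N] [IsScalarTower A (A ⧸ K) N] [Module.Finite A N] :
    Module.Flat (A ⧸ K) N ↔
      Module.Flat (A ⧸ (K ⊔ Ideal.span {x})) (N ⧸ ((K ⊔ Ideal.span {x}) • ⊤ : Submodule A N)) ∧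
        IsSMulRegular N x := by
  set f : Fin 1 → A := fun _ => x with hf
  have hrange : Set.range f = {x} := Set.range_const
  have hlist : List.ofFn f = [x] := by simp [hf]
  have hreg : IsWeaklyRegular (A ⧸ K) (List.ofFn f) := by
    rw [hlist]
    exact (isWeaklyRegular_cons_iff _ _ _).mpr ⟨hxreg, IsWeaklyRegular.nil _ _⟩
  have h5 := Groth.Agent.H25.NormFlat.flat_iff K f N (fun _ => hx) hreg
  rw [hrange, hlist, isWeaklyRegular_singleton_iff] at h5
  exact h5

/-- the truncated step -/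
theorem truncStep [IsNoetherianRing A] [Module.Finite A M] (hx : x ∈ (⊥ : Ideal A).jacobson)
    (hxreg : IsSMulRegular (A ⧸ K) x) (h : ℕ)
    (hT : ∀ j, j < h → Module.Flat (A ⧸ K) (G K M j)) :
    (∀ j, j < h → Module.Flat (A ⧸ (K ⊔ Ideal.span {x})) (G (K ⊔ Ideal.span {x}) M j)) ∧
      Function.Bijective (Phi K x M h) := by
  classical
  have hreg : ∀ j, j < h → IsSMulRegular (G K M j) x := fun j hj =>
    ((flat_iff_one K x hx hxreg (G K M j)).mp (hT j hj)).2
  have hQ : ∀ j, j < h → Module.Flat (A ⧸ (K ⊔ Ideal.span {x})) (Q K x M j) := fun j hj =>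
    ((flat_iff_one K x hx hxreg (G K M j)).mp (hT j hj)).1
  have hR2 := hR2_of_regular K x h hreg
  have hinj : ∀ j, j ≤ h → Function.Injective (Phi K x M j) := fun j hj =>
    Phi_injective' K x j (fun j' hj' => hR2 j' (le_trans hj' hj))
  refine ⟨fun n hn => ?_, ⟨hinj h le_rfl, Phi_surjective K x M h⟩⟩
  let Φ' : ((i : Fin (n + 1)) → Q K x M (n - i)) →ₗ[A ⧸ (K ⊔ Ideal.span {x})]
      Nn K x M n :=
    LinearMap.extendScalarsOfSurjective Ideal.Quotient.mk_surjective (Phi K x M n)
  have hbij : Function.Bijective Φ' := ⟨hinj n hn.le, Phi_surjective K x M n⟩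
  haveI : ∀ i : Fin (n + 1), Module.Flat (A ⧸ (K ⊔ Ideal.span {x})) (Q K x M (n - i)) :=
    fun i => hQ _ (by omega)
  haveI : Module.Flat (A ⧸ (K ⊔ Ideal.span {x})) ((i : Fin (n + 1)) → Q K x M (n - i)) :=
    Module.Flat.of_linearEquiv (DirectSum.linearEquivFunOnFintype (A ⧸ (K ⊔ Ideal.span {x}))
      (Fin (n + 1)) (fun i => Q K x M (n - i))).symm
  exact Module.Flat.of_linearEquiv (LinearEquiv.ofBijective Φ' hbij).symm

section Retract

variable {P P' P'' : Type u} [AddCommGroup P] [Module A P] [AddCommGroup P'] [Module A P']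
  [AddCommGroup P''] [Module A P'']

/-- `P` is a retract of `P'` -/
def Retr (P P' : Type u) [AddCommGroup P] [Module A P] [AddCommGroup P'] [Module A P'] : Prop :=
  ∃ (ι : P →ₗ[A] P') (ρ : P' →ₗ[A] P), ρ ∘ₗ ι = LinearMap.id

theorem Retr.refl : Retr (A := A) P P := ⟨LinearMap.id, LinearMap.id, rfl⟩

theorem Retr.trans (h1 : Retr (A := A) P P') (h2 : Retr (A := A) P' P'') : Retr (A := A) P P'' := by
  obtain ⟨ι1, ρ1, h1⟩ := h1
  obtain ⟨ι2, ρ2, h2⟩ := h2
  refine ⟨ι2 ∘ₗ ι1, ρ1 ∘ₗ ρ2, LinearMap.ext fun p => ?_⟩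
  have e2 := LinearMap.congr_fun h2 (ι1 p)
  have e1 := LinearMap.congr_fun h1 p
  simp only [LinearMap.comp_apply, LinearMap.id_apply] at e1 e2 ⊢
  rw [e2, e1]

theorem Retr.of_equiv (e : P ≃ₗ[A] P') : Retr (A := A) P P' :=
  ⟨e.toLinearMap, e.symm.toLinearMap, by ext p; simp⟩

/-- a retraction onto `P / K' P` induces a retract modulo any larger ideal -/
theorem retract_red (K' Q : Ideal A) (hK'Q : K' ≤ Q) (i : P →ₗ[A] P')
    (r : P' →ₗ[A] P ⧸ (K' • ⊤ : Submodule A P)) (hri : r ∘ₗ i = Submodule.mkQ _) :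
    Retr (A := A) (P ⧸ (Q • ⊤ : Submodule A P)) (P' ⧸ (Q • ⊤ : Submodule A P')) := by
  have hle : (K' • ⊤ : Submodule A P) ≤ Q • ⊤ := Submodule.smul_mono_left hK'Q
  refine ⟨Submodule.mapQ _ _ i (Submodule.smul_top_le_comap_smul_top Q i),
    liftKill Q P' _ ((Submodule.factor hle) ∘ₗ r) (fun a ha y => smul_mk_eq_zero Q P ha y), ?_⟩
  apply Submodule.linearMap_qext
  ext p
  have h1 := LinearMap.congr_fun hri p
  simp only [LinearMap.comp_apply, Submodule.mkQ_apply, LinearMap.id_apply] at h1 ⊢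
  rw [Submodule.mapQ_apply, liftKill_mk, LinearMap.comp_apply, h1]
  rfl

/-- flatness passes to retracts (over a quotient ring) -/
theorem Retr.flat (I : Ideal A) [Module (A ⧸ I) P] [IsScalarTower A (A ⧸ I) P]
    [Module (A ⧸ I) P'] [IsScalarTower A (A ⧸ I) P'] (h : Retr (A := A) P P')
    [Module.Flat (A ⧸ I) P'] : Module.Flat (A ⧸ I) P := by
  obtain ⟨ι, ρ, h⟩ := h
  refine Module.Flat.of_retract
    (LinearMap.extendScalarsOfSurjective (Ideal.Quotient.mk_surjective (I := I)) ι)
    (LinearMap.extendScalarsOfSurjective (Ideal.Quotient.mk_surjective (I := I)) ρ) ?_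
  ext p
  exact LinearMap.congr_fun h p

end Retract

/-- the retract produced by a bijective comparison map -/
theorem retr_of_bijective (h : ℕ) (hbij : Function.Bijective (Phi K x M h)) (Q' : Ideal A)
    (hQ' : K ⊔ Ideal.span {x} ≤ Q') :
    Retr (A := A) (G K M h ⧸ (Q' • ⊤ : Submodule A (G K M h)))
      (G (K ⊔ Ideal.span {x}) M h ⧸ (Q' • ⊤ : Submodule A (G (K ⊔ Ideal.span {x}) M h))) := by
  classical
  let e := LinearEquiv.ofBijective (Phi K x M h) hbij
  let i : G K M h →ₗ[A] Nn K x M h := (PhiI K x M h 0 (Nat.zero_le h)) ∘ₗ Submodule.mkQ _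
  let r : Nn K x M h →ₗ[A] Q K x M h :=
    (LinearMap.proj (0 : Fin (h + 1)) : ((i : Fin (h + 1)) → Q K x M (h - i)) →ₗ[A] _) ∘ₗ
      e.symm.toLinearMap
  refine retract_red (K ⊔ Ideal.span {x}) Q' hQ' i r (LinearMap.ext fun g => ?_)
  have h1 : PhiI K x M h 0 (Nat.zero_le h) (Submodule.Quotient.mk g) =
      Phi K x M h (Pi.single (M := fun i : Fin (h + 1) => Q K x M (h - i)) 0
        (Submodule.Quotient.mk g)) := by
    rw [Phi_apply, Finset.sum_eq_single (0 : Fin (h + 1))]
    · rw [Pi.single_eq_same]; rfl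
    · intro b _ hb
      rw [Pi.single_eq_of_ne hb, map_zero]
    · intro h0; exact absurd (Finset.mem_univ _) h0
  show (LinearMap.proj (0 : Fin (h + 1)) : ((i : Fin (h + 1)) → Q K x M (h - i)) →ₗ[A] _)
    (e.symm (PhiI K x M h 0 (Nat.zero_le h) (Submodule.Quotient.mk g))) = Submodule.Quotient.mk g
  rw [h1]
  have h2 : e.symm (Phi K x M h (Pi.single (M := fun i : Fin (h + 1) => Q K x M (h - i)) 0
      (Submodule.Quotient.mk g))) = Pi.single (M := fun i : Fin (h + 1) => Q K x M (h - i)) 0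
        (Submodule.Quotient.mk g) := e.symm_apply_apply _
  rw [h2]
  exact Pi.single_eq_same (M := fun i : Fin (h + 1) => Q K x M (h - i)) (0 : Fin (h + 1)) _

end Groth.Agent.H73.NFStep
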