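import Mathlib
import Groth.Agent.H73.NFTrunc

/-!
# The chain `R ⊂ R + (f_1) ⊂ ⋯ ⊂ R + (f_1, …, f_n)`

Iterating the truncated step along a regular sequence in the Jacobson radical.
-/

set_option autoImplicit false
universe u

namespace Groth.Agent.H73.NFStep

open RingTheory.Sequence Pointwise

variable {A : Type u} [CommRing A]

/-- `(A/R)/x(A/R) ≃ A/(R + (x))` as `A`-modules -/
noncomputable def quotSMulTopEquiv (R : Ideal A) (x : A) :
    QuotSMulTop x (A ⧸ R) ≃ₗ[A] A ⧸ (R ⊔ Ideal.span {x}) := by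
  let f1 : (A ⧸ R) →ₗ[A] A ⧸ (R ⊔ Ideal.span {x}) :=
    Submodule.factor (le_sup_left : R ≤ R ⊔ Ideal.span {x})
  have hf1 : ∀ a : A, f1 (Submodule.Quotient.mk a) = Submodule.Quotient.mk a := fun a => rfl
  have hle : x • (⊤ : Submodule A (A ⧸ R)) ≤ LinearMap.ker f1 := by
    intro y hy
    obtain ⟨z, -, rfl⟩ := (Submodule.mem_smul_pointwise_iff_exists _ _ _).mp hy
    obtain ⟨a, rfl⟩ := Submodule.Quotient.mk_surjective _ z
    rw [LinearMap.mem_ker, ← Submodule.Quotient.mk_smul, hf1, Submodule.Quotient.mk_eq_zero]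
    exact Ideal.mem_sup_right (Ideal.mem_span_singleton'.mpr ⟨a, by rw [smul_eq_mul, mul_comm]⟩)
  refine LinearEquiv.ofBijective (Submodule.liftQ _ f1 hle) ⟨?_, ?_⟩
  · rw [injective_iff_map_eq_zero]
    intro y hy
    obtain ⟨z, rfl⟩ := Submodule.Quotient.mk_surjective _ y
    obtain ⟨a, rfl⟩ := Submodule.Quotient.mk_surjective _ z
    have h1 : f1 (Submodule.Quotient.mk a) = 0 := hy
    rw [hf1, Submodule.Quotient.mk_eq_zero] at h1
    obtain ⟨r, hr, s, hs, rfl⟩ := Submodule.mem_sup.mp h1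
    obtain ⟨c, rfl⟩ := Ideal.mem_span_singleton'.mp hs
    rw [Submodule.Quotient.mk_eq_zero]
    refine (Submodule.mem_smul_pointwise_iff_exists _ _ _).mpr
      ⟨Submodule.Quotient.mk c, Submodule.mem_top, ?_⟩
    rw [← Submodule.Quotient.mk_smul, smul_eq_mul, mul_comm, eq_comm, ← sub_eq_zero,
      ← Submodule.Quotient.mk_sub, Submodule.Quotient.mk_eq_zero]
    simpa using hr
  · intro y
    obtain ⟨a, rfl⟩ := Submodule.Quotient.mk_surjective _ y
    exact ⟨Submodule.Quotient.mk (Submodule.Quotient.mk a), rfl⟩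

theorem span_range_succ {n : ℕ} (f : Fin (n + 1) → A) (R : Ideal A) :
    R ⊔ Ideal.span (Set.range f) =
      (R ⊔ Ideal.span {f 0}) ⊔ Ideal.span (Set.range fun i : Fin n => f i.succ) := by
  have h1 : Set.range f = insert (f 0) (Set.range fun i : Fin n => f i.succ) := by
    ext a
    constructor
    · rintro ⟨i, rfl⟩
      refine Fin.cases ?_ (fun j => ?_) i
      · exact Set.mem_insert _ _
      · exact Set.mem_insert_of_mem _ ⟨j, rfl⟩
    · rintro (rfl | ⟨j, rfl⟩)
      · exact ⟨0, rfl⟩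
      · exact ⟨j.succ, rfl⟩
  rw [h1, Ideal.span_insert, sup_assoc]

variable (M : Type u) [AddCommGroup M] [Module A M]

/-- iterating the truncated step along a regular sequence -/
theorem chain [IsNoetherianRing A] [Module.Finite A M] : ∀ (n : ℕ) (R : Ideal A) (f : Fin n → A),
    (∀ i, f i ∈ (⊥ : Ideal A).jacobson) → IsWeaklyRegular (A ⧸ R) (List.ofFn f) →
    ∀ (Q' : Ideal A), Q' = R ⊔ Ideal.span (Set.range f) → ∀ h : ℕ,
    (∀ j, j < h → Module.Flat (A ⧸ R) (G R M j)) →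
    (∀ j, j < h → Module.Flat (A ⧸ Q') (G Q' M j)) ∧
      Retr (A := A) (G R M h ⧸ (Q' • ⊤ : Submodule A (G R M h)))
        (G Q' M h ⧸ (Q' • ⊤ : Submodule A (G Q' M h))) := by
  intro n
  induction n with
  | zero =>
    intro R f _ _ Q' hQ' h hT
    have hQR : Q' = R := by
      rw [hQ', Set.range_eq_empty, Ideal.span_empty, sup_bot_eq]
    subst hQR
    exact ⟨hT, Retr.refl⟩
  | succ n ih =>
    intro R f hrad hreg Q' hQ' h hT
    have hlist : List.ofFn f = f 0 :: List.ofFn (fun i : Fin n => f i.succ) := List.ofFn_succ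
    rw [hlist, isWeaklyRegular_cons_iff] at hreg
    obtain ⟨hx, hreg'⟩ := hreg
    have hreg1 : IsWeaklyRegular (A ⧸ (R ⊔ Ideal.span {f 0}))
        (List.ofFn (fun i : Fin n => f i.succ)) :=
      ((quotSMulTopEquiv R (f 0)).isWeaklyRegular_congr _).mp hreg'
    have hQ1 : Q' = (R ⊔ Ideal.span {f 0}) ⊔ Ideal.span (Set.range fun i : Fin n => f i.succ) := by
      rw [hQ', span_range_succ]
    obtain ⟨hT1, hbij⟩ := truncStep R (f 0) (M := M) (hrad 0) hx h hT
    obtain ⟨hTQ, hretr⟩ := ih (R ⊔ Ideal.span {f 0}) (fun i : Fin n => f i.succ)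
      (fun i => hrad i.succ) hreg1 Q' hQ1 h hT1
    have hle : R ⊔ Ideal.span {f 0} ≤ Q' := by rw [hQ1]; exact le_sup_left
    exact ⟨hTQ, (retr_of_bijective R (f 0) h hbij Q' hle).trans hretr⟩

/-- normal flatness along `R` implies normal flatness along `R + (f)` -/
theorem isNormallyFlat_sup [IsNoetherianRing A] [Module.Finite A M] {n : ℕ} (R : Ideal A)
    (f : Fin n → A) (hrad : ∀ i, f i ∈ (⊥ : Ideal A).jacobson)
    (hreg : IsWeaklyRegular (A ⧸ R) (List.ofFn f)) (h : EGA4.IsNormallyFlat R M) :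
    EGA4.IsNormallyFlat (R ⊔ Ideal.span (Set.range f)) M := by
  intro k
  exact (chain M n R f hrad hreg _ rfl (k + 1) (fun j _ => h j)).1 k (Nat.lt_succ_self k)

end Groth.Agent.H73.NFStep
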