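import Mathlib
import Groth.Agent.H73.NFChain
import Groth.Agent.H73.LocRegular

/-!
# Hironaka's criterion a) ⇔ d) for normal flatness

`gr_R(M)` is flat over `A/R` iff `gr_Q(M)` is flat over `A/Q` (`Q = R + (f)`) and `gr_R(M)` is flat
at the associated primes of `A/Q`.
-/

set_option autoImplicit false
universe u

namespace Groth.Agent.H73.NFStep

open RingTheory.Sequence Pointwise Groth.Agent.H73.LocReg

variable {A : Type u} [CommRing A]

section TF

variable (R : Ideal A) {n : ℕ} (f : Fin n → A) (N : Type u) [AddCommGroup N] [Module A N]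
  [Module (A ⧸ R) N] [IsScalarTower A (A ⧸ R) N]

/-- the sequence in `A/R` -/
abbrev rsB : List (A ⧸ R) := (List.ofFn f).map (algebraMap A (A ⧸ R))

/-- the multiplicative sets: complements of the associated primes of `A/Q` over `A/R` -/
def PP : Set (Submonoid (A ⧸ R)) :=
  {S | ∃ (p : Ideal (A ⧸ R)) (_ : p.IsPrime),
    p ∈ associatedPrimes (A ⧸ R)
      ((A ⧸ R) ⧸ Ideal.map (Ideal.Quotient.mk R) (R ⊔ Ideal.span (Set.range f))) ∧
    S = p.primeCompl}

theorem ofList_smul_top_eq :
    ((Ideal.ofList (rsB R f) • ⊤ : Submodule (A ⧸ R) N).restrictScalars A) =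
      ((R ⊔ Ideal.span (Set.range f)) • ⊤ : Submodule A N) := by
  have hlist : Ideal.ofList (rsB R f) =
      (Ideal.span (Set.range f)).map (Ideal.Quotient.mkₐ A R) :=
    Groth.Agent.H25.NormFlat.ofList_ofFn_map R f
  apply le_antisymm
  · intro y hy
    have hy' : y ∈ (Ideal.ofList (rsB R f) • ⊤ : Submodule (A ⧸ R) N) := hy
    refine Submodule.smul_induction_on hy' ?_ ?_
    · intro b hb m _
      rw [hlist] at hb
      obtain ⟨a, ha, rfl⟩ := (Ideal.mem_map_iff_of_surjective (Ideal.Quotient.mkₐ A R)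
        (Ideal.Quotient.mkₐ_surjective A R)).mp hb
      have h1 : (Ideal.Quotient.mkₐ A R a) • m = a • m := by
        show (algebraMap A (A ⧸ R) a) • m = a • m
        rw [algebraMap_smul]
      rw [h1]
      exact Submodule.smul_mem_smul (Ideal.mem_sup_right ha) Submodule.mem_top
    · intro y1 y2 h1 h2
      exact Submodule.add_mem _ h1 h2
  · rw [Submodule.smul_le]
    intro a ha m _
    obtain ⟨r, hr, s, hs, rfl⟩ := Submodule.mem_sup.mp ha
    show (r + s) • m ∈ (Ideal.ofList (rsB R f) • ⊤ : Submodule (A ⧸ R) N)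
    have h1 : r • m = 0 := by
      rw [← algebraMap_smul (A ⧸ R) r m]
      have : algebraMap A (A ⧸ R) r = 0 := Ideal.Quotient.eq_zero_iff_mem.mpr hr
      rw [this, zero_smul]
    rw [add_smul, h1, zero_add, ← algebraMap_smul (A ⧸ R) s m]
    refine Submodule.smul_mem_smul ?_ Submodule.mem_top
    rw [hlist]
    exact Ideal.mem_map_of_mem _ hs

/-- the two quotients by `(f)` agree -/
noncomputable def quotEquiv :
    (N ⧸ ((R ⊔ Ideal.span (Set.range f)) • ⊤ : Submodule A N)) ≃ₗ[A]
      (N ⧸ (Ideal.ofList (rsB R f) • ⊤ : Submodule (A ⧸ R) N)) :=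
  (Submodule.quotEquivOfEq _ _ (ofList_smul_top_eq R f N).symm).trans
    (Submodule.Quotient.restrictScalarsEquiv A _)

variable [IsNoetherianRing A] [Module.Finite A N]

/-- torsion-freeness of `N/(f)N` relative to the associated primes of `A/Q`, from flatness -/
theorem TF_of_flat
    [Module.Flat (A ⧸ (R ⊔ Ideal.span (Set.range f)))
      (N ⧸ ((R ⊔ Ideal.span (Set.range f)) • ⊤ : Submodule A N))] :
    ∀ w : N ⧸ (Ideal.ofList (rsB R f) • ⊤ : Submodule (A ⧸ R) N), w ≠ 0 →
      ∃ S ∈ PP R f, ∀ b : A ⧸ R, b • w = 0 → b ∉ S := by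
  intro w hw
  set Q' : Ideal A := R ⊔ Ideal.span (Set.range f) with hQ'
  have hy : (quotEquiv R f N).symm w ≠ 0 := (LinearEquiv.map_ne_zero_iff _).mpr hw
  haveI : Module.Finite (A ⧸ Q') (N ⧸ (Q' • ⊤ : Submodule A N)) :=
    Module.Finite.of_restrictScalars_finite A _ _
  haveI : Module.FinitePresentation (A ⧸ Q') (N ⧸ (Q' • ⊤ : Submodule A N)) :=
    Module.finitePresentation_of_finite _ _
  haveI : Module.Projective (A ⧸ Q') (N ⧸ (Q' • ⊤ : Submodule A N)) :=
    Module.Flat.projective_of_finitePresentation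
  obtain ⟨ψ, hψ⟩ := Module.Projective.exists_dual_ne_zero (A ⧸ Q') hy
  let e := DoubleQuot.quotQuotEquivQuotOfLE (le_sup_left : R ≤ Q')
  have hc' : e.symm (ψ ((quotEquiv R f N).symm w)) ≠ 0 :=
    (map_ne_zero_iff _ e.symm.injective).mpr hψ
  obtain ⟨p, hp, hle⟩ := exists_le_isAssociatedPrime_of_isNoetherianRing (A ⧸ R) _ hc'
  haveI : p.IsPrime := hp.isPrime
  refine ⟨p.primeCompl, ⟨p, hp.isPrime, hp, rfl⟩, fun b hb hbS => hbS (hle ?_)⟩
  rw [Submodule.mem_colon_singleton, Submodule.mem_bot]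
  obtain ⟨a, rfl⟩ := Ideal.Quotient.mk_surjective b
  have h1 : a • (quotEquiv R f N).symm w = 0 := by
    rw [← map_smul, ← algebraMap_smul (A ⧸ R) a w]
    have : algebraMap A (A ⧸ R) a • w = 0 := hb
    rw [this, map_zero]
  have h2 : Ideal.Quotient.mk Q' a * ψ ((quotEquiv R f N).symm w) = 0 := by
    have h3 : ψ (a • (quotEquiv R f N).symm w) = 0 := by rw [h1, map_zero]
    rw [← algebraMap_smul (A ⧸ Q') a, map_smul, smul_eq_mul] at h3
    exact h3
  have h4 : e.symm (Ideal.Quotient.mk Q' a) = Ideal.Quotient.mk _ (Ideal.Quotient.mk R a) :=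
    DoubleQuot.quotQuotEquivQuotOfLE_symm_mk a _
  have h5 : (Ideal.Quotient.mk R a) • e.symm (ψ ((quotEquiv R f N).symm w)) =
      e.symm (Ideal.Quotient.mk Q' a) * e.symm (ψ ((quotEquiv R f N).symm w)) := by
    rw [h4, Algebra.smul_def]
    rfl
  rw [h5, ← map_mul, h2, map_zero]

end TF

variable [IsNoetherianRing A]

/-- the converse direction of Hironaka's criterion -/
theorem flat_of_loc (R : Ideal A) {n : ℕ} (f : Fin n → A)
    (hrad : ∀ i, f i ∈ (⊥ : Ideal A).jacobson)
    (hreg : IsWeaklyRegular (A ⧸ R) (List.ofFn f))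
    (M : Type u) [AddCommGroup M] [Module A M] [Module.Finite A M]
    (hQ : EGA4.IsNormallyFlat (R ⊔ Ideal.span (Set.range f)) M)
    (hloc : ∀ (p : Ideal (A ⧸ R)) [p.IsPrime],
      p ∈ associatedPrimes (A ⧸ R)
        ((A ⧸ R) ⧸ Ideal.map (Ideal.Quotient.mk R) (R ⊔ Ideal.span (Set.range f))) →
      ∀ k : ℕ, Module.Flat (Localization.AtPrime p) (LocalizedModule p.primeCompl (G R M k))) :
    ∀ h j : ℕ, j < h → Module.Flat (A ⧸ R) (G R M j) := by
  intro h
  induction h with
  | zero => intro j hj; omega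
  | succ h ih =>
    intro j hj
    by_cases hjh : j < h
    · exact ih j hjh
    obtain rfl : j = h := by omega
    set Q' : Ideal A := R ⊔ Ideal.span (Set.range f) with hQ'
    obtain ⟨-, hretr⟩ := chain M n R f hrad hreg Q' rfl j ih
    haveI : Module.Flat (A ⧸ Q') (G Q' M j) := hQ j
    have hbot : (Q' • ⊤ : Submodule A (G Q' M j)) = ⊥ := by
      rw [eq_bot_iff, Submodule.smul_le]
      intro a ha y _
      rw [Submodule.mem_bot]
      exact smul_mk_eq_zero Q' _ ha y
    haveI : Module.Flat (A ⧸ Q') (G Q' M j ⧸ (Q' • ⊤ : Submodule A (G Q' M j))) :=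
      Retr.flat Q' (Retr.of_equiv (Submodule.quotEquivOfEqBot _ hbot))
    haveI : Module.Flat (A ⧸ Q') (G R M j ⧸ (Q' • ⊤ : Submodule A (G R M j))) :=
      Retr.flat Q' hretr
    haveI : Module.Finite (A ⧸ R) (G R M j) := Module.Finite.of_restrictScalars_finite A _ _
    have hTF := TF_of_flat R f (G R M j)
    have hB : IsWeaklyRegular (A ⧸ R) (rsB R f) :=
      (isWeaklyRegular_map_algebraMap_iff (A ⧸ R) (A ⧸ R) (List.ofFn f)).mpr hreg
    have hLoc : ∀ S ∈ PP R f, LocWR S (G R M j) (rsB R f) := by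
      rintro S ⟨p, hp, hpass, rfl⟩
      haveI := hp
      haveI : Module.Flat (Localization.AtPrime p) (LocalizedModule p.primeCompl (G R M j)) :=
        hloc p hpass j
      haveI : Module.Flat (A ⧸ R) (LocalizedModule p.primeCompl (G R M j)) :=
        (Module.flat_iff_of_isLocalization (Localization.AtPrime p) p.primeCompl _).mp
          inferInstance
      exact ⟨LocalizedModule p.primeCompl (G R M j), inferInstance, inferInstance,
        LocalizedModule.mkLinearMap p.primeCompl (G R M j), inferInstance,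
        Groth.Agent.H25.NormFlat.isWeaklyRegular_of_flat _ (rsB R f) hB⟩
    have hradB : ∀ r ∈ rsB R f, r ∈ (⊥ : Ideal (A ⧸ R)).jacobson := by
      intro r hr
      obtain ⟨a, ha, rfl⟩ := List.mem_map.mp hr
      obtain ⟨i, rfl⟩ := (List.mem_ofFn' f a).mp ha
      exact Groth.Agent.H25.NormFlat.mem_jacobson_map R (hrad i)
    have hwr := isWeaklyRegular_of_loc (PP R f) (rsB R f) (G R M j) hradB hTF hLoc
    have hwrA : IsWeaklyRegular (G R M j) (List.ofFn f) :=
      (isWeaklyRegular_map_algebraMap_iff (A ⧸ R) _ _).mp hwr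
    exact (Groth.Agent.H25.NormFlat.flat_iff R f (G R M j) hrad hreg).mpr ⟨inferInstance, hwrA⟩

/-- Hironaka's criterion a) ⇔ d). -/
theorem hironaka_iff (R : Ideal A) {n : ℕ} (f : Fin n → A)
    (hrad : ∀ i, f i ∈ (⊥ : Ideal A).jacobson)
    (hreg : IsWeaklyRegular (A ⧸ R) (List.ofFn f))
    (M : Type u) [AddCommGroup M] [Module A M] [Module.Finite A M] :
    EGA4.IsNormallyFlat R M ↔
      EGA4.IsNormallyFlat (R ⊔ Ideal.span (Set.range f)) M ∧
        ∀ (p : Ideal (A ⧸ R)) [p.IsPrime],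
          p ∈ associatedPrimes (A ⧸ R)
            ((A ⧸ R) ⧸ Ideal.map (Ideal.Quotient.mk R) (R ⊔ Ideal.span (Set.range f))) →
          ∀ k : ℕ, Module.Flat (Localization.AtPrime p)
            (LocalizedModule p.primeCompl (G R M k)) := by
  constructor
  · intro h
    refine ⟨isNormallyFlat_sup M R f hrad hreg h, fun p _ _ k => ?_⟩
    haveI : Module.Flat (A ⧸ R) (G R M k) := h k
    infer_instance
  · rintro ⟨hQ, hloc⟩ k
    exact flat_of_loc R f hrad hreg M hQ hloc (k + 1) k (Nat.lt_succ_self k)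

end Groth.Agent.H73.NFStep
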