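import Mathlib
import Groth.Prelude.Def_Models

namespace Groth.Agent.H73.NumContr

open Finset Models Models.NumericalType

variable {n : ℕ} (T : NumericalType (n + 1)) (T' : NumericalType n)

/-- `x i = a i l` -/
def xx (i : Fin n) : ℤ := T.a i.castSucc (Fin.last n)
/-- `t i = a i l / w l` -/
def tt (i : Fin n) : ℤ := xx T i / T.w (Fin.last n)
/-- `s i = a i l / w i` -/
def ss (i : Fin n) : ℤ := xx T i / T.w i.castSucc

theorem xx_eq_wl (i : Fin n) : xx T i = T.w (Fin.last n) * tt T i := by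
  have h1 : T.w (Fin.last n) ∣ T.a (Fin.last n) i.castSucc := T.w_dvd _ _
  have h2 : T.a (Fin.last n) i.castSucc = T.a i.castSucc (Fin.last n) := T.symm.apply _ _
  rw [h2] at h1
  exact (Int.mul_ediv_cancel' h1).symm

theorem xx_eq_wi (i : Fin n) : xx T i = T.w i.castSucc * ss T i :=
  (Int.mul_ediv_cancel' (T.w_dvd _ _)).symm

theorem xx_nonneg (i : Fin n) : 0 ≤ xx T i :=
  T.offDiag_nonneg _ _ (Fin.castSucc_lt_last i).ne

theorem tt_nonneg (i : Fin n) : 0 ≤ tt T i :=
  Int.ediv_nonneg (xx_nonneg T i) (T.w_pos _).le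

theorem ss_nonneg (i : Fin n) : 0 ≤ ss T i :=
  Int.ediv_nonneg (xx_nonneg T i) (T.w_pos _).le

variable {T T'}

theorem a'_eq (h : T.IsMinusOne (Fin.last n)) (hT' : T.IsContraction T') (i j : Fin n) :
    T'.a i j = T.a i.castSucc j.castSucc + xx T i * tt T j := by
  rw [hT'.2.1 i j, h.2, Int.ediv_neg]
  have : T.a i.castSucc (Fin.last n) * T.a j.castSucc (Fin.last n) / T.w (Fin.last n)
      = xx T i * tt T j := by
    change xx T i * xx T j / _ = _
    rw [xx_eq_wl T j, ← mul_assoc, mul_comm (xx T i), mul_assoc,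
      Int.mul_ediv_cancel_left _ (T.w_pos _).ne']
  rw [this]; ring

/-- the ratio `w i / w' i` -/
def rr (T : NumericalType (n + 1)) (T' : NumericalType n) (i : Fin n) : ℤ := T.w i.castSucc / T'.w i

theorem w'_cases (hT' : T.IsContraction T') (i : Fin n) :
    (T'.w i = T.w i.castSucc ∧ ¬(2 ∣ tt T i ∧ ¬ 2 ∣ ss T i)) ∨
      (T.w i.castSucc = 2 * T'.w i ∧ 2 ∣ tt T i ∧ ¬ 2 ∣ ss T i) := by
  have hw := hT'.2.2.1 i
  by_cases hc : 2 ∣ tt T i ∧ ¬ 2 ∣ ss T i
  · right
    refine ⟨?_, hc⟩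
    have hc' : 2 ∣ T.a i.castSucc (Fin.last n) / T.w (Fin.last n) ∧
          ¬ 2 ∣ T.a i.castSucc (Fin.last n) / T.w i.castSucc := hc
    rw [if_pos hc'] at hw
    rw [hw]
    have h2 : (2:ℤ) ∣ T.w i.castSucc := by
      obtain ⟨k, hk⟩ := hc.1
      have e : T.w i.castSucc * ss T i = 2 * (T.w (Fin.last n) * k) := by
        rw [← xx_eq_wi, xx_eq_wl, hk]; ring
      have : (2:ℤ) ∣ T.w i.castSucc * ss T i := ⟨_, e⟩
      exact (Int.prime_two.dvd_or_dvd this).resolve_right hc.2
    exact (Int.mul_ediv_cancel' h2).symm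
  · left
    refine ⟨?_, hc⟩
    have hc' : ¬ (2 ∣ T.a i.castSucc (Fin.last n) / T.w (Fin.last n) ∧
          ¬ 2 ∣ T.a i.castSucc (Fin.last n) / T.w i.castSucc) := hc
    rw [if_neg hc'] at hw
    exact hw

theorem rr_cases (hT' : T.IsContraction T') (i : Fin n) :
    (rr T T' i = 1 ∨ rr T T' i = 2) ∧ T.w i.castSucc = T'.w i * rr T T' i := by
  rcases w'_cases hT' i with ⟨h1, -⟩ | ⟨h1, -⟩
  · refine ⟨Or.inl ?_, ?_⟩
    · rw [rr, h1, Int.ediv_self (T.w_pos _).ne']
    · rw [rr, h1, Int.ediv_self (T.w_pos _).ne', mul_one]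
  · have : rr T T' i = 2 := by
      rw [rr, h1, mul_comm, Int.mul_ediv_cancel_left _ (T'.w_pos _).ne']
    refine ⟨Or.inr this, ?_⟩
    rw [this, h1]; ring



theorem x_div_w' (hT' : T.IsContraction T') (i : Fin n) :
    xx T i / T'.w i = rr T T' i * ss T i := by
  have h1 := (rr_cases hT' i).2
  rw [xx_eq_wi T i, h1, mul_assoc, Int.mul_ediv_cancel_left _ (T'.w_pos _).ne']

theorem pic_last_last (h : T.IsMinusOne (Fin.last n)) :
    T.picMatrix (Fin.last n) (Fin.last n) = -1 := by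
  rw [picMatrix, h.2, Int.neg_ediv_of_dvd (dvd_refl _), Int.ediv_self (T.w_pos _).ne']

theorem pic_last_cast (j : Fin n) : T.picMatrix (Fin.last n) j.castSucc = tt T j := by
  rw [picMatrix, tt, xx, T.symm.apply]

theorem pic_cast_last (i : Fin n) : T.picMatrix i.castSucc (Fin.last n) = ss T i := rfl

theorem pic'_eq (h : T.IsMinusOne (Fin.last n)) (hT' : T.IsContraction T') (i j : Fin n) :
    T'.picMatrix i j = rr T T' i * T.picMatrix i.castSucc j.castSucc + rr T T' i * ss T i * tt T j := by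
  have h1 := (rr_cases hT' i).2
  have hq : T.a i.castSucc j.castSucc = T.w i.castSucc * T.picMatrix i.castSucc j.castSucc :=
    (Int.mul_ediv_cancel' (T.w_dvd _ _)).symm
  have : T'.a i j = T'.w i * (rr T T' i * T.picMatrix i.castSucc j.castSucc + rr T T' i * ss T i * tt T j) := by
    rw [a'_eq h hT', hq, xx_eq_wi T i, h1]; ring
  rw [picMatrix, this, Int.mul_ediv_cancel_left _ (T'.w_pos _).ne']

/-- the map on degree vectors -/
def f0 (T : NumericalType (n + 1)) (T' : NumericalType n) : (Fin (n+1) → ℤ) →ₗ[ℤ] (Fin n → ℤ) where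
  toFun d i := rr T T' i * d i.castSucc + (xx T i / T'.w i) * d (Fin.last n)
  map_add' d e := by ext i; simp only [Pi.add_apply]; ring
  map_smul' c d := by ext i; simp only [Pi.smul_apply, smul_eq_mul, RingHom.id_apply]; ring

theorem f0_apply (d : Fin (n+1) → ℤ) (i : Fin n) :
    f0 T T' d i = rr T T' i * d i.castSucc + (xx T i / T'.w i) * d (Fin.last n) := rfl

theorem f0_mulVec (h : T.IsMinusOne (Fin.last n)) (hT' : T.IsContraction T') (c : Fin (n+1) → ℤ) :
    f0 T T' (T.picMatrix.mulVec c) = T'.picMatrix.mulVec (fun j => c j.castSucc) := by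
  ext i
  rw [f0_apply, x_div_w' hT']
  simp only [Matrix.mulVec, dotProduct, Fin.sum_univ_castSucc]
  rw [pic_last_last h, pic_cast_last]
  simp_rw [pic_last_cast, pic'_eq h hT']
  rw [mul_add, mul_add, Finset.mul_sum, Finset.mul_sum]
  have : ∀ a b c d : ℤ, a + b + (c + d) = (a + c) + (b + d) := by intros; ring
  rw [this, ← Finset.sum_add_distrib]
  have e2 : rr T T' i * (ss T i * c (Fin.last n)) + rr T T' i * ss T i * (-1 * c (Fin.last n)) = 0 := by ring
  rw [e2, add_zero]
  exact Finset.sum_congr rfl (fun j _ => by ring)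




theorem pic_embeds (h : T.IsMinusOne (Fin.last n)) (hT' : T.IsContraction T') :
    ∃ f : T.Pic →+ T'.Pic, Function.Injective f ∧ ∀ y : T'.Pic, ∃ x : T.Pic, 2 • y = f x := by
  classical
  have hle : LinearMap.range (Matrix.mulVecLin T.picMatrix) ≤
      (LinearMap.range (Matrix.mulVecLin T'.picMatrix)).comap (f0 T T') := by
    rintro _ ⟨c, rfl⟩
    rw [Submodule.mem_comap, Matrix.mulVecLin_apply, f0_mulVec h hT']
    exact ⟨_, rfl⟩
  let F : T.Pic →ₗ[ℤ] T'.Pic := Submodule.mapQ _ _ (f0 T T') hle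
  have hrr : ∀ i, rr T T' i ≠ 0 := fun i => by
    rcases (rr_cases hT' i).1 with h1 | h1 <;> rw [h1] <;> norm_num
  refine ⟨F.toAddMonoidHom, ?_, ?_⟩
  · rw [injective_iff_map_eq_zero]
    intro x hx
    obtain ⟨d, rfl⟩ := Submodule.Quotient.mk_surjective _ x
    change F (Submodule.Quotient.mk d) = 0 at hx
    rw [Submodule.mapQ_apply, Submodule.Quotient.mk_eq_zero] at hx
    obtain ⟨c', hc'⟩ := hx
    rw [Matrix.mulVecLin_apply] at hc'
    rw [Submodule.Quotient.mk_eq_zero]
    let c : Fin (n+1) → ℤ := fun j => Fin.lastCases 0 c' j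
    have hc : (fun j : Fin n => c j.castSucc) = c' := by ext j; simp [c]
    set d₁ := d - T.picMatrix.mulVec c with hd₁
    have h0 : f0 T T' d₁ = 0 := by
      rw [hd₁, map_sub, f0_mulVec h hT', hc, hc', sub_self]
    have h1 : ∀ i : Fin n, d₁ i.castSucc = - ss T i * d₁ (Fin.last n) := by
      intro i
      have := congrFun h0 i
      rw [f0_apply, x_div_w' hT', Pi.zero_apply] at this
      have h2 : rr T T' i * (d₁ i.castSucc + ss T i * d₁ (Fin.last n)) = 0 := by
        rw [← this]; ring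
      have := (mul_eq_zero.mp h2).resolve_left (hrr i)
      linarith
    refine ⟨c + (- d₁ (Fin.last n)) • Pi.single (Fin.last n) 1, ?_⟩
    rw [Matrix.mulVecLin_apply, Matrix.mulVec_add, Matrix.mulVec_smul, Matrix.mulVec_single_one]
    have hd : d = T.picMatrix.mulVec c + d₁ := by rw [hd₁]; abel
    rw [hd]
    congr 1
    ext j
    refine Fin.lastCases ?_ (fun i => ?_) j
    · simp only [Pi.smul_apply, Matrix.col_apply, smul_eq_mul, pic_last_last h]; ring
    · simp only [Pi.smul_apply, Matrix.col_apply, smul_eq_mul, pic_cast_last, h1 i]; ring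
  · intro y
    obtain ⟨y₀, rfl⟩ := Submodule.Quotient.mk_surjective _ y
    let d : Fin (n+1) → ℤ := fun j => Fin.lastCases 0 (fun i => (2 / rr T T' i) * y₀ i) j
    refine ⟨Submodule.Quotient.mk d, ?_⟩
    change _ = F (Submodule.Quotient.mk d)
    rw [Submodule.mapQ_apply, ← Submodule.Quotient.mk_smul]
    congr 1
    ext i
    rw [f0_apply]
    simp only [d, Fin.lastCases_castSucc, Fin.lastCases_last, mul_zero, add_zero, Pi.smul_apply,
      smul_eq_mul]
    rcases (rr_cases hT' i).1 with h1 | h1 <;> rw [h1] <;> norm_num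


end Groth.Agent.H73.NumContr
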