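import Mathlib
import Groth.Agent.H73.NumContr
import Groth.Agent.H11.NumType

namespace Groth.Agent.H73.NumContr

open Finset Models Models.NumericalType

variable {n : ℕ} (T : NumericalType (n + 1))

theorem two_dvd_w (i : Fin n) (hc : 2 ∣ tt T i ∧ ¬ 2 ∣ ss T i) : (2:ℤ) ∣ T.w i.castSucc := by
  obtain ⟨k, hk⟩ := hc.1
  have e : T.w i.castSucc * ss T i = 2 * (T.w (Fin.last n) * k) := by
    rw [← xx_eq_wi, xx_eq_wl, hk]; ring
  have : (2:ℤ) ∣ T.w i.castSucc * ss T i := ⟨_, e⟩
  exact (Int.prime_two.dvd_or_dvd this).resolve_right hc.2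

/-- The quotient appearing in `g'` is exact, for any `v` which is `w i` or `w i / 2` according to the
halving condition. -/
theorem exists_quot (i : Fin n) (v : ℤ)
    (hv : (v = T.w i.castSucc ∧ ¬(2 ∣ tt T i ∧ ¬ 2 ∣ ss T i)) ∨
      (T.w i.castSucc = 2 * v ∧ 2 ∣ tt T i ∧ ¬ 2 ∣ ss T i)) :
    ∃ K : ℤ, xx T i ^ 2 - T.w (Fin.last n) * xx T i = (2 * v * T.w (Fin.last n)) * K ∧
      2 * v * K = T.w (Fin.last n) * tt T i * (tt T i - 1) ∧
      (T.w i.castSucc = 2 * v → 1 ≤ K) := by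
  have h1 := xx_eq_wl T i
  have h2 := xx_eq_wi T i
  have hst : T.w (Fin.last n) * tt T i = T.w i.castSucc * ss T i := by rw [← h1, ← h2]
  rcases hv with ⟨hv, hc⟩ | ⟨hv, hc⟩
  · -- 2 ∣ s (t - 1)
    have h2 : (2:ℤ) ∣ ss T i * (tt T i - 1) := by
      by_cases ht : 2 ∣ tt T i
      · have hs : 2 ∣ ss T i := by
          by_contra hs; exact hc ⟨ht, hs⟩
        exact Dvd.dvd.mul_right hs _
      · have : (2:ℤ) ∣ tt T i - 1 := by omega
        exact Dvd.dvd.mul_left this _
    obtain ⟨K, hK⟩ := h2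
    refine ⟨K, ?_, ?_, ?_⟩
    · rw [h1, hv]
      have : (T.w (Fin.last n) * tt T i) ^ 2 - T.w (Fin.last n) * (T.w (Fin.last n) * tt T i)
          = T.w (Fin.last n) * ((T.w (Fin.last n) * tt T i) * (tt T i - 1)) := by ring
      rw [this, hst, mul_assoc (T.w i.castSucc), hK]; ring
    · rw [hv, hst, mul_assoc (T.w i.castSucc), hK]; ring
    · intro hw
      have := T.w_pos i.castSucc
      rw [hv] at hw; omega
  · refine ⟨ss T i * (tt T i - 1), ?_, ?_, ?_⟩
    · rw [h1]
      have : (T.w (Fin.last n) * tt T i) ^ 2 - T.w (Fin.last n) * (T.w (Fin.last n) * tt T i)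
          = T.w (Fin.last n) * ((T.w (Fin.last n) * tt T i) * (tt T i - 1)) := by ring
      rw [this, hst, hv]; ring
    · rw [hst, hv]; ring
    · intro _
      have hs0 := ss_nonneg T i
      have ht0 := tt_nonneg T i
      have hs1 : 1 ≤ ss T i := by
        rcases hs0.lt_or_eq with h | h
        · omega
        · exact absurd (h ▸ dvd_zero 2) hc.2
      have ht2 : 2 ≤ tt T i := by
        obtain ⟨k, hk⟩ := hc.1
        by_contra hlt
        have hk0 : tt T i = 0 := by omega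
        have hwl := T.w_pos (Fin.last n)
        have hwi := T.w_pos i.castSucc
        rw [hk0, mul_zero] at hst
        have : ss T i = 0 := by
          rcases mul_eq_zero.mp hst.symm with h | h
          · omega
          · exact h
        omega
      nlinarith

theorem quot_eq (i : Fin n) (v : ℤ) (hvpos : 0 < v) (K : ℤ)
    (hK : xx T i ^ 2 - T.w (Fin.last n) * xx T i = (2 * v * T.w (Fin.last n)) * K) :
    (T.a i.castSucc (Fin.last n) ^ 2 - T.w (Fin.last n) * T.a i.castSucc (Fin.last n)) /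
        (2 * v * T.w (Fin.last n)) = K := by
  change (xx T i ^ 2 - T.w (Fin.last n) * xx T i) / _ = K
  have := T.w_pos (Fin.last n)
  rw [hK, Int.mul_ediv_cancel_left _ (by positivity)]



/-- candidate `w'` -/
def cw (i : Fin n) : ℤ :=
  if 2 ∣ T.a i.castSucc (Fin.last n) / T.w (Fin.last n) ∧
      ¬ 2 ∣ T.a i.castSucc (Fin.last n) / T.w i.castSucc
  then T.w i.castSucc / 2 else T.w i.castSucc

/-- candidate `a'` -/
def ca (i j : Fin n) : ℤ := T.a i.castSucc j.castSucc -
      T.a i.castSucc (Fin.last n) * T.a j.castSucc (Fin.last n) / T.a (Fin.last n) (Fin.last n)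

/-- candidate `g'` -/
def cg (i : Fin n) : ℤ := T.w i.castSucc / cw T i * (T.g i.castSucc - 1) + 1 +
      (T.a i.castSucc (Fin.last n) ^ 2 - T.w (Fin.last n) * T.a i.castSucc (Fin.last n)) /
        (2 * cw T i * T.w (Fin.last n))

theorem cw_cases (i : Fin n) :
    (cw T i = T.w i.castSucc ∧ ¬(2 ∣ tt T i ∧ ¬ 2 ∣ ss T i)) ∨
      (T.w i.castSucc = 2 * cw T i ∧ 2 ∣ tt T i ∧ ¬ 2 ∣ ss T i) := by
  by_cases hc : 2 ∣ tt T i ∧ ¬ 2 ∣ ss T i
  · right
    refine ⟨?_, hc⟩
    have hc' : 2 ∣ T.a i.castSucc (Fin.last n) / T.w (Fin.last n) ∧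
          ¬ 2 ∣ T.a i.castSucc (Fin.last n) / T.w i.castSucc := hc
    rw [cw, if_pos hc']
    exact (Int.mul_ediv_cancel' (two_dvd_w T i hc)).symm
  · left
    refine ⟨?_, hc⟩
    have hc' : ¬ (2 ∣ T.a i.castSucc (Fin.last n) / T.w (Fin.last n) ∧
          ¬ 2 ∣ T.a i.castSucc (Fin.last n) / T.w i.castSucc) := hc
    rw [cw, if_neg hc']

theorem cw_pos (i : Fin n) : 0 < cw T i := by
  have := T.w_pos i.castSucc
  rcases cw_cases T i with ⟨h1, -⟩ | ⟨h1, -⟩ <;> omega

theorem cw_dvd (i : Fin n) : cw T i ∣ T.w i.castSucc := by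
  rcases cw_cases T i with ⟨h1, -⟩ | ⟨h1, -⟩
  · rw [h1]
  · exact ⟨2, by rw [h1]; ring⟩

theorem ca_eq (h : T.IsMinusOne (Fin.last n)) (i j : Fin n) :
    ca T i j = T.a i.castSucc j.castSucc + xx T i * tt T j := by
  rw [ca, h.2, Int.ediv_neg]
  have : T.a i.castSucc (Fin.last n) * T.a j.castSucc (Fin.last n) / T.w (Fin.last n)
      = xx T i * tt T j := by
    change xx T i * xx T j / _ = _
    rw [xx_eq_wl T j, ← mul_assoc, mul_comm (xx T i), mul_assoc,
      Int.mul_ediv_cancel_left _ (T.w_pos _).ne']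
  rw [this]; ring

theorem cg_nonneg (i : Fin n) : 0 ≤ cg T i := by
  obtain ⟨K, hK1, hK2, hK3⟩ := exists_quot T i (cw T i) (cw_cases T i)
  have hq := quot_eq T i (cw T i) (cw_pos T i) K hK1
  rw [cg, hq]
  have hg := T.g_nonneg i.castSucc
  have hwl := T.w_pos (Fin.last n)
  have hv := cw_pos T i
  rcases cw_cases T i with ⟨h1, -⟩ | ⟨h1, -⟩
  · rw [h1, Int.ediv_self (T.w_pos _).ne']
    have hK0 : 0 ≤ K := by
      have h3 : 0 ≤ T.w (Fin.last n) * tt T i * (tt T i - 1) := by
        have ht := tt_nonneg T i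
        rcases ht.lt_or_eq with h | h
        · have : 0 ≤ tt T i - 1 := by omega
          positivity
        · rw [← h]; simp
      rw [← hK2] at h3
      by_contra hneg
      have : K < 0 := not_le.mp hneg
      nlinarith
    linarith
  · have hK := hK3 h1
    rw [h1, mul_comm 2, Int.mul_ediv_cancel_left _ hv.ne']
    linarith

theorem sum_tt_mul_m (h : T.IsMinusOne (Fin.last n)) :
    ∑ i : Fin n, tt T i * T.m i.castSucc = T.m (Fin.last n) := by
  have h1 := congrFun T.mulVec_m (Fin.last n)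
  simp only [Matrix.mulVec, dotProduct, Pi.zero_apply, Fin.sum_univ_castSucc] at h1
  rw [h.2] at h1
  have h2 : ∀ i : Fin n, T.a (Fin.last n) i.castSucc = T.w (Fin.last n) * tt T i := fun i => by
    rw [← xx_eq_wl, xx, T.symm.apply]
  simp_rw [h2, mul_assoc] at h1
  rw [← Finset.mul_sum] at h1
  have h3 : T.w (Fin.last n) * (∑ i : Fin n, tt T i * T.m i.castSucc - T.m (Fin.last n)) = 0 := by
    rw [mul_sub]; linarith
  have := (mul_eq_zero.mp h3).resolve_left (T.w_pos _).ne'
  linarith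

theorem n_pos (h : T.IsMinusOne (Fin.last n)) : 0 < n := by
  by_contra hn
  have hn0 : n = 0 := by omega
  subst hn0
  have h1 := congrFun T.mulVec_m (Fin.last 0)
  simp only [Matrix.mulVec, dotProduct, Pi.zero_apply, Fin.sum_univ_castSucc] at h1
  rw [Finset.univ_eq_empty, Finset.sum_empty, zero_add, h.2] at h1
  have := T.m_pos (Fin.last 0)
  have hw := T.w_pos (Fin.last 0)
  rcases mul_eq_zero.mp h1 with h1 | h1 <;> omega




theorem ca_connected (h : T.IsMinusOne (Fin.last n)) (I : Finset (Fin n)) (hI : I.Nonempty)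
    (hI' : I ≠ univ) : ∃ i ∈ I, ∃ j ∉ I, ca T i j ≠ 0 := by
  classical
  -- helper: positivity of ca
  have hpos1 : ∀ i j : Fin n, i ≠ j → T.a i.castSucc j.castSucc ≠ 0 → ca T i j ≠ 0 := by
    intro i j hij hne
    rw [ca_eq T h]
    have h1 : 0 ≤ T.a i.castSucc j.castSucc :=
      T.offDiag_nonneg _ _ (fun e => hij (Fin.castSucc_injective _ e))
    have h2 : 0 ≤ xx T i * tt T j := mul_nonneg (xx_nonneg T i) (tt_nonneg T j)
    have : 0 < T.a i.castSucc j.castSucc := lt_of_le_of_ne h1 (Ne.symm hne)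
    omega
  have hpos2 : ∀ i j : Fin n, i ≠ j → xx T i ≠ 0 → xx T j ≠ 0 → ca T i j ≠ 0 := by
    intro i j hij hi hj
    rw [ca_eq T h]
    have h1 : 0 ≤ T.a i.castSucc j.castSucc :=
      T.offDiag_nonneg _ _ (fun e => hij (Fin.castSucc_injective _ e))
    have hxi : 0 < xx T i := lt_of_le_of_ne (xx_nonneg T i) (Ne.symm hi)
    have htj : 0 < tt T j := by
      rcases (tt_nonneg T j).lt_or_eq with h' | h'
      · exact h'
      · exfalso; apply hj; rw [xx_eq_wl, ← h', mul_zero]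
    have : 0 < xx T i * tt T j := mul_pos hxi htj
    omega
  -- first application
  let J : Finset (Fin (n+1)) := I.map Fin.castSuccEmb
  have hJ1 : J.Nonempty := hI.map
  have hlast : ∀ K : Finset (Fin n), Fin.last n ∉ K.map Fin.castSuccEmb := by
    intro K hK
    rw [Finset.mem_map] at hK
    obtain ⟨i, -, hi⟩ := hK
    exact (Fin.castSucc_lt_last i).ne hi
  have hJ2 : J ≠ univ := fun e => hlast I (by rw [show I.map Fin.castSuccEmb = univ from e]; exact mem_univ _)
  have hmem : ∀ (K : Finset (Fin n)) (j : Fin n), j.castSucc ∈ K.map Fin.castSuccEmb ↔ j ∈ K := by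
    intro K j
    rw [Finset.mem_map]
    constructor
    · rintro ⟨k, hk, hkj⟩
      have : k = j := Fin.castSucc_injective _ hkj
      rwa [← this]
    · intro hj; exact ⟨j, hj, rfl⟩
  obtain ⟨a, ha, b, hb, hab⟩ := T.connected J hJ1 hJ2
  rw [Finset.mem_map] at ha
  obtain ⟨i, hi, rfl⟩ := ha
  rcases Fin.eq_castSucc_or_eq_last b with ⟨j, rfl⟩ | rfl
  · have hj : j ∉ I := fun hj => hb ((hmem I j).mpr hj)
    exact ⟨i, hi, j, hj, hpos1 i j (fun e => hj (e ▸ hi)) hab⟩
  · -- edge from I to last; look at the complement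
    have hxi : xx T i ≠ 0 := hab
    have hIc : (Iᶜ).Nonempty := by
      rw [Finset.nonempty_iff_ne_empty]
      intro e
      apply hI'
      rw [← Finset.compl_eq_empty_iff]; exact e
    let J₂ : Finset (Fin (n+1)) := (Iᶜ).map Fin.castSuccEmb
    have hJ₂1 : J₂.Nonempty := hIc.map
    have hJ₂2 : J₂ ≠ univ := fun e => hlast Iᶜ (by rw [show (Iᶜ).map Fin.castSuccEmb = univ from e]; exact mem_univ _)
    obtain ⟨a₂, ha₂, b₂, hb₂, hab₂⟩ := T.connected J₂ hJ₂1 hJ₂2
    rw [Finset.mem_map] at ha₂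
    obtain ⟨j, hj, rfl⟩ := ha₂
    rw [Finset.mem_compl] at hj
    rcases Fin.eq_castSucc_or_eq_last b₂ with ⟨i₂, rfl⟩ | rfl
    · have hi₂ : i₂ ∈ I := by
        by_contra hi₂
        exact hb₂ ((hmem Iᶜ i₂).mpr (Finset.mem_compl.mpr hi₂))
      refine ⟨i₂, hi₂, j, hj, hpos1 i₂ j (fun e => hj (e ▸ hi₂)) ?_⟩
      rw [← T.symm.apply]; exact hab₂
    · have hxj : xx T j ≠ 0 := hab₂
      exact ⟨i, hi, j, hj, hpos2 i j (fun e => hj (e ▸ hi)) hxi hxj⟩




/-- the contracted numerical type -/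
def contr (h : T.IsMinusOne (Fin.last n)) : NumericalType n where
  m i := T.m i.castSucc
  a := Matrix.of (ca T)
  w := cw T
  g := cg T
  pos := n_pos T h
  m_pos i := T.m_pos _
  w_pos := cw_pos T
  g_nonneg := cg_nonneg T
  symm := by
    ext i j
    simp only [Matrix.transpose_apply, Matrix.of_apply, ca]
    rw [T.symm.apply, mul_comm]
  offDiag_nonneg i j hij := by
    simp only [Matrix.of_apply]
    rw [ca_eq T h]
    have h1 : 0 ≤ T.a i.castSucc j.castSucc :=
      T.offDiag_nonneg _ _ (fun e => hij (Fin.castSucc_injective _ e))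
    have h2 : 0 ≤ xx T i * tt T j := mul_nonneg (xx_nonneg T i) (tt_nonneg T j)
    omega
  connected I hI hI' := by
    simpa only [Matrix.of_apply] using ca_connected T h I hI hI'
  mulVec_m := by
    ext i
    simp only [Matrix.mulVec, dotProduct, Matrix.of_apply, Pi.zero_apply]
    simp_rw [ca_eq T h, add_mul, Finset.sum_add_distrib, mul_assoc]
    rw [← Finset.mul_sum, sum_tt_mul_m T h]
    have h1 := congrFun T.mulVec_m i.castSucc
    simp only [Matrix.mulVec, dotProduct, Pi.zero_apply, Fin.sum_univ_castSucc] at h1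
    exact h1
  w_dvd i j := by
    simp only [Matrix.of_apply]
    rw [ca_eq T h]
    exact dvd_add ((cw_dvd T i).trans (T.w_dvd _ _))
      (Dvd.dvd.mul_right ((cw_dvd T i).trans (T.w_dvd _ _)) _)

theorem contr_isContraction (h : T.IsMinusOne (Fin.last n)) : T.IsContraction (contr T h) :=
  ⟨fun _ => rfl, fun _ _ => rfl, fun _ => rfl, fun _ => rfl⟩


variable {n : ℕ} (T : NumericalType (n + 1)) {T' : NumericalType n}

theorem genus_contr (h : T.IsMinusOne (Fin.last n)) (hT' : T.IsContraction T') :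
    T'.genus = T.genus := by
  obtain ⟨σ, hσ⟩ := Groth.Agent.H11.NT.two_dvd_sum T
  obtain ⟨σ', hσ'⟩ := Groth.Agent.H11.NT.two_dvd_sum T'
  rw [genus, genus, hσ, hσ', Int.mul_ediv_cancel_left _ (by norm_num), Int.mul_ediv_cancel_left _ (by norm_num)]
  -- the per-index identity
  have hterm : ∀ i : Fin n, 2 * (T'.m i * T'.w i * (T'.g i - 1)) =
      2 * (T.m i.castSucc * T.w i.castSucc * (T.g i.castSucc - 1)) +
        T.m i.castSucc * (T.w (Fin.last n) * tt T i * (tt T i - 1)) := by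
    intro i
    obtain ⟨K, hK1, hK2, -⟩ := exists_quot T i (T'.w i) (w'_cases hT' i)
    have hq := quot_eq T i (T'.w i) (T'.w_pos i) K hK1
    have hg := hT'.2.2.2 i
    rw [hq] at hg
    have hr := (rr_cases hT' i).2
    rw [hT'.1 i, hg, ← hK2]
    change _ = 2 * (T.m i.castSucc * T.w i.castSucc * (T.g i.castSucc - 1)) + _
    have : T.w i.castSucc / T'.w i = rr T T' i := rfl
    rw [this, hr]; ring
  have hS' : ∑ i, T'.m i * T'.a i i =
      ∑ i : Fin n, T.m i.castSucc * T.a i.castSucc i.castSucc +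
        ∑ i : Fin n, T.m i.castSucc * (T.w (Fin.last n) * tt T i * tt T i) := by
    rw [← Finset.sum_add_distrib]
    refine Finset.sum_congr rfl (fun i _ => ?_)
    rw [hT'.1 i, a'_eq h hT', xx_eq_wl]; ring
  have hK1 := sum_tt_mul_m T h
  -- assemble
  have e1 : 2 * ∑ i, T'.m i * T'.w i * (T'.g i - 1) =
      2 * ∑ i : Fin n, T.m i.castSucc * T.w i.castSucc * (T.g i.castSucc - 1) +
        ∑ i : Fin n, T.m i.castSucc * (T.w (Fin.last n) * tt T i * (tt T i - 1)) := by
    rw [Finset.mul_sum, Finset.mul_sum, ← Finset.sum_add_distrib]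
    exact Finset.sum_congr rfl (fun i _ => hterm i)
  have e2 : ∑ i : Fin n, T.m i.castSucc * (T.w (Fin.last n) * tt T i * (tt T i - 1)) =
      ∑ i : Fin n, T.m i.castSucc * (T.w (Fin.last n) * tt T i * tt T i) -
        T.w (Fin.last n) * T.m (Fin.last n) := by
    rw [← hK1, Finset.mul_sum, ← Finset.sum_sub_distrib]
    exact Finset.sum_congr rfl (fun i _ => by ring)
  rw [Fin.sum_univ_castSucc] at hσ
  rw [Fin.sum_univ_castSucc, h.1]
  rw [h.2] at hσ
  rw [hS'] at hσ'
  linarith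


end Groth.Agent.H73.NumContr
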