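import Mathlib
import Groth.Agent.H73.NumContr2
import Groth.Agent.S2176

namespace Groth.Agent.H73.NumContr

open Finset Models Models.NumericalType

theorem addEquiv_int_of_injective {A : Type*} [AddCommGroup A] (g : A →+ ℤ)
    (hg : Function.Injective g) (hne : ∃ x, g x ≠ 0) : Nonempty (A ≃+ ℤ) := by
  obtain ⟨a, ha⟩ := Int.subgroup_cyclic g.range
  rw [← AddSubgroup.zmultiples_eq_closure] at ha
  have haH : a ∈ g.range := by rw [ha]; exact AddSubgroup.mem_zmultiples a
  obtain ⟨x₀, hx₀⟩ := haH
  have ha0 : a ≠ 0 := by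
    rintro rfl
    obtain ⟨x, hx⟩ := hne
    have : g x ∈ g.range := ⟨x, rfl⟩
    rw [ha, AddSubgroup.mem_zmultiples_iff] at this
    obtain ⟨k, hk⟩ := this
    apply hx; rw [← hk]; simp
  let ψ : ℤ →+ A := zmultiplesHom A x₀
  have hψ : ∀ k : ℤ, g (ψ k) = k * a := by
    intro k
    simp only [ψ, zmultiplesHom_apply, map_zsmul, hx₀, smul_eq_mul]
  have hbij : Function.Bijective ψ := by
    constructor
    · rw [injective_iff_map_eq_zero]
      intro k hk
      have := hψ k
      rw [hk, map_zero] at this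
      rcases mul_eq_zero.mp this.symm with h | h
      · exact h
      · exact absurd h ha0
    · intro x
      have : g x ∈ g.range := ⟨x, rfl⟩
      rw [ha, AddSubgroup.mem_zmultiples_iff] at this
      obtain ⟨k, hk⟩ := this
      refine ⟨k, hg ?_⟩
      rw [hψ, ← hk, smul_eq_mul]
  exact ⟨(AddEquiv.ofBijective ψ hbij).symm⟩

variable {n : ℕ} (T : NumericalType n) (σ : Equiv.Perm (Fin n))

/-- reindexing a numerical type by a permutation -/
def perm : NumericalType n where
  m i := T.m (σ i)
  a := T.a.submatrix σ σ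
  w i := T.w (σ i)
  g i := T.g (σ i)
  pos := T.pos
  m_pos i := T.m_pos _
  w_pos i := T.w_pos _
  g_nonneg i := T.g_nonneg _
  symm := by
    ext i j
    simp only [Matrix.transpose_apply, Matrix.submatrix_apply]
    exact T.symm.apply _ _
  offDiag_nonneg i j hij := T.offDiag_nonneg _ _ (fun e => hij (σ.injective e))
  connected I hI hI' := by
    have h1 : (I.map σ.toEmbedding).Nonempty := hI.map
    have h2 : I.map σ.toEmbedding ≠ univ := by
      intro e
      apply hI'
      rw [Finset.eq_univ_iff_forall]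
      intro j
      have : σ j ∈ I.map σ.toEmbedding := by rw [e]; exact mem_univ _
      rw [Finset.mem_map] at this
      obtain ⟨k, hk, hkj⟩ := this
      have : k = j := σ.injective hkj
      rwa [← this]
    obtain ⟨a, ha, b, hb, hab⟩ := T.connected _ h1 h2
    rw [Finset.mem_map] at ha
    obtain ⟨i, hi, rfl⟩ := ha
    refine ⟨i, hi, σ.symm b, ?_, ?_⟩
    · intro hb'
      apply hb
      rw [Finset.mem_map]
      exact ⟨σ.symm b, hb', by simp⟩
    · simpa using hab
  mulVec_m := by
    ext i
    have := congrFun T.mulVec_m (σ i)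
    simp only [Matrix.mulVec, dotProduct, Pi.zero_apply] at this ⊢
    rw [← this]
    exact Equiv.sum_comp σ (fun j => T.a (σ i) j * T.m j)
  w_dvd i j := T.w_dvd _ _

theorem genus_perm : (perm T σ).genus = T.genus := by
  unfold genus
  have h1 : ∑ i, (perm T σ).m i * (perm T σ).w i * ((perm T σ).g i - 1) =
      ∑ i, T.m i * T.w i * (T.g i - 1) :=
    Equiv.sum_comp σ (fun j => T.m j * T.w j * (T.g j - 1))
  have h2 : ∑ i, (perm T σ).m i * (perm T σ).a i i = ∑ i, T.m i * T.a i i :=
    Equiv.sum_comp σ (fun j => T.m j * T.a j j)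
  rw [h1, h2]

/-- The Picard groups of `T` and its reindexing agree. -/
noncomputable def picPerm : T.Pic ≃ₗ[ℤ] (perm T σ).Pic := by
  refine Submodule.Quotient.equiv _ _ (LinearEquiv.funCongrLeft ℤ ℤ σ) ?_
  have hP : (perm T σ).picMatrix = T.picMatrix.submatrix σ σ := rfl
  apply le_antisymm
  · rintro _ ⟨_, ⟨v, rfl⟩, rfl⟩
    refine ⟨v ∘ σ, ?_⟩
    rw [Matrix.mulVecLin_apply, hP, Matrix.submatrix_mulVec_equiv]
    ext i
    simp [LinearEquiv.funCongrLeft_apply, LinearMap.funLeft, Function.comp_def]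
  · rintro _ ⟨v, rfl⟩
    refine ⟨T.picMatrix.mulVec (v ∘ σ.symm), ⟨_, rfl⟩, ?_⟩
    rw [Matrix.mulVecLin_apply, hP, Matrix.submatrix_mulVec_equiv]
    ext i
    simp [LinearEquiv.funCongrLeft_apply, LinearMap.funLeft]

theorem pic_equiv_int : ∀ (n : ℕ) (T : NumericalType n), T.genus ≤ 0 → Nonempty (T.Pic ≃+ ℤ)
  | 0, T, _ => absurd T.pos (lt_irrefl 0)
  | 1, T, _ => by
    have ha : T.a 0 0 = 0 := by
      have h1 := congrFun T.mulVec_m 0
      simp only [Matrix.mulVec, dotProduct, Pi.zero_apply, Fin.sum_univ_one] at h1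
      rcases mul_eq_zero.mp h1 with h | h
      · exact h
      · exact absurd h (T.m_pos 0).ne'
    have hP : T.picMatrix = 0 := by
      ext i j
      fin_cases i; fin_cases j
      simp [picMatrix, ha]
    have hbot : LinearMap.range (Matrix.mulVecLin T.picMatrix) = ⊥ := by
      rw [hP]; simp
    exact ⟨((Submodule.quotEquivOfEqBot _ hbot).trans (LinearEquiv.funUnique (Fin 1) ℤ ℤ)).toAddEquiv⟩
  | (k+2), T, hg => by
    have hnm : ¬ T.IsMinimal := fun hmin => by
      have := Groth.Agent.S2176.result T hmin (by omega)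
      omega
    unfold IsMinimal at hnm
    push Not at hnm
    obtain ⟨i, hi⟩ := hnm
    let σ : Equiv.Perm (Fin (k+2)) := Equiv.swap i (Fin.last (k+1))
    have hlast : (perm T σ).IsMinusOne (Fin.last (k+1)) := by
      have : σ (Fin.last (k+1)) = i := Equiv.swap_apply_right _ _
      change T.g (σ (Fin.last (k+1))) = 0 ∧ T.a (σ (Fin.last (k+1))) (σ (Fin.last (k+1))) = - T.w (σ (Fin.last (k+1)))
      rw [this]; exact hi
    have hT' := contr_isContraction (perm T σ) hlast
    have hg' : (contr (perm T σ) hlast).genus ≤ 0 := by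
      rw [genus_contr (perm T σ) hlast hT', genus_perm]; exact hg
    obtain ⟨e⟩ := pic_equiv_int (k+1) (contr (perm T σ) hlast) hg'
    obtain ⟨f, hf1, hf2⟩ := pic_embeds hlast hT'
    let g : T.Pic →+ ℤ := (e.toAddMonoidHom.comp f).comp (picPerm T σ).toAddEquiv.toAddMonoidHom
    refine addEquiv_int_of_injective g ?_ ?_
    · exact (e.injective.comp hf1).comp (picPerm T σ).injective
    · obtain ⟨x, hx⟩ := hf2 (e.symm 1)
      refine ⟨(picPerm T σ).symm x, ?_⟩
      have : g ((picPerm T σ).symm x) = 2 := by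
        change e (f ((picPerm T σ) ((picPerm T σ).symm x))) = 2
        rw [LinearEquiv.apply_symm_apply, ← hx, map_nsmul, AddEquiv.apply_symm_apply]; rfl
      rw [this]; norm_num


end Groth.Agent.H73.NumContr
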