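import Mathlib
import Groth.Prelude.Def_QFDual
import Groth.Agent.H73.DiffBCOmega

/-!
helper73: flat base change for `ω = Hom_A(B', A)` (S8958): if `A → A₁` is flat and `B'` is a finitely
presented `A`-module, then `QFDual.bcFin` is a `B' → B'₁` base change, hence
`QFDual.omegaBC` is bijective for every `B'₁`-algebra `B₁`.
-/

set_option autoImplicit false
set_option linter.style.haveILetI false
universe u

namespace Groth.Agent.H73.OmegaBCFlat

open TensorProduct Groth.Agent.H73.DiffBCOmega

attribute [local instance] iA iB iA2 tA tB tAA' tAB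

variable {A B A' B' : Type u} [CommRing A] [CommRing B] [CommRing A'] [CommRing B'] [Algebra A B]
  [Algebra A A'] [Algebra B B'] [Algebra A' B'] [Algebra A B'] [IsScalarTower A A' B']
  [IsScalarTower A B B']

/-- `toDual` is a base change as soon as `A → A'` is flat and `B` is finitely presented. -/
theorem isBaseChange_toDual_of_flat (hB : Algebra.IsPushout A A' B B') [Module.Flat A A']
    [Module.FinitePresentation A B] : IsBaseChange A' hB.out.toDual := by
  have h0 := Module.FinitePresentation.isBaseChange_map A B A A'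
  let E : (A' ⊗[A] B →ₗ[A'] A' ⊗[A] A) ≃ₗ[A'] (B' →ₗ[A'] A') :=
    LinearEquiv.arrowCongr hB.out.equiv (AlgebraTensorModule.rid A A' A')
  refine (IsBaseChange.iff_of_equiv_comm (LinearEquiv.refl A _) E ?_).mp h0
  ext φ : 1
  refine hB.out.algHom_ext _ _ fun x => ?_
  change hB.out.toDual φ _ = _
  rw [hB.out.toDual_comp_apply]
  change _ = (AlgebraTensorModule.rid A A' A')
    ((LinearMap.baseChangeHom A A' B A φ) (hB.out.equiv.symm _))
  rw [hB.out.equiv_symm_apply]
  simp [Algebra.algebraMap_eq_smul_one]

/-- `bcFin` is a `B → B'` base change whenever `toDual` is an `A → A'` base change. -/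
theorem isBaseChange_bcLin_of (hB : Algebra.IsPushout A A' B B')
    (h : IsBaseChange A' hB.out.toDual) : IsBaseChange B' (bcLin hB) := by
  haveI := hB
  apply DiffBC.isBaseChange_of_isPushout (A := A) (A' := A')
  refine (IsBaseChange.iff_of_equiv_comm (eΩ A B) (eΩ A' B') ?_).mpr h
  ext φ : 1
  rfl

variable {B₁ : Type u} [CommRing B₁] [Algebra B' B₁] [Algebra B B₁] [IsScalarTower B B' B₁]

theorem omegaBC_bijective_of (hB : Algebra.IsPushout A A' B B')
    (h : IsBaseChange A' hB.out.toDual) :
    Function.Bijective (QFDual.omegaBC (B₁ := B₁) hB) := by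
  have hβ := isBaseChange_bcLin_of hB h
  let e := hβ.tensorEquiv B₁
  have key : ∀ z : B₁ ⊗[B] Disc.Omega A B, e (QFDual.omegaBC (B₁ := B₁) hB z) = z := by
    intro z
    induction z using TensorProduct.induction_on with
    | zero => simp
    | tmul b φ =>
      rw [QFDual.omegaBC_tmul]
      change (AlgebraTensorModule.cancelBaseChange B B' B' B₁ (Disc.Omega A B))
        ((LinearEquiv.lTensor B₁ hβ.equiv.symm) (b ⊗ₜ[B'] bcLin hB φ)) = _
      rw [LinearEquiv.lTensor_tmul, hβ.equiv_symm_apply,
        AlgebraTensorModule.cancelBaseChange_tmul, one_smul]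
    | add x y hx hy => rw [map_add, map_add, hx, hy]
  have : (QFDual.omegaBC (B₁ := B₁) hB : _ → _) = e.symm := by
    funext z
    rw [LinearEquiv.eq_symm_apply, key]
  rw [this]
  exact e.symm.bijective

end Groth.Agent.H73.OmegaBCFlat
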