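import Groth.Agent.H73.OmegaHatGeomReg

/-!
# A finite `k[[T]]`-algebra of full dimension, unramified at `p`, is étale at `p` (helper73)
-/

set_option autoImplicit false
set_option linter.unusedSectionVars false
set_option linter.style.haveILetI false
universe u

namespace Groth.Agent.H73.OmegaHatReg

open IsLocalRing TensorProduct Algebra

section Smooth

attribute [local instance] Algebra.FormallyEtale.of_formallyUnramified_of_field in
/-- Local version of Mathlib's `IsEtaleAt.of_isUnramifiedAt_of_flat`: if `S` is finitely presented
over `R` and `S_q` is flat and unramified over `R`, then `S_q` is formally étale over `R`. -/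
theorem formallyEtale_atPrime_of_flat_of_unramified {R S : Type*} [CommRing R] [CommRing S]
    [Algebra R S] [Algebra.FinitePresentation R S] (p : Ideal R) (q : Ideal S)
    [p.IsPrime] [q.IsPrime] [q.LiesOver p]
    [Module.Flat R (Localization.AtPrime q)]
    [Algebra.FormallyUnramified R (Localization.AtPrime q)] :
    Algebra.FormallyEtale R (Localization.AtPrime q) := by
  let Rp := Localization.AtPrime p
  let Sp := Localization (algebraMapSubmonoid S p.primeCompl)
  let Sq := Localization.AtPrime q
  let := Localization.AtPrime.algebraOfLiesOver p q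
  let f : Sp →ₐ[S] Sq := IsLocalization.liftAlgHom (M := algebraMapSubmonoid S p.primeCompl)
        (f := Algebra.ofId _ _) (by
      rintro ⟨_, x, hx, rfl⟩
      simpa using! IsLocalization.map_units (M := q.primeCompl) Sq ⟨algebraMap _ _ x,
        by simp_all [q.over_def p]⟩)
  algebraize [f.toRingHom]
  have : IsScalarTower R Sp Sq := .to₁₃₄ _ S _ _
  have : IsScalarTower Rp Sp Sq := .of_algebraMap_eq' <| by
    apply IsLocalization.ringHom_ext p.primeCompl
    simp only [RingHom.comp_assoc, ← IsScalarTower.algebraMap_eq]
  have : IsLocalization (algebraMapSubmonoid Sp q.primeCompl) Sq :=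
    .isLocalization_of_submonoid_le _ _ (algebraMapSubmonoid S p.primeCompl) _
    (by rintro _ ⟨x, hx, rfl⟩; simp_all [q.over_def p])
  have : FinitePresentation Rp Sp := by
    have : Algebra.IsPushout R Rp S Sp :=
      .symm <| Algebra.isPushout_of_isLocalization p.primeCompl _ _ _
    exact .equiv (Algebra.IsPushout.equiv R Rp S Sp)
  have : Module.Flat Rp Sq :=
    (Module.flat_iff_of_isLocalization Rp p.primeCompl _).mpr inferInstance
  have : IsLocalHom (algebraMap Rp Sq) :=
    Localization.isLocalHom_localRingHom p q (algebraMap R S) Ideal.LiesOver.over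
  have : FormallyUnramified Rp Sq := .of_restrictScalars R _ _
  have : EssFiniteType R Sq := .comp R S Sq
  have : EssFiniteType Rp Sq := .of_comp R _ _
  have : FormallyUnramified (ResidueField Rp) (ResidueField Rp ⊗[Rp] Sq) := inferInstance
  have : EssFiniteType (ResidueField Rp) (ResidueField Rp ⊗[Rp] Sq) := inferInstance
  have : FormallyEtale (ResidueField Rp) (ResidueField Rp ⊗[Rp] Sq) := inferInstance
  have : FormallySmooth (ResidueField Rp) (ResidueField Rp ⊗[Rp] Sq) := inferInstance
  have hsm : FormallySmooth Rp Sq := FormallySmooth.of_formallySmooth_residueField_tensor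
    (R := Rp) (S := Sq) (P := Sp) (algebraMapSubmonoid _ q.primeCompl)
  have : FormallySmooth R Rp := inferInstance
  have : FormallySmooth R Sq := .comp R Rp Sq
  exact FormallyEtale.iff_formallyUnramified_and_formallySmooth.mpr ⟨inferInstance, inferInstance⟩

end Smooth

variable (k A : Type u) [Field k] [CommRing A] [IsLocalRing A] [IsNoetherianRing A]
  (n : ℕ) [Algebra (MvPowerSeries (Fin n) k) A] [Module.Finite (MvPowerSeries (Fin n) k) A]
  (p q : Ideal A) [p.IsPrime] [q.IsPrime]

local notation "P" => MvPowerSeries (Fin n) k

/-- `A` is étale over `k[[T]]` at `p`. -/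
theorem isEtaleAt (hqp : q ≤ p) (hd : ringKrullDim (A ⧸ q) = n)
    (hunr : Algebra.IsUnramifiedAt P p) : Algebra.IsEtaleAt P p := by
  haveI : Module.Flat P (Localization.AtPrime p) := flat_atPrime k A n p q hqp hd hunr
  haveI : Algebra.FormallyUnramified P (Localization.AtPrime p) := hunr
  haveI : Algebra.FiniteType P A := inferInstance
  haveI : Algebra.FinitePresentation P A := Algebra.FinitePresentation.of_finiteType.mp inferInstance
  haveI : p.LiesOver (p.under P) := ⟨rfl⟩
  exact formallyEtale_atPrime_of_flat_of_unramified (p.under P) p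

end Groth.Agent.H73.OmegaHatReg
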