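import Groth.Agent.H73.FibreRank
import Groth.Agent.H23.UFDiff
import Groth.Agent.H89.ComplFinite

/-!
# Lower bound for the fibre rank of completed differentials via derivations (helper73)
-/

set_option autoImplicit false
set_option linter.unusedSectionVars false
set_option linter.style.haveILetI false
universe u

namespace Groth.Agent.H73.OmegaHat

open IsLocalRing TensorProduct KaehlerDifferential

variable (k A : Type u) [Field k] [CommRing A] [IsLocalRing A] [IsNoetherianRing A] [Algebra k A]
  [IsAdicComplete (maximalIdeal A) A]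

/-- If there are `k`-derivations `δ_i : A → A/q` and elements `a_j` with `det (δ_i a_j) ≠ 0`, then the
fibre of `Ω̂_{A/k}` at any prime `p ⊇ q` has dimension at least the number of derivations. -/
theorem le_rank_fibre (p q : Ideal A) [p.IsPrime] [q.IsPrime] (hqp : q ≤ p)
    {ι : Type u} [Fintype ι] [DecidableEq ι]
    (δ : ι → Derivation k A (A ⧸ q)) (a : ι → A)
    (hdet : (Matrix.of fun i j => δ i (a j)).det ≠ 0) :
    (Fintype.card ι : Cardinal.{u}) ≤ Module.rank p.ResidueField
      (p.ResidueField ⊗[A] AdicCompletion (maximalIdeal A) (Ω[A⁄k])) := by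
  classical
  let Φ : Ω[A⁄k] →ₗ[A] (ι → A ⧸ q) := LinearMap.pi fun i => (δ i).liftKaehlerDifferential
  let M : Submodule A (ι → A ⧸ q) := LinearMap.range Φ
  haveI : Module.Finite A M := inferInstance
  haveI : IsAdicComplete (maximalIdeal A) M :=
    Groth.Agent.H89.isAdicComplete_of_finite_noeth _ M
  let Φ' : Ω[A⁄k] →ₗ[A] M := Φ.rangeRestrict
  have hΦ' : Function.Surjective Φ' := Φ.surjective_rangeRestrict
  let Φh : AdicCompletion (maximalIdeal A) (Ω[A⁄k]) →ₗ[A] M :=
    Groth.Agent.H23.UFDiff.lift (maximalIdeal A) Φ'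
  have hΦh : Function.Surjective Φh := fun m => by
    obtain ⟨ω, rfl⟩ := hΦ' m
    exact ⟨AdicCompletion.of _ _ ω, Groth.Agent.H23.UFDiff.lift_of _ Φ' ω⟩
  -- step 1: pass to the quotient `M`
  have h1 : Module.rank p.ResidueField (p.ResidueField ⊗[A] M) ≤
      Module.rank p.ResidueField
        (p.ResidueField ⊗[A] AdicCompletion (maximalIdeal A) (Ω[A⁄k])) := by
    refine LinearMap.rank_le_of_surjective (Φh.baseChange p.ResidueField) ?_
    rw [LinearMap.baseChange_eq_ltensor]
    exact LinearMap.lTensor_surjective _ hΦh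
  -- step 2: semicontinuity
  have h2 : Module.finrank q.ResidueField (q.ResidueField ⊗[A] M) ≤
      Module.finrank p.ResidueField (p.ResidueField ⊗[A] M) := by
    have hev := Groth.Agent.H73.eventually_finrank_residueField_tensor_le (M := M)
      (⟨p, inferInstance⟩ : PrimeSpectrum A)
    have hspec : (⟨q, inferInstance⟩ : PrimeSpectrum A) ⤳ ⟨p, inferInstance⟩ :=
      (PrimeSpectrum.le_iff_specializes _ _).1 hqp
    exact (hev.filter_mono hspec).self_of_nhds
  -- step 3: the fibre at `q`
  have h3 : Fintype.card ι ≤ Module.finrank q.ResidueField (q.ResidueField ⊗[A] M) := by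
    let ψ : M →ₗ[A] (ι → q.ResidueField) :=
      (LinearMap.pi fun i => (IsScalarTower.toAlgHom A (A ⧸ q) q.ResidueField).toLinearMap ∘ₗ
        LinearMap.proj i) ∘ₗ M.subtype
    let Ψ : q.ResidueField ⊗[A] M →ₗ[q.ResidueField] (ι → q.ResidueField) :=
      LinearMap.liftBaseChange q.ResidueField ψ
    let v : ι → q.ResidueField ⊗[A] M := fun j => (1 : q.ResidueField) ⊗ₜ Φ' (D k A (a j))
    have hΨv : ∀ j, Ψ (v j) =
        ((Matrix.of fun i j => δ i (a j)).map (algebraMap (A ⧸ q) q.ResidueField)).col j := by
      intro j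
      funext i
      show LinearMap.liftBaseChange q.ResidueField ψ ((1 : q.ResidueField) ⊗ₜ Φ' (D k A (a j))) i = _
      rw [LinearMap.liftBaseChange_tmul, one_smul]
      show algebraMap (A ⧸ q) q.ResidueField ((δ i).liftKaehlerDifferential (D k A (a j))) = _
      rw [Derivation.liftKaehlerDifferential_comp_D]
      rfl
    have hdet' : ((Matrix.of fun i j => δ i (a j)).map
        (algebraMap (A ⧸ q) q.ResidueField)).det ≠ 0 := by
      rw [← RingHom.mapMatrix_apply, ← RingHom.map_det]
      intro h0
      exact hdet ((IsFractionRing.injective (A ⧸ q) q.ResidueField) (by rw [h0, map_zero]))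
    have hli : LinearIndependent q.ResidueField v := by
      apply LinearIndependent.of_comp Ψ
      have : Ψ ∘ v = ((Matrix.of fun i j => δ i (a j)).map
          (algebraMap (A ⧸ q) q.ResidueField)).col := funext hΨv
      rw [this]
      exact Matrix.linearIndependent_cols_of_det_ne_zero hdet'
    exact hli.fintype_card_le_finrank
  calc (Fintype.card ι : Cardinal.{u}) ≤ (Module.finrank p.ResidueField (p.ResidueField ⊗[A] M) : ℕ) := by
        exact_mod_cast h3.trans h2
    _ = Module.rank p.ResidueField (p.ResidueField ⊗[A] M) := Module.finrank_eq_rank _ _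
    _ ≤ _ := h1

end Groth.Agent.H73.OmegaHat
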