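import Groth.Agent.H73.OmegaHatReg
import Groth.Agent.H26.RegularFlat
import Groth.Agent.H26.RegHomField
import Groth.Agent.H96.GeomRegAdic
import Groth.Agent.H29.RegCompl

/-!
# Freeness of the completed differentials and geometric regularity at a prime where a finite
`k[[T]]`-algebra of full dimension is unramified (helper73)
-/

set_option autoImplicit false
set_option linter.unusedSectionVars false
set_option linter.style.haveILetI false
universe u

namespace Groth.Agent.H73.OmegaHatReg

open IsLocalRing TensorProduct

section General

/-- a flat, unramified, essentially finite type Noetherian algebra over a regular ring is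
regular. -/
theorem isRegularRing_of_flat_of_unramified (R S : Type u) [CommRing R] [CommRing S] [Algebra R S]
    [IsRegularRing R] [IsNoetherianRing S] [Module.Flat R S] [Algebra.FormallyUnramified R S]
    [Algebra.EssFiniteType R S] : IsRegularRing S := by
  apply Groth.Agent.H26.isRegularRing_of_flat_of_regular_fibres R S
  intro p hp
  haveI : Algebra.FormallyUnramified p.ResidueField (p.Fiber S) := inferInstance
  haveI : Algebra.EssFiniteType p.ResidueField (p.Fiber S) := inferInstance
  haveI : Module.Finite p.ResidueField (p.Fiber S) :=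
    Algebra.FormallyUnramified.finite_of_free _ _
  haveI : IsReduced (p.Fiber S) := Algebra.FormallyUnramified.isReduced_of_field p.ResidueField _
  haveI : IsArtinianRing (p.Fiber S) := IsArtinianRing.of_finite p.ResidueField _
  exact Groth.Agent.H26.RegHomField.isRegularRing_of_isArtinianRing_of_isReduced _

end General

variable (k A : Type u) [Field k] [CommRing A] [IsLocalRing A] [IsNoetherianRing A]
  (n : ℕ) [Algebra (MvPowerSeries (Fin n) k) A] [Module.Finite (MvPowerSeries (Fin n) k) A]
  [Algebra k A] [IsScalarTower k (MvPowerSeries (Fin n) k) A]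
  (p q : Ideal A) [p.IsPrime] [q.IsPrime]

local notation "P" => MvPowerSeries (Fin n) k

/-- `A_p` is geometrically regular over `k`. -/
theorem isGeometricallyRegular_atPrime (hqp : q ≤ p) (hd : ringKrullDim (A ⧸ q) = n)
    (hunr : Algebra.IsUnramifiedAt P p) :
    CAlg.IsGeometricallyRegular k (Localization.AtPrime p) := by
  intro k' _ _ hfin
  haveI := hfin
  have hP : CAlgX.IsAdicFormallySmooth k P (maximalIdeal P) := by
    rw [Groth.Agent.H61.maximalIdeal_ps_eq_span_X]
    exact Groth.Agent.H46.isAdicFormallySmooth_mvPowerSeries k k n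
  haveI : IsRegularRing (P ⊗[k] k') := Groth.Agent.H96.GeomRegAdic.isRegularRing_tensor k P hP k'
  haveI : Module.Flat P (Localization.AtPrime p) := flat_atPrime k A n p q hqp hd hunr
  haveI : Algebra.FormallyUnramified P (Localization.AtPrime p) := hunr
  haveI : Algebra.EssFiniteType P (Localization.AtPrime p) :=
    Algebra.EssFiniteType.comp P A (Localization.AtPrime p)
  haveI : IsScalarTower k P (Localization.AtPrime p) :=
    IsScalarTower.of_algebraMap_eq fun x => by
      rw [IsScalarTower.algebraMap_apply k A (Localization.AtPrime p),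
        IsScalarTower.algebraMap_apply k P A,
        ← IsScalarTower.algebraMap_apply P A (Localization.AtPrime p)]
  haveI : IsNoetherianRing (P ⊗[k] k') := inferInstance
  haveI : IsNoetherianRing ((P ⊗[k] k') ⊗[P] Localization.AtPrime p) :=
    Algebra.EssFiniteType.isNoetherianRing (P ⊗[k] k')
      ((P ⊗[k] k') ⊗[P] Localization.AtPrime p)
  haveI : IsRegularRing ((P ⊗[k] k') ⊗[P] Localization.AtPrime p) :=
    isRegularRing_of_flat_of_unramified (P ⊗[k] k') _
  let e : (P ⊗[k] k') ⊗[P] Localization.AtPrime p ≃+* k' ⊗[k] Localization.AtPrime p :=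
    (Algebra.TensorProduct.comm P (P ⊗[k] k') (Localization.AtPrime p)).toRingEquiv.trans
      ((Algebra.TensorProduct.cancelBaseChange k P P (Localization.AtPrime p) k').toRingEquiv.trans
        (Algebra.TensorProduct.comm k (Localization.AtPrime p) k').toRingEquiv)
  exact IsRegularRing.of_ringEquiv (R := (P ⊗[k] k') ⊗[P] Localization.AtPrime p) e

variable [IsAdicComplete (maximalIdeal A) A] [Module.Finite k (ResidueField A)]

local notation "Ωh" => AdicCompletion (maximalIdeal A) (Ω[A⁄k])

omit [Algebra (MvPowerSeries (Fin n) k) A] [Module.Finite (MvPowerSeries (Fin n) k) A]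
  [IsScalarTower k (MvPowerSeries (Fin n) k) A] in
/-- if `A_p` is a domain and `(Ω̂)_p` is generated by `n = dim A/q` elements, it is free of rank
`n`. -/
theorem free_of_span (hq : q ∈ minimalPrimes A) (hqp : q ≤ p) (hd : ringKrullDim (A ⧸ q) = n)
    [IsDomain (Localization.AtPrime p)]
    (s : Fin n → LocalizedModule p.primeCompl Ωh)
    (hs : Submodule.span (Localization.AtPrime p) (Set.range s) = ⊤) :
    Module.Free (Localization.AtPrime p) (LocalizedModule p.primeCompl Ωh) ∧
      Module.finrank (Localization.AtPrime p) (LocalizedModule p.primeCompl Ωh) = n := by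
  have hker : ∀ a ∈ q, algebraMap A (Localization.AtPrime p) a = 0 := by
    intro a ha
    let q₀ : Ideal A := RingHom.ker (algebraMap A (Localization.AtPrime p))
    haveI : q₀.IsPrime := RingHom.ker_isPrime _
    have h1 : q₀ ≤ q := by
      intro b hb
      rw [RingHom.mem_ker, IsLocalization.map_eq_zero_iff p.primeCompl] at hb
      obtain ⟨t, ht⟩ := hb
      have h2 : (t : A) * b ∈ q := by rw [ht]; exact q.zero_mem
      exact (‹q.IsPrime›.mem_or_mem h2).resolve_left (fun h => t.2 (hqp h))
    exact hq.2 ⟨inferInstance, bot_le⟩ h1 ha
  have hunit : ∀ y : p.primeCompl, IsUnit (algebraMap A q.ResidueField y) := by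
    intro y
    rw [isUnit_iff_ne_zero, ne_eq, Ideal.algebraMap_residueField_eq_zero]
    exact fun h => y.2 (hqp h)
  let φ : Localization.AtPrime p →+* q.ResidueField := IsLocalization.lift hunit
  letI : Algebra (Localization.AtPrime p) q.ResidueField := φ.toAlgebra
  haveI : IsScalarTower A (Localization.AtPrime p) q.ResidueField :=
    IsScalarTower.of_algebraMap_eq (fun a => (IsLocalization.lift_eq hunit a).symm)
  have hinj : Function.Injective (algebraMap (Localization.AtPrime p) q.ResidueField) := by
    rw [injective_iff_map_eq_zero]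
    intro x hx
    obtain ⟨a, t, rfl⟩ := IsLocalization.exists_mk'_eq p.primeCompl x
    have hspec := IsLocalization.mk'_spec (Localization.AtPrime p) a t
    have h2 : algebraMap A q.ResidueField a = 0 := by
      rw [IsScalarTower.algebraMap_apply A (Localization.AtPrime p) q.ResidueField, ← hspec,
        map_mul, hx, zero_mul]
    have h3 : a ∈ q := Ideal.algebraMap_residueField_eq_zero.mp h2
    rw [hker a h3] at hspec
    exact (IsUnit.mul_left_eq_zero (IsLocalization.map_units _ t)).mp hspec
  have hfin : n ≤ Module.finrank q.ResidueField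
      (q.ResidueField ⊗[Localization.AtPrime p] LocalizedModule p.primeCompl Ωh) := by
    have h1 := Groth.Agent.H73.OmegaHatUnram.dim_le_finrank k A q q hq le_rfl n hd
    let e₁ : Localization.AtPrime p ⊗[A] Ωh ≃ₗ[Localization.AtPrime p]
        LocalizedModule p.primeCompl Ωh :=
      (IsLocalizedModule.isBaseChange p.primeCompl (Localization.AtPrime p)
        (LocalizedModule.mkLinearMap p.primeCompl Ωh)).equiv
    let e₂ := TensorProduct.AlgebraTensorModule.cancelBaseChange A (Localization.AtPrime p)
      q.ResidueField q.ResidueField Ωh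
    let e₃ := TensorProduct.AlgebraTensorModule.congr
      (LinearEquiv.refl q.ResidueField q.ResidueField) e₁
    exact h1.trans_eq (e₃.symm.trans e₂).finrank_eq.symm
  have hli := linearIndependent_of_span_of_le_finrank hinj n s hs hfin
  let b := Module.Basis.mk hli hs.ge
  exact ⟨Module.Free.of_basis b, by rw [Module.finrank_eq_card_basis b, Fintype.card_fin]⟩

end Groth.Agent.H73.OmegaHatReg
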