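import Groth.Agent.H73.OmegaHatGen0
import Groth.Agent.H73.OmegaHatGeomReg
import Groth.Agent.H23.NagataAssembly
import Groth.Agent.H39.RegularCrit

/-!
# EGA 0_IV 22.7.?: `(Ω̂_{A/k})_P` is free of rank `dim A/q` when `A_P` is regular,
characteristic zero (helper73)
-/

set_option autoImplicit false
set_option linter.unusedSectionVars false
set_option linter.style.haveILetI false
universe u

namespace Groth.Agent.H73.OmegaHatGR0

open IsLocalRing TensorProduct KaehlerDifferential

section Height

variable {A : Type u} [CommRing A] (P q : Ideal A) [P.IsPrime] [q.IsPrime]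

/-- if `q A_P = 0`, the height of `P/q` in `A/q` is the height of `P`. -/
theorem height_map_mk_eq (hqP : q ≤ P)
    (hker : ∀ a ∈ q, algebraMap A (Localization.AtPrime P) a = 0) :
    (P.map (Ideal.Quotient.mk q)).height = P.height := by
  haveI hP' : (P.map (Ideal.Quotient.mk q)).IsPrime :=
    Ideal.map_isPrime_of_surjective Ideal.Quotient.mk_surjective (by rwa [Ideal.mk_ker])
  have hbot : q.map (algebraMap A (Localization.AtPrime P)) = ⊥ := by
    rw [eq_bot_iff, Ideal.map_le_iff_le_comap]
    intro a ha
    rw [Ideal.mem_comap, Ideal.mem_bot]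
    exact hker a ha
  let e₁ := (Groth.Agent.H23.NagataAssembly.quotEquiv q P hqP).toRingEquiv
  let e₂ : (Localization.AtPrime P ⧸ q.map (algebraMap A (Localization.AtPrime P))) ≃+*
      Localization.AtPrime P :=
    (Ideal.quotEquivOfEq hbot).trans (RingEquiv.quotientBot (Localization.AtPrime P))
  have h1 := ringKrullDim_eq_of_ringEquiv (e₁.trans e₂)
  rw [IsLocalization.AtPrime.ringKrullDim_eq_height (P.map (Ideal.Quotient.mk q))
      (Localization.AtPrime (P.map (Ideal.Quotient.mk q))),
    IsLocalization.AtPrime.ringKrullDim_eq_height P (Localization.AtPrime P)] at h1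
  exact_mod_cast h1

/-- `ht P + dim A/P ≤ dim A/q` when `q A_P = 0`. -/
theorem height_add_le (hqP : q ≤ P)
    (hker : ∀ a ∈ q, algebraMap A (Localization.AtPrime P) a = 0) :
    (P.height : WithBot ℕ∞) + ringKrullDim (A ⧸ P) ≤ ringKrullDim (A ⧸ q) := by
  haveI hP' : (P.map (Ideal.Quotient.mk q)).IsPrime :=
    Ideal.map_isPrime_of_surjective Ideal.Quotient.mk_surjective (by rwa [Ideal.mk_ker])
  have h1 := Groth.Agent.H39.height_add_ringKrullDim_quotient_le (P.map (Ideal.Quotient.mk q))
  rw [height_map_mk_eq P q hqP hker,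
    ringKrullDim_eq_of_ringEquiv (DoubleQuot.quotQuotEquivQuotOfLE hqP)] at h1
  exact h1

end Height

section Main

variable (k A : Type u) [Field k] [CharZero k] [CommRing A] [IsLocalRing A] [IsNoetherianRing A]
  [Algebra k A] [IsAdicComplete (maximalIdeal A) A] [Module.Finite k (ResidueField A)]
  (P q : Ideal A) [P.IsPrime]

local notation "Ωh" => AdicCompletion (maximalIdeal A) (Ω[A⁄k])

theorem main (hP : CAlg.IsGeometricallyRegular k (Localization.AtPrime P))
    (hq : q ∈ minimalPrimes A) (hqP : q ≤ P) (n : ℕ) (hn : ringKrullDim (A ⧸ q) = n) :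
    Module.Free (Localization.AtPrime P) (LocalizedModule P.primeCompl Ωh) ∧
    Module.finrank (Localization.AtPrime P) (LocalizedModule P.primeCompl Ωh) = n := by
  classical
  haveI : q.IsPrime := hq.1.1
  haveI hregA : IsRegularRing (Localization.AtPrime P) := by
    haveI := hP k (Module.Finite.self k)
    exact IsRegularRing.of_ringEquiv
      (Algebra.TensorProduct.lid k (Localization.AtPrime P)).toRingEquiv
  haveI : IsRegularLocalRing (Localization.AtPrime P) :=
    IsRegularLocalRing.of_isRegularRing_of_isLocalRing _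
  haveI : IsDomain (Localization.AtPrime P) := Groth.Agent.Lead.RLR.isDomain _
  have hker : ∀ a ∈ q, algebraMap A (Localization.AtPrime P) a = 0 := by
    intro a ha
    let q₀ : Ideal A := RingHom.ker (algebraMap A (Localization.AtPrime P))
    haveI : q₀.IsPrime := RingHom.ker_isPrime _
    have h1 : q₀ ≤ q := by
      intro b hb
      rw [RingHom.mem_ker, IsLocalization.map_eq_zero_iff P.primeCompl] at hb
      obtain ⟨t, ht⟩ := hb
      have h2 : (t : A) * b ∈ q := by rw [ht]; exact q.zero_mem
      exact (‹q.IsPrime›.mem_or_mem h2).resolve_left (fun h => t.2 (hqP h))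
    exact hq.2 ⟨inferInstance, bot_le⟩ h1 ha
  -- generators of the maximal ideal of `A_P`
  set h := (maximalIdeal (Localization.AtPrime P)).spanFinrank with hh
  have hhdim : (h : WithBot ℕ∞) = P.height := by
    rw [hh, IsRegularLocalRing.spanFinrank_maximalIdeal,
      IsLocalization.AtPrime.ringKrullDim_eq_height P (Localization.AtPrime P)]
  obtain ⟨S, hcard, hspan⟩ := Submodule.FG.exists_span_finset_card_eq_spanFinrank
    (maximalIdeal (Localization.AtPrime P)).fg_of_isNoetherianRing
  let x : Fin h → Localization.AtPrime P := fun j => ((S.equivFin.symm (Fin.cast hcard.symm j) : S) :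
    Localization.AtPrime P)
  have hxrange : Set.range x = (S : Set (Localization.AtPrime P)) := by
    ext y
    constructor
    · rintro ⟨j, rfl⟩
      exact (S.equivFin.symm (Fin.cast hcard.symm j)).2
    · intro hy
      refine ⟨Fin.cast hcard (S.equivFin ⟨y, hy⟩), ?_⟩
      simp [x]
  have hxspan : Ideal.span (Set.range x) = maximalIdeal (Localization.AtPrime P) := by
    rw [hxrange]
    exact hspan
  have hxm : ∀ j, x j ∈ P.map (algebraMap A (Localization.AtPrime P)) := by
    intro j
    rw [Localization.AtPrime.map_eq_maximalIdeal, ← hxspan]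
    exact Ideal.subset_span ⟨j, rfl⟩
  choose ft hft using fun j =>
    (IsLocalization.mem_map_algebraMap_iff P.primeCompl (Localization.AtPrime P)).mp (hxm j)
  let a : Fin h → A := fun j => ((ft j).1 : A)
  have haP : ∀ j, a j ∈ P := fun j => (ft j).1.2
  have htu : ∀ j, IsUnit (algebraMap A (Localization.AtPrime P) ((ft j).2 : A)) := fun j =>
    IsLocalization.map_units (Localization.AtPrime P) (ft j).2
  have ha : Ideal.span (Set.range fun j => algebraMap A (Localization.AtPrime P) (a j)) =
      maximalIdeal (Localization.AtPrime P) := by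
    apply le_antisymm
    · rw [Ideal.span_le]
      rintro _ ⟨j, rfl⟩
      rw [← Localization.AtPrime.map_eq_maximalIdeal]
      exact Ideal.mem_map_of_mem _ (haP j)
    · rw [← hxspan, Ideal.span_le]
      rintro _ ⟨j, rfl⟩
      have h1 : x j * algebraMap A (Localization.AtPrime P) ((ft j).2 : A) ∈
          Ideal.span (Set.range fun j => algebraMap A (Localization.AtPrime P) (a j)) := by
        rw [hft j]
        exact Ideal.subset_span ⟨j, rfl⟩
      exact (Ideal.mul_unit_mem_iff_mem _ (htu j)).mp h1
  -- the dimension of `A/P`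
  haveI : IsLocalRing (A ⧸ P) :=
    IsLocalRing.of_surjective' (Ideal.Quotient.mk P) Ideal.Quotient.mk_surjective
  haveI : IsAdicComplete (maximalIdeal (A ⧸ P)) (A ⧸ P) :=
    Groth.Agent.H61.isAdicComplete_quotient P
  haveI : Module.Finite k (ResidueField (A ⧸ P)) :=
    Groth.Agent.H73.ComplDer.finite_residueField_quotient k A P
  obtain ⟨r, -, -, -, hr⟩ := Groth.Agent.H73.ComplDer.cohen_dim k (A ⧸ P)
  obtain ⟨s, hs⟩ := Groth.Agent.H73.OmegaHatGen0.exists_span_localized k A P r h hr a haP ha
  -- numerics
  have hle : r + h ≤ n := by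
    have h1 := height_add_le P q hqP hker
    rw [← hhdim, hr, hn] at h1
    have h2 : ((h + r : ℕ) : WithBot ℕ∞) ≤ (n : ℕ) := by exact_mod_cast h1
    have h3 : h + r ≤ n := by exact_mod_cast h2
    omega
  -- padding
  let s' : Fin n → LocalizedModule P.primeCompl Ωh := fun i =>
    if hi : i.1 < r + h then s ⟨i.1, hi⟩ else 0
  have hs' : Submodule.span (Localization.AtPrime P) (Set.range s') = ⊤ := by
    rw [eq_top_iff, ← hs, Submodule.span_le]
    rintro _ ⟨i, rfl⟩
    refine Submodule.subset_span ⟨⟨i.1, lt_of_lt_of_le i.2 hle⟩, ?_⟩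
    show (if hi : i.1 < r + h then s ⟨i.1, hi⟩ else 0) = s i
    rw [dif_pos i.2]
  exact Groth.Agent.H73.OmegaHatReg.free_of_span k A n P q hq hqP hn s' hs'

end Main

end Groth.Agent.H73.OmegaHatGR0
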