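import Groth.Agent.H73.OmegaHatFibre
import Groth.Agent.H73.ComplDerP
import Groth.Agent.H61.QuotComplete

/-!
# EGA 0_IV 22.?: the fibre rank of completed differentials is at least `dim A/q` (helper73)
-/

set_option autoImplicit false
set_option linter.unusedSectionVars false
set_option linter.style.haveILetI false
universe u

namespace Groth.Agent.H73.ComplDer

open IsLocalRing TensorProduct KaehlerDifferential

theorem det_ulift {n : ℕ} {R : Type*} [CommRing R] (M : Matrix (Fin n) (Fin n) R) :
    (Matrix.of fun (i j : ULift.{u} (Fin n)) => M i.down j.down).det = M.det := by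
  have : (Matrix.of fun (i j : ULift.{u} (Fin n)) => M i.down j.down) =
      Matrix.reindex Equiv.ulift.symm Equiv.ulift.symm M := by
    ext i j
    rfl
  rw [this, Matrix.det_reindex_self]

/-- A complete Noetherian local domain `B` with residue field finite over `k` has at least
`dim B` "independent" `k`-derivations. -/
theorem exists_derivations (k B : Type u) [Field k] [CommRing B] [IsDomain B] [IsLocalRing B]
    [IsNoetherianRing B] [Algebra k B] [IsAdicComplete (maximalIdeal B) B]
    [Module.Finite k (ResidueField B)] :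
    ∃ (ι : Type u) (_ : Fintype ι) (_ : DecidableEq ι) (δ : ι → Derivation k B B) (b : ι → B),
      ringKrullDim B ≤ (Fintype.card ι : WithBot ℕ∞) ∧
        (Matrix.of fun i j => δ i (b j)).det ≠ 0 := by
  classical
  obtain ⟨n, w, hinj, hfin, hdim⟩ := cohen_dim k B
  obtain ⟨p, hp⟩ := CharP.exists k
  rcases CharP.char_is_prime_or_zero k p with hpp | hp0
  · haveI : Fact p.Prime := ⟨hpp⟩
    obtain ⟨ι, i1, i2, δ, b, hle, hdet⟩ := exists_derivations_of_charP p k n B w hinj hfin
    refine ⟨ι, i1, i2, δ, b, ?_, hdet⟩
    rw [hdim]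
    exact_mod_cast hle
  · subst hp0
    haveI : CharZero k := CharP.charP_to_charZero k
    obtain ⟨δ, b, hdet⟩ := exists_derivations_of_charZero k B n w hinj hfin
    refine ⟨ULift.{u} (Fin n), inferInstance, inferInstance, fun i => δ i.down,
      fun j => b j.down, ?_, ?_⟩
    · rw [hdim]
      simp
    · have h := det_ulift.{u} (Matrix.of fun i j => δ i (b j))
      intro h0
      apply hdet
      rw [← h]
      exact h0

theorem finite_residueField_quotient (k A : Type u) [Field k] [CommRing A] [IsLocalRing A]
    [Algebra k A] [Module.Finite k (ResidueField A)] (q : Ideal A) [IsLocalRing (A ⧸ q)] :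
    Module.Finite k (ResidueField (A ⧸ q)) := by
  haveI : IsLocalHom (Ideal.Quotient.mk q) :=
    IsLocalHom.of_surjective _ Ideal.Quotient.mk_surjective
  let f : ResidueField A →ₗ[k] ResidueField (A ⧸ q) :=
    { toFun := ResidueField.map (Ideal.Quotient.mk q)
      map_add' := map_add _
      map_smul' := fun c x => by
        rw [Algebra.smul_def, map_mul, RingHom.id_apply, Algebra.smul_def]
        congr 1 }
  refine Module.Finite.of_surjective f ?_
  intro y
  obtain ⟨b, rfl⟩ := residue_surjective y
  obtain ⟨a, rfl⟩ := Ideal.Quotient.mk_surjective b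
  exact ⟨residue A a, ResidueField.map_residue _ a⟩

theorem main (k A : Type u) [Field k] [CommRing A] [IsLocalRing A] [IsNoetherianRing A]
    [Algebra k A] [IsAdicComplete (maximalIdeal A) A] [Module.Finite k (ResidueField A)]
    (p q : Ideal A) [p.IsPrime] (hq : q ∈ minimalPrimes A) (hqp : q ≤ p) :
    ringKrullDim (A ⧸ q) ≤
      (Cardinal.toENat (Module.rank p.ResidueField
        (TensorProduct A p.ResidueField
          (AdicCompletion (maximalIdeal A) (KaehlerDifferential k A)))) : WithBot ℕ∞) := by
  classical
  haveI : q.IsPrime := hq.1.1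
  haveI : IsLocalRing (A ⧸ q) :=
    IsLocalRing.of_surjective' (Ideal.Quotient.mk q) Ideal.Quotient.mk_surjective
  haveI : IsAdicComplete (maximalIdeal (A ⧸ q)) (A ⧸ q) :=
    Groth.Agent.H61.isAdicComplete_quotient q
  haveI : Module.Finite k (ResidueField (A ⧸ q)) := finite_residueField_quotient k A q
  obtain ⟨ι, i1, i2, δ, b, hle, hdet⟩ := exists_derivations k (A ⧸ q)
  choose a ha using fun j => Ideal.Quotient.mk_surjective (b j)
  have hdet' : (Matrix.of fun i j => ((δ i).compAlgebraMap A) (a j)).det ≠ 0 := by
    have : (Matrix.of fun i j => ((δ i).compAlgebraMap A) (a j)) =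
        Matrix.of fun i j => δ i (b j) := by
      ext i j
      show δ i (algebraMap A (A ⧸ q) (a j)) = δ i (b j)
      rw [← ha j]
      rfl
    rw [this]
    exact hdet
  have key := Groth.Agent.H73.OmegaHat.le_rank_fibre k A p q hqp
    (fun i => (δ i).compAlgebraMap A) a hdet'
  refine hle.trans ?_
  have h2 : ((Fintype.card ι : ℕ) : ℕ∞) ≤ Cardinal.toENat (Module.rank p.ResidueField
      (p.ResidueField ⊗[A] AdicCompletion (maximalIdeal A) (Ω[A⁄k]))) := by
    rw [← Cardinal.toENat_nat]
    exact OrderHomClass.mono Cardinal.toENat key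
  exact_mod_cast h2

end Groth.Agent.H73.ComplDer
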