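import Groth.Agent.S5989
import Groth.Agent.S4523
import Groth.Agent.H23.GeomRegIff
import Groth.Agent.H23.FormalProj
import Groth.Agent.H23.GeomRegLoc
import Groth.Agent.H26.RegHomField
import Groth.Agent.H2.FlatPow
import Groth.Agent.H73.OmegaHatMain
import Groth.Agent.Lead.RegularLocalization

/-!
# EGA 0_IV 22.7.?: `(Ω̂_{A/k})_P` is free of rank `dim A/q` when `A_P` is geometrically regular,
characteristic `p` (helper73)
-/

set_option autoImplicit false
set_option linter.unusedSectionVars false
set_option linter.style.haveILetI false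
universe u

namespace Groth.Agent.H73.OmegaHatGRP

open IsLocalRing TensorProduct KaehlerDifferential

/-- finite + formally projective ⇒ free, over a noetherian local ring. -/
theorem free_kaehler_of_adic {k R : Type u} [Field k] [CommRing R] [IsLocalRing R]
    [IsNoetherianRing R] [Algebra k R] [Module.Finite R (Ω[R⁄k])]
    (h : CAlgX.IsAdicFormallySmooth k R (maximalIdeal R)) : Module.Free R (Ω[R⁄k]) := by
  haveI : Module.Flat R (Ω[R⁄k]) := by
    refine Groth.Agent.H2.flat_of_flat_quotient_pow (R := R) (S := R) (M := Ω[R⁄k])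
      (maximalIdeal R) ?_ ?_
    · rw [Algebra.algebraMap_self, Ideal.map_id,
        IsLocalRing.jacobson_eq_maximalIdeal ⊥ bot_ne_top]
    · intro n _
      haveI := Groth.Agent.H23.FormalProj.projective_baseChange_kaehler (maximalIdeal R) h n
      infer_instance
  exact Module.free_of_flat_of_isLocalRing

section Main

variable (p : ℕ) [Fact p.Prime] (k A : Type u) [Field k] [CharP k p]
  (hk : (frobenius k p).Finite)
  [CommRing A] [IsLocalRing A] [IsNoetherianRing A] [Algebra k A]
  [IsAdicComplete (maximalIdeal A) A] [Module.Finite k (ResidueField A)]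

include hk in
/-- `Ω_{A/k}` is a finite `A`-module. -/
theorem finite_omega : Module.Finite A (Ω[A⁄k]) := by
  obtain ⟨m, w, -, -, hfin⟩ := Groth.Agent.H96.CohenFinite.main (k₀ := k) (A := A)
  exact Groth.Agent.H73.ComplOmega.finite_omega_of k A w hfin
    (Groth.Agent.H73.PSOmega.finite_omega p k m hk)

include hk in
/-- the rank of the differentials of the fraction field of `A/q` when it is separable over `k`. -/
theorem finrank_kaehler_frac (q : Ideal A) [q.IsPrime] (L : Type u) [Field L] [Algebra (A ⧸ q) L]
    [IsFractionRing (A ⧸ q) L] [Algebra k L] [IsScalarTower k (A ⧸ q) L] (n : ℕ)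
    (hn : ringKrullDim (A ⧸ q) = n) (hred : Algebra.IsGeometricallyReduced k L) :
    Module.finrank L (Ω[L⁄k]) = n := by
  haveI : IsLocalRing (A ⧸ q) :=
    IsLocalRing.of_surjective' (Ideal.Quotient.mk q) Ideal.Quotient.mk_surjective
  haveI : IsAdicComplete (maximalIdeal (A ⧸ q)) (A ⧸ q) :=
    Groth.Agent.H61.isAdicComplete_quotient q
  haveI : Module.Finite k (ResidueField (A ⧸ q)) :=
    Groth.Agent.H73.ComplDer.finite_residueField_quotient k A q
  have h2 := (Groth.Agent.S5989.result p k (A ⧸ q) L hk n hn).1
  have h3 : EGA41.imperfection ℤ k L = ⊥ :=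
    (Groth.Agent.S4523.result (k := k) (K := L)).1.mp hred
  have h4 : LinearMap.ker (KaehlerDifferential.mapBaseChange ℤ k L) = ⊥ := h3
  rw [h2, h4, finrank_bot, add_zero]

variable (P q : Ideal A) [P.IsPrime]

include hk in
theorem main (hP : CAlg.IsGeometricallyRegular k (Localization.AtPrime P))
    (hq : q ∈ minimalPrimes A) (hqP : q ≤ P) (n : ℕ) (hn : ringKrullDim (A ⧸ q) = n) :
    Module.Free (Localization.AtPrime P)
      (LocalizedModule P.primeCompl (AdicCompletion (maximalIdeal A) (Ω[A⁄k]))) ∧
    Module.finrank (Localization.AtPrime P)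
      (LocalizedModule P.primeCompl (AdicCompletion (maximalIdeal A) (Ω[A⁄k]))) = n := by
  haveI hfinΩ : Module.Finite A (Ω[A⁄k]) := finite_omega p k A hk
  haveI : IsAdicComplete (maximalIdeal A) (Ω[A⁄k]) :=
    Groth.Agent.H89.isAdicComplete_of_finite_noeth _ _
  -- the comparison isomorphism
  let e₁ : Ω[A⁄k] ≃ₗ[A] AdicCompletion (maximalIdeal A) (Ω[A⁄k]) :=
    AdicCompletion.ofLinearEquiv (maximalIdeal A) (Ω[A⁄k])
  let e₂ : Localization.AtPrime P ⊗[A] AdicCompletion (maximalIdeal A) (Ω[A⁄k])
      ≃ₗ[Localization.AtPrime P]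
      LocalizedModule P.primeCompl (AdicCompletion (maximalIdeal A) (Ω[A⁄k])) :=
    (IsLocalizedModule.isBaseChange P.primeCompl (Localization.AtPrime P)
      (LocalizedModule.mkLinearMap P.primeCompl _)).equiv
  let e₃ : Localization.AtPrime P ⊗[A] Ω[A⁄k] ≃ₗ[Localization.AtPrime P]
      Localization.AtPrime P ⊗[A] AdicCompletion (maximalIdeal A) (Ω[A⁄k]) :=
    TensorProduct.AlgebraTensorModule.congr
      (LinearEquiv.refl (Localization.AtPrime P) (Localization.AtPrime P)) e₁
  haveI : Algebra.FormallyEtale A (Localization.AtPrime P) :=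
    Algebra.FormallyEtale.of_isLocalization P.primeCompl
  let e₄ : Localization.AtPrime P ⊗[A] Ω[A⁄k] ≃ₗ[Localization.AtPrime P]
      Ω[Localization.AtPrime P⁄k] :=
    KaehlerDifferential.tensorKaehlerEquivOfFormallyEtale k A (Localization.AtPrime P)
  let E : LocalizedModule P.primeCompl (AdicCompletion (maximalIdeal A) (Ω[A⁄k]))
      ≃ₗ[Localization.AtPrime P] Ω[Localization.AtPrime P⁄k] :=
    e₂.symm ≪≫ₗ e₃.symm ≪≫ₗ e₄
  -- finiteness
  haveI : Module.Finite (Localization.AtPrime P) (Localization.AtPrime P ⊗[A] Ω[A⁄k]) :=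
    inferInstance
  haveI : Module.Finite (Localization.AtPrime P) (Ω[Localization.AtPrime P⁄k]) :=
    Module.Finite.equiv e₄
  -- freeness
  have hadic := (Groth.Agent.H23.GeomRegIff.adic_iff_geomReg (k := k)
    (Localization.AtPrime P)).mpr hP
  haveI hfree : Module.Free (Localization.AtPrime P) (Ω[Localization.AtPrime P⁄k]) :=
    free_kaehler_of_adic hadic
  refine ⟨Module.Free.of_equiv E.symm, ?_⟩
  rw [E.finrank_eq]
  -- `A_P` is a domain
  haveI : q.IsPrime := hq.1.1
  haveI hregA : IsRegularRing (Localization.AtPrime P) := by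
    haveI := hP k (Module.Finite.self k)
    exact IsRegularRing.of_ringEquiv
      (Algebra.TensorProduct.lid k (Localization.AtPrime P)).toRingEquiv
  haveI : IsRegularLocalRing (Localization.AtPrime P) :=
    IsRegularLocalRing.of_isRegularRing_of_isLocalRing _
  haveI : IsDomain (Localization.AtPrime P) := Groth.Agent.Lead.RLR.isDomain _
  have hker : ∀ a ∈ q, algebraMap A (Localization.AtPrime P) a = 0 := by
    intro a ha
    let q₀ : Ideal A := RingHom.ker (algebraMap A (Localization.AtPrime P))
    haveI : q₀.IsPrime := RingHom.ker_isPrime _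
    have h1 : q₀ ≤ q := by
      intro b hb
      rw [RingHom.mem_ker, IsLocalization.map_eq_zero_iff P.primeCompl] at hb
      obtain ⟨t, ht⟩ := hb
      have h2 : (t : A) * b ∈ q := by rw [ht]; exact q.zero_mem
      exact (‹q.IsPrime›.mem_or_mem h2).resolve_left (fun h => t.2 (hqP h))
    exact hq.2 ⟨inferInstance, bot_le⟩ h1 ha
  -- the fraction field
  have hunit : ∀ y : P.primeCompl, IsUnit (algebraMap A q.ResidueField y) := by
    intro y
    rw [isUnit_iff_ne_zero, ne_eq, Ideal.algebraMap_residueField_eq_zero]
    exact fun h => y.2 (hqP h)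
  let φ : Localization.AtPrime P →+* q.ResidueField := IsLocalization.lift hunit
  letI : Algebra (Localization.AtPrime P) q.ResidueField := φ.toAlgebra
  haveI : IsScalarTower A (Localization.AtPrime P) q.ResidueField :=
    IsScalarTower.of_algebraMap_eq (fun a => (IsLocalization.lift_eq hunit a).symm)
  haveI : IsScalarTower k (Localization.AtPrime P) q.ResidueField :=
    IsScalarTower.of_algebraMap_eq (fun c => by
      rw [IsScalarTower.algebraMap_apply k A (Localization.AtPrime P),
        ← IsScalarTower.algebraMap_apply A (Localization.AtPrime P) q.ResidueField,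
        ← IsScalarTower.algebraMap_apply k A q.ResidueField])
  have hφinj : Function.Injective (algebraMap (Localization.AtPrime P) q.ResidueField) := by
    rw [injective_iff_map_eq_zero]
    intro x hx
    obtain ⟨a, s, rfl⟩ := IsLocalization.exists_mk'_eq P.primeCompl x
    have h1 : algebraMap (Localization.AtPrime P) q.ResidueField
        (algebraMap A (Localization.AtPrime P) a) = 0 := by
      rw [← IsLocalization.mk'_spec (Localization.AtPrime P) a s, map_mul, hx, zero_mul]
    rw [← IsScalarTower.algebraMap_apply, Ideal.algebraMap_residueField_eq_zero] at h1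
    rw [IsLocalization.mk'_eq_zero_iff]
    exact (IsLocalization.map_eq_zero_iff P.primeCompl (Localization.AtPrime P) a).mp (hker a h1)
  haveI : FaithfulSMul (Localization.AtPrime P) q.ResidueField :=
    (faithfulSMul_iff_algebraMap_injective _ _).mpr hφinj
  haveI : IsFractionRing (Localization.AtPrime P) q.ResidueField := by
    refine IsFractionRing.of_field _ _ (fun z => ?_)
    obtain ⟨x, y, hy, rfl⟩ := IsFractionRing.div_surjective (A := A ⧸ q) z
    obtain ⟨a, rfl⟩ := Ideal.Quotient.mk_surjective x
    obtain ⟨s, rfl⟩ := Ideal.Quotient.mk_surjective y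
    refine ⟨algebraMap A _ a, algebraMap A _ s, ?_⟩
    rw [← IsScalarTower.algebraMap_apply A (Localization.AtPrime P) q.ResidueField,
      ← IsScalarTower.algebraMap_apply A (Localization.AtPrime P) q.ResidueField]
    rfl
  haveI : Algebra.FormallyEtale (Localization.AtPrime P) q.ResidueField :=
    Algebra.FormallyEtale.of_isLocalization (nonZeroDivisors (Localization.AtPrime P))
  have h1 : Module.finrank (Localization.AtPrime P) (Ω[Localization.AtPrime P⁄k]) =
      Module.finrank q.ResidueField
        (q.ResidueField ⊗[Localization.AtPrime P] Ω[Localization.AtPrime P⁄k]) :=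
    (Module.finrank_baseChange).symm
  have h2 : Module.finrank q.ResidueField
      (q.ResidueField ⊗[Localization.AtPrime P] Ω[Localization.AtPrime P⁄k]) =
      Module.finrank q.ResidueField (Ω[q.ResidueField⁄k]) :=
    (KaehlerDifferential.tensorKaehlerEquivOfFormallyEtale k (Localization.AtPrime P)
      q.ResidueField).finrank_eq
  haveI : IsScalarTower k (A ⧸ q) q.ResidueField :=
    IsScalarTower.of_algebraMap_eq (fun c => by
      rw [IsScalarTower.algebraMap_apply k A q.ResidueField,
        IsScalarTower.algebraMap_apply A (A ⧸ q) q.ResidueField,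
        ← IsScalarTower.algebraMap_apply k A (A ⧸ q)])
  have hgrL : CAlg.IsGeometricallyRegular k q.ResidueField :=
    Groth.Agent.H23.GeomRegLoc.geomReg_of_isLocalization (Localization.AtPrime P)
      (nonZeroDivisors (Localization.AtPrime P)) q.ResidueField hP
  have hred := Groth.Agent.H26.RegHomField.isGeometricallyReduced_of_isGeometricallyRegular k
    q.ResidueField hgrL
  have h3 := finrank_kaehler_frac p k A hk q q.ResidueField n hn hred
  exact h1.trans (h2.trans h3)

end Main

end Groth.Agent.H73.OmegaHatGRP
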