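import Groth.Agent.H73.OmegaHatUnramMain
import Groth.Agent.H61.PSEval

/-!
# Generators of `(Ω̂_{A/k})_P` in characteristic zero (helper73)

For a complete Noetherian local algebra `A` over a field `k` of characteristic zero with residue
field finite over `k` and a prime `P`: if `P A_P` is generated by `h` elements, `(Ω̂_{A/k})_P` is
generated by `dim (A/P) + h` elements.
-/

set_option autoImplicit false
set_option linter.unusedSectionVars false
set_option linter.style.haveILetI false
universe u

namespace Groth.Agent.H73.OmegaHatGen0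

open IsLocalRing TensorProduct KaehlerDifferential

/-- two `k`-algebra maps from a power series ring into a separated local ring agreeing on the
variables (which are sent into the maximal ideal) agree. -/
theorem algHom_ext_X {k : Type u} [Field k] {r : ℕ} {B : Type u} [CommRing B] [IsLocalRing B]
    [IsHausdorff (maximalIdeal B) B] [Algebra k B]
    (w w' : MvPowerSeries (Fin r) k →ₐ[k] B)
    (hX : ∀ i, w (MvPowerSeries.X i) = w' (MvPowerSeries.X i))
    (hm : ∀ i, w (MvPowerSeries.X i) ∈ maximalIdeal B) : w = w' := by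
  classical
  have hpoly : ∀ p : MvPolynomial (Fin r) k, w (p : MvPowerSeries (Fin r) k) = w' p := by
    intro p
    have h1 : (w.comp (MvPolynomial.coeToMvPowerSeries.algHom k)) =
        (w'.comp (MvPolynomial.coeToMvPowerSeries.algHom k)) := by
      apply MvPolynomial.algHom_ext
      intro i
      simp [hX i]
    have h2 := DFunLike.congr_fun h1 p
    simpa using h2
  have hpow : ∀ (v : MvPowerSeries (Fin r) k →ₐ[k] B),
      (∀ i, v (MvPowerSeries.X i) ∈ maximalIdeal B) → ∀ (N : ℕ) (f : MvPowerSeries (Fin r) k),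
      f ∈ (Ideal.span (Set.range (MvPowerSeries.X : Fin r → MvPowerSeries (Fin r) k))) ^ N →
      v f ∈ maximalIdeal B ^ N := by
    intro v hv N f hf
    have h1 : (Ideal.span (Set.range
        (MvPowerSeries.X : Fin r → MvPowerSeries (Fin r) k))).map v.toRingHom ≤ maximalIdeal B := by
      rw [Ideal.map_span, Ideal.span_le]
      rintro _ ⟨_, ⟨i, rfl⟩, rfl⟩
      exact hv i
    have h2 : ((Ideal.span (Set.range
        (MvPowerSeries.X : Fin r → MvPowerSeries (Fin r) k))) ^ N).map v.toRingHom ≤
        maximalIdeal B ^ N := by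
      rw [Ideal.map_pow]
      exact Ideal.pow_right_mono h1 N
    exact h2 (Ideal.mem_map_of_mem _ hf)
  refine AlgHom.ext fun f => ?_
  rw [← sub_eq_zero]
  refine IsHausdorff.haus ‹IsHausdorff (maximalIdeal B) B› _ fun N => ?_
  rw [SModEq.zero]
  have hf := Groth.Agent.H61.sub_truncTotal_mem (Λ := k) r N f
  have h3 : w f - w' f =
      w (f - ((MvPowerSeries.truncTotal N f : MvPolynomial (Fin r) k) : MvPowerSeries (Fin r) k)) -
      w' (f - ((MvPowerSeries.truncTotal N f : MvPolynomial (Fin r) k) :
        MvPowerSeries (Fin r) k)) := by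
    rw [map_sub, map_sub, hpoly]
    ring
  rw [h3, smul_eq_mul, Ideal.mul_top]
  exact Ideal.sub_mem _ (hpow w hm N _ hf) (hpow w' (fun i => hX i ▸ hm i) N _ hf)

/-- In characteristic zero an integral element is a root of a polynomial whose derivative does not
vanish at it. -/
theorem exists_aeval_derivative_ne_zero {R B : Type*} [CommRing R] [IsDomain R] [CharZero R]
    [CommRing B] [Algebra R B] (hinj : Function.Injective (algebraMap R B)) (b : B)
    (hb : IsIntegral R b) :
    ∃ F : Polynomial R, Polynomial.aeval b F = 0 ∧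
      Polynomial.aeval b (Polynomial.derivative F) ≠ 0 := by
  classical
  have hne : ∃ n : ℕ, ∃ F : Polynomial R, F ≠ 0 ∧ Polynomial.aeval b F = 0 ∧ F.natDegree = n := by
    obtain ⟨F, hF, h0⟩ := hb
    exact ⟨_, F, hF.ne_zero, by rwa [Polynomial.aeval_def], rfl⟩
  obtain ⟨F, hF0, hFb, hFn⟩ := Nat.find_spec hne
  refine ⟨F, hFb, fun hd => ?_⟩
  have hdeg : F.natDegree ≠ 0 := by
    intro h0
    obtain ⟨c, rfl⟩ := Polynomial.natDegree_eq_zero.mp h0
    rw [Polynomial.aeval_C] at hFb
    have : c = 0 := hinj (by rw [hFb, map_zero])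
    exact hF0 (by rw [this, map_zero])
  have hd0 : Polynomial.derivative F ≠ 0 := by
    intro h
    exact hdeg (Polynomial.natDegree_eq_zero_of_derivative_eq_zero h)
  have hlt := Polynomial.natDegree_derivative_lt hdeg
  exact Nat.find_min hne (by rw [← hFn]; exact hlt) ⟨_, hd0, hd, rfl⟩

/-- total derivative of a polynomial expression whose coefficients are not constants. -/
theorem d_aeval_sub_mem {k R A M : Type*} [CommRing k] [CommRing R] [CommRing A] [Algebra k A]
    [Algebra R A] [AddCommGroup M] [Module A M] [Module k M] [IsScalarTower k A M]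
    (d : Derivation k A M) (N : Submodule A M) (hN : ∀ c : R, d (algebraMap R A c) ∈ N) (b : A)
    (F : Polynomial R) :
    d (Polynomial.aeval b F) - Polynomial.aeval b (Polynomial.derivative F) • d b ∈ N := by
  induction F using Polynomial.induction_on' with
  | add p q hp hq =>
    have : d (Polynomial.aeval b (p + q)) -
        Polynomial.aeval b (Polynomial.derivative (p + q)) • d b =
        (d (Polynomial.aeval b p) - Polynomial.aeval b (Polynomial.derivative p) • d b) +
        (d (Polynomial.aeval b q) - Polynomial.aeval b (Polynomial.derivative q) • d b) := by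
      rw [map_add, map_add, Polynomial.derivative_add, map_add, add_smul]
      abel
    rw [this]
    exact N.add_mem hp hq
  | monomial n c =>
    have : d (Polynomial.aeval b (Polynomial.monomial n c)) -
        Polynomial.aeval b (Polynomial.derivative (Polynomial.monomial n c)) • d b =
        b ^ n • d (algebraMap R A c) := by
      rw [Polynomial.aeval_monomial, Polynomial.derivative_monomial, Polynomial.aeval_monomial,
        Derivation.leibniz, Derivation.leibniz_pow, map_mul, map_natCast,
        ← Nat.cast_smul_eq_nsmul A n]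
      module
    rw [this]
    exact N.smul_mem _ (hN c)

section Main

variable (k A : Type u) [Field k] [CharZero k] [CommRing A] [IsLocalRing A] [IsNoetherianRing A]
  [Algebra k A] [IsAdicComplete (maximalIdeal A) A] [Module.Finite k (ResidueField A)]
  (P : Ideal A) [P.IsPrime]

local notation "Ωh" => AdicCompletion (maximalIdeal A) (Ω[A⁄k])

/-- the completed universal derivation. -/
noncomputable def dh : Derivation k A Ωh :=
  ((AdicCompletion.of (maximalIdeal A) (Ω[A⁄k])).restrictScalars A).compDer (D k A)

theorem dh_apply (a : A) : dh k A a = AdicCompletion.of (maximalIdeal A) (Ω[A⁄k]) (D k A a) := rfl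

/-- elements of `P` are, up to a denominator, combinations of generators of `P A_P`. -/
theorem exists_smul_eq_sum {h : ℕ} (a : Fin h → A)
    (ha : Ideal.span (Set.range fun j => algebraMap A (Localization.AtPrime P) (a j)) =
      maximalIdeal (Localization.AtPrime P)) (x : A) (hx : x ∈ P) :
    ∃ s ∉ P, ∃ c : Fin h → A, s * x = ∑ j, c j * a j := by
  classical
  have hx' : algebraMap A (Localization.AtPrime P) x ∈
      Ideal.span (Set.range fun j => algebraMap A (Localization.AtPrime P) (a j)) := by
    rw [ha, ← Localization.AtPrime.map_eq_maximalIdeal]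
    exact Ideal.mem_map_of_mem _ hx
  obtain ⟨c, hc⟩ := (Ideal.mem_span_range_iff_exists_fun).mp hx'
  obtain ⟨σ, hσ⟩ := IsLocalization.exist_integer_multiples P.primeCompl Finset.univ c
  choose α hα using fun j => hσ j (Finset.mem_univ j)
  have h1 : algebraMap A (Localization.AtPrime P) ((σ : A) * x - ∑ j, α j * a j) = 0 := by
    rw [map_sub, map_mul, map_sum, ← hc, Finset.mul_sum, sub_eq_zero]
    refine Finset.sum_congr rfl fun j _ => ?_
    rw [map_mul, hα j, Algebra.smul_def]
    ring
  rw [IsLocalization.map_eq_zero_iff P.primeCompl] at h1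
  obtain ⟨τ, hτ⟩ := h1
  refine ⟨(τ : A) * (σ : A), fun h => ?_, fun j => (τ : A) * α j, ?_⟩
  · rcases ‹P.IsPrime›.mem_or_mem h with h | h
    · exact τ.2 h
    · exact σ.2 h
  · rw [mul_sub, sub_eq_zero] at hτ
    rw [mul_assoc, hτ, Finset.mul_sum]
    exact Finset.sum_congr rfl fun j _ => (mul_assoc _ _ _).symm

/-- **Generation in characteristic zero**: if `P A_P` is generated by the images of
`a_1, …, a_h ∈ P`, then `(Ω̂_{A/k})_P` is generated by `dim (A/P) + h` elements. -/
theorem exists_span_localized (r h : ℕ) (hr : ringKrullDim (A ⧸ P) = r)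
    (a : Fin h → A) (haP : ∀ j, a j ∈ P)
    (ha : Ideal.span (Set.range fun j => algebraMap A (Localization.AtPrime P) (a j)) =
      maximalIdeal (Localization.AtPrime P)) :
    ∃ s : Fin (r + h) → LocalizedModule P.primeCompl Ωh,
      Submodule.span (Localization.AtPrime P) (Set.range s) = ⊤ := by
  classical
  haveI : IsLocalRing (A ⧸ P) :=
    IsLocalRing.of_surjective' (Ideal.Quotient.mk P) Ideal.Quotient.mk_surjective
  haveI : IsAdicComplete (maximalIdeal (A ⧸ P)) (A ⧸ P) :=
    Groth.Agent.H61.isAdicComplete_quotient P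
  haveI : Module.Finite k (ResidueField (A ⧸ P)) :=
    Groth.Agent.H73.ComplDer.finite_residueField_quotient k A P
  haveI : IsLocalHom (Ideal.Quotient.mk P) :=
    IsLocalHom.of_surjective _ Ideal.Quotient.mk_surjective
  obtain ⟨r', w, hinj, hloc, hfin⟩ := Groth.Agent.H96.CohenFinite.main (k₀ := k) (A := A ⧸ P)
  have hdim := Groth.Agent.H54.ringKrullDim_eq_of_ringHom_isIntegral_of_injective w.toRingHom
    hfin.to_isIntegral hinj
  rw [Groth.Agent.H61.ringKrullDim_ps, hr] at hdim
  have hrr : r' = r := by exact_mod_cast hdim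
  subst hrr
  haveI := hloc
  -- lifts of the variables
  have hXm : ∀ i : Fin r', w (MvPowerSeries.X i) ∈ maximalIdeal (A ⧸ P) := by
    intro i
    have hX : (MvPowerSeries.X i : MvPowerSeries (Fin r') k) ∈
        maximalIdeal (MvPowerSeries (Fin r') k) := by
      rw [Groth.Agent.H61.maximalIdeal_ps_eq_span_X]
      exact Ideal.subset_span ⟨i, rfl⟩
    exact map_nonunit w.toRingHom _ hX
  choose t ht using fun i : Fin r' => Ideal.Quotient.mk_surjective (w (MvPowerSeries.X i))
  have htm : ∀ i, t i ∈ maximalIdeal A := by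
    intro i
    rw [mem_maximalIdeal, mem_nonunits_iff]
    intro hu
    have h1 := hXm i
    rw [← ht i, mem_maximalIdeal, mem_nonunits_iff] at h1
    exact h1 (hu.map _)
  obtain ⟨ψ, hψ⟩ := Groth.Agent.H47.exists_evalHom_complete (k := k) (maximalIdeal A) r' t htm
  have hcomp : (Ideal.Quotient.mkₐ k P).comp ψ = w := by
    apply algHom_ext_X
    · intro i
      rw [AlgHom.comp_apply, hψ i, Ideal.Quotient.mkₐ_eq_mk, ht i]
    · intro i
      rw [AlgHom.comp_apply, hψ i, Ideal.Quotient.mkₐ_eq_mk, ht i]
      exact hXm i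
  -- algebra structures
  letI : Algebra (MvPowerSeries (Fin r') k) A := ψ.toRingHom.toAlgebra
  haveI : IsScalarTower k (MvPowerSeries (Fin r') k) A :=
    IsScalarTower.of_algebraMap_eq (fun c => by
      show algebraMap k A c = ψ (algebraMap k _ c)
      exact (ψ.commutes c).symm)
  have hψm : ∀ f : MvPowerSeries (Fin r') k, f ∈ maximalIdeal (MvPowerSeries (Fin r') k) →
      ψ f ∈ maximalIdeal A := by
    intro f hfm
    rw [Groth.Agent.H61.maximalIdeal_ps_eq_span_X] at hfm
    have h1 : (Ideal.span (Set.range
        (MvPowerSeries.X : Fin r' → MvPowerSeries (Fin r') k))).map ψ.toRingHom ≤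
        maximalIdeal A := by
      rw [Ideal.map_span, Ideal.span_le]
      rintro _ ⟨_, ⟨i, rfl⟩, rfl⟩
      show ψ (MvPowerSeries.X i) ∈ _
      rw [hψ i]
      exact htm i
    exact h1 (Ideal.mem_map_of_mem _ hfm)
  haveI : IsLocalHom (algebraMap (MvPowerSeries (Fin r') k) A) := by
    constructor
    intro f hf
    by_contra hnu
    exact (mem_nonunits_iff.mp ((mem_maximalIdeal _).mp (hψm f hnu))) hf
  have halg : algebraMap (MvPowerSeries (Fin r') k) (A ⧸ P) = w.toRingHom := by
    refine RingHom.ext fun c => ?_
    exact DFunLike.congr_fun hcomp c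
  haveI : Module.Finite (MvPowerSeries (Fin r') k) (A ⧸ P) := by
    rw [← RingHom.finite_algebraMap, halg]
    exact hfin
  have hinj' : Function.Injective (algebraMap (MvPowerSeries (Fin r') k) (A ⧸ P)) := by
    rw [halg]
    exact hinj
  haveI : IsDomain (MvPowerSeries (Fin r') k) := NoZeroDivisors.to_isDomain _
  haveI : CharZero (MvPowerSeries (Fin r') k) :=
    charZero_of_injective_algebraMap (algebraMap k (MvPowerSeries (Fin r') k)).injective
  have hdt : ∀ i, Groth.Agent.H23.GenRank.dt k r' A i = dh k A (t i) := by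
    intro i
    show AdicCompletion.of (maximalIdeal A) (Ω[A⁄k]) (D k A (ψ (MvPowerSeries.X i))) = _
    rw [hψ i]
    rfl
  -- the submodule `G`
  set G : Submodule A Ωh := Submodule.span A (Set.range fun i => dh k A (t i)) ⊔
      Submodule.span A (Set.range fun j => dh k A (a j)) ⊔ (P • ⊤ : Submodule A Ωh) with hG
  have key0 : ∀ c : MvPowerSeries (Fin r') k,
      dh k A (algebraMap (MvPowerSeries (Fin r') k) A c) ∈ G := by
    intro c
    have h1 := Groth.Agent.H23.GenRank.of_map_eq (k := k) (r := r') (A := A)
      (D k (MvPowerSeries (Fin r') k) c)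
    rw [KaehlerDifferential.map_D] at h1
    rw [dh_apply, h1]
    refine Submodule.sum_mem _ fun i _ => Submodule.smul_mem _ _ ?_
    rw [hdt i]
    exact Submodule.mem_sup_left (Submodule.mem_sup_left (Submodule.subset_span ⟨i, rfl⟩))
  have key1 : ∀ x ∈ P, ∃ s ∉ P, s • dh k A x ∈ G := by
    intro x hx
    obtain ⟨s, hs, c, hc⟩ := exists_smul_eq_sum A P a ha x hx
    refine ⟨s, hs, ?_⟩
    have h1 : dh k A (s * x) = dh k A (∑ j, c j * a j) := by rw [hc]
    rw [Derivation.leibniz, map_sum] at h1
    have h2 : s • dh k A x = ∑ j, dh k A (c j * a j) - x • dh k A s := by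
      rw [← h1]
      abel
    rw [h2]
    refine G.sub_mem (G.sum_mem fun j _ => ?_)
      (Submodule.mem_sup_right (Submodule.smul_mem_smul hx trivial))
    rw [Derivation.leibniz]
    exact G.add_mem
      (Submodule.mem_sup_left (Submodule.mem_sup_right
        (Submodule.smul_mem _ _ (Submodule.subset_span ⟨j, rfl⟩))))
      (Submodule.mem_sup_right (Submodule.smul_mem_smul (haP j) trivial))
  have hmk : ∀ (b : A) (F : Polynomial (MvPowerSeries (Fin r') k)),
      Ideal.Quotient.mk P (Polynomial.aeval b F) =
        Polynomial.aeval (Ideal.Quotient.mk P b) F := by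
    intro b F
    exact (Polynomial.aeval_algHom_apply (Ideal.Quotient.mkₐ (MvPowerSeries (Fin r') k) P) b F).symm
  have key2 : ∀ b : A, ∃ s ∉ P, s • dh k A b ∈ G := by
    intro b
    have hint : IsIntegral (MvPowerSeries (Fin r') k) (Ideal.Quotient.mk P b) :=
      Algebra.IsIntegral.isIntegral _
    obtain ⟨F, hF0, hF1⟩ := exists_aeval_derivative_ne_zero
      (R := MvPowerSeries (Fin r') k) (B := A ⧸ P) hinj' (Ideal.Quotient.mk P b) hint
    have hxP : Polynomial.aeval b F ∈ P := by
      rw [← Ideal.Quotient.eq_zero_iff_mem, hmk, hF0]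
    have huP : Polynomial.aeval b (Polynomial.derivative F) ∉ P := by
      rw [← Ideal.Quotient.eq_zero_iff_mem, hmk]
      exact hF1
    obtain ⟨s, hs, hsG⟩ := key1 _ hxP
    refine ⟨s * Polynomial.aeval b (Polynomial.derivative F), fun h => ?_, ?_⟩
    · rcases ‹P.IsPrime›.mem_or_mem h with h | h
      · exact hs h
      · exact huP h
    · have h1 := d_aeval_sub_mem (dh k A) G key0 b F
      have h2 := G.smul_mem s h1
      rw [smul_sub] at h2
      have h3 := G.sub_mem hsG h2
      rw [sub_sub_cancel, smul_smul] at h3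
      exact h3
  -- conclusion
  let s : Fin (r' + h) → LocalizedModule P.primeCompl Ωh :=
    Fin.append (fun i => Groth.Agent.H73.OmegaHatLoc.dloc k A P (t i))
      (fun j => Groth.Agent.H73.OmegaHatLoc.dloc k A P (a j))
  refine ⟨s, ?_⟩
  set T := Submodule.span (Localization.AtPrime P) (Set.range s) with hT
  haveI := Groth.Agent.H73.OmegaHatLoc.finite_omegaHat k A
  haveI : Module.Finite (Localization.AtPrime P) (LocalizedModule P.primeCompl Ωh) :=
    Module.Finite.of_isLocalizedModule P.primeCompl
      (LocalizedModule.mkLinearMap P.primeCompl Ωh)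
  have hsT : ∀ i, s i ∈ T := fun i => Submodule.subset_span ⟨i, rfl⟩
  have h1T : ∀ i, LocalizedModule.mkLinearMap P.primeCompl Ωh (dh k A (t i)) ∈ T := by
    intro i
    have h1 := hsT (Fin.castAdd h i)
    simp only [s, Fin.append_left] at h1
    exact h1
  have h2T : ∀ j, LocalizedModule.mkLinearMap P.primeCompl Ωh (dh k A (a j)) ∈ T := by
    intro j
    have h1 := hsT (Fin.natAdd r' j)
    simp only [s, Fin.append_right] at h1
    exact h1
  let T' : Submodule A Ωh :=
    ((T ⊔ maximalIdeal (Localization.AtPrime P) • ⊤).restrictScalars A).comap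
      (LocalizedModule.mkLinearMap P.primeCompl Ωh)
  have hGT' : G ≤ T' := by
    refine sup_le (sup_le ?_ ?_) ?_
    · rw [Submodule.span_le]
      rintro _ ⟨i, rfl⟩
      exact Submodule.mem_sup_left (h1T i)
    · rw [Submodule.span_le]
      rintro _ ⟨j, rfl⟩
      exact Submodule.mem_sup_left (h2T j)
    · rw [Submodule.smul_le]
      intro x hx y _
      show LocalizedModule.mkLinearMap P.primeCompl Ωh (x • y) ∈
        T ⊔ maximalIdeal (Localization.AtPrime P) • ⊤
      rw [map_smul, ← algebraMap_smul (Localization.AtPrime P) x]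
      refine Submodule.mem_sup_right (Submodule.smul_mem_smul ?_ trivial)
      rw [← Localization.AtPrime.map_eq_maximalIdeal]
      exact Ideal.mem_map_of_mem _ hx
  have hle : (⊤ : Submodule (Localization.AtPrime P) (LocalizedModule P.primeCompl Ωh)) ≤
      T ⊔ maximalIdeal (Localization.AtPrime P) • ⊤ := by
    have h0 : Submodule.span (Localization.AtPrime P)
        (Set.range (Groth.Agent.H73.OmegaHatLoc.dloc k A P)) ≤
        T ⊔ maximalIdeal (Localization.AtPrime P) • ⊤ := by
      rw [Submodule.span_le]
      rintro _ ⟨b, rfl⟩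
      obtain ⟨s₀, hs₀, hmem⟩ := key2 b
      have h3 := Groth.Agent.H73.OmegaHatUnram.mk_mem_span_of_smul_mem P.primeCompl G _ s₀ hs₀
        hmem
      refine (Submodule.span_le.2 ?_) h3
      rintro _ ⟨g, hg, rfl⟩
      exact hGT' hg
    rwa [Groth.Agent.H73.OmegaHatLoc.span_dloc k A P] at h0
  exact eq_top_iff.2 (Submodule.le_of_le_smul_of_le_jacobson_bot Module.Finite.fg_top
    (by rw [IsLocalRing.jacobson_eq_maximalIdeal ⊥ bot_ne_top]) hle)

end Main

end Groth.Agent.H73.OmegaHatGen0
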