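import Groth.Agent.H73.OmegaHatUnits
import Groth.Agent.H23.UFDiff

/-!
# Completed differentials localized at a prime: generation facts (helper73)
-/

set_option autoImplicit false
set_option linter.unusedSectionVars false
set_option linter.style.haveILetI false
universe u

namespace Groth.Agent.H73.OmegaHatLoc

open IsLocalRing TensorProduct KaehlerDifferential

variable (k A : Type u) [Field k] [CommRing A] [IsLocalRing A] [IsNoetherianRing A] [Algebra k A]
  [IsAdicComplete (maximalIdeal A) A] [Module.Finite k (ResidueField A)]

local notation "Ωh" => AdicCompletion (maximalIdeal A) (Ω[A⁄k])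

/-- `Ω̂_{A/k}` is a finite `A`-module. -/
theorem finite_omegaHat : Module.Finite A Ωh := by
  haveI : Module.Finite (ResidueField A) (Ω[ResidueField A⁄k]) := inferInstance
  exact Groth.Agent.H23.UFDiff.finite_complDiff
    (Groth.Agent.H23.UFDiff.finite_tensor_residue (k := k) (S := A))

/-- `Ω̂_{A/k}` is generated by the `d a`. -/
theorem span_of_D : Submodule.span A
    (Set.range fun a : A => AdicCompletion.of (maximalIdeal A) (Ω[A⁄k]) (D k A a)) = ⊤ := by
  haveI := finite_omegaHat k A
  have hfg : (maximalIdeal A).FG := (maximalIdeal A).fg_of_isNoetherianRing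
  set S : Submodule A Ωh := Submodule.span A
    (Set.range fun a : A => AdicCompletion.of (maximalIdeal A) (Ω[A⁄k]) (D k A a)) with hS
  have hof : ∀ ω : Ω[A⁄k], AdicCompletion.of (maximalIdeal A) (Ω[A⁄k]) ω ∈ S := by
    intro ω
    have hω : ω ∈ Submodule.span A (Set.range (D k A)) := by
      rw [span_range_derivation]; trivial
    induction hω using Submodule.span_induction with
    | mem x hx =>
      obtain ⟨a, rfl⟩ := hx
      exact Submodule.subset_span ⟨a, rfl⟩
    | zero => rw [map_zero]; exact S.zero_mem
    | add x y _ _ hx hy => rw [map_add]; exact S.add_mem hx hy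
    | smul c x _ hx => rw [map_smul]; exact S.smul_mem c hx
  have hle : (⊤ : Submodule A Ωh) ≤ S ⊔ maximalIdeal A • ⊤ := by
    intro y _
    obtain ⟨ω, hω⟩ := Groth.Agent.H23.UFDiff.exists_of_sub_mem (maximalIdeal A) hfg 1 y
    rw [pow_one] at hω
    have : y = AdicCompletion.of (maximalIdeal A) (Ω[A⁄k]) ω +
        (y - AdicCompletion.of (maximalIdeal A) (Ω[A⁄k]) ω) := by abel
    rw [this]
    exact Submodule.add_mem_sup (hof ω) hω
  exact eq_top_iff.2 (Submodule.le_of_le_smul_of_le_jacobson_bot Module.Finite.fg_top
    (by rw [IsLocalRing.jacobson_eq_maximalIdeal ⊥ bot_ne_top]) hle)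

variable (p : Ideal A) [p.IsPrime]

/-- the derivation-like map `A → (Ω̂)_p`. -/
noncomputable def dloc (a : A) : LocalizedModule p.primeCompl Ωh :=
  LocalizedModule.mkLinearMap p.primeCompl Ωh
    (AdicCompletion.of (maximalIdeal A) (Ω[A⁄k]) (D k A a))

theorem dloc_one : dloc k A p 1 = 0 := by
  rw [dloc, Derivation.map_one_eq_zero, map_zero, map_zero]

theorem dloc_add (a b : A) : dloc k A p (a + b) = dloc k A p a + dloc k A p b := by
  rw [dloc, map_add, map_add, map_add]; rfl

theorem dloc_mul (a b : A) : dloc k A p (a * b) = a • dloc k A p b + b • dloc k A p a := by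
  rw [dloc, Derivation.leibniz, map_add, map_add, map_smul, map_smul, map_smul, map_smul]; rfl

theorem span_dloc : Submodule.span (Localization.AtPrime p) (Set.range (dloc k A p)) = ⊤ := by
  set T : Submodule (Localization.AtPrime p) (LocalizedModule p.primeCompl Ωh) :=
    Submodule.span (Localization.AtPrime p) (Set.range (dloc k A p)) with hT
  have h1 : ∀ ω : Ωh, LocalizedModule.mkLinearMap p.primeCompl Ωh ω ∈ T := by
    intro ω
    have hω : ω ∈ Submodule.span A
        (Set.range fun a : A => AdicCompletion.of (maximalIdeal A) (Ω[A⁄k]) (D k A a)) := by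
      rw [span_of_D]; trivial
    induction hω using Submodule.span_induction with
    | mem x hx =>
      obtain ⟨a, rfl⟩ := hx
      exact Submodule.subset_span ⟨a, rfl⟩
    | zero => rw [map_zero]; exact T.zero_mem
    | add x y _ _ hx hy => rw [map_add]; exact T.add_mem hx hy
    | smul c x _ hx =>
      rw [map_smul, ← algebraMap_smul (Localization.AtPrime p) c]
      exact T.smul_mem _ hx
  rw [eq_top_iff]
  intro y _
  induction y using LocalizedModule.induction_on with
  | h ω s =>
    have : LocalizedModule.mk ω s =
        (Localization.mk 1 s : Localization.AtPrime p) •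
          LocalizedModule.mkLinearMap p.primeCompl Ωh ω := by
      rw [LocalizedModule.mkLinearMap_apply, LocalizedModule.mk_smul_mk, one_smul, mul_one]
    rw [this]
    exact T.smul_mem _ (h1 ω)

/-- The minimal number of generators of a finite module over a local ring is the dimension of its
fibre. -/
theorem finrank_eq_of_min {R N : Type*} [CommRing R] [IsLocalRing R] [AddCommGroup N] [Module R N]
    (M : ℕ) (hgen : ∃ s : Fin M → N, Submodule.span R (Set.range s) = ⊤)
    (hmin : ∀ s : Finset N, Submodule.span R (s : Set N) = ⊤ → M ≤ s.card) :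
    Module.Finite R N ∧ Module.finrank (ResidueField R) (ResidueField R ⊗[R] N) = M := by
  classical
  obtain ⟨s, hs⟩ := hgen
  have hfin : Module.Finite R N := Module.finite_def.2 ⟨Finset.univ.image s, by
    rw [Finset.coe_image, Finset.coe_univ, Set.image_univ]; exact hs⟩
  refine ⟨hfin, ?_⟩
  have hsurj : Function.Surjective (algebraMap R (ResidueField R)) := Ideal.Quotient.mk_surjective
  apply le_antisymm
  · have h1 : (Submodule.span R (Set.range s)).map (TensorProduct.mk R (ResidueField R) N 1) = ⊤ := by
      rw [hs, Submodule.map_top, LinearMap.range_eq_top]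
      exact TensorProduct.mk_surjective R N (ResidueField R) hsurj
    rw [Submodule.map_span, ← Submodule.restrictScalars_span R (ResidueField R) hsurj,
      Submodule.restrictScalars_eq_top_iff, ← Set.range_comp] at h1
    rw [← finrank_top (ResidueField R) (ResidueField R ⊗[R] N), ← h1]
    have := finrank_range_le_card (R := ResidueField R)
      ((TensorProduct.mk R (ResidueField R) N 1) ∘ s)
    rwa [Fintype.card_fin] at this
  · let b := Module.finBasis (ResidueField R) (ResidueField R ⊗[R] N)
    have hpre : ∀ i, ∃ n : N, (1 : ResidueField R) ⊗ₜ[R] n = b i := fun i =>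
      TensorProduct.mk_surjective R N (ResidueField R) hsurj (b i)
    choose n hn using hpre
    have hspan := IsLocalRing.span_eq_top_of_tmul_eq_basis n b hn
    have h2 := hmin (Finset.univ.image n) (by
      rw [Finset.coe_image, Finset.coe_univ, Set.image_univ]; exact hspan)
    calc M ≤ (Finset.univ.image n).card := h2
      _ ≤ (Finset.univ : Finset (Fin (Module.finrank (ResidueField R)
          (ResidueField R ⊗[R] N)))).card := Finset.card_image_le
      _ = _ := by rw [Finset.card_univ, Fintype.card_fin]

/-- EGA 0_IV 22.7.?: units `u_i` such that the `d(u_i x_i)` generate `(Ω̂)_p`. -/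
theorem exists_units (M : ℕ)
    (hgen : ∃ s : Fin M → LocalizedModule p.primeCompl Ωh,
      Submodule.span (Localization.AtPrime p) (Set.range s) = ⊤)
    (hmin : ∀ s : Finset (LocalizedModule p.primeCompl Ωh),
      Submodule.span (Localization.AtPrime p) (s : Set (LocalizedModule p.primeCompl Ωh)) = ⊤ →
        M ≤ s.card)
    (x : Fin M → A) (hx : ∀ i, x i ∉ p) :
    ∃ u : Fin M → Aˣ, Submodule.span (Localization.AtPrime p)
      (Set.range fun i => dloc k A p ((u i : A) * x i)) = ⊤ := by
  obtain ⟨hfin, hM⟩ := finrank_eq_of_min (R := Localization.AtPrime p) M hgen hmin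
  exact Groth.Agent.H73.OmegaHatUnits.exists_units_span (A := A) (R := Localization.AtPrime p)
    (dloc k A p) (dloc_one k A p) (dloc_add k A p) (dloc_mul k A p) (span_dloc k A p) M hM x
    (fun i => IsLocalization.map_units (Localization.AtPrime p) (⟨x i, hx i⟩ : p.primeCompl))

end Groth.Agent.H73.OmegaHatLoc
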