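import Groth.Agent.H73.OmegaHatUnramMain
import Groth.Agent.H39.FiniteGoingDown
import Groth.Agent.H54.Dim
import Groth.Agent.Lead.RegularLocalization
import Groth.Agent.H61.PSDim

/-!
# A finite algebra over `k[[T_1..T_n]]` of full dimension, unramified at `p`, is regular and flat
at `p` (helper73)
-/

set_option autoImplicit false
set_option linter.unusedSectionVars false
set_option linter.style.haveILetI false
universe u

namespace Groth.Agent.H73.OmegaHatReg

open IsLocalRing TensorProduct

section Free

/-- A module over a domain generated by `n` elements whose rank over some field containing the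
domain is at least `n` is free on these generators. -/
theorem linearIndependent_of_span_of_le_finrank {R M K : Type*} [CommRing R]
    [AddCommGroup M] [Module R M] [Field K] [Algebra R K]
    (hinj : Function.Injective (algebraMap R K)) (n : ℕ) (s : Fin n → M)
    (hs : Submodule.span R (Set.range s) = ⊤) (hK : n ≤ Module.finrank K (K ⊗[R] M)) :
    LinearIndependent R s := by
  classical
  let t : Fin n → K ⊗[R] M := fun i => (1 : K) ⊗ₜ[R] s i
  have hspan : Submodule.span K (Set.range t) = ⊤ := by
    have h1 := Submodule.baseChange_span (R := R) (A := K) (Set.range s)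
    rw [hs, Submodule.baseChange_top] at h1
    rw [h1, ← Set.range_comp]
    rfl
  have hcard : Fintype.card (Fin n) = Module.finrank K (K ⊗[R] M) := by
    rw [Fintype.card_fin]
    refine le_antisymm hK ?_
    have h2 := finrank_range_le_card (R := K) t
    rw [Set.finrank, hspan, finrank_top, Fintype.card_fin] at h2
    exact h2
  have hli : LinearIndependent K t :=
    linearIndependent_of_top_le_span_of_card_eq_finrank hspan.ge hcard
  rw [Fintype.linearIndependent_iff]
  intro g hg i
  have h3 : ∑ j, algebraMap R K (g j) • t j = 0 := by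
    have h4 : (1 : K) ⊗ₜ[R] (∑ j, g j • s j) = 0 := by rw [hg, TensorProduct.tmul_zero]
    rw [TensorProduct.tmul_sum] at h4
    rw [← h4]
    refine Finset.sum_congr rfl fun j _ => ?_
    rw [TensorProduct.tmul_smul, algebraMap_smul]
  have h5 := (Fintype.linearIndependent_iff.mp hli) (fun j => algebraMap R K (g j)) h3 i
  exact hinj (by rw [h5, map_zero])

end Free

variable (k A : Type u) [Field k] [CommRing A] [IsLocalRing A] [IsNoetherianRing A]
  (n : ℕ) [Algebra (MvPowerSeries (Fin n) k) A] [Module.Finite (MvPowerSeries (Fin n) k) A]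

local notation "P" => MvPowerSeries (Fin n) k

theorem finite_quotient (q : Ideal A) : Module.Finite P (A ⧸ q) :=
  Module.Finite.of_surjective (Ideal.Quotient.mkₐ P q).toLinearMap
    (Ideal.Quotient.mkₐ_surjective P q)

/-- `k[[T]] → A/q` is injective when `dim A/q = n`. -/
theorem injective_algebraMap_quotient (q : Ideal A) [q.IsPrime]
    (hd : ringKrullDim (A ⧸ q) = n) : Function.Injective (algebraMap P (A ⧸ q)) := by
  haveI := finite_quotient k A n q
  rw [injective_iff_map_eq_zero]
  intro x hx
  by_contra hx0
  have h1 : ringKrullDim (P ⧸ Ideal.span {x}) + 1 ≤ ringKrullDim P :=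
    ringKrullDim_quotient_succ_le_of_nonZeroDivisor (mem_nonZeroDivisors_of_ne_zero hx0)
  rw [Groth.Agent.H61.ringKrullDim_ps] at h1
  let I := RingHom.ker (algebraMap P (A ⧸ q))
  have hxI : Ideal.span {x} ≤ I := by
    rw [Ideal.span_singleton_le_iff_mem]
    exact hx
  let f : P ⧸ I →+* A ⧸ q := RingHom.kerLift (algebraMap P (A ⧸ q))
  have hf : Function.Injective f := RingHom.kerLift_injective _
  have hcomp : f.comp (Ideal.Quotient.mk I) = algebraMap P (A ⧸ q) :=
    RingHom.ext fun r => RingHom.kerLift_mk (algebraMap P (A ⧸ q)) r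
  have hint : f.IsIntegral := by
    refine RingHom.IsIntegral.tower_top (Ideal.Quotient.mk I) f ?_
    rw [hcomp]
    exact algebraMap_isIntegral_iff.mpr inferInstance
  have h2 : ringKrullDim (P ⧸ I) = ringKrullDim (A ⧸ q) :=
    Groth.Agent.H54.ringKrullDim_eq_of_ringHom_isIntegral_of_injective f hint hf
  have h3 : ringKrullDim (P ⧸ I) ≤ ringKrullDim (P ⧸ Ideal.span {x}) :=
    ringKrullDim_le_of_surjective (Ideal.Quotient.factor hxI)
      (Ideal.Quotient.factor_surjective hxI)
  rw [h2, hd] at h3
  have h4 : ((n : WithBot ℕ∞)) + 1 ≤ n := (add_le_add_left h3 1).trans h1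
  have h5 : ((n + 1 : ℕ) : WithBot ℕ∞) ≤ (n : ℕ) := by exact_mod_cast h4
  have h6 : n + 1 ≤ n := by exact_mod_cast h5
  omega

variable (p q : Ideal A) [p.IsPrime] [q.IsPrime]

/-- going down: `ht (p ∩ k[[T]]) ≤ ht p`. -/
theorem height_under_le (hqp : q ≤ p) (hd : ringKrullDim (A ⧸ q) = n) :
    (p.under P).height ≤ p.height := by
  haveI := finite_quotient k A n q
  set r := p.under P with hr
  let p' : Ideal (A ⧸ q) := p.map (Ideal.Quotient.mk q)
  haveI hp' : p'.IsPrime :=
    Ideal.map_isPrime_of_surjective Ideal.Quotient.mk_surjective (by rwa [Ideal.mk_ker])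
  have hcomap : p'.comap (Ideal.Quotient.mk q) = p := by
    rw [Ideal.comap_map_of_surjective _ Ideal.Quotient.mk_surjective, ← RingHom.ker_eq_comap_bot,
      Ideal.mk_ker, sup_eq_left.mpr hqp]
  haveI : p'.LiesOver r := ⟨by
    rw [hr, Ideal.under_def, Ideal.under_def, ← hcomap, Ideal.comap_comap]
    rfl⟩
  letI := Localization.AtPrime.algebraOfLiesOver r p'
  haveI : IsRegularLocalRing (Localization.AtPrime r) :=
    Groth.Agent.Lead.RLR.isRegularLocalRing_localization P r
  haveI : IsDomain (Localization.AtPrime r) := Groth.Agent.Lead.RLR.isDomain _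
  haveI : UniqueFactorizationMonoid (Localization.AtPrime r) :=
    Groth.Agent.H56.AusBuchUFD.uniqueFactorizationMonoid _
  haveI : IsIntegrallyClosed (Localization.AtPrime r) := inferInstance
  haveI : IsDomain (Localization.AtPrime p') :=
    IsLocalization.isDomain_localization p'.primeCompl_le_nonZeroDivisors
  have hinj0 := injective_algebraMap_quotient k A n q hd
  have hinj : Function.Injective
      (algebraMap (Localization.AtPrime r) (Localization.AtPrime p')) := by
    rw [injective_iff_map_eq_zero]
    intro x hx
    obtain ⟨a, s, rfl⟩ := IsLocalization.exists_mk'_eq r.primeCompl x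
    rw [Localization.AtPrime.IsLiesOverAlgebra.algebraMap_eq, Localization.localRingHom_mk',
      IsLocalization.mk'_eq_zero_iff] at hx
    obtain ⟨t, ht⟩ := hx
    have h0 : algebraMap P (A ⧸ q) a = 0 :=
      (mul_eq_zero.mp ht).resolve_left (fun h => t.2 (by rw [h]; exact p'.zero_mem))
    have ha : a = 0 := hinj0 (by rw [h0, map_zero])
    rw [ha, IsLocalization.mk'_zero]
  have h1 := Groth.Agent.H39.FiniteGoingDown.height_le_height_of_integral P (A ⧸ q)
    (Localization.AtPrime r) (Localization.AtPrime p') r p' hinj
  exact h1.trans (Groth.Agent.H39.FiniteGoingDown.height_map_mk_le q p hqp)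

/-- the kernel of `k[[T]]_r → A_p` is trivial. -/
theorem injective_algebraMap_atPrime (hqp : q ≤ p) (hd : ringKrullDim (A ⧸ q) = n)
    [Algebra (Localization.AtPrime (p.under P)) (Localization.AtPrime p)]
    [Localization.AtPrime.IsLiesOverAlgebra (p.under P) p] :
    Function.Injective
      (algebraMap (Localization.AtPrime (p.under P)) (Localization.AtPrime p)) := by
  have hinj0 := injective_algebraMap_quotient k A n q hd
  rw [injective_iff_map_eq_zero]
  intro x hx
  obtain ⟨a, s, rfl⟩ := IsLocalization.exists_mk'_eq (p.under P).primeCompl x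
  rw [Localization.AtPrime.IsLiesOverAlgebra.algebraMap_eq, Localization.localRingHom_mk',
    IsLocalization.mk'_eq_zero_iff] at hx
  obtain ⟨t, ht⟩ := hx
  have h1 : Ideal.Quotient.mk q (t : A) * algebraMap P (A ⧸ q) a = 0 := by
    have := congrArg (Ideal.Quotient.mk q) ht
    rw [map_mul, map_zero] at this
    exact this
  have h0 : algebraMap P (A ⧸ q) a = 0 :=
    (mul_eq_zero.mp h1).resolve_left (fun h => t.2 (hqp (Ideal.Quotient.eq_zero_iff_mem.mp h)))
  have ha : a = 0 := hinj0 (by rw [h0, map_zero])
  rw [ha, IsLocalization.mk'_zero]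

/-- `A_p` is regular of dimension `ht (p ∩ k[[T]])`. -/
theorem isRegularLocalRing_atPrime (hqp : q ≤ p) (hd : ringKrullDim (A ⧸ q) = n)
    (hunr : Algebra.IsUnramifiedAt P p) : IsRegularLocalRing (Localization.AtPrime p) := by
  set r := p.under P with hr
  haveI : p.LiesOver r := ⟨rfl⟩
  letI := Localization.AtPrime.algebraOfLiesOver r p
  haveI : IsRegularLocalRing (Localization.AtPrime r) :=
    Groth.Agent.Lead.RLR.isRegularLocalRing_localization P r
  have hmap : r.map (algebraMap P (Localization.AtPrime p)) =
      maximalIdeal (Localization.AtPrime p) :=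
    ((Algebra.isUnramifiedAt_iff_map_eq P r p).mp hunr).2
  have hmap' : (maximalIdeal (Localization.AtPrime r)).map
      (algebraMap (Localization.AtPrime r) (Localization.AtPrime p)) =
      maximalIdeal (Localization.AtPrime p) := by
    rw [← Localization.AtPrime.map_eq_maximalIdeal, Ideal.map_map,
      ← IsScalarTower.algebraMap_eq, hmap]
  have hle : (maximalIdeal (Localization.AtPrime p)).spanFinrank ≤
      (maximalIdeal (Localization.AtPrime r)).spanFinrank := by
    rw [← hmap']
    exact Ideal.spanFinrank_map_le_of_fg _ (IsNoetherian.noetherian _)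
  have hht := height_under_le k A n p q hqp hd
  apply IsRegularLocalRing.of_spanFinrank_maximalIdeal_le
  calc ((maximalIdeal (Localization.AtPrime p)).spanFinrank : WithBot ℕ∞)
      ≤ ((maximalIdeal (Localization.AtPrime r)).spanFinrank : WithBot ℕ∞) := by
        exact_mod_cast hle
    _ = ringKrullDim (Localization.AtPrime r) := IsRegularLocalRing.spanFinrank_maximalIdeal
    _ = r.height := IsLocalization.AtPrime.ringKrullDim_eq_height r _
    _ ≤ p.height := by exact_mod_cast hht
    _ = ringKrullDim (Localization.AtPrime p) :=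
        (IsLocalization.AtPrime.ringKrullDim_eq_height p _).symm

/-- `A_p` is flat over `k[[T]]`. -/
theorem flat_atPrime (hqp : q ≤ p) (hd : ringKrullDim (A ⧸ q) = n)
    (hunr : Algebra.IsUnramifiedAt P p) : Module.Flat P (Localization.AtPrime p) := by
  set r := p.under P with hr
  haveI : p.LiesOver r := ⟨rfl⟩
  letI := Localization.AtPrime.algebraOfLiesOver r p
  haveI : IsRegularLocalRing (Localization.AtPrime r) :=
    Groth.Agent.Lead.RLR.isRegularLocalRing_localization P r
  haveI : IsRegularLocalRing (Localization.AtPrime p) :=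
    isRegularLocalRing_atPrime k A n p q hqp hd hunr
  have hinj := injective_algebraMap_atPrime k A n p q hqp hd
  haveI : Module.Flat (Localization.AtPrime r) (Localization.AtPrime p) :=
    Groth.Agent.H39.FiniteGoingDown.flat_of_integral_regular P A
      (Localization.AtPrime r) (Localization.AtPrime p) r p hinj
  haveI : Module.Flat P (Localization.AtPrime r) := IsLocalization.flat _ r.primeCompl
  exact Module.Flat.trans P (Localization.AtPrime r) (Localization.AtPrime p)

end Groth.Agent.H73.OmegaHatReg
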