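import Mathlib

/-!
# Choosing units `u_i` such that the `d(u_i x_i)` generate (EGA 0_IV 22.7.?, abstract core) (helper73)
-/

set_option autoImplicit false
set_option linter.unusedSectionVars false
set_option linter.style.haveILetI false
universe u

namespace Groth.Agent.H73.OmegaHatUnits

open IsLocalRing TensorProduct

/-- Linear algebra: translating a family by elements of a spanning set containing `0` to make it
linearly independent. -/
theorem exists_add_linearIndependent {K V : Type*} [Field K] [AddCommGroup V] [Module K V]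
    [Module.Finite K V] (Λ : Set V) (h0 : (0 : V) ∈ Λ) (hΛ : Submodule.span K Λ = ⊤) :
    ∀ (j : ℕ), j ≤ Module.finrank K V → ∀ w : Fin j → V,
      ∃ l : Fin j → V, (∀ i, l i ∈ Λ) ∧ LinearIndependent K (fun i => w i + l i) := by
  classical
  intro j
  induction j with
  | zero =>
    intro _ w
    exact ⟨fun i => i.elim0, fun i => i.elim0, linearIndependent_empty_type⟩
  | succ j ih =>
    intro hj w
    obtain ⟨l', hl', hli'⟩ := ih (Nat.le_of_succ_le hj) (fun i => w i.succ)
    set W : Submodule K V := Submodule.span K (Set.range fun i : Fin j => w i.succ + l' i) with hW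
    have hWrank : Module.finrank K W = j := by
      rw [hW, finrank_span_eq_card hli', Fintype.card_fin]
    have hWne : W ≠ ⊤ := by
      intro h
      rw [h, finrank_top] at hWrank
      omega
    have hex : ∃ y ∈ Λ, y ∉ W := by
      by_contra hcon
      push Not at hcon
      apply hWne
      rw [eq_top_iff, ← hΛ]
      exact Submodule.span_le.2 hcon
    obtain ⟨y, hyΛ, hyW⟩ := hex
    let l0 : V := if w 0 ∈ W then y else 0
    have hl0 : l0 ∈ Λ := by
      show (if w 0 ∈ W then y else 0) ∈ Λ
      split_ifs
      · exact hyΛ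
      · exact h0
    have hnot : w 0 + l0 ∉ W := by
      show w 0 + (if w 0 ∈ W then y else 0) ∉ W
      split_ifs with h
      · intro h2
        exact hyW ((Submodule.add_mem_iff_right W h).1 h2)
      · rwa [add_zero]
    refine ⟨Fin.cons l0 l', ?_, ?_⟩
    · intro i
      refine Fin.cases ?_ (fun i => ?_) i
      · exact hl0
      · rw [Fin.cons_succ]; exact hl' i
    · have : (fun i : Fin (j + 1) => w i + (Fin.cons l0 l' : Fin (j + 1) → V) i) =
          Fin.cons (w 0 + l0) (fun i : Fin j => w i.succ + l' i) := by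
        funext i
        refine Fin.cases ?_ (fun i => ?_) i
        · rw [Fin.cons_zero, Fin.cons_zero]
        · rw [Fin.cons_succ, Fin.cons_succ]
      rw [this, linearIndependent_fin_cons]
      exact ⟨hli', hnot⟩

/-- Abstract form of EGA 0_IV 22.7.?: units `u_i` with `d(u_i x_i)` generating. -/
theorem exists_units_span {A R N : Type*} [CommRing A] [IsLocalRing A] [CommRing R] [IsLocalRing R]
    [Algebra A R] [AddCommGroup N] [Module A N] [Module R N] [IsScalarTower A R N]
    [Module.Finite R N]
    (d' : A → N) (hd1 : d' 1 = 0) (hdadd : ∀ a b, d' (a + b) = d' a + d' b)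
    (hdmul : ∀ a b, d' (a * b) = a • d' b + b • d' a)
    (hspan : Submodule.span R (Set.range d') = ⊤)
    (M : ℕ) (hM : Module.finrank (ResidueField R) (ResidueField R ⊗[R] N) = M)
    (x : Fin M → A) (hx : ∀ i, IsUnit (algebraMap A R (x i))) :
    ∃ u : Fin M → Aˣ, Submodule.span R (Set.range fun i => d' ((u i : A) * x i)) = ⊤ := by
  classical
  let τ : N →ₗ[R] ResidueField R ⊗[R] N := TensorProduct.mk R (ResidueField R) N 1
  let φ : A →+* ResidueField R := (residue R).comp (algebraMap A R)
  have hsurj : Function.Surjective (algebraMap R (ResidueField R)) := Ideal.Quotient.mk_surjective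
  have hτ : ∀ (a : A) (n : N), τ (a • n) = φ a • τ n := by
    intro a n
    rw [← algebraMap_smul R a n, map_smul]
    show algebraMap A R a • ((1 : ResidueField R) ⊗ₜ[R] n) = φ a • ((1 : ResidueField R) ⊗ₜ[R] n)
    rw [TensorProduct.smul_tmul', TensorProduct.smul_tmul', smul_eq_mul, mul_one,
      Algebra.smul_def, mul_one]
    rfl
  have hφx : ∀ i, φ (x i) ≠ 0 := fun i => ((hx i).map (residue R)).ne_zero
  have hφu : ∀ u : Aˣ, φ u ≠ 0 := fun u => (u.isUnit.map φ).ne_zero
  let Λ : Set (ResidueField R ⊗[R] N) := Set.range fun u : Aˣ => (φ u)⁻¹ • τ (d' u)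
  have h0 : (0 : ResidueField R ⊗[R] N) ∈ Λ := ⟨1, by
    show (φ ((1 : Aˣ) : A))⁻¹ • τ (d' ((1 : Aˣ) : A)) = 0
    rw [Units.val_one, hd1, map_zero, smul_zero]⟩
  have hunit : ∀ u : Aˣ, τ (d' u) ∈ Submodule.span (ResidueField R) Λ := by
    intro u
    have : τ (d' u) = φ u • ((φ u)⁻¹ • τ (d' u)) := by
      rw [smul_smul, mul_inv_cancel₀ (hφu u), one_smul]
    rw [this]
    exact Submodule.smul_mem _ _ (Submodule.subset_span ⟨u, rfl⟩)
  have key : ∀ a : A, τ (d' a) ∈ Submodule.span (ResidueField R) Λ := by
    intro a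
    by_cases ha : IsUnit a
    · obtain ⟨u, rfl⟩ := ha
      exact hunit u
    · have h1 : IsUnit (1 - (-a)) :=
        IsLocalRing.isUnit_one_sub_self_of_mem_nonunits (-a) (by
          rw [mem_nonunits_iff, IsUnit.neg_iff]
          exact ha)
      obtain ⟨u, hu⟩ := h1
      have : d' a = d' u := by
        rw [hu, sub_neg_eq_add, hdadd, hd1, zero_add]
      rw [this]
      exact hunit u
  have hΛ : Submodule.span (ResidueField R) Λ = ⊤ := by
    have h1 : (Submodule.span R (Set.range d')).map τ = ⊤ := by
      rw [hspan, Submodule.map_top, LinearMap.range_eq_top]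
      exact TensorProduct.mk_surjective R N (ResidueField R) hsurj
    rw [Submodule.map_span, ← Submodule.restrictScalars_span R (ResidueField R) hsurj,
      Submodule.restrictScalars_eq_top_iff] at h1
    rw [eq_top_iff, ← h1, Submodule.span_le]
    rintro _ ⟨_, ⟨a, rfl⟩, rfl⟩
    exact key a
  haveI : Module.Finite (ResidueField R) (ResidueField R ⊗[R] N) := inferInstance
  obtain ⟨l, hl, hli⟩ := exists_add_linearIndependent Λ h0 hΛ M (le_of_eq hM.symm)
    (fun i => (φ (x i))⁻¹ • τ (d' (x i)))
  choose u hu using hl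
  refine ⟨u, ?_⟩
  have hv : ∀ i, τ (d' ((u i : A) * x i)) =
      (φ (u i) * φ (x i)) • ((φ (x i))⁻¹ • τ (d' (x i)) + l i) := by
    intro i
    rw [hdmul, map_add, hτ, hτ, ← hu i]
    simp only [smul_add, smul_smul]
    rw [mul_assoc, mul_inv_cancel₀ (hφx i), mul_one, mul_comm (φ (u i)) (φ (x i)), mul_assoc,
      mul_inv_cancel₀ (hφu (u i)), mul_one]
  have hli2 : LinearIndependent (ResidueField R) (fun i => τ (d' ((u i : A) * x i))) := by
    rw [Fintype.linearIndependent_iff] at hli ⊢
    intro c hc i
    have h3 := hli (fun i => c i * (φ (u i) * φ (x i))) (by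
      rw [← hc]
      refine Finset.sum_congr rfl fun i _ => ?_
      rw [hv i, smul_smul]) i
    exact (mul_eq_zero.1 h3).resolve_right (mul_ne_zero (hφu _) (hφx i))
  have hsp2 : Submodule.span (ResidueField R) (Set.range fun i => τ (d' ((u i : A) * x i))) = ⊤ :=
    hli2.span_eq_top_of_card_eq_finrank' (by rw [Fintype.card_fin, hM])
  rw [← IsLocalRing.map_tensorProduct_mk_eq_top, Submodule.map_span,
    ← Submodule.restrictScalars_span R (ResidueField R) hsurj,
    Submodule.restrictScalars_eq_top_iff, ← Set.range_comp]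
  exact hsp2

end Groth.Agent.H73.OmegaHatUnits
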