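import Groth.Agent.H73.OmegaHatLoc
import Groth.Agent.H73.ComplDerP
import Groth.Agent.H23.GenRank
import Groth.Agent.H89.ComplFinite

/-!
# Completed differentials and unramifiedness over a power series subring (EGA 0_IV 22.7.?) (helper73)
-/

set_option autoImplicit false
set_option linter.unusedSectionVars false
set_option linter.style.haveILetI false
universe u

namespace Groth.Agent.H73.OmegaHatUnram

open IsLocalRing TensorProduct KaehlerDifferential

/-- If the image of a submodule `G` generates the localized module, every element is multiplied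
into `G` by an element of the multiplicative set. -/
theorem exists_smul_mem_of_span_eq_top {A N : Type*} [CommRing A] [AddCommGroup N] [Module A N]
    (S : Submonoid A) (G : Submodule A N)
    (h : Submodule.span (Localization S) ((LocalizedModule.mkLinearMap S N) '' G) = ⊤) (y : N) :
    ∃ s ∈ S, s • y ∈ G := by
  have key : ∀ z ∈ Submodule.span (Localization S) ((LocalizedModule.mkLinearMap S N) '' G),
      ∃ s : S, ∃ g ∈ G, (s : A) • z = LocalizedModule.mkLinearMap S N g := by
    intro z hz
    induction hz using Submodule.span_induction with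
    | mem z hz =>
      obtain ⟨g, hg, rfl⟩ := hz
      exact ⟨1, g, hg, by rw [Submonoid.coe_one, one_smul]⟩
    | zero => exact ⟨1, 0, G.zero_mem, by rw [smul_zero, map_zero]⟩
    | add z₁ z₂ _ _ h₁ h₂ =>
      obtain ⟨s₁, g₁, hg₁, e₁⟩ := h₁
      obtain ⟨s₂, g₂, hg₂, e₂⟩ := h₂
      refine ⟨s₁ * s₂, (s₂ : A) • g₁ + (s₁ : A) • g₂,
        G.add_mem (G.smul_mem _ hg₁) (G.smul_mem _ hg₂), ?_⟩
      rw [map_add, map_smul, map_smul, ← e₁, ← e₂, Submonoid.coe_mul, smul_add, mul_comm,
        mul_smul, mul_comm, mul_smul]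
    | smul r z _ hz =>
      obtain ⟨s, g, hg, e⟩ := hz
      obtain ⟨a, t, rfl⟩ := IsLocalization.exists_mk'_eq S r
      refine ⟨s * t, a • g, G.smul_mem _ hg, ?_⟩
      rw [map_smul, ← e, Submonoid.coe_mul, ← algebraMap_smul (Localization S) ((s : A) * (t : A)),
        ← algebraMap_smul (Localization S) a, ← algebraMap_smul (Localization S) (s : A),
        smul_smul, smul_smul]
      congr 1
      rw [map_mul, mul_assoc, IsLocalization.mk'_spec', mul_comm]
  obtain ⟨s, g, hg, e⟩ := key (LocalizedModule.mkLinearMap S N y) (by rw [h]; trivial)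
  have h0 : LocalizedModule.mkLinearMap S N ((s : A) • y - g) = 0 := by
    rw [map_sub, map_smul, e, sub_self]
  obtain ⟨s', hs'⟩ := (IsLocalizedModule.eq_zero_iff S (LocalizedModule.mkLinearMap S N)).1 h0
  refine ⟨s' * s, (s' * s).2, ?_⟩
  show ((s' : A) * (s : A)) • y ∈ G
  have : ((s' : A) * (s : A)) • y = (s' : A) • g := by
    rw [mul_smul]
    have h1 : (s' : A) • ((s : A) • y - g) = 0 := hs'
    rw [smul_sub, sub_eq_zero] at h1
    exact h1
  rw [this]
  exact G.smul_mem _ hg

/-- Conversely. -/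
theorem mk_mem_span_of_smul_mem {A N : Type*} [CommRing A] [AddCommGroup N] [Module A N]
    (S : Submonoid A) (G : Submodule A N) (y : N) (s : A) (hs : s ∈ S) (h : s • y ∈ G) :
    LocalizedModule.mkLinearMap S N y ∈
      Submodule.span (Localization S) ((LocalizedModule.mkLinearMap S N) '' G) := by
  have h1 : LocalizedModule.mkLinearMap S N y =
      (IsLocalization.mk' (Localization S) 1 (⟨s, hs⟩ : S)) •
        LocalizedModule.mkLinearMap S N (s • y) := by
    rw [map_smul, ← algebraMap_smul (Localization S) s, smul_smul]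
    have : IsLocalization.mk' (Localization S) 1 (⟨s, hs⟩ : S) * algebraMap A (Localization S) s
        = 1 := by
      have := IsLocalization.mk'_spec (Localization S) (1 : A) (⟨s, hs⟩ : S)
      rw [map_one] at this
      exact this
    rw [this, one_smul]
  rw [h1]
  exact Submodule.smul_mem _ _ (Submodule.subset_span ⟨_, h, rfl⟩)

section PS

variable (k : Type u) [Field k] (r : ℕ) (A : Type u) [CommRing A] [IsLocalRing A]
  [IsNoetherianRing A] [Algebra (MvPowerSeries (Fin r) k) A] [Algebra k A]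
  [IsScalarTower k (MvPowerSeries (Fin r) k) A] [IsAdicComplete (maximalIdeal A) A]
  [Module.Finite k (ResidueField A)] [IsLocalHom (algebraMap (MvPowerSeries (Fin r) k) A)]
  [Module.Finite (MvPowerSeries (Fin r) k) A] (p : Ideal A) [p.IsPrime]

local notation "A₀" => MvPowerSeries (Fin r) k
local notation "Ωh" => AdicCompletion (maximalIdeal A) (Ω[A⁄k])

/-- the submodule of `Ω̂_{A/k}` generated by the `dT_i`. -/
noncomputable def G : Submodule A Ωh :=
  Submodule.span A (Set.range (Groth.Agent.H23.GenRank.dt k r A))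

theorem of_D_algebraMap_mem (c : A₀) :
    AdicCompletion.of (maximalIdeal A) (Ω[A⁄k]) (D k A (algebraMap A₀ A c)) ∈ G k r A := by
  have := Groth.Agent.H23.GenRank.of_map_eq (k := k) (r := r) (A := A) (D k A₀ c)
  rw [KaehlerDifferential.map_D] at this
  rw [this]
  exact Submodule.sum_mem _ fun i _ => Submodule.smul_mem _ _ (Submodule.subset_span ⟨i, rfl⟩)

theorem mk_mem_of_mem_G (T : Submodule (Localization.AtPrime p) (LocalizedModule p.primeCompl Ωh))
    (hT : ∀ i, Groth.Agent.H73.OmegaHatLoc.dloc k A p (algebraMap A₀ A (MvPowerSeries.X i)) ∈ T)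
    (g : Ωh) (hg : g ∈ G k r A) : LocalizedModule.mkLinearMap p.primeCompl Ωh g ∈ T := by
  unfold G at hg
  induction hg using Submodule.span_induction with
  | mem x hx =>
    obtain ⟨i, rfl⟩ := hx
    exact hT i
  | zero => rw [map_zero]; exact T.zero_mem
  | add x y _ _ hx hy => rw [map_add]; exact T.add_mem hx hy
  | smul c x _ hx =>
    rw [map_smul, ← algebraMap_smul (Localization.AtPrime p) c]
    exact T.smul_mem _ hx

/-- unramified at `p` ⇒ the `dT_i` generate `(Ω̂)_p`. -/
theorem span_dloc_of_unramified (h : Algebra.IsUnramifiedAt A₀ p) :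
    Submodule.span (Localization.AtPrime p) (Set.range fun i : Fin r =>
      Groth.Agent.H73.OmegaHatLoc.dloc k A p (algebraMap A₀ A (MvPowerSeries.X i))) = ⊤ := by
  have hsupp : ∀ ω : Ω[A⁄A₀], ∃ s ∉ p, s • ω = 0 := by
    have h1 : (⟨p, inferInstance⟩ : PrimeSpectrum A) ∈ Algebra.unramifiedLocus A₀ A := h
    rw [Algebra.unramifiedLocus_eq_compl_support, Set.mem_compl_iff,
      Module.notMem_support_iff'] at h1
    exact h1
  let d₀ : Derivation ℤ A (Ωh ⧸ G k r A) :=
    ((G k r A).mkQ ∘ₗ AdicCompletion.of (maximalIdeal A) (Ω[A⁄k])).compDer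
      ((D k A).restrictScalars ℤ)
  have hkill : ∀ c : A₀, d₀ (algebraMap A₀ A c) = 0 := fun c =>
    (Submodule.Quotient.mk_eq_zero _).2 (of_D_algebraMap_mem k r A c)
  let dP : Derivation A₀ A (Ωh ⧸ G k r A) := Groth.Agent.H73.ComplDer.derivOfKills d₀ hkill
  have key : ∀ a : A, ∃ s ∉ p,
      s • AdicCompletion.of (maximalIdeal A) (Ω[A⁄k]) (D k A a) ∈ G k r A := by
    intro a
    obtain ⟨s, hs, h0⟩ := hsupp (D A₀ A a)
    refine ⟨s, hs, ?_⟩
    have h1 := congrArg dP.liftKaehlerDifferential h0
    rw [map_smul, Derivation.liftKaehlerDifferential_comp_D, map_zero] at h1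
    have h2 : (G k r A).mkQ (s • AdicCompletion.of (maximalIdeal A) (Ω[A⁄k]) (D k A a)) = 0 := by
      rw [map_smul]; exact h1
    exact (Submodule.Quotient.mk_eq_zero _).1 h2
  set T := Submodule.span (Localization.AtPrime p) (Set.range fun i : Fin r =>
      Groth.Agent.H73.OmegaHatLoc.dloc k A p (algebraMap A₀ A (MvPowerSeries.X i))) with hT
  rw [eq_top_iff, ← Groth.Agent.H73.OmegaHatLoc.span_dloc k A p, Submodule.span_le]
  rintro _ ⟨a, rfl⟩
  obtain ⟨s, hs, hmem⟩ := key a
  have h3 := mk_mem_span_of_smul_mem p.primeCompl (G k r A) _ s hs hmem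
  refine (Submodule.span_le.2 ?_) h3
  rintro _ ⟨g, hg, rfl⟩
  exact mk_mem_of_mem_G k r A p T (fun i => Submodule.subset_span ⟨i, rfl⟩) g hg

/-- the `dT_i` generate `(Ω̂)_p` ⇒ unramified at `p`. -/
theorem unramified_of_span_dloc
    (h : Submodule.span (Localization.AtPrime p) (Set.range fun i : Fin r =>
      Groth.Agent.H73.OmegaHatLoc.dloc k A p (algebraMap A₀ A (MvPowerSeries.X i))) = ⊤) :
    Algebra.IsUnramifiedAt A₀ p := by
  have h1 : Submodule.span (Localization.AtPrime p)
      ((LocalizedModule.mkLinearMap p.primeCompl Ωh) '' (G k r A)) = ⊤ := by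
    rw [eq_top_iff, ← h, Submodule.span_le]
    rintro _ ⟨i, rfl⟩
    exact Submodule.subset_span ⟨_, Submodule.subset_span ⟨i, rfl⟩, rfl⟩
  haveI : Module.Finite A (Ω[A⁄A₀]) := inferInstance
  haveI : IsAdicComplete (maximalIdeal A) (Ω[A⁄A₀]) :=
    Groth.Agent.H89.isAdicComplete_of_finite_noeth _ _
  let π : Ωh →ₗ[A] Ω[A⁄A₀] :=
    Groth.Agent.H23.UFDiff.lift (maximalIdeal A) (KaehlerDifferential.map k A₀ A A)
  have hπ : ∀ ω, π (AdicCompletion.of (maximalIdeal A) (Ω[A⁄k]) ω) =
      KaehlerDifferential.map k A₀ A A ω := fun ω => Groth.Agent.H23.UFDiff.lift_of _ _ ω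
  have hπG : ∀ g ∈ G k r A, π g = 0 := by
    intro g hg
    unfold G at hg
    induction hg using Submodule.span_induction with
    | mem x hx =>
      obtain ⟨i, rfl⟩ := hx
      show π (AdicCompletion.of (maximalIdeal A) (Ω[A⁄k])
        (D k A (algebraMap A₀ A (MvPowerSeries.X i)))) = 0
      rw [hπ, KaehlerDifferential.map_D]
      exact Derivation.map_algebraMap _ _
    | zero => exact map_zero _
    | add x y _ _ hx hy => rw [map_add, hx, hy, add_zero]
    | smul c x _ hx => rw [map_smul, hx, smul_zero]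
  have key : ∀ a : A, ∃ s ∉ p, s • D A₀ A a = 0 := by
    intro a
    obtain ⟨s, hs, hmem⟩ := exists_smul_mem_of_span_eq_top p.primeCompl (G k r A) h1
      (AdicCompletion.of (maximalIdeal A) (Ω[A⁄k]) (D k A a))
    refine ⟨s, hs, ?_⟩
    have := hπG _ hmem
    rw [map_smul, hπ, KaehlerDifferential.map_D] at this
    exact this
  show (⟨p, inferInstance⟩ : PrimeSpectrum A) ∈ Algebra.unramifiedLocus A₀ A
  rw [Algebra.unramifiedLocus_eq_compl_support, Set.mem_compl_iff, Module.notMem_support_iff']
  intro ω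
  have hω : ω ∈ Submodule.span A (Set.range (D A₀ A)) := by
    rw [span_range_derivation]; trivial
  induction hω using Submodule.span_induction with
  | mem x hx =>
    obtain ⟨a, rfl⟩ := hx
    exact key a
  | zero => exact ⟨1, fun h1 => ‹p.IsPrime›.ne_top ((Ideal.eq_top_iff_one _).2 h1), smul_zero _⟩
  | add x y _ _ hx hy =>
    obtain ⟨s, hs, e1⟩ := hx
    obtain ⟨t, ht, e2⟩ := hy
    refine ⟨s * t, fun hst => (‹p.IsPrime›.mem_or_mem hst).elim hs ht, ?_⟩
    rw [smul_add, mul_comm, mul_smul, e1, smul_zero, mul_comm, mul_smul, e2, smul_zero, add_zero]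
  | smul c x _ hx =>
    obtain ⟨s, hs, e1⟩ := hx
    exact ⟨s, hs, by rw [smul_comm, e1, smul_zero]⟩

end PS

end Groth.Agent.H73.OmegaHatUnram
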