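import Groth.Agent.H96.CohenFinite

/-!
# Systems of parameters avoiding a prime; power series maps from `𝔪`-primary families (helper73)
-/

set_option autoImplicit false
set_option linter.unusedSectionVars false
set_option linter.style.haveILetI false
universe u

namespace Groth.Agent.H73.SopAvoid

open IsLocalRing

section

variable (R : Type u) [CommRing R] [IsNoetherianRing R] [IsLocalRing R]

theorem exists_partial_sop_avoiding (d : ℕ) (hd : ringKrullDim R = d) (P : Ideal R) [P.IsPrime]
    (hP : P ≠ maximalIdeal R) :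
    ∀ i : ℕ, i ≤ d → ∃ g : Fin i → R, (∀ j, g j ∈ maximalIdeal R ∧ g j ∉ P) ∧
      ∀ q ∈ (Ideal.span (Set.range g)).minimalPrimes, ((i : ℕ) : ℕ∞) ≤ q.height := by
  classical
  have hm : (maximalIdeal R).height = (d : ℕ∞) := by
    have := IsLocalRing.maximalIdeal_height_eq_ringKrullDim (R := R)
    rw [hd] at this
    exact_mod_cast this
  intro i
  induction i with
  | zero =>
    intro _
    exact ⟨Fin.elim0, fun j => j.elim0, fun q _ => by simp⟩
  | succ i ih =>
    intro hi
    obtain ⟨g, hg, hq⟩ := ih (by omega)
    set I := Ideal.span (Set.range g) with hI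
    have hfin : I.minimalPrimes.Finite := Ideal.finite_minimalPrimes_of_isNoetherianRing R I
    have hne : ∀ p ∈ I.minimalPrimes, ¬ (maximalIdeal R ≤ p) := by
      intro p hp hmp
      have hpp : p.IsPrime := hp.isPrime
      have hpm : p = maximalIdeal R :=
        ((maximalIdeal.isMaximal R).eq_of_le hpp.ne_top hmp).symm
      have hcard : p.height ≤ ((Finset.univ.image g : Finset R).card : ℕ∞) := by
        apply Ideal.height_le_card_of_mem_minimalPrimes_span_finset
        rw [Finset.coe_image, Finset.coe_univ, Set.image_univ]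
        exact hp
      have hcard2 : (Finset.univ.image g : Finset R).card ≤ i := by
        have := Finset.card_image_le (s := (Finset.univ : Finset (Fin i))) (f := g)
        simpa using this
      rw [hpm, hm] at hcard
      have : (d : ℕ∞) ≤ ((i : ℕ) : ℕ∞) := hcard.trans (by exact_mod_cast hcard2)
      have : d ≤ i := by exact_mod_cast this
      omega
    have hPm : ¬ (maximalIdeal R ≤ P) := fun h =>
      hP ((maximalIdeal.isMaximal R).eq_of_le (Ideal.IsPrime.ne_top inferInstance) h).symm
    have havoid : ¬ ((maximalIdeal R : Ideal R) : Set R) ⊆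
        ⋃ p ∈ ((insert P hfin.toFinset : Finset (Ideal R)) : Set (Ideal R)), (p : Set R) := by
      intro hsub
      have := (Ideal.subset_union_prime (R := R) (s := insert P hfin.toFinset) (f := fun p => p)
        ⊤ ⊤ (fun p hp _ _ => by
          rcases Finset.mem_insert.1 hp with rfl | hp
          · infer_instance
          · exact (hfin.mem_toFinset.mp hp).isPrime)).mp hsub
      obtain ⟨p, hp, hle⟩ := this
      rcases Finset.mem_insert.1 hp with rfl | hp
      · exact hPm hle
      · exact hne p (hfin.mem_toFinset.mp hp) hle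
    rw [Set.not_subset] at havoid
    obtain ⟨x, hx, hxp⟩ := havoid
    have hxP : x ∉ P := by
      intro hmem
      apply hxp
      simp only [Set.mem_iUnion]
      exact ⟨P, by simp, hmem⟩
    have hxp' : ∀ p ∈ I.minimalPrimes, x ∉ p := by
      intro p hp hxmem
      apply hxp
      simp only [Set.mem_iUnion]
      exact ⟨p, by simpa using Or.inr hp, hxmem⟩
    refine ⟨Fin.snoc g x, ?_, ?_⟩
    · intro j
      refine Fin.lastCases ?_ (fun j => ?_) j
      · simpa using ⟨hx, hxP⟩
      · simpa using hg j
    · intro q hqmin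
      have hqp : q.IsPrime := hqmin.isPrime
      have hrange : Set.range (Fin.snoc g x : Fin (i + 1) → R) = insert x (Set.range g) := by
        ext y
        simp only [Set.mem_insert_iff, Set.mem_range]
        constructor
        · rintro ⟨j, rfl⟩
          refine Fin.lastCases ?_ (fun j => ?_) j
          · left; simp
          · right; exact ⟨j, by simp⟩
        · rintro (rfl | ⟨j, rfl⟩)
          · exact ⟨Fin.last i, by simp⟩
          · exact ⟨j.castSucc, by simp⟩
      have hIq : I ≤ q := by
        refine le_trans ?_ hqmin.1.2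
        apply Ideal.span_mono
        rw [hrange]
        exact Set.subset_insert _ _
      have hxq : x ∈ q := by
        apply hqmin.1.2
        apply Ideal.subset_span
        rw [hrange]
        exact Set.mem_insert _ _
      obtain ⟨p, hp, hpq⟩ := Ideal.exists_minimalPrimes_le hIq
      have hpp : p.IsPrime := hp.isPrime
      have hlt : p < q := lt_of_le_of_ne hpq (fun h => hxp' p hp (h ▸ hxq))
      have h1 := Ideal.height_add_one_le_of_lt_of_isPrime hlt
      have h2 := hq p hp
      calc ((i + 1 : ℕ) : ℕ∞) = ((i : ℕ) : ℕ∞) + 1 := by push_cast; ring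
        _ ≤ p.height + 1 := by gcongr
        _ ≤ q.height := h1

/-- A system of parameters avoiding a non-maximal prime. -/
theorem exists_sop_avoiding (d : ℕ) (hd : ringKrullDim R = d) (P : Ideal R) [P.IsPrime]
    (hP : P ≠ maximalIdeal R) :
    ∃ g : Fin d → R, (∀ j, g j ∈ maximalIdeal R ∧ g j ∉ P) ∧
      ∃ N : ℕ, maximalIdeal R ^ N ≤ Ideal.span (Set.range g) := by
  have hm : (maximalIdeal R).height = (d : ℕ∞) := by
    have := IsLocalRing.maximalIdeal_height_eq_ringKrullDim (R := R)
    rw [hd] at this
    exact_mod_cast this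
  obtain ⟨g, hg, hq⟩ := exists_partial_sop_avoiding R d hd P hP d le_rfl
  refine ⟨g, hg, ?_⟩
  have hrad : maximalIdeal R ≤ (Ideal.span (Set.range g)).radical := by
    rw [← Ideal.sInf_minimalPrimes]
    apply le_sInf
    intro q hqmin
    have hqp : q.IsPrime := hqmin.isPrime
    have hqm : q ≤ maximalIdeal R := IsLocalRing.le_maximalIdeal hqp.ne_top
    by_contra hnot
    have hlt : q < maximalIdeal R := lt_of_le_of_ne hqm (fun h => hnot (h ▸ le_rfl))
    have h2 := Ideal.height_add_one_le_of_lt_of_isPrime hlt
    have h3 := hq q hqmin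
    rw [hm] at h2
    have : ((d : ℕ) : ℕ∞) + 1 ≤ (d : ℕ∞) := le_trans (by gcongr) h2
    have h4 : d + 1 ≤ d := by exact_mod_cast this
    omega
  exact Ideal.exists_pow_le_of_le_radical_of_fg hrad (IsNoetherian.noetherian _)

end

section PSHom

open MvPowerSeries

variable {k₀ A : Type u} [Field k₀] [CommRing A] [IsLocalRing A] [IsNoetherianRing A]
  [IsAdicComplete (maximalIdeal A) A] [Algebra k₀ A] [Module.Finite k₀ (ResidueField A)]

/-- A family generating an `𝔪`-primary ideal defines a finite local map from a power series ring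
(extracted from `H96.CohenFinite.main`). -/
theorem exists_psHom (n : ℕ) (b : Fin n → A) (hbm : ∀ i, b i ∈ maximalIdeal A) (N : ℕ)
    (hN : maximalIdeal A ^ N ≤ Ideal.span (Set.range b)) :
    ∃ ψ : MvPowerSeries (Fin n) k₀ →ₐ[k₀] A, (∀ i, ψ (X i) = b i) ∧
      IsLocalHom ψ.toRingHom ∧ ψ.toRingHom.Finite := by
  classical
  obtain ⟨ψ, hψ⟩ := Groth.Agent.H47.exists_evalHom_complete (k := k₀) (maximalIdeal A) n b hbm
  let P := MvPowerSeries (Fin n) k₀
  let J : Ideal A := Ideal.span (Set.range b)
  have hmP : maximalIdeal P = Ideal.span (Set.range (X : Fin n → P)) :=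
    Groth.Agent.H61.maximalIdeal_ps_eq_span_X k₀ n
  have hmap : (maximalIdeal P).map ψ.toRingHom = J := by
    rw [hmP, Ideal.map_span, ← Set.range_comp]
    congr 2
    funext i
    exact hψ i
  have hJm : J ≤ maximalIdeal A := Ideal.span_le.2 (by rintro _ ⟨i, rfl⟩; exact hbm i)
  have hloc : IsLocalHom ψ.toRingHom := by
    refine ⟨fun f hf => ?_⟩
    by_contra hnu
    have h1 : f ∈ maximalIdeal P := (mem_maximalIdeal f).2 hnu
    have h2 : ψ.toRingHom f ∈ J := hmap ▸ Ideal.mem_map_of_mem _ h1
    exact (mem_maximalIdeal _).1 (hJm h2) hf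
  letI : Algebra P A := ψ.toRingHom.toAlgebra
  have halg : ∀ f : P, algebraMap P A f = ψ f := fun f => rfl
  haveI : IsScalarTower k₀ P A := IsScalarTower.of_algebraMap_eq (fun c => by
    rw [halg]; exact (ψ.commutes c).symm)
  have hsmul : ∀ j : ℕ, ((maximalIdeal P) ^ j • ⊤ : Submodule P A) =
      (J ^ j).restrictScalars P := fun j => by
    rw [Ideal.smul_top_eq_map, Ideal.map_pow]
    congr 2
  haveI : IsHausdorff (maximalIdeal P) A := by
    refine ⟨fun x hx => ?_⟩
    apply IsHausdorff.haus (I := maximalIdeal A) inferInstance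
    intro j
    have := hx j
    rw [SModEq.zero, hsmul j] at this
    rw [SModEq.zero, smul_eq_mul, Ideal.mul_top]
    exact Ideal.pow_right_mono hJm j this
  haveI : IsAdicComplete (maximalIdeal k₀) k₀ := by
    rw [IsLocalRing.maximalIdeal_eq_bot]
    infer_instance
  haveI : IsAdicComplete (maximalIdeal P) P := Groth.Agent.H61.ps_isAdicComplete n
  have hfinJ : Module.Finite k₀ (A ⧸ J) := Groth.Agent.H96.CohenFinite.finite_quotient J hN
  have hfinq : Module.Finite P (A ⧸ (maximalIdeal P • ⊤ : Submodule P A)) := by
    have h1 : (maximalIdeal P • ⊤ : Submodule P A) = J.restrictScalars P := by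
      have := hsmul 1
      rwa [pow_one, pow_one] at this
    haveI : Module.Finite P (A ⧸ J) := Module.Finite.of_restrictScalars_finite k₀ P (A ⧸ J)
    haveI : Module.Finite P (A ⧸ J.restrictScalars P) :=
      Module.Finite.equiv (Submodule.Quotient.restrictScalarsEquiv P J).symm
    exact Module.Finite.equiv (Submodule.quotEquivOfEq _ _ h1.symm)
  have hfin : Module.Finite P A :=
    Groth.Agent.H44.finite_of_finite_quotient (maximalIdeal P) A hfinq
  exact ⟨ψ, hψ, hloc, hfin⟩

end PSHom

end Groth.Agent.H73.SopAvoid
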