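import Groth.Agent.H73.OmegaHatUnram
import Groth.Agent.H73.OmegaHatMain
import Groth.Agent.H73.SopAvoid

/-!
# EGA 0_IV 22.7.?: `(Ω̂)_p` is generated by `m` elements iff `A` is finite over `k[[T_1..T_m]]`,
unramified at `p` (helper73)
-/

set_option autoImplicit false
set_option linter.unusedSectionVars false
set_option linter.style.haveILetI false
universe u

namespace Groth.Agent.H73.OmegaHatUnram

open IsLocalRing TensorProduct KaehlerDifferential

variable (k A : Type u) [Field k] [CommRing A] [IsLocalRing A] [IsNoetherianRing A] [Algebra k A]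
  [IsAdicComplete (maximalIdeal A) A] [Module.Finite k (ResidueField A)]
  (p : Ideal A) [p.IsPrime]

local notation "Ωh" => AdicCompletion (maximalIdeal A) (Ω[A⁄k])

/-- the fibre of the localized module is the fibre of the module. -/
theorem finrank_fibre_localized :
    Module.finrank p.ResidueField
      (p.ResidueField ⊗[Localization.AtPrime p] LocalizedModule p.primeCompl Ωh) =
    Module.finrank p.ResidueField (p.ResidueField ⊗[A] Ωh) := by
  let e₁ : Localization.AtPrime p ⊗[A] Ωh ≃ₗ[Localization.AtPrime p]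
      LocalizedModule p.primeCompl Ωh :=
    (IsLocalizedModule.isBaseChange p.primeCompl (Localization.AtPrime p)
      (LocalizedModule.mkLinearMap p.primeCompl Ωh)).equiv
  let e₂ := TensorProduct.AlgebraTensorModule.cancelBaseChange A (Localization.AtPrime p)
    p.ResidueField p.ResidueField Ωh
  let e₃ := TensorProduct.AlgebraTensorModule.congr
    (LinearEquiv.refl p.ResidueField p.ResidueField) e₁
  exact (e₃.symm.trans e₂).finrank_eq

theorem dim_le_finrank (q : Ideal A) (hq : q ∈ minimalPrimes A) (hqp : q ≤ p) (d : ℕ)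
    (hd : ringKrullDim (A ⧸ q) = d) :
    d ≤ Module.finrank p.ResidueField (p.ResidueField ⊗[A] Ωh) := by
  have h := Groth.Agent.H73.ComplDer.main k A p q hq hqp
  haveI := Groth.Agent.H73.OmegaHatLoc.finite_omegaHat k A
  rw [hd, ← Module.finrank_eq_rank, Cardinal.toENat_nat] at h
  exact_mod_cast h

/-- EGA 0_IV 22.7.?, "only if" part: construction of the power series subring. -/
theorem exists_algebra_of_span (hp : p ≠ maximalIdeal A)
    (hq : ∃ q ∈ minimalPrimes A, q ≤ p ∧ ringKrullDim (A ⧸ q) = ringKrullDim A) (m : ℕ)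
    (hgen : ∃ s : Fin m → LocalizedModule p.primeCompl Ωh,
      Submodule.span (Localization.AtPrime p) (Set.range s) = ⊤) :
    ∃ (_ : Algebra (MvPowerSeries (Fin m) k) A) (_ : IsScalarTower k (MvPowerSeries (Fin m) k) A),
      IsLocalHom (algebraMap (MvPowerSeries (Fin m) k) A) ∧
        Module.Finite (MvPowerSeries (Fin m) k) A ∧
          Algebra.IsUnramifiedAt (MvPowerSeries (Fin m) k) p := by
  classical
  obtain ⟨s, hs⟩ := hgen
  obtain ⟨q, hqmin, hqp, hqdim⟩ := hq
  haveI hfin : Module.Finite (Localization.AtPrime p) (LocalizedModule p.primeCompl Ωh) :=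
    Module.finite_def.2 ⟨Finset.univ.image s, by
      rw [Finset.coe_image, Finset.coe_univ, Set.image_univ]; exact hs⟩
  have hsurj : Function.Surjective (algebraMap (Localization.AtPrime p) p.ResidueField) :=
    Ideal.Quotient.mk_surjective
  -- the minimal number of generators
  set M₀ := Module.finrank p.ResidueField
    (p.ResidueField ⊗[Localization.AtPrime p] LocalizedModule p.primeCompl Ωh) with hM₀
  have hM₀m : M₀ ≤ m := by
    have h1 : (Submodule.span (Localization.AtPrime p) (Set.range s)).map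
        (TensorProduct.mk (Localization.AtPrime p) p.ResidueField
          (LocalizedModule p.primeCompl Ωh) 1) = ⊤ := by
      rw [hs, Submodule.map_top, LinearMap.range_eq_top]
      exact TensorProduct.mk_surjective _ _ _ hsurj
    rw [Submodule.map_span, ← Submodule.restrictScalars_span (Localization.AtPrime p)
      p.ResidueField hsurj, Submodule.restrictScalars_eq_top_iff, ← Set.range_comp] at h1
    rw [hM₀, ← finrank_top p.ResidueField, ← h1]
    have := finrank_range_le_card (R := p.ResidueField)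
      ((TensorProduct.mk (Localization.AtPrime p) p.ResidueField
          (LocalizedModule p.primeCompl Ωh) 1) ∘ s)
    rwa [Fintype.card_fin] at this
  -- the dimension
  obtain ⟨d, -, hd, -, -⟩ := Groth.Agent.H96.CohenFinite.exists_sop A
  have hdM₀ : d ≤ M₀ := by
    rw [hM₀, finrank_fibre_localized]
    exact dim_le_finrank k A p q hqmin hqp d (hqdim.trans hd)
  -- an element of `𝔪 ∖ p`
  have hlt : p < maximalIdeal A :=
    lt_of_le_of_ne (IsLocalRing.le_maximalIdeal (Ideal.IsPrime.ne_top inferInstance)) hp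
  obtain ⟨c, hcm, hcp⟩ := SetLike.exists_of_lt hlt
  -- a system of parameters avoiding `p`
  obtain ⟨g, hg, N, hN⟩ := Groth.Agent.H73.SopAvoid.exists_sop_avoiding A d hd p hp
  let x : Fin M₀ → A := fun i => if h : i.1 < d then g ⟨i.1, h⟩ else c
  have hxm : ∀ i, x i ∈ maximalIdeal A := by
    intro i
    show (if h : i.1 < d then g ⟨i.1, h⟩ else c) ∈ maximalIdeal A
    split_ifs with h
    · exact (hg _).1
    · exact hcm
  have hxp : ∀ i, x i ∉ p := by
    intro i
    show (if h : i.1 < d then g ⟨i.1, h⟩ else c) ∉ p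
    split_ifs with h
    · exact (hg _).2
    · exact hcp
  obtain ⟨u, hu⟩ := Groth.Agent.H73.OmegaHatUnits.exists_units_span (A := A)
    (R := Localization.AtPrime p)
    (Groth.Agent.H73.OmegaHatLoc.dloc k A p) (Groth.Agent.H73.OmegaHatLoc.dloc_one k A p)
    (Groth.Agent.H73.OmegaHatLoc.dloc_add k A p) (Groth.Agent.H73.OmegaHatLoc.dloc_mul k A p)
    (Groth.Agent.H73.OmegaHatLoc.span_dloc k A p) M₀ rfl x
    (fun i => IsLocalization.map_units (Localization.AtPrime p) (⟨x i, hxp i⟩ : p.primeCompl))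
  -- the images of the variables
  let t : Fin m → A := fun i => if h : i.1 < M₀ then (u ⟨i.1, h⟩ : A) * x ⟨i.1, h⟩ else 0
  have htm : ∀ i, t i ∈ maximalIdeal A := by
    intro i
    show (if h : i.1 < M₀ then (u ⟨i.1, h⟩ : A) * x ⟨i.1, h⟩ else 0) ∈ maximalIdeal A
    split_ifs with h
    · exact Ideal.mul_mem_left _ _ (hxm _)
    · exact Ideal.zero_mem _
  have htN : maximalIdeal A ^ N ≤ Ideal.span (Set.range t) := by
    refine hN.trans (Ideal.span_le.2 ?_)
    rintro _ ⟨j, rfl⟩
    have hj1 : j.1 < M₀ := lt_of_lt_of_le j.2 hdM₀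
    have hj2 : j.1 < m := lt_of_lt_of_le hj1 hM₀m
    have ht : t ⟨j.1, hj2⟩ = (u ⟨j.1, hj1⟩ : A) * g j := by
      show (if h : j.1 < M₀ then (u ⟨j.1, h⟩ : A) * x ⟨j.1, h⟩ else 0) = _
      rw [dif_pos hj1]
      show (u ⟨j.1, hj1⟩ : A) * (if h : j.1 < d then g ⟨j.1, h⟩ else c) = _
      rw [dif_pos j.2]
    have : g j = ((u ⟨j.1, hj1⟩)⁻¹ : Aˣ) * t ⟨j.1, hj2⟩ := by
      rw [ht, ← mul_assoc, Units.inv_mul, one_mul]
    rw [SetLike.mem_coe, this]
    exact Ideal.mul_mem_left _ _ (Ideal.subset_span ⟨_, rfl⟩)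
  obtain ⟨ψ, hψ, hloc, hfinψ⟩ := Groth.Agent.H73.SopAvoid.exists_psHom (k₀ := k) m t htm N htN
  letI alg : Algebra (MvPowerSeries (Fin m) k) A := ψ.toRingHom.toAlgebra
  have tower : IsScalarTower k (MvPowerSeries (Fin m) k) A :=
    IsScalarTower.of_algebraMap_eq (fun c => by
      show algebraMap k A c = ψ (algebraMap k _ c)
      exact (ψ.commutes c).symm)
  haveI := tower
  haveI : IsLocalHom (algebraMap (MvPowerSeries (Fin m) k) A) := hloc
  haveI : Module.Finite (MvPowerSeries (Fin m) k) A := hfinψ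
  refine ⟨alg, tower, hloc, hfinψ, ?_⟩
  apply unramified_of_span_dloc k m A p
  rw [eq_top_iff, ← hu, Submodule.span_le]
  rintro _ ⟨i, rfl⟩
  have hi : i.1 < m := lt_of_lt_of_le i.2 hM₀m
  refine Submodule.subset_span ⟨⟨i.1, hi⟩, ?_⟩
  show Groth.Agent.H73.OmegaHatLoc.dloc k A p (ψ (MvPowerSeries.X ⟨i.1, hi⟩)) = _
  rw [hψ]
  show Groth.Agent.H73.OmegaHatLoc.dloc k A p
    (if h : i.1 < M₀ then (u ⟨i.1, h⟩ : A) * x ⟨i.1, h⟩ else 0) = _
  rw [dif_pos i.2]

/-- EGA 0_IV 22.7.? -/
theorem span_iff_exists_algebra (hp : p ≠ maximalIdeal A)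
    (hq : ∃ q ∈ minimalPrimes A, q ≤ p ∧ ringKrullDim (A ⧸ q) = ringKrullDim A) (m : ℕ) :
    (∃ s : Fin m → LocalizedModule p.primeCompl Ωh,
      Submodule.span (Localization.AtPrime p) (Set.range s) = ⊤) ↔
    ∃ (_ : Algebra (MvPowerSeries (Fin m) k) A) (_ : IsScalarTower k (MvPowerSeries (Fin m) k) A),
      IsLocalHom (algebraMap (MvPowerSeries (Fin m) k) A) ∧
        Module.Finite (MvPowerSeries (Fin m) k) A ∧
          Algebra.IsUnramifiedAt (MvPowerSeries (Fin m) k) p := by
  constructor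
  · exact exists_algebra_of_span k A p hp hq m
  · rintro ⟨alg, tower, hloc, hfin, hunr⟩
    exact ⟨_, span_dloc_of_unramified k m A p hunr⟩

end Groth.Agent.H73.OmegaHatUnram
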