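import Mathlib
import Groth.Prelude.Def_QFDual

/-!
helper73: the relative dualizing module of a product (S8975):
`(B × C) ⊗_{B' × C'} Hom_A(B' × C', A) ≃ (B ⊗_{B'} Hom_A(B', A)) × (C ⊗_{C'} Hom_A(C', A))`.
-/

set_option autoImplicit false
set_option linter.unusedSectionVars false
universe u

namespace Groth.Agent.H73.OmegaProd

open TensorProduct

variable {A B' B C' C : Type u} [CommRing A] [CommRing B'] [CommRing B] [CommRing C'] [CommRing C]
  [Algebra A B'] [Algebra B' B] [Algebra A B] [IsScalarTower A B' B]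
  [Algebra A C'] [Algebra C' C] [Algebra A C] [IsScalarTower A C' C]
  [Algebra (B' × C') (B × C)] [IsScalarTower A (B' × C') (B × C)]
  (halg : algebraMap (B' × C') (B × C) = (algebraMap B' B).prodMap (algebraMap C' C))

/-- restriction of a functional on `B' × C'` to the first factor -/
def resL (φ : Disc.Omega A (B' × C')) : Disc.Omega A B' :=
  ⟨φ.toLinearMap ∘ₗ LinearMap.inl A B' C'⟩

/-- restriction of a functional on `B' × C'` to the second factor -/
def resR (φ : Disc.Omega A (B' × C')) : Disc.Omega A C' :=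
  ⟨φ.toLinearMap ∘ₗ LinearMap.inr A B' C'⟩

/-- extension by zero of a functional on the first factor -/
def extL (ψ : Disc.Omega A B') : Disc.Omega A (B' × C') :=
  ⟨ψ.toLinearMap ∘ₗ LinearMap.fst A B' C'⟩

/-- extension by zero of a functional on the second factor -/
def extR (χ : Disc.Omega A C') : Disc.Omega A (B' × C') :=
  ⟨χ.toLinearMap ∘ₗ LinearMap.snd A B' C'⟩

@[simp] theorem resL_add (φ ψ : Disc.Omega A (B' × C')) : resL (φ + ψ) = resL φ + resL ψ := by
  apply Disc.Omega.ext; ext x; simp [resL]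
@[simp] theorem resR_add (φ ψ : Disc.Omega A (B' × C')) : resR (φ + ψ) = resR φ + resR ψ := by
  apply Disc.Omega.ext; ext x; simp [resR]
@[simp] theorem extL_add (φ ψ : Disc.Omega A B') :
    (extL (φ + ψ) : Disc.Omega A (B' × C')) = extL φ + extL ψ := by
  apply Disc.Omega.ext; ext x <;> simp [extL]
@[simp] theorem extR_add (φ ψ : Disc.Omega A C') :
    (extR (φ + ψ) : Disc.Omega A (B' × C')) = extR φ + extR ψ := by
  apply Disc.Omega.ext; ext x <;> simp [extR]

theorem resL_smul (r : B' × C') (φ : Disc.Omega A (B' × C')) : resL (r • φ) = r.1 • resL φ := by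
  apply Disc.Omega.ext; ext x
  simp only [resL, LinearMap.coe_comp, Function.comp_apply, LinearMap.inl_apply,
    Disc.Omega.smul_toLinearMap_apply]
  congr 1
  ext <;> simp
theorem resR_smul (r : B' × C') (φ : Disc.Omega A (B' × C')) : resR (r • φ) = r.2 • resR φ := by
  apply Disc.Omega.ext; ext x
  simp only [resR, LinearMap.coe_comp, Function.comp_apply, LinearMap.inr_apply,
    Disc.Omega.smul_toLinearMap_apply]
  congr 1
  ext <;> simp
theorem extL_smul (r : B' × C') (ψ : Disc.Omega A B') :
    (r • extL ψ : Disc.Omega A (B' × C')) = extL (r.1 • ψ) := by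
  apply Disc.Omega.ext; ext x <;> simp [extL]
theorem extR_smul (r : B' × C') (χ : Disc.Omega A C') :
    (r • extR χ : Disc.Omega A (B' × C')) = extR (r.2 • χ) := by
  apply Disc.Omega.ext; ext x <;> simp [extR]

theorem resL_extL (ψ : Disc.Omega A B') : resL (extL ψ : Disc.Omega A (B' × C')) = ψ := by
  apply Disc.Omega.ext; ext x; simp [resL, extL]
theorem resR_extR (χ : Disc.Omega A C') : resR (extR χ : Disc.Omega A (B' × C')) = χ := by
  apply Disc.Omega.ext; ext x; simp [resR, extR]
theorem resL_extR (χ : Disc.Omega A C') : resL (extR χ : Disc.Omega A (B' × C')) = 0 := by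
  apply Disc.Omega.ext; ext x; simp [resL, extR]
theorem resR_extL (ψ : Disc.Omega A B') : resR (extL ψ : Disc.Omega A (B' × C')) = 0 := by
  apply Disc.Omega.ext; ext x; simp [resR, extL]
theorem ext_res (φ : Disc.Omega A (B' × C')) :
    ((1, 0) : B' × C') • φ = extL (resL φ) ∧ ((0, 1) : B' × C') • φ = extR (resR φ) := by
  constructor <;> apply Disc.Omega.ext <;> ext x <;> simp [resL, extL, resR, extR]

section Maps

include halg

theorem smul_eq (r : B' × C') (x : B × C) : r • x = (r.1 • x.1, r.2 • x.2) := by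
  rw [Algebra.smul_def, halg]
  ext <;> simp [Algebra.smul_def]

/-- the forward map -/
noncomputable def fwd :
    (B × C) ⊗[B' × C'] Disc.Omega A (B' × C') →+
      (B ⊗[B'] Disc.Omega A B') × (C ⊗[C'] Disc.Omega A C') :=
  TensorProduct.liftAddHom
    (AddMonoidHom.mk' (fun bc : B × C =>
      AddMonoidHom.mk' (fun φ : Disc.Omega A (B' × C') =>
        ((bc.1 ⊗ₜ[B'] resL φ, bc.2 ⊗ₜ[C'] resR φ) :
          (B ⊗[B'] Disc.Omega A B') × (C ⊗[C'] Disc.Omega A C')))
        (fun φ ψ => by simp [tmul_add]))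
      (fun x y => by ext φ <;> simp [add_tmul]))
    (fun r bc φ => by
      simp only [AddMonoidHom.mk'_apply]
      rw [smul_eq halg, resL_smul, resR_smul, smul_tmul, smul_tmul])

theorem fwd_tmul (bc : B × C) (φ : Disc.Omega A (B' × C')) :
    fwd halg (bc ⊗ₜ φ) = (bc.1 ⊗ₜ[B'] resL φ, bc.2 ⊗ₜ[C'] resR φ) := rfl

/-- inclusion of the first factor -/
noncomputable def iB :
    B ⊗[B'] Disc.Omega A B' →+ (B × C) ⊗[B' × C'] Disc.Omega A (B' × C') :=
  TensorProduct.liftAddHom
    (AddMonoidHom.mk' (fun b : B =>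
      AddMonoidHom.mk' (fun ψ : Disc.Omega A B' =>
        (((b, 0) : B × C) ⊗ₜ[B' × C'] (extL ψ : Disc.Omega A (B' × C'))))
        (fun φ ψ => by simp [tmul_add]))
      (fun x y => by
        ext φ
        simp only [AddMonoidHom.mk'_apply, AddMonoidHom.add_apply]
        rw [← add_tmul]
        congr 1
        ext <;> simp))
    (fun r b ψ => by
      simp only [AddMonoidHom.mk'_apply]
      have h1 : ((r • b, 0) : B × C) = ((r, 0) : B' × C') • ((b, 0) : B × C) := by
        rw [smul_eq halg]; simp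
      rw [h1, smul_tmul, extL_smul])

/-- inclusion of the second factor -/
noncomputable def iC :
    C ⊗[C'] Disc.Omega A C' →+ (B × C) ⊗[B' × C'] Disc.Omega A (B' × C') :=
  TensorProduct.liftAddHom
    (AddMonoidHom.mk' (fun c : C =>
      AddMonoidHom.mk' (fun χ : Disc.Omega A C' =>
        (((0, c) : B × C) ⊗ₜ[B' × C'] (extR χ : Disc.Omega A (B' × C'))))
        (fun φ ψ => by simp [tmul_add]))
      (fun x y => by
        ext φ
        simp only [AddMonoidHom.mk'_apply, AddMonoidHom.add_apply]
        rw [← add_tmul]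
        congr 1
        ext <;> simp))
    (fun r c χ => by
      simp only [AddMonoidHom.mk'_apply]
      have h1 : ((0, r • c) : B × C) = ((0, r) : B' × C') • ((0, c) : B × C) := by
        rw [smul_eq halg]; simp
      rw [h1, smul_tmul, extR_smul])

theorem iB_tmul (b : B) (ψ : Disc.Omega A B') :
    iB (C := C) (C' := C') halg (b ⊗ₜ ψ) = ((b, 0) : B × C) ⊗ₜ[B' × C'] extL ψ := rfl

theorem iC_tmul (c : C) (χ : Disc.Omega A C') :
    iC (B := B) (B' := B') halg (c ⊗ₜ χ) = ((0, c) : B × C) ⊗ₜ[B' × C'] extR χ := rfl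

theorem fwd_iB (x : B ⊗[B'] Disc.Omega A B') : fwd halg (iB halg x) = (x, 0) := by
  induction x using TensorProduct.induction_on with
  | zero => simp; rfl
  | tmul b ψ =>
    rw [iB_tmul, fwd_tmul, resL_extL, resR_extL]
    simp
  | add x y hx hy => rw [map_add, map_add, hx, hy]; simp

theorem fwd_iC (y : C ⊗[C'] Disc.Omega A C') : fwd halg (iC halg y) = (0, y) := by
  induction y using TensorProduct.induction_on with
  | zero => simp; rfl
  | tmul c χ =>
    rw [iC_tmul, fwd_tmul, resL_extR, resR_extR]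
    simp
  | add x y hx hy => rw [map_add, map_add, hx, hy]; simp

theorem bwd_fwd (z : (B × C) ⊗[B' × C'] Disc.Omega A (B' × C')) :
    iB halg (fwd halg z).1 + iC halg (fwd halg z).2 = z := by
  induction z using TensorProduct.induction_on with
  | zero => simp
  | tmul bc φ =>
    rw [fwd_tmul]
    simp only
    rw [iB_tmul, iC_tmul, ← (ext_res φ).1, ← (ext_res φ).2, ← smul_tmul, ← smul_tmul,
      smul_eq halg, smul_eq halg, ← add_tmul]
    congr 1
    ext <;> simp
  | add x y hx hy =>
    rw [map_add, Prod.fst_add, Prod.snd_add, map_add, map_add, add_add_add_comm, hx, hy]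

theorem main : ∃ e : QFDual.omega A (B' × C') (B × C) ≃ₗ[A]
      QFDual.omega A B' B × QFDual.omega A C' C,
    ∀ (b : B) (c : C) (φ : Disc.Omega A (B' × C')),
      e ((b, c) ⊗ₜ[B' × C'] φ) =
        (b ⊗ₜ[B'] Disc.Omega.mk (φ.toLinearMap ∘ₗ LinearMap.inl A B' C'),
          c ⊗ₜ[C'] Disc.Omega.mk (φ.toLinearMap ∘ₗ LinearMap.inr A B' C')) := by
  let e0 : (B × C) ⊗[B' × C'] Disc.Omega A (B' × C') ≃+
      (B ⊗[B'] Disc.Omega A B') × (C ⊗[C'] Disc.Omega A C') :=
    { toFun := fwd halg
      invFun := fun p => iB halg p.1 + iC halg p.2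
      left_inv := bwd_fwd halg
      right_inv := fun p => by
        rw [map_add, fwd_iB, fwd_iC]
        ext <;> simp
      map_add' := map_add _ }
  refine ⟨e0.toLinearEquiv (fun a z => ?_), fun b c φ => rfl⟩
  change fwd halg (a • z) = a • fwd halg z
  induction z using TensorProduct.induction_on with
  | zero => simp
  | tmul bc φ =>
    rw [TensorProduct.smul_tmul', fwd_tmul, fwd_tmul]
    rfl
  | add x y hx hy => rw [smul_add, map_add, hx, hy, map_add, smul_add]

end Maps

end Groth.Agent.H73.OmegaProd
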