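import Groth.Agent.H13.PBasisKaehler

/-!
# The family of subfields `k^p(B ∖ J)` (EGA 0_IV 21.8.8-ish / Stacks 07PS step 1) (helper73)

For a field `k` of characteristic `p` with `p`-basis `B` (over `k^p`), the subfields
`F J = k^p(B ∖ J)`, `J` a finite subset of `k`, form a decreasing filtered family with
`k / F J` finite, `k^p ⊆ F J`, and `⋂_J F J = k^p`.
-/

set_option autoImplicit false
set_option linter.unusedSectionVars false
universe u

namespace Groth.Agent.H73.PFam

open EGA41 Groth.Agent.H13.PB KaehlerDifferential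

variable (p : ℕ) [Fact p.Prime] (k : Type u) [Field k] [CharP k p]

/-- `k^p` as a subfield of `k`. -/
def F0 : Subfield k := (frobenius k p).fieldRange

theorem mem_F0 {x : k} : x ∈ F0 p k ↔ ∃ y : k, y ^ p = x := by
  unfold F0
  rw [RingHom.mem_fieldRange]
  simp only [frobenius_def]

/-- `k^p[k^p] = k^p`. -/
theorem mem_R0 {x : k} : x ∈ pPowerSubalgebra p (F0 p k) k ↔ ∃ y : k, y ^ p = x := by
  constructor
  · intro hx
    unfold pPowerSubalgebra at hx
    induction hx using Algebra.adjoin_induction with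
    | mem x hx => obtain ⟨b, rfl⟩ := hx; exact ⟨b, rfl⟩
    | algebraMap c => exact (mem_F0 p k).1 c.2
    | add x y _ _ hx hy =>
      obtain ⟨a, rfl⟩ := hx
      obtain ⟨b, rfl⟩ := hy
      exact ⟨a + b, add_pow_char a b p⟩
    | mul x y _ _ hx hy =>
      obtain ⟨a, rfl⟩ := hx
      obtain ⟨b, rfl⟩ := hy
      exact ⟨a * b, mul_pow a b p⟩
  · rintro ⟨y, rfl⟩
    exact pow_mem_pPower p y

theorem exists_pbasis : ∃ Bs : Set k, IsPBasis p (F0 p k) (Subtype.val : Bs → k) := by
  obtain ⟨B, -, -, hB⟩ := exists_isPBasis_between (k := F0 p k) p (Set.univ : Set k) ∅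
    (Set.empty_subset _) (isPGenerating_univ p) (isPIndependent_empty p)
  exact ⟨B, hB⟩

/-- A chosen `p`-basis of `k` over `k^p`. -/
noncomputable def Bs : Set k := (exists_pbasis p k).choose

theorem Bs_spec : IsPBasis p (F0 p k) (Subtype.val : Bs p k → k) :=
  (exists_pbasis p k).choose_spec

/-- The subfield `k^p(B ∖ J)`. -/
noncomputable def F (J : Finset k) : Subfield k :=
  { (Algebra.adjoin (pPowerSubalgebra p (F0 p k) k) (Bs p k \ (J : Set k))).toSubring with
    inv_mem' := fun c hc => inv_mem_of_pow_mem p _ (pow_mem_adjoin_pPower p _) c hc }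

theorem mem_F {J : Finset k} {x : k} : x ∈ F p k J ↔
    x ∈ Algebra.adjoin (pPowerSubalgebra p (F0 p k) k) (Bs p k \ (J : Set k)) := Iff.rfl

theorem F_antitone {J J' : Finset k} (h : J ⊆ J') : F p k J' ≤ F p k J := by
  intro x hx
  rw [mem_F] at hx ⊢
  exact Algebra.adjoin_mono (Set.sdiff_subset_sdiff_right (by exact_mod_cast h)) hx

theorem pow_mem_F (J : Finset k) (y : k) : y ^ p ∈ F p k J :=
  (mem_F p k).2 (pow_mem_adjoin_pPower p _ y)

theorem finite_F (J : Finset k) : Module.Finite (F p k J) k := by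
  classical
  have hB := Bs_spec p k
  have htop : Algebra.adjoin (pPowerSubalgebra p (F0 p k) k) (Bs p k) = ⊤ := by
    have := (adjoin_eq_top_iff_isPGenerating p (A := F0 p k) (Subtype.val : Bs p k → k)).2 hB.2
    rwa [Subtype.range_coe] at this
  have key : Algebra.adjoin (F p k J) (J : Set k) = ⊤ := by
    rw [eq_top_iff]
    rintro z -
    have hz : z ∈ Algebra.adjoin (pPowerSubalgebra p (F0 p k) k) (Bs p k) :=
      htop ▸ Algebra.mem_top
    induction hz using Algebra.adjoin_induction with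
    | mem b hb =>
      by_cases hbJ : b ∈ J
      · exact Algebra.subset_adjoin hbJ
      · exact Subalgebra.algebraMap_mem _
          (⟨b, (mem_F p k).2 (Algebra.subset_adjoin ⟨hb, hbJ⟩)⟩ : F p k J)
    | algebraMap c =>
      exact Subalgebra.algebraMap_mem _
        (⟨c.1, (mem_F p k).2 (Subalgebra.algebraMap_mem _ c)⟩ : F p k J)
    | add x y _ _ hx hy => exact add_mem hx hy
    | mul x y _ _ hx hy => exact mul_mem hx hy
  have hfg : (Algebra.adjoin (F p k J) (J : Set k)).toSubmodule.FG := by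
    apply fg_adjoin_of_finite J.finite_toSet
    intro b _
    refine IsIntegral.of_pow (Fact.out : p.Prime).pos ?_
    exact isIntegral_algebraMap (x := (⟨b ^ p, pow_mem_F p k J b⟩ : F p k J))
  rw [key, Algebra.top_toSubmodule] at hfg
  exact ⟨hfg⟩

/-- `⋂_J k^p(B ∖ J) = k^p`. -/
theorem exists_pow_eq_of_forall_mem (x : k) (hx : ∀ J : Finset k, x ∈ F p k J) :
    ∃ y : k, y ^ p = x := by
  classical
  obtain ⟨b, hb⟩ := exists_basis_kaehler_of_isPBasis p (Subtype.val : Bs p k → k) (Bs_spec p k)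
  set ω := D (F0 p k) k x with hω
  let J₀ : Finset k := (b.repr ω).support.image Subtype.val
  have h1 : ω ∈ Submodule.span k (D (F0 p k) k '' (Bs p k \ (J₀ : Set k))) :=
    (mem_adjoin_iff_D_mem_span p _ x).1 ((mem_F p k).1 (hx J₀))
  have h2 : D (F0 p k) k '' (Bs p k \ (J₀ : Set k)) = b '' {i : Bs p k | i.1 ∉ J₀} := by
    ext η
    constructor
    · rintro ⟨c, ⟨hc, hcJ⟩, rfl⟩
      exact ⟨⟨c, hc⟩, hcJ, hb _⟩
    · rintro ⟨i, hi, rfl⟩
      exact ⟨i.1, ⟨i.2, hi⟩, (hb i).symm⟩
  rw [h2, Module.Basis.mem_span_image] at h1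
  have h3 : b.repr ω = 0 := by
    rw [← Finsupp.support_eq_empty, Finset.eq_empty_iff_forall_notMem]
    intro i hi
    exact h1 hi (Finset.mem_image_of_mem _ hi)
  have h4 : ω = 0 := b.repr.map_eq_zero_iff.1 h3
  have h5 : x ∈ Algebra.adjoin (pPowerSubalgebra p (F0 p k) k) (∅ : Set k) := by
    rw [mem_adjoin_iff_D_mem_span, ← hω, h4]
    exact Submodule.zero_mem _
  rw [Algebra.adjoin_empty, Algebra.mem_bot] at h5
  obtain ⟨r, rfl⟩ := h5
  exact (mem_R0 p k).1 r.2

end Groth.Agent.H73.PFam
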