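import Groth.Agent.H73.PFamField
import Groth.Agent.H73.PFamSeries

/-!
# EGA 0_IV 21.8.8 / Stacks 07PS step 1 (helper73)

`k[[T_1..T_r]]` is the filtered intersection (at the level of fraction fields, up to `K^p`) of the
Noetherian subrings `k_J[[T^p]]`, `k_J = k^p(B ∖ J)`, over each of which it is finite free.
-/

set_option autoImplicit false
set_option linter.unusedSectionVars false
universe u

namespace Groth.Agent.H73.PFam

open MvPowerSeries

theorem main (p : ℕ) [Fact p.Prime] (k : Type u) [Field k] [CharP k p] (r : ℕ) :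
    ∃ (ι : Type u) (_ : Nonempty ι) (S' : ι → Subring (MvPowerSeries (Fin r) k)),
      (∀ a b : ι, ∃ c, S' c ≤ S' a ⊓ S' b) ∧
      (∀ i, IsNoetherianRing (S' i) ∧ Module.Free (S' i) (MvPowerSeries (Fin r) k) ∧
        Module.Finite (S' i) (MvPowerSeries (Fin r) k)) ∧
      ((⨅ i, Subfield.closure (algebraMap (MvPowerSeries (Fin r) k)
          (FractionRing (MvPowerSeries (Fin r) k)) '' (S' i)) :
          Set (FractionRing (MvPowerSeries (Fin r) k)))) =
        Set.range fun x : FractionRing (MvPowerSeries (Fin r) k) => x ^ p := by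
  classical
  refine ⟨Finset k, ⟨∅⟩, fun J => S p (F p k J), ?_, ?_, ?_⟩
  · intro a b
    exact ⟨a ∪ b, le_inf (S_mono p (F_antitone p k Finset.subset_union_left))
      (S_mono p (F_antitone p k Finset.subset_union_right))⟩
  · intro J
    haveI := finite_F p k J
    exact ⟨isNoetherianRing_S p _, free_S p _, finite_S p _⟩
  · set A := MvPowerSeries (Fin r) k with hA
    set K := FractionRing A with hK
    set alg := algebraMap A K with halg
    have hinj : Function.Injective alg := IsFractionRing.injective _ _
    have hp1 : p - 1 + 1 = p := Nat.sub_add_cancel (Fact.out : p.Prime).pos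
    rw [Set.iInf_eq_iInter]
    apply Set.Subset.antisymm
    · intro x hx
      rw [Set.mem_iInter] at hx
      obtain ⟨a, s, hs, rfl⟩ := IsFractionRing.div_surjective A x
      have hs0 : s ≠ 0 := nonZeroDivisors.ne_zero hs
      have hsK : alg s ≠ 0 := fun h => hs0 (hinj (by rw [h, map_zero]))
      have key : ∀ J, a * s ^ (p - 1) ∈ S p (F p k J) := by
        intro J
        apply mem_S_of_mem_closure
        have h1 : alg (a * s ^ (p - 1)) = (alg a / alg s) * alg (s ^ p) := by
          rw [map_mul, map_pow, map_pow, div_mul_eq_mul_div, eq_div_iff hsK, mul_assoc, ← pow_succ,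
            hp1]
        rw [h1]
        exact mul_mem (hx J)
          (Subfield.subset_closure ⟨s ^ p, pow_mem_S p _ (pow_mem_F p k J) s, rfl⟩)
      obtain ⟨g, hg⟩ := exists_pow_eq p (a * s ^ (p - 1))
        (fun n => exists_pow_eq_of_forall_mem p k _ (fun J => ((mem_S p _).1 (key J) n).1))
        (fun n => ((mem_S p _).1 (key ∅) n).2)
      refine ⟨alg g / alg s, ?_⟩
      show (alg g / alg s) ^ p = alg a / alg s
      rw [div_pow, ← map_pow, hg, map_mul, map_pow, div_eq_div_iff (pow_ne_zero _ hsK) hsK,
        mul_assoc, ← pow_succ, hp1]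
    · rintro _ ⟨y, rfl⟩
      rw [Set.mem_iInter]
      intro J
      obtain ⟨a, s, hs, rfl⟩ := IsFractionRing.div_surjective A y
      show (alg a / alg s) ^ p ∈ _
      rw [div_pow, ← map_pow, ← map_pow]
      exact div_mem (Subfield.subset_closure ⟨a ^ p, pow_mem_S p _ (pow_mem_F p k J) a, rfl⟩)
        (Subfield.subset_closure ⟨s ^ p, pow_mem_S p _ (pow_mem_F p k J) s, rfl⟩)

end Groth.Agent.H73.PFam
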