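import Groth.Agent.H73.GrLoc
import Groth.Agent.H73.NFHilbert
import Groth.Agent.H8.StalkSubscheme
import Groth.Agent.H44.FiniteSections
import Groth.Prelude.Def_EGA4b
import Groth.Prelude.Def_Coh

/-!
# The Poincaré numerator along a regular connected centre (scheme level)

For a coherent module `F` on a locally Noetherian scheme `X`, normally flat along a regular connected
closed subscheme `Y`, the numbers `ν_y(j) = dim_k (K_y^j F_y / K_y^{j+1} F_y) ⊗ k` do not depend on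
`y ∈ Y`; combined with the local Hilbert function identity (S2892) this gives S5070.
-/

set_option autoImplicit false
universe u
open CategoryTheory AlgebraicGeometry IsLocalRing

namespace Groth.Agent.H73.PoincSch

open Groth.Agent.H73.GrLoc Groth.Agent.H73.Nu

variable {X : Scheme.{u}} (𝓘 : X.IdealSheafData) (F : X.Modules)

/-- the kernel of the stalk map `O_{X,y} → O_{Y,y}` -/
noncomputable abbrev Ky (y : 𝓘.subscheme) : Ideal (X.presheaf.stalk (𝓘.subschemeι y)) :=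
  RingHom.ker (𝓘.subschemeι.stalkMap y).hom

/-- `ν_y(j)`, the number of generators of `K_y^j F_y / K_y^{j+1} F_y` -/
noncomputable def nuAt (y : 𝓘.subscheme) (j : ℕ) : ℕ :=
  nu (X.presheaf.stalk (𝓘.subschemeι y))
    (Gr (Ky 𝓘 y) (F.presheaf.stalk (𝓘.subschemeι y)) j)

/-- stalks of a quasi-coherent module of finite type are finite (as in `H7.ZDepthDim.finite_stalk`,
reproved here to keep the import chain light) -/
theorem finite_stalk [F.IsQuasicoherent] [SheafOfModules.IsFiniteType (R := X.ringCatSheaf) F]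
    (y : X) : Module.Finite (X.presheaf.stalk y) (F.presheaf.stalk y) := by
  obtain ⟨W, hW, hyW, -⟩ := exists_isAffineOpen_mem_and_subset (x := y) (U := ⊤) trivial
  have : Module.Finite Γ(X, W) Γ(F, W) := Groth.Agent.H44.finite_sections_of_isFiniteType F hW
  let _ : Algebra Γ(X, W) (X.presheaf.stalk y) :=
    TopCat.Presheaf.algebra_section_stalk X.presheaf ⟨y, hyW⟩
  have : IsLocalization.AtPrime (X.presheaf.stalk y) (hW.primeIdealOf ⟨y, hyW⟩).asIdeal :=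
    hW.isLocalization_stalk ⟨y, hyW⟩
  let _ := Groth.Agent.H8.stalkModule F hyW
  have : IsScalarTower Γ(X, W) (X.presheaf.stalk y) (F.presheaf.stalk y) :=
    .of_algebraMap_smul fun _ _ => rfl
  have := Groth.Agent.H8.isLocalizedModule_germₗ F hW hyW
  exact Module.Finite.of_isLocalizedModule (hW.primeIdealOf ⟨y, hyW⟩).asIdeal.primeCompl
    (Groth.Agent.H8.germₗ F hyW)

theorem Ky_ne_top (y : 𝓘.subscheme) : Ky 𝓘 y ≠ ⊤ :=
  RingHom.ker_ne_top _

theorem ideal_le_primeIdealOf {V : X.Opens} (hV : IsAffineOpen V) (y : 𝓘.subscheme)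
    (hyV : 𝓘.subschemeι y ∈ V) :
    𝓘.ideal ⟨V, hV⟩ ≤ (hV.primeIdealOf ⟨𝓘.subschemeι y, hyV⟩).asIdeal := by
  intro a ha
  rw [Groth.Agent.H8.mem_primeIdealOf_iff hV hyV a]
  intro hu
  apply Ky_ne_top 𝓘 y
  have h := Groth.Agent.H8.ker_stalkMap_subschemeι 𝓘 ⟨V, hV⟩ y hyV
  change RingHom.ker (𝓘.subschemeι.stalkMap y).hom = ⊤
  rw [h]
  exact Ideal.eq_top_of_isUnit_mem _ (Ideal.mem_map_of_mem _ ha) hu

/-- CPS-style access to the stalk as a local model of `(Γ(X,V), 𝓘(V), Γ(F,V))`. -/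
theorem with_stalk_model [F.IsQuasicoherent] {V : X.Opens} (hV : IsAffineOpen V)
    (y : 𝓘.subscheme) (hyV : 𝓘.subschemeι y ∈ V) (j : ℕ) {motive : ℕ → Prop}
    (H : ∀ (B : Type u) [CommRing B] [IsLocalRing B] [Algebra Γ(X, V) B]
      [IsLocalization.AtPrime B (hV.primeIdealOf ⟨𝓘.subschemeι y, hyV⟩).asIdeal]
      (M' : Type u) [AddCommGroup M'] [Module Γ(X, V) M'] [Module B M']
      [IsScalarTower Γ(X, V) B M'] (g : Γ(F, V) →ₗ[Γ(X, V)] M')
      [IsLocalizedModule (hV.primeIdealOf ⟨𝓘.subschemeι y, hyV⟩).asIdeal.primeCompl g],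
      Module.Flat (B ⧸ (𝓘.ideal ⟨V, hV⟩).map (algebraMap Γ(X, V) B))
        (Gr ((𝓘.ideal ⟨V, hV⟩).map (algebraMap Γ(X, V) B)) M' j) →
      motive (nu B (Gr ((𝓘.ideal ⟨V, hV⟩).map (algebraMap Γ(X, V) B)) M' j)))
    (hnf : EGA4.IsNormallyFlat (Ky 𝓘 y) (F.presheaf.stalk (𝓘.subschemeι y))) :
    motive (nuAt 𝓘 F y j) := by
  letI : Algebra Γ(X, V) (X.presheaf.stalk (𝓘.subschemeι y)) :=
    TopCat.Presheaf.algebra_section_stalk X.presheaf ⟨𝓘.subschemeι y, hyV⟩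
  haveI : IsLocalization.AtPrime (X.presheaf.stalk (𝓘.subschemeι y))
      (hV.primeIdealOf ⟨𝓘.subschemeι y, hyV⟩).asIdeal := hV.isLocalization_stalk ⟨_, hyV⟩
  letI := Groth.Agent.H8.stalkModule F hyV
  haveI : IsScalarTower Γ(X, V) (X.presheaf.stalk (𝓘.subschemeι y))
      (F.presheaf.stalk (𝓘.subschemeι y)) := .of_algebraMap_smul fun _ _ => rfl
  haveI := Groth.Agent.H8.isLocalizedModule_germₗ F hV hyV
  have hK : Ky 𝓘 y = (𝓘.ideal ⟨V, hV⟩).map
      (algebraMap Γ(X, V) (X.presheaf.stalk (𝓘.subschemeι y))) :=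
    Groth.Agent.H8.ker_stalkMap_subschemeι 𝓘 ⟨V, hV⟩ y hyV
  have key : ∀ K' : Ideal (X.presheaf.stalk (𝓘.subschemeι y)),
      K' = (𝓘.ideal ⟨V, hV⟩).map (algebraMap Γ(X, V) (X.presheaf.stalk (𝓘.subschemeι y))) →
      EGA4.IsNormallyFlat K' (F.presheaf.stalk (𝓘.subschemeι y)) →
      motive (nu (X.presheaf.stalk (𝓘.subschemeι y))
        (Gr K' (F.presheaf.stalk (𝓘.subschemeι y)) j)) := by
    rintro _ rfl hnf'
    exact H (X.presheaf.stalk (𝓘.subschemeι y)) (F.presheaf.stalk (𝓘.subschemeι y))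
      (Groth.Agent.H8.germₗ F hyV) (hnf' j)
  exact key (Ky 𝓘 y) hK hnf

/-- `ν_y(j)` is a locally constant function of `y ∈ Y`. -/
theorem isLocallyConstant_nuAt [IsLocallyNoetherian X] (hF : Coh.IsCoh F)
    (hnf : ∀ y : 𝓘.subscheme, EGA4.IsNormallyFlat (Ky 𝓘 y) (F.presheaf.stalk (𝓘.subschemeι y)))
    (j : ℕ) : IsLocallyConstant (fun y : 𝓘.subscheme => nuAt 𝓘 F y j) := by
  haveI : F.IsQuasicoherent := hF.1
  haveI : SheafOfModules.IsFiniteType (R := X.ringCatSheaf) F := hF.2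
  rw [IsLocallyConstant.iff_exists_open]
  intro y
  obtain ⟨V, hV, hyV, -⟩ :=
    exists_isAffineOpen_mem_and_subset (x := 𝓘.subschemeι y) (U := ⊤) trivial
  haveI : IsNoetherianRing Γ(X, V) := IsLocallyNoetherian.component_noetherian ⟨V, hV⟩
  haveI : Module.Finite Γ(X, V) Γ(F, V) := Groth.Agent.H44.finite_sections_of_isFiniteType F hV
  have hIp0 := ideal_le_primeIdealOf 𝓘 hV y hyV
  obtain ⟨f, hf0, hf⟩ : ∃ f : Γ(X, V), f ∉ (hV.primeIdealOf ⟨𝓘.subschemeι y, hyV⟩).asIdeal ∧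
      ∀ (p : Ideal Γ(X, V)) [p.IsPrime], 𝓘.ideal ⟨V, hV⟩ ≤ p → f ∉ p →
      ∀ (B : Type u) [CommRing B] [IsLocalRing B] [Algebra Γ(X, V) B] [IsLocalization.AtPrime B p]
        (M' : Type u) [AddCommGroup M'] [Module Γ(X, V) M'] [Module B M']
        [IsScalarTower Γ(X, V) B M'] (g : Γ(F, V) →ₗ[Γ(X, V)] M')
        [IsLocalizedModule p.primeCompl g],
        Module.Flat (B ⧸ (𝓘.ideal ⟨V, hV⟩).map (algebraMap Γ(X, V) B))
          (Gr ((𝓘.ideal ⟨V, hV⟩).map (algebraMap Γ(X, V) B)) M' j) →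
        nu B (Gr ((𝓘.ideal ⟨V, hV⟩).map (algebraMap Γ(X, V) B)) M' j) = nuAt 𝓘 F y j :=
    with_stalk_model 𝓘 F hV y hyV j
      (motive := fun c => ∃ f : Γ(X, V), f ∉ (hV.primeIdealOf ⟨𝓘.subschemeι y, hyV⟩).asIdeal ∧
        ∀ (p : Ideal Γ(X, V)) [p.IsPrime], 𝓘.ideal ⟨V, hV⟩ ≤ p → f ∉ p →
        ∀ (B : Type u) [CommRing B] [IsLocalRing B] [Algebra Γ(X, V) B]
          [IsLocalization.AtPrime B p]
          (M' : Type u) [AddCommGroup M'] [Module Γ(X, V) M'] [Module B M']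
          [IsScalarTower Γ(X, V) B M'] (g : Γ(F, V) →ₗ[Γ(X, V)] M')
          [IsLocalizedModule p.primeCompl g],
          Module.Flat (B ⧸ (𝓘.ideal ⟨V, hV⟩).map (algebraMap Γ(X, V) B))
            (Gr ((𝓘.ideal ⟨V, hV⟩).map (algebraMap Γ(X, V) B)) M' j) →
          nu B (Gr ((𝓘.ideal ⟨V, hV⟩).map (algebraMap Γ(X, V) B)) M' j) = c)
      (fun B _ _ _ _ M' _ _ _ _ g _ hflat =>
        exists_notMem_forall_nu_eq (𝓘.ideal ⟨V, hV⟩) Γ(F, V) j
          (hV.primeIdealOf ⟨𝓘.subschemeι y, hyV⟩).asIdeal hIp0 B M' g hflat) (hnf y)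
  refine ⟨(𝓘.subschemeι ⁻¹ᵁ X.basicOpen f : 𝓘.subscheme.Opens).1,
    (𝓘.subschemeι ⁻¹ᵁ X.basicOpen f).2, ?_, ?_⟩
  · exact (Groth.Agent.H8.notMem_primeIdealOf_iff hV hyV f).mp hf0
  · intro y' hy'
    have hy'' : 𝓘.subschemeι y' ∈ X.basicOpen f := hy'
    have hy'V : 𝓘.subschemeι y' ∈ V := X.basicOpen_le f hy''
    have hfp : f ∉ (hV.primeIdealOf ⟨𝓘.subschemeι y', hy'V⟩).asIdeal :=
      (Groth.Agent.H8.notMem_primeIdealOf_iff hV hy'V f).mpr hy''
    have hIp := ideal_le_primeIdealOf 𝓘 hV y' hy'V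
    exact with_stalk_model 𝓘 F hV y' hy'V j (motive := fun c => c = nuAt 𝓘 F y j)
      (fun B _ _ _ _ M' _ _ _ _ g _ hflat =>
        hf (hV.primeIdealOf ⟨𝓘.subschemeι y', hy'V⟩).asIdeal hIp hfp B M' g hflat) (hnf y')

/-- the local Hilbert-function identity at a point of `Y` (from S2892) -/
theorem hilbert_at [IsLocallyNoetherian X] (hF : Coh.IsCoh F) (y : 𝓘.subscheme)
    (hreg : IsRegularLocalRing (𝓘.subscheme.presheaf.stalk y))
    (hnf : EGA4.IsNormallyFlat (Ky 𝓘 y) (F.presheaf.stalk (𝓘.subschemeι y))) (n : ℕ)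
    (hn : ringKrullDim (𝓘.subscheme.presheaf.stalk y) = n) (h : ℕ) :
    Module.finrank (X.presheaf.stalk (𝓘.subschemeι y) ⧸
          maximalIdeal (X.presheaf.stalk (𝓘.subschemeι y)))
        (↥(maximalIdeal (X.presheaf.stalk (𝓘.subschemeι y)) ^ h •
            (⊤ : Submodule (X.presheaf.stalk (𝓘.subschemeι y))
              (F.presheaf.stalk (𝓘.subschemeι y)))) ⧸
          (maximalIdeal (X.presheaf.stalk (𝓘.subschemeι y)) •
            (⊤ : Submodule (X.presheaf.stalk (𝓘.subschemeι y))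
              ↥(maximalIdeal (X.presheaf.stalk (𝓘.subschemeι y)) ^ h •
                (⊤ : Submodule (X.presheaf.stalk (𝓘.subschemeι y))
                  (F.presheaf.stalk (𝓘.subschemeι y))))))) =
      ∑ r ∈ Finset.range (h + 1), Nat.choose (r + n - 1) r * nuAt 𝓘 F y (h - r) := by
  haveI : F.IsQuasicoherent := hF.1
  haveI : SheafOfModules.IsFiniteType (R := X.ringCatSheaf) F := hF.2
  haveI : Module.Finite (X.presheaf.stalk (𝓘.subschemeι y))
      (F.presheaf.stalk (𝓘.subschemeι y)) := finite_stalk F _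
  let e : (X.presheaf.stalk (𝓘.subschemeι y) ⧸ Ky 𝓘 y) ≃+* 𝓘.subscheme.presheaf.stalk y :=
    RingHom.quotientKerEquivOfSurjective (𝓘.subschemeι.stalkMap_surjective y)
  haveI : IsRegularLocalRing (X.presheaf.stalk (𝓘.subschemeι y) ⧸ Ky 𝓘 y) :=
    IsRegularLocalRing.of_ringEquiv e.symm
  have hn' : ringKrullDim (X.presheaf.stalk (𝓘.subschemeι y) ⧸ Ky 𝓘 y) = n := by
    rw [ringKrullDim_eq_of_ringEquiv e, hn]
  exact (Groth.Agent.H73.NFStep.hilbert (F.presheaf.stalk (𝓘.subschemeι y)) (Ky 𝓘 y) n hn').mp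
    hnf h

/-- **S5070.** -/
theorem main [IsLocallyNoetherian X] [ConnectedSpace ↥𝓘.subscheme]
    (hreg : ∀ y : 𝓘.subscheme, IsRegularLocalRing (𝓘.subscheme.presheaf.stalk y))
    (hF : Coh.IsCoh F)
    (hnf : ∀ y : 𝓘.subscheme, EGA4.IsNormallyFlat (Ky 𝓘 y)
      (F.presheaf.stalk (𝓘.subschemeι y))) :
    ∃ R : ℕ → ℕ, ∀ (y : 𝓘.subscheme) (n : ℕ),
      ringKrullDim (𝓘.subscheme.presheaf.stalk y) = n → ∀ h : ℕ,
      Module.finrank (X.presheaf.stalk (𝓘.subschemeι y) ⧸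
          maximalIdeal (X.presheaf.stalk (𝓘.subschemeι y)))
        (↥(maximalIdeal (X.presheaf.stalk (𝓘.subschemeι y)) ^ h •
            (⊤ : Submodule (X.presheaf.stalk (𝓘.subschemeι y))
              (F.presheaf.stalk (𝓘.subschemeι y)))) ⧸
          (maximalIdeal (X.presheaf.stalk (𝓘.subschemeι y)) •
            (⊤ : Submodule (X.presheaf.stalk (𝓘.subschemeι y))
              ↥(maximalIdeal (X.presheaf.stalk (𝓘.subschemeι y)) ^ h •
                (⊤ : Submodule (X.presheaf.stalk (𝓘.subschemeι y))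
                  (F.presheaf.stalk (𝓘.subschemeι y))))))) =
      ∑ r ∈ Finset.range (h + 1), Nat.choose (r + n - 1) r * R (h - r) := by
  obtain ⟨y0⟩ : Nonempty 𝓘.subscheme := inferInstance
  refine ⟨fun j => nuAt 𝓘 F y0 j, fun y n hn h => ?_⟩
  have hconst : ∀ j, nuAt 𝓘 F y j = nuAt 𝓘 F y0 j := fun j =>
    (isLocallyConstant_nuAt 𝓘 F hF hnf j).apply_eq_of_preconnectedSpace y y0
  rw [hilbert_at 𝓘 F hF y (hreg y) (hnf y) n hn h]
  exact Finset.sum_congr rfl fun r _ => by rw [hconst]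

end Groth.Agent.H73.PoincSch
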