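import Mathlib

/-!
# Proj of a Noetherian graded ring is Noetherian
-/

set_option autoImplicit false
universe u
open CategoryTheory CategoryTheory.Limits AlgebraicGeometry

namespace Groth.Agent.H73.ProjNoethAG

open HomogeneousLocalization

variable {A : Type u} [CommRing A]
  (𝒜 : ℕ → AddSubgroup A) [GradedRing 𝒜]

/-- A Noetherian `ℕ`-graded ring is of finite type over its degree zero part. -/
theorem finiteType_of_isNoetherianRing [IsNoetherianRing A] : Algebra.FiniteType (𝒜 0) A := by
  classical
  have hfg : ((HomogeneousIdeal.irrelevant 𝒜).toIdeal).FG := IsNoetherian.noetherian _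
  rw [HomogeneousIdeal.irrelevant_eq_span] at hfg
  obtain ⟨s, hs, hspan⟩ := (Submodule.fg_span_iff_fg_span_finset_subset _).mp hfg
  refine ⟨⟨s, ?_⟩⟩
  set B : Subalgebra (𝒜 0) A := Algebra.adjoin (𝒜 0) (s : Set A) with hB
  have key : ∀ n : ℕ, ∀ x ∈ 𝒜 n, x ∈ B := by
    intro n
    induction n using Nat.strong_induction_on with
    | _ n ih =>
      intro x hx
      rcases Nat.eq_zero_or_pos n with rfl | hn
      · exact Subalgebra.algebraMap_mem B ⟨x, hx⟩
      · have hxI : x ∈ Ideal.span (⋃ i > 0, (𝒜 i : Set A)) :=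
          Ideal.subset_span (Set.mem_iUnion₂.mpr ⟨n, hn, hx⟩)
        rw [show Ideal.span (⋃ i > 0, (𝒜 i : Set A)) = Ideal.span (s : Set A) from hspan] at hxI
        have hQ : ∀ y ∈ Ideal.span (s : Set A),
            ∀ a : A, ((DirectSum.decompose 𝒜 (a * y) n : 𝒜 n) : A) ∈ B := by
          intro y hy
          induction hy using Submodule.span_induction with
          | mem y hy =>
            intro a
            obtain ⟨d, hd, hyd⟩ := Set.mem_iUnion₂.mp (hs hy)
            by_cases hdn : d ≤ n
            · rw [DirectSum.coe_decompose_mul_of_right_mem_of_le 𝒜 hyd hdn]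
              refine B.mul_mem (ih (n - d) (by omega) _ (SetLike.coe_mem _))
                (Algebra.subset_adjoin hy)
            · rw [DirectSum.coe_decompose_mul_of_right_mem_of_not_le 𝒜 hyd hdn]
              exact B.zero_mem
          | zero => intro a; simp
          | add y z _ _ hy hz =>
            intro a
            rw [mul_add, DirectSum.decompose_add, DirectSum.add_apply, AddSubgroup.coe_add]
            exact B.add_mem (hy a) (hz a)
          | smul c y _ hy =>
            intro a
            rw [smul_eq_mul, ← mul_assoc]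
            exact hy (a * c)
        have := hQ x hxI 1
        rwa [one_mul, DirectSum.decompose_of_mem_same 𝒜 hx] at this
  rw [eq_top_iff]
  intro x _
  rw [← DirectSum.sum_support_decompose 𝒜 x]
  exact B.sum_mem fun n _ => key n _ (SetLike.coe_mem _)

theorem isNoetherianRing_away [IsNoetherianRing A] (f : A) (d : ℕ) (hf : f ∈ 𝒜 d) :
    IsNoetherianRing (Away 𝒜 f) := by
  haveI := finiteType_of_isNoetherianRing 𝒜
  haveI := Away.finiteType (𝒜 := 𝒜) f d hf
  exact Algebra.FiniteType.isNoetherianRing (𝒜 0) (Away 𝒜 f)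

theorem isNoetherian_proj [IsNoetherianRing A] : IsNoetherian (Proj 𝒜) := by
  classical
  haveI := finiteType_of_isNoetherianRing 𝒜
  obtain ⟨s, hs, hs'⟩ := GradedAlgebra.exists_finset_adjoin_eq_top_and_homogeneous_ne_zero 𝒜
  choose! dx hdx hxd using hs'
  have hcov : ⨆ i : s, Proj.basicOpen 𝒜 (i : A) = ⊤ := by
    apply Proj.iSup_basicOpen_eq_top' 𝒜 (fun i : s => (i : A))
    · intro i; exact ⟨dx i, hxd i i.2⟩
    · simpa using hs
  have haff : ∀ i : s, IsAffineOpen (Proj.basicOpen 𝒜 (i : A)) := fun i =>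
    Proj.isAffineOpen_basicOpen 𝒜 (i : A) (hxd i i.2) (Nat.pos_of_ne_zero (hdx i i.2))
  rw [isNoetherian_iff_of_finite_iSup_eq_top
    (S := fun i : s => (⟨Proj.basicOpen 𝒜 (i : A), haff i⟩ : (Proj 𝒜).affineOpens)) hcov]
  intro i
  haveI := isNoetherianRing_away 𝒜 (i : A) (dx i) (hxd i i.2)
  exact isNoetherianRing_of_ringEquiv (Away 𝒜 (i : A))
    (Proj.basicOpenIsoAway 𝒜 (i : A) (hxd i i.2)
      (Nat.pos_of_ne_zero (hdx i i.2))).commRingCatIsoToRingEquiv

end Groth.Agent.H73.ProjNoethAG
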