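import Mathlib
import Groth.Agent.S2085
import Groth.Agent.H14.SerreLoc
import Groth.Agent.H26.SkFibreComp
import Groth.Agent.H73.ProjNoethAG

/-!
# `(S_1)` for the local rings of `Proj`

If `A` is a Noetherian `ℕ`-graded ring with `(S_1)`, then for every relevant homogeneous prime `P`
the homogeneous localization `A_(P)` has `(S_1)`.  We use the characterisation
`(S_1) ↔ Ass ⊆ Min` and the injection `A_(P) ↪ A_P`: minimal primes of `A_P` contract to minimal
primes of `A_(P)`.
-/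

set_option autoImplicit false
universe u

namespace Groth.Agent.H73.ProjS1

open DirectSum HomogeneousLocalization

section General

variable {S : Type*} [CommRing S]

/-- An element of a minimal prime is killed, up to a power, by an element outside. -/
theorem exists_mul_pow_eq_zero {𝔓 : Ideal S} (h𝔓 : 𝔓 ∈ minimalPrimes S) {x : S} (hx : x ∈ 𝔓) :
    ∃ t, t ∉ 𝔓 ∧ ∃ N : ℕ, t * x ^ N = 0 := by
  classical
  have hprime : 𝔓.IsPrime := h𝔓.1.1
  by_contra hcon
  push Not at hcon
  set T : Submonoid S := 𝔓.primeCompl ⊔ Submonoid.powers x with hT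
  have hdisj : Disjoint ((⊥ : Ideal S) : Set S) (T : Set S) := by
    rw [Set.disjoint_left]
    intro a ha haT
    rw [SetLike.mem_coe, Ideal.mem_bot] at ha
    subst ha
    rw [SetLike.mem_coe, hT, Submonoid.mem_sup] at haT
    obtain ⟨t, ht, y, hy, hty⟩ := haT
    obtain ⟨N, rfl⟩ := hy
    exact hcon t ht N hty
  obtain ⟨𝔮, h𝔮prime, -, h𝔮disj⟩ := Ideal.exists_le_prime_disjoint ⊥ T hdisj
  have hle : 𝔮 ≤ 𝔓 := by
    intro a ha
    by_contra hna
    exact Set.disjoint_left.mp h𝔮disj ha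
      (SetLike.mem_coe.mpr (Submonoid.mem_sup_left (show a ∈ 𝔓.primeCompl from hna)))
  have hxq : x ∉ 𝔮 := fun hxq =>
    Set.disjoint_left.mp h𝔮disj hxq
      (SetLike.mem_coe.mpr (Submonoid.mem_sup_right (Submonoid.mem_powers x)))
  have : 𝔓 ≤ 𝔮 := h𝔓.2 ⟨h𝔮prime, bot_le⟩ hle
  exact hxq (this hx)

end General

variable {A : Type u} [CommRing A] (𝒜 : ℕ → AddSubgroup A) [GradedRing 𝒜]
variable (P : Ideal A) [P.IsPrime]

/-- The key element: if `β ∈ A_(P)` lies in a minimal prime `𝔔` of `A_P`, some `τ ∈ A_(P)` outside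
`𝔔` kills a power of `β`. -/
theorem exists_tau {d : ℕ} (hd : 0 < d) {f : A} (hf : f ∈ 𝒜 d) (hfP : f ∉ P)
    {𝔔 : Ideal (Localization.AtPrime P)} (h𝔔 : 𝔔 ∈ minimalPrimes (Localization.AtPrime P))
    (β : HomogeneousLocalization.AtPrime 𝒜 P) (hβ : β.val ∈ 𝔔) :
    ∃ τ : HomogeneousLocalization.AtPrime 𝒜 P, τ.val ∉ 𝔔 ∧ ∃ N : ℕ, τ * β ^ N = 0 := by
  classical
  have hprime : 𝔔.IsPrime := h𝔔.1.1
  have hunitQ : ∀ (s : P.primeCompl) (z : Localization.AtPrime P),
      algebraMap A (Localization.AtPrime P) s * z ∈ 𝔔 → z ∈ 𝔔 := by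
    intro s z h
    refine (hprime.mem_or_mem h).resolve_left fun hs => hprime.ne_top ?_
    exact Ideal.eq_top_of_isUnit_mem _ hs (IsLocalization.map_units (Localization.AtPrime P) s)
  have hb : algebraMap A (Localization.AtPrime P) β.den * β.val =
      algebraMap A (Localization.AtPrime P) β.num := by
    rw [← Algebra.smul_def]; exact β.den_smul_val
  have hnum : algebraMap A (Localization.AtPrime P) β.num ∈ 𝔔 := by
    rw [← hb]; exact 𝔔.mul_mem_left _ hβ
  obtain ⟨t', ht', N, htN⟩ := exists_mul_pow_eq_zero h𝔔 hnum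
  obtain ⟨a, s, rfl⟩ := IsLocalization.exists_mk'_eq P.primeCompl t'
  have hc : algebraMap A (Localization.AtPrime P) s *
      IsLocalization.mk' (Localization.AtPrime P) a s =
      algebraMap A (Localization.AtPrime P) a := IsLocalization.mk'_spec' _ _ _
  have ha : algebraMap A (Localization.AtPrime P) a ∉ 𝔔 := by
    intro h
    rw [← hc] at h
    exact ht' (hunitQ s _ h)
  have h0 : algebraMap A (Localization.AtPrime P) (a * β.num ^ N) = 0 := by
    rw [map_mul, map_pow, ← hc, mul_assoc, htN, mul_zero]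
  rw [IsLocalization.map_eq_zero_iff P.primeCompl] at h0
  obtain ⟨u, hu⟩ := h0
  set t : A := u * a with ht
  have htQ : algebraMap A (Localization.AtPrime P) t ∉ 𝔔 := by
    rw [ht, map_mul]
    intro h
    exact ha (hunitQ u _ h)
  have htnum : t * β.num ^ N = 0 := by rw [ht, mul_assoc]; exact hu
  obtain ⟨i, hi⟩ : ∃ i : ℕ, algebraMap A (Localization.AtPrime P) (decompose 𝒜 t i : A) ∉ 𝔔 := by
    by_contra hcon
    push Not at hcon
    apply htQ
    rw [← DirectSum.sum_support_decompose 𝒜 t, map_sum]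
    exact Ideal.sum_mem _ fun i _ => hcon i
  have hnumN : (β.num : A) ^ N ∈ 𝒜 (N • β.deg) := SetLike.pow_mem_graded N β.num_mem_deg
  have hti : (decompose 𝒜 t i : A) * β.num ^ N = 0 := by
    rw [← coe_decompose_mul_add_of_right_mem 𝒜 hnumN, htnum, decompose_zero]
    rfl
  have hpow1 : (decompose 𝒜 t i : A) ^ d ∈ 𝒜 (d * i) := by
    have := SetLike.pow_mem_graded d (SetLike.coe_mem (decompose 𝒜 t i))
    simpa [smul_eq_mul] using this
  have hpow2 : f ^ i ∈ 𝒜 (d * i) := by
    have := SetLike.pow_mem_graded i hf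
    simpa [smul_eq_mul, mul_comm] using this
  have hfiP : f ^ i ∉ P := fun h => hfP (Ideal.IsPrime.mem_of_pow_mem ‹_› _ h)
  have hc' : algebraMap A (Localization.AtPrime P) (f ^ i) *
      Localization.mk ((decompose 𝒜 t i : A) ^ d) (⟨f ^ i, hfiP⟩ : P.primeCompl) =
      algebraMap A (Localization.AtPrime P) ((decompose 𝒜 t i : A) ^ d) := by
    rw [Localization.mk_eq_mk']
    exact IsLocalization.mk'_spec' (Localization.AtPrime P) _ (⟨f ^ i, hfiP⟩ : P.primeCompl)
  refine ⟨HomogeneousLocalization.mk ⟨d * i, ⟨_, hpow1⟩, ⟨_, hpow2⟩, hfiP⟩, ?_, N, ?_⟩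
  · rw [val_mk]
    intro h
    have h2 : algebraMap A (Localization.AtPrime P) ((decompose 𝒜 t i : A) ^ d) ∈ 𝔔 := by
      rw [← hc']; exact 𝔔.mul_mem_left _ h
    rw [map_pow] at h2
    exact hi (hprime.mem_of_pow_mem _ h2)
  · apply HomogeneousLocalization.val_injective
    rw [val_mul, val_pow, val_mk, val_zero]
    have hunit : IsUnit (algebraMap A (Localization.AtPrime P) (f ^ i) *
        algebraMap A (Localization.AtPrime P) β.den ^ N) :=
      (IsLocalization.map_units (Localization.AtPrime P) (⟨_, hfiP⟩ : P.primeCompl)).mul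
        ((IsLocalization.map_units (Localization.AtPrime P) (⟨_, β.den_mem⟩ : P.primeCompl)).pow N)
    apply hunit.mul_left_cancel
    rw [mul_zero]
    obtain ⟨d', rfl⟩ : ∃ d', d = d' + 1 := ⟨d - 1, by omega⟩
    calc _ = (algebraMap A (Localization.AtPrime P) (f ^ i) *
          Localization.mk ((decompose 𝒜 t i : A) ^ (d' + 1)) (⟨f ^ i, hfiP⟩ : P.primeCompl)) *
          (algebraMap A (Localization.AtPrime P) β.den * β.val) ^ N := by ring
      _ = algebraMap A (Localization.AtPrime P) ((decompose 𝒜 t i : A) ^ d' *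
          ((decompose 𝒜 t i : A) * β.num ^ N)) := by
        rw [hc', hb]
        simp only [map_mul, map_pow]
        ring
      _ = 0 := by rw [hti, mul_zero, map_zero]

/-- Minimal primes of `A_P` contract to minimal primes of `A_(P)`. -/
theorem comap_mem_minimalPrimes {d : ℕ} (hd : 0 < d) {f : A} (hf : f ∈ 𝒜 d) (hfP : f ∉ P)
    {𝔔 : Ideal (Localization.AtPrime P)} (h𝔔 : 𝔔 ∈ minimalPrimes (Localization.AtPrime P)) :
    𝔔.comap (algebraMap (HomogeneousLocalization.AtPrime 𝒜 P) (Localization.AtPrime P)) ∈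
      minimalPrimes (HomogeneousLocalization.AtPrime 𝒜 P) := by
  have hprime : 𝔔.IsPrime := h𝔔.1.1
  refine ⟨⟨Ideal.comap_isPrime _ _, bot_le⟩, ?_⟩
  rintro 𝔮' ⟨h𝔮'prime, -⟩ hle β hβ
  rw [Ideal.mem_comap, HomogeneousLocalization.algebraMap_apply] at hβ
  obtain ⟨τ, hτ, N, hτN⟩ := exists_tau 𝒜 P hd hf hfP h𝔔 β hβ
  have hτq : τ ∉ 𝔮' := fun h => hτ (by
    have := hle h
    rwa [Ideal.mem_comap, HomogeneousLocalization.algebraMap_apply] at this)
  have : τ * β ^ N ∈ 𝔮' := by rw [hτN]; exact zero_mem _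
  exact h𝔮'prime.mem_of_pow_mem N ((h𝔮'prime.mem_or_mem this).resolve_left hτq)

/-- `Ass ⊆ Min` descends from `A_P` to `A_(P)`. -/
theorem assoc_subset_minimal [IsNoetherianRing A]
    [IsNoetherianRing (HomogeneousLocalization.AtPrime 𝒜 P)]
    {d : ℕ} (hd : 0 < d) {f : A} (hf : f ∈ 𝒜 d) (hfP : f ∉ P)
    (hR : ∀ 𝔔 ∈ associatedPrimes (Localization.AtPrime P) (Localization.AtPrime P),
      𝔔 ∈ minimalPrimes (Localization.AtPrime P)) :
    ∀ 𝔮 ∈ associatedPrimes (HomogeneousLocalization.AtPrime 𝒜 P)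
      (HomogeneousLocalization.AtPrime 𝒜 P),
      𝔮 ∈ minimalPrimes (HomogeneousLocalization.AtPrime 𝒜 P) := by
  intro 𝔮 h𝔮
  obtain ⟨h𝔮prime, b, hb⟩ := (isAssociatedPrime_iff).mp h𝔮
  have hb0 : b ≠ 0 := by
    rintro rfl
    apply h𝔮prime.ne_top
    rw [hb, eq_top_iff]
    intro z _
    rw [Submodule.mem_colon_singleton]
    simp
  have hbval : b.val ≠ 0 := fun h => hb0 (HomogeneousLocalization.val_injective _
    (h.trans (HomogeneousLocalization.val_zero).symm))
  obtain ⟨𝔔, h𝔔ass, h𝔔le⟩ :=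
    exists_le_isAssociatedPrime_of_isNoetherianRing (Localization.AtPrime P) b.val hbval
  have h𝔔min := hR 𝔔 h𝔔ass
  have hle : 𝔮 ≤ 𝔔.comap (algebraMap (HomogeneousLocalization.AtPrime 𝒜 P)
      (Localization.AtPrime P)) := by
    intro β hβ
    rw [hb, Submodule.mem_colon_singleton, Submodule.mem_bot, smul_eq_mul] at hβ
    rw [Ideal.mem_comap, HomogeneousLocalization.algebraMap_apply]
    apply h𝔔le
    rw [Submodule.mem_colon_singleton, Submodule.mem_bot, smul_eq_mul, ← val_mul, hβ, val_zero]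
  have hmin := comap_mem_minimalPrimes 𝒜 P hd hf hfP h𝔔min
  have hge : 𝔔.comap (algebraMap (HomogeneousLocalization.AtPrime 𝒜 P)
      (Localization.AtPrime P)) ≤ 𝔮 := hmin.2 ⟨h𝔮prime, bot_le⟩ hle
  rw [le_antisymm hle hge]
  exact hmin

/-- `(S_1)` descends from `A` to `A_(P)`. -/
theorem hasSk_one_atPrime [IsNoetherianRing A]
    [IsNoetherianRing (HomogeneousLocalization.AtPrime 𝒜 P)]
    {d : ℕ} (hd : 0 < d) {f : A} (hf : f ∈ 𝒜 d) (hfP : f ∉ P) (hA : LocCoh.HasSk 1 A A) :
    LocCoh.HasSk 1 (HomogeneousLocalization.AtPrime 𝒜 P)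
      (HomogeneousLocalization.AtPrime 𝒜 P) := by
  have hR : LocCoh.HasSk 1 (Localization.AtPrime P) (Localization.AtPrime P) :=
    Groth.Agent.H14.hasSk_localization 1 A P hA
  have hR' := (Groth.Agent.S2085.result (R := Localization.AtPrime P)
    (M := Localization.AtPrime P)).mpr hR
  rw [Module.annihilator_eq_bot.mpr inferInstance] at hR'
  refine (Groth.Agent.S2085.result (R := HomogeneousLocalization.AtPrime 𝒜 P)
    (M := HomogeneousLocalization.AtPrime 𝒜 P)).mp ?_
  rw [Module.annihilator_eq_bot.mpr inferInstance]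
  exact assoc_subset_minimal 𝒜 P hd hf hfP hR'

open AlgebraicGeometry in
/-- A point of `Proj` misses some homogeneous element of positive degree. -/
theorem exists_homogeneous_not_mem (x : Proj 𝒜) :
    ∃ (f : A) (m : ℕ) (_ : f ∈ 𝒜 m) (_ : 0 < m), f ∉ x.asHomogeneousIdeal.toIdeal := by
  classical
  by_contra! h
  refine x.not_irrelevant_le fun z hz ↦ ?_
  rw [← DirectSum.sum_support_decompose 𝒜 z]
  exact x.1.toIdeal.sum_mem fun k hk ↦ h _ k (SetLike.coe_mem _) <| by_contra <| by aesop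

open AlgebraicGeometry in
/-- The main theorem: the local rings of `Proj A` have `(S_1)` if `A` does. -/
theorem main [IsNoetherianRing A] (hA : LocCoh.HasSk 1 A A) (x : Proj 𝒜) :
    LocCoh.HasSk 1 ((Proj 𝒜).presheaf.stalk x) ((Proj 𝒜).presheaf.stalk x) := by
  have hp : x.asHomogeneousIdeal.toIdeal.IsPrime := x.isPrime
  let e : (Proj 𝒜).presheaf.stalk x ≃+*
      HomogeneousLocalization.AtPrime 𝒜 x.asHomogeneousIdeal.toIdeal :=
    (Proj.stalkIso 𝒜 x).commRingCatIsoToRingEquiv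
  haveI : IsNoetherian (Proj 𝒜) := Groth.Agent.H73.ProjNoethAG.isNoetherian_proj 𝒜
  haveI : IsNoetherianRing ((Proj 𝒜).presheaf.stalk x) := inferInstance
  haveI : IsNoetherianRing (HomogeneousLocalization.AtPrime 𝒜 x.asHomogeneousIdeal.toIdeal) :=
    isNoetherianRing_of_ringEquiv _ e
  obtain ⟨f, m, hf, hm, hfP⟩ := exists_homogeneous_not_mem 𝒜 x
  have hB := hasSk_one_atPrime 𝒜 x.asHomogeneousIdeal.toIdeal hm hf hfP hA
  exact (Groth.Agent.H26.SkFibreComp.hasSk_of_ringEquiv 1 e.symm hB).2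

end Groth.Agent.H73.ProjS1
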