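import Mathlib
import Groth.Agent.H59.CMHyperFwd
import Groth.Agent.H29.ComplCat

/-!
# Cohen–Macaulayness descends along cyclically pure local maps with zero-dimensional closed fibre

Let `φ : B → R` be a homomorphism of Noetherian local rings such that `IR ∩ B = I` for every ideal
`I` of `B` (cyclic purity) and such that `𝔪_R` is the only prime of `R` containing `𝔪_B R`.  If `R`
is Cohen–Macaulay, then so is `B`.
-/

set_option autoImplicit false
universe u

namespace Groth.Agent.H73.PureCM

open IsLocalRing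

section Defs

variable {B R : Type u} [CommRing B] [CommRing R]

/-- cyclic purity: every ideal is contracted -/
def CP (φ : B →+* R) : Prop := ∀ I : Ideal B, (I.map φ).comap φ = I

/-- the closed fibre has a single point -/
def F2 [IsLocalRing B] [IsLocalRing R] (φ : B →+* R) : Prop :=
  ∀ Q : Ideal R, Q.IsPrime → (maximalIdeal B).map φ ≤ Q → Q = maximalIdeal R

theorem CP.injective {φ : B →+* R} (h : CP φ) : Function.Injective φ := by
  rw [injective_iff_map_eq_zero]
  intro x hx
  have h0 := h ⊥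
  rw [Ideal.map_bot] at h0
  have : x ∈ (⊥ : Ideal R).comap φ := by rw [Ideal.mem_comap, hx]; exact zero_mem _
  rw [h0] at this
  simpa using this

theorem CP.map_maximalIdeal_le [IsLocalRing B] [IsLocalRing R] {φ : B →+* R} (h : CP φ) :
    (maximalIdeal B).map φ ≤ maximalIdeal R := by
  apply IsLocalRing.le_maximalIdeal
  intro htop
  have h0 := h (maximalIdeal B)
  rw [htop, Ideal.comap_top] at h0
  exact (maximalIdeal.isMaximal B).ne_top h0.symm

theorem CP.mem_maximalIdeal [IsLocalRing B] [IsLocalRing R] {φ : B →+* R} (h : CP φ) {x : B}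
    (hx : x ∈ maximalIdeal B) : φ x ∈ maximalIdeal R :=
  h.map_maximalIdeal_le (Ideal.mem_map_of_mem φ hx)

theorem CP.isSMulRegular {φ : B →+* R} (h : CP φ) {c : B} (hc : IsSMulRegular R (φ c)) :
    IsSMulRegular B c := by
  rw [isSMulRegular_iff_right_eq_zero_of_smul] at hc ⊢
  intro β hβ
  apply h.injective
  rw [map_zero]
  apply hc
  rw [smul_eq_mul, ← map_mul, ← smul_eq_mul, hβ, map_zero]

/-- the induced map on quotients -/
def qMap (φ : B →+* R) (I : Ideal B) (J : Ideal R) (hJ : I.map φ = J) : B ⧸ I →+* R ⧸ J :=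
  Ideal.quotientMap (I := I) J φ (hJ ▸ Ideal.le_comap_map)

@[simp] theorem qMap_mk (φ : B →+* R) (I : Ideal B) (J : Ideal R) (hJ : I.map φ = J) (x : B) :
    qMap φ I J hJ (Ideal.Quotient.mk I x) = Ideal.Quotient.mk J (φ x) := by
  simp [qMap]

/-- cyclic purity passes to quotients -/
theorem CP.quotient {φ : B →+* R} (h : CP φ) (I : Ideal B) (J : Ideal R) (hJ : I.map φ = J) :
    CP (qMap φ I J hJ) := by
  intro I'
  set φ' : B ⧸ I →+* R ⧸ J := qMap φ I J hJ with hφ'
  have hcomm : φ'.comp (Ideal.Quotient.mk I) = (Ideal.Quotient.mk J).comp φ := by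
    ext x; simp [hφ']
  apply Ideal.comap_injective_of_surjective (Ideal.Quotient.mk I) Ideal.Quotient.mk_surjective
  set K := I'.comap (Ideal.Quotient.mk I) with hK
  have hIK : I ≤ K := by
    intro x hx
    rw [hK, Ideal.mem_comap, Ideal.Quotient.eq_zero_iff_mem.mpr hx]
    exact zero_mem _
  have hI' : I' = K.map (Ideal.Quotient.mk I) :=
    (Ideal.map_comap_of_surjective _ Ideal.Quotient.mk_surjective I').symm
  rw [Ideal.comap_comap, hcomm, ← Ideal.comap_comap]
  have h1 : I'.map φ' = (K.map φ).map (Ideal.Quotient.mk J) := by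
    rw [hI', Ideal.map_map, hcomm, ← Ideal.map_map]
  rw [h1, Ideal.comap_map_of_surjective _ Ideal.Quotient.mk_surjective, ← RingHom.ker_eq_comap_bot,
    Ideal.mk_ker]
  have h2 : J ≤ K.map φ := by rw [← hJ]; exact Ideal.map_mono hIK
  rw [sup_eq_left.mpr h2, h K]

theorem mk_mem_maximalIdeal [IsLocalRing B] (I : Ideal B) [Nontrivial (B ⧸ I)]
    [IsLocalRing (B ⧸ I)] {x : B} (hx : x ∈ maximalIdeal B) :
    Ideal.Quotient.mk I x ∈ maximalIdeal (B ⧸ I) := by
  rw [mem_maximalIdeal, mem_nonunits_iff] at hx ⊢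
  intro hu
  apply hx
  have hI : I ≤ maximalIdeal B := IsLocalRing.le_maximalIdeal (by
    intro htop
    have : Subsingleton (B ⧸ I) := Ideal.Quotient.subsingleton_iff.mpr htop
    exact not_subsingleton _ this)
  obtain ⟨y, hy⟩ := hu.exists_right_inv
  obtain ⟨y, rfl⟩ := Ideal.Quotient.mk_surjective y
  rw [← map_mul, ← map_one (Ideal.Quotient.mk I), Ideal.Quotient.eq] at hy
  by_contra hxu
  have hxm : x ∈ maximalIdeal B := by rwa [mem_maximalIdeal, mem_nonunits_iff]
  have : (1 : B) ∈ maximalIdeal B := by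
    have h1 : x * y - 1 ∈ maximalIdeal B := hI hy
    have h2 : x * y ∈ maximalIdeal B := Ideal.mul_mem_right _ _ hxm
    have : (1 : B) = x * y - (x * y - 1) := by ring
    rw [this]
    exact Ideal.sub_mem _ h2 h1
  exact (maximalIdeal.isMaximal B).ne_top ((Ideal.eq_top_iff_one _).mpr this)

theorem mem_maximalIdeal_of_mk [IsLocalRing B] (I : Ideal B) [Nontrivial (B ⧸ I)]
    [IsLocalRing (B ⧸ I)] {x : B} (hx : Ideal.Quotient.mk I x ∈ maximalIdeal (B ⧸ I)) :
    x ∈ maximalIdeal B := by
  rw [mem_maximalIdeal, mem_nonunits_iff] at hx ⊢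
  intro hu
  exact hx (hu.map _)

/-- the fibre condition passes to quotients -/
theorem F2.quotient [IsLocalRing B] [IsLocalRing R] {φ : B →+* R} (h : F2 φ) (I : Ideal B)
    (J : Ideal R) (hJ : I.map φ = J) [Nontrivial (B ⧸ I)] [Nontrivial (R ⧸ J)]
    [IsLocalRing (B ⧸ I)] [IsLocalRing (R ⧸ J)] :
    F2 (qMap φ I J hJ) := by
  intro Q' hQ' hle
  set φ' : B ⧸ I →+* R ⧸ J := qMap φ I J hJ with hφ'
  set Q := Q'.comap (Ideal.Quotient.mk J) with hQ
  have hQprime : Q.IsPrime := Ideal.comap_isPrime _ _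
  have hQle : (maximalIdeal B).map φ ≤ Q := by
    rw [Ideal.map_le_iff_le_comap]
    intro x hx
    rw [Ideal.mem_comap, hQ, Ideal.mem_comap]
    have : Ideal.Quotient.mk J (φ x) = φ' (Ideal.Quotient.mk I x) := by simp [hφ']
    rw [this]
    exact hle (Ideal.mem_map_of_mem _ (mk_mem_maximalIdeal I hx))
  have hQm := h Q hQprime hQle
  apply le_antisymm (IsLocalRing.le_maximalIdeal hQ'.ne_top)
  intro y hy
  obtain ⟨r, rfl⟩ := Ideal.Quotient.mk_surjective y
  have hr : r ∈ maximalIdeal R := mem_maximalIdeal_of_mk J hy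
  rw [← hQm, hQ, Ideal.mem_comap] at hr
  exact hr

end Defs

section Main

/-- A Noetherian local ring of dimension zero is Cohen–Macaulay. -/
theorem isCM_of_dim_zero (B : Type u) [CommRing B] [IsLocalRing B] [IsNoetherianRing B]
    (h : ringKrullDim B = 0) : LocCoh.IsCohenMacaulayLocalRing B := by
  refine ⟨?_⟩
  have h1 := Groth.Agent.H29.CML.depth_le_supportDim (A := B) B
  rw [Module.supportDim_self_eq_ringKrullDim, h] at h1 ⊢
  have h2 : LocCoh.depth B B ≤ 0 := by exact_mod_cast h1
  have h3 : LocCoh.depth B B = 0 := le_antisymm h2 zero_le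
  rw [h3]
  rfl

/-- base case: cyclically pure into a zero-dimensional local ring forces dimension zero -/
theorem dim_zero_of_CP {B R : Type u} [CommRing B] [CommRing R] [IsLocalRing B] [IsLocalRing R]
    {φ : B →+* R} (h : CP φ) (hR : ringKrullDim R = 0) : ringKrullDim B = 0 := by
  haveI : Ring.KrullDimLE 0 R := ringKrullDimZero_iff_ringKrullDim_eq_zero.mpr hR
  rw [← ringKrullDimZero_iff_ringKrullDim_eq_zero]
  apply Ring.KrullDimLE.mk₀
  intro p hp
  have hle : maximalIdeal B ≤ p := by
    intro x hx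
    have hφx : φ x ∈ maximalIdeal R := h.mem_maximalIdeal hx
    rw [← Ring.KrullDimLE.isNilpotent_iff_mem_maximalIdeal] at hφx
    obtain ⟨N, hN⟩ := hφx
    have : x ^ N = 0 := h.injective (by rw [map_pow, hN, map_zero])
    exact hp.mem_of_pow_mem N (by rw [this]; exact zero_mem _)
  have : p = maximalIdeal B := le_antisymm (IsLocalRing.le_maximalIdeal hp.ne_top) hle
  rw [this]
  exact maximalIdeal.isMaximal B

/-- In a Cohen–Macaulay local ring of positive dimension the maximal ideal contains a regular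
element. -/
theorem exists_regular_of_isCM {R : Type u} [CommRing R] [IsLocalRing R] [IsNoetherianRing R]
    (hR : LocCoh.IsCohenMacaulayLocalRing R) (n : ℕ) (hn : ringKrullDim R = (n + 1 : ℕ)) :
    ∃ r ∈ maximalIdeal R, IsSMulRegular R r := by
  have h1 := hR.supportDim_eq_depth
  rw [Module.supportDim_self_eq_ringKrullDim, hn] at h1
  have h2 : ((n + 1 : ℕ) : ℕ∞) = LocCoh.depth R R := by exact_mod_cast h1
  have h3 : ((1 : ℕ) : ℕ∞) ≤ LocCoh.idealDepth (maximalIdeal R) R := by
    change _ ≤ LocCoh.depth R R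
    rw [← h2]
    exact_mod_cast Nat.le_add_left 1 n
  obtain ⟨rs, hlen, hmem, hreg⟩ := Groth.Agent.H15.exists_isRegular_of_le_idealDepth
    (maximalIdeal R) R (Groth.Agent.H29.CML.smul_top_ne_top (A := R) R) 1 h3
  match rs, hlen with
  | [r], _ =>
    refine ⟨r, hmem r List.mem_cons_self, ?_⟩
    have := hreg.toIsWeaklyRegular
    rw [RingTheory.Sequence.isWeaklyRegular_cons_iff] at this
    exact this.1

theorem isCM_of_CP : ∀ (n : ℕ) (B R : Type u) [CommRing B] [CommRing R] [IsLocalRing B]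
    [IsNoetherianRing B] [IsLocalRing R] [IsNoetherianRing R] (φ : B →+* R), CP φ → F2 φ →
    LocCoh.IsCohenMacaulayLocalRing R → ringKrullDim R = n →
    LocCoh.IsCohenMacaulayLocalRing B := by
  intro n
  induction n with
  | zero =>
    intro B R _ _ _ _ _ _ φ hCP _ _ hdim
    exact isCM_of_dim_zero B (dim_zero_of_CP hCP (by simpa using hdim))
  | succ n ih =>
    intro B R _ _ _ _ _ _ φ hCP hF2 hR hdim
    classical
    obtain ⟨r, hrm, hrreg⟩ := exists_regular_of_isCM hR n hdim
    -- associated primes avoid `r`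
    have hass : ∀ Q ∈ associatedPrimes R R, ¬ (maximalIdeal B ≤ Q.comap φ) := by
      intro Q hQ hle
      have hQm : Q = maximalIdeal R :=
        hF2 Q hQ.isPrime (Ideal.map_le_iff_le_comap.mpr hle)
      have hrQ : r ∈ ⋃ p ∈ associatedPrimes R R, (p : Set R) :=
        Set.mem_biUnion hQ (by rw [hQm]; exact hrm)
      rw [biUnion_associatedPrimes_eq_zero_divisors] at hrQ
      obtain ⟨x, hx0, hx⟩ := hrQ
      exact hx0 (isSMulRegular_iff_right_eq_zero_of_smul.mp hrreg x hx)
    have hfin : (associatedPrimes R R).Finite := associatedPrimes.finite R R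
    -- prime avoidance
    have havoid : ¬ ((maximalIdeal B : Set B) ⊆
        ⋃ Q ∈ (hfin.toFinset : Set (Ideal R)), ((Q.comap φ : Ideal B) : Set B)) := by
      intro hsub
      rw [Ideal.subset_union_prime (R := B) (f := fun Q : Ideal R => Q.comap φ) ⊥ ⊥] at hsub
      · obtain ⟨Q, hQ, hle⟩ := hsub
        exact hass Q (hfin.mem_toFinset.mp hQ) hle
      · intro Q hQ _ _
        haveI : Q.IsPrime := (hfin.mem_toFinset.mp hQ).isPrime
        exact Ideal.comap_isPrime _ _
    rw [Set.not_subset] at havoid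
    obtain ⟨c, hcm, hc⟩ := havoid
    have hcreg : IsSMulRegular R (φ c) := by
      rw [isSMulRegular_iff_right_eq_zero_of_smul]
      intro x hx
      by_contra hx0
      have : φ c ∈ ⋃ p ∈ associatedPrimes R R, (p : Set R) := by
        rw [biUnion_associatedPrimes_eq_zero_divisors]
        exact ⟨x, hx0, hx⟩
      obtain ⟨Q, hQ, hcQ⟩ := Set.mem_iUnion₂.mp this
      apply hc
      exact Set.mem_biUnion (show Q ∈ (hfin.toFinset : Set (Ideal R)) from
        Finset.mem_coe.mpr (hfin.mem_toFinset.mpr hQ)) hcQ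
    have hφcm : φ c ∈ maximalIdeal R := hCP.mem_maximalIdeal hcm
    have hcregB : IsSMulRegular B c := hCP.isSMulRegular hcreg
    -- the quotients
    have hJ : (Ideal.span {c}).map φ = Ideal.span {φ c} := by
      rw [Ideal.map_span, Set.image_singleton]
    have hneB : Ideal.span {c} ≠ (⊤ : Ideal B) := fun htop =>
      (maximalIdeal.isMaximal B).ne_top (top_le_iff.mp (htop ▸
        (Ideal.span_singleton_le_iff_mem _).mpr hcm))
    have hneR : Ideal.span {φ c} ≠ (⊤ : Ideal R) := fun htop =>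
      (maximalIdeal.isMaximal R).ne_top (top_le_iff.mp (htop ▸
        (Ideal.span_singleton_le_iff_mem _).mpr hφcm))
    haveI : Nontrivial (B ⧸ Ideal.span {c}) := Ideal.Quotient.nontrivial_iff.mpr hneB
    haveI : Nontrivial (R ⧸ Ideal.span {φ c}) := Ideal.Quotient.nontrivial_iff.mpr hneR
    haveI : IsLocalRing (B ⧸ Ideal.span {c}) :=
      IsLocalRing.of_surjective' (Ideal.Quotient.mk _) Ideal.Quotient.mk_surjective
    haveI : IsLocalRing (R ⧸ Ideal.span {φ c}) :=
      IsLocalRing.of_surjective' (Ideal.Quotient.mk _) Ideal.Quotient.mk_surjective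
    have hR' : LocCoh.IsCohenMacaulayLocalRing (R ⧸ Ideal.span {φ c}) :=
      Groth.Agent.H59.CMHyperFwd.isCM_quotient_regular R (φ c) hφcm hcreg hR
    have hdim' : ringKrullDim (R ⧸ Ideal.span {φ c}) = n := by
      have := ringKrullDim_quotient_span_singleton_succ_eq_ringKrullDim hcreg hφcm
      rw [hdim] at this
      obtain ⟨m, hm⟩ := WithBot.ne_bot_iff_exists.mp
        (ringKrullDim_ne_bot (R := R ⧸ Ideal.span {φ c}))
      rw [← hm] at this ⊢
      have h2 : m + 1 = ((n + 1 : ℕ) : ℕ∞) := by exact_mod_cast this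
      have h3 : m = (n : ℕ∞) := by
        have h4 : m + 1 = (n : ℕ∞) + 1 := by rw [h2]; push_cast; rfl
        exact (ENat.add_left_injective_of_ne_top ENat.one_ne_top) h4
      rw [h3]; rfl
    have hB' : LocCoh.IsCohenMacaulayLocalRing (B ⧸ Ideal.span {c}) :=
      ih (B ⧸ Ideal.span {c}) (R ⧸ Ideal.span {φ c}) (qMap φ _ _ hJ) (hCP.quotient _ _ hJ)
        (F2.quotient hF2 _ _ hJ) hR' hdim'
    exact Groth.Agent.H29.ComplCat.isCM_of_quotient_regular B c hcm hcregB hB'

end Main

end Groth.Agent.H73.PureCM
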