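import Mathlib
import Groth.Agent.H73.PureCM
import Groth.Agent.H73.ProjS1
import Groth.Agent.H49.CMLocalize

/-!
# Cohen–Macaulayness of the local rings of `Proj`

For a prime `P` of a graded ring `A`, the inclusion `A_(P) → A_P` is cyclically pure; if `P` is
homogeneous and relevant, the closed fibre is a point.  Hence `A_(P)` is Cohen–Macaulay when `A_P`
is.
-/

set_option autoImplicit false
universe u

namespace Groth.Agent.H73.ProjCM

open DirectSum HomogeneousLocalization IsLocalRing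

variable {A : Type u} [CommRing A] (𝒜 : ℕ → AddSubgroup A) [GradedRing 𝒜]
variable (P : Ideal A) [P.IsPrime]

theorem mk_eq_of_mul_eq {a b : A} {s t : P.primeCompl} (h : (t : A) * a = s * b) :
    (Localization.mk a s : Localization P.primeCompl) = Localization.mk b t :=
  Localization.mk_eq_mk_iff.mpr (Localization.r_of_eq h)

/-- all "degree zero normalisations" of all components of `x` lie in `I` -/
def Pred (I : Ideal (HomogeneousLocalization.AtPrime 𝒜 P)) (x : A) : Prop :=
  ∀ (N m : ℕ) (y w : A) (hw : w ∉ P), y ∈ 𝒜 m → w ∈ 𝒜 (N + m) →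
    ∃ ι ∈ I, ι.val = Localization.mk ((decompose 𝒜 x N : A) * y) (⟨w, hw⟩ : P.primeCompl)

variable (I : Ideal (HomogeneousLocalization.AtPrime 𝒜 P))

theorem pred_zero : Pred 𝒜 P I 0 := by
  intro N m y w hw _ _
  refine ⟨0, I.zero_mem, ?_⟩
  rw [decompose_zero, DirectSum.zero_apply, ZeroMemClass.coe_zero, zero_mul, Localization.mk_zero,
    val_zero]

theorem pred_add {x x' : A} (hx : Pred 𝒜 P I x) (hx' : Pred 𝒜 P I x') :
    Pred 𝒜 P I (x + x') := by
  intro N m y w hw hy hwd
  obtain ⟨ι, hι, h1⟩ := hx N m y w hw hy hwd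
  obtain ⟨ι', hι', h2⟩ := hx' N m y w hw hy hwd
  refine ⟨ι + ι', I.add_mem hι hι', ?_⟩
  rw [val_add, h1, h2, Localization.add_mk_self, decompose_add, DirectSum.add_apply,
    AddSubgroup.coe_add, add_mul]

theorem pred_mul_of_mem {x : A} (hx : Pred 𝒜 P I x) {l : ℕ} {r : A} (hr : r ∈ 𝒜 l) :
    Pred 𝒜 P I (r * x) := by
  intro N m y w hw hy hwd
  rw [coe_decompose_mul_of_left_mem 𝒜 N hr]
  split_ifs with hlN
  · have hw' : w ∈ 𝒜 ((N - l) + (l + m)) := by
      have : N - l + (l + m) = N + m := by omega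
      rw [this]; exact hwd
    obtain ⟨ι, hι, h1⟩ := hx (N - l) (l + m) (r * y) w hw (SetLike.mul_mem_graded hr hy) hw'
    refine ⟨ι, hι, ?_⟩
    rw [h1]
    congr 1
    ring
  · refine ⟨0, I.zero_mem, ?_⟩
    rw [zero_mul, Localization.mk_zero, val_zero]

theorem pred_mul {x : A} (hx : Pred 𝒜 P I x) (r : A) : Pred 𝒜 P I (r * x) := by
  refine DirectSum.Decomposition.inductionOn 𝒜 ?_ ?_ ?_ r
  · rw [zero_mul]; exact pred_zero 𝒜 P I
  · intro i r; exact pred_mul_of_mem 𝒜 P I hx r.2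
  · intro r r' h h'; rw [add_mul]; exact pred_add 𝒜 P I h h'

/-- the homogeneous generators -/
def gen : Set A :=
  {c | ∃ n, c ∈ 𝒜 n ∧ ∀ (m : ℕ) (y w : A) (hw : w ∉ P), y ∈ 𝒜 m → w ∈ 𝒜 (n + m) →
    ∃ ι ∈ I, ι.val = Localization.mk (c * y) (⟨w, hw⟩ : P.primeCompl)}

theorem pred_of_mem_gen {c : A} (hc : c ∈ gen 𝒜 P I) : Pred 𝒜 P I c := by
  obtain ⟨n, hcn, h⟩ := hc
  intro N m y w hw hy hwd
  by_cases hN : N = n
  · subst hN
    rw [decompose_of_mem_same 𝒜 hcn]
    exact h m y w hw hy hwd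
  · rw [decompose_of_mem_ne 𝒜 hcn (Ne.symm hN)]
    refine ⟨0, I.zero_mem, ?_⟩
    rw [zero_mul, Localization.mk_zero, val_zero]

theorem pred_of_mem_span {x : A} (hx : x ∈ Ideal.span (gen 𝒜 P I)) : Pred 𝒜 P I x := by
  induction hx using Submodule.span_induction with
  | mem x hx => exact pred_of_mem_gen 𝒜 P I hx
  | zero => exact pred_zero 𝒜 P I
  | add x y _ _ hx hy => exact pred_add 𝒜 P I hx hy
  | smul r x _ hx => rw [smul_eq_mul]; exact pred_mul 𝒜 P I hx r

theorem num_mem_gen {ι : HomogeneousLocalization.AtPrime 𝒜 P} (hι : ι ∈ I) :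
    ι.num ∈ gen 𝒜 P I := by
  refine ⟨ι.deg, ι.num_mem_deg, ?_⟩
  intro m y w hw hy hwd
  refine ⟨ι * HomogeneousLocalization.mk ⟨ι.deg + m,
    ⟨ι.den * y, SetLike.mul_mem_graded ι.den_mem_deg hy⟩, ⟨w, hwd⟩, hw⟩,
    I.mul_mem_right _ hι, ?_⟩
  rw [val_mul, val_mk, ι.eq_num_div_den, Localization.mk_mul]
  apply mk_eq_of_mul_eq
  simp only [Submonoid.coe_mul]
  ring

theorem val_mem_map {ι : HomogeneousLocalization.AtPrime 𝒜 P} (hι : ι ∈ I) :
    ι.val ∈ (Ideal.span (gen 𝒜 P I)).map (algebraMap A (Localization.AtPrime P)) := by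
  rw [ι.eq_num_div_den, Localization.mk_eq_mk',
    IsLocalization.mk'_mem_map_algebraMap_iff P.primeCompl]
  exact ⟨1, Submonoid.one_mem _, by
    rw [one_mul]; exact Ideal.subset_span (num_mem_gen 𝒜 P I hι)⟩

theorem mem_of_val_mem_map (β : HomogeneousLocalization.AtPrime 𝒜 P)
    (hβ : β.val ∈ (Ideal.span (gen 𝒜 P I)).map (algebraMap A (Localization.AtPrime P))) :
    β ∈ I := by
  classical
  rw [IsLocalization.mem_map_algebraMap_iff P.primeCompl] at hβ
  obtain ⟨⟨⟨a, ha⟩, s⟩, hs⟩ := hβ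
  have hb : algebraMap A (Localization.AtPrime P) β.den * β.val =
      algebraMap A (Localization.AtPrime P) β.num := by
    rw [← Algebra.smul_def]; exact β.den_smul_val
  have h1 : algebraMap A (Localization.AtPrime P) ((s : A) * β.num) =
      algebraMap A (Localization.AtPrime P) (β.den * a) := by
    simp only [map_mul]
    simp only at hs
    rw [← hb, ← hs]; ring
  obtain ⟨u, hu⟩ := (IsLocalization.eq_iff_exists P.primeCompl (Localization.AtPrime P)).mp h1
  set e : A := (u : A) * s with he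
  have heP : e ∉ P := (u * s).2
  have hmem : e * β.num ∈ Ideal.span (gen 𝒜 P I) := by
    have : e * β.num = ((u : A) * β.den) * a := by rw [he, mul_assoc, hu]; ring
    rw [this]; exact Ideal.mul_mem_left _ _ ha
  obtain ⟨i, hi⟩ : ∃ i, (decompose 𝒜 e i : A) ∉ P := by
    by_contra hcon
    push Not at hcon
    apply heP
    rw [← DirectSum.sum_support_decompose 𝒜 e]
    exact Ideal.sum_mem _ fun i _ => hcon i
  have hpred := pred_of_mem_span 𝒜 P I hmem (i + β.deg) 0 1 ((decompose 𝒜 e i : A) * β.den)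
    (fun h => (Ideal.IsPrime.mem_or_mem ‹_› h).elim hi β.den_mem) (SetLike.GradedOne.one_mem) (by
      rw [add_zero]; exact SetLike.mul_mem_graded (SetLike.coe_mem _) β.den_mem_deg)
  obtain ⟨ι, hι, hval⟩ := hpred
  rw [coe_decompose_mul_add_of_right_mem 𝒜 β.num_mem_deg] at hval
  have : ι = β := by
    apply val_injective
    rw [hval, β.eq_num_div_den]
    apply mk_eq_of_mul_eq
    simp only
    ring
  rw [← this]; exact hι

/-- `A_(P) → A_P` is cyclically pure. -/
theorem cp : Groth.Agent.H73.PureCM.CP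
    (algebraMap (HomogeneousLocalization.AtPrime 𝒜 P) (Localization.AtPrime P)) := by
  intro I
  apply le_antisymm _ Ideal.le_comap_map
  intro β hβ
  rw [Ideal.mem_comap, HomogeneousLocalization.algebraMap_apply] at hβ
  apply mem_of_val_mem_map 𝒜 P I β
  have hle : I.map (algebraMap (HomogeneousLocalization.AtPrime 𝒜 P) (Localization.AtPrime P)) ≤
      (Ideal.span (gen 𝒜 P I)).map (algebraMap A (Localization.AtPrime P)) := by
    rw [Ideal.map_le_iff_le_comap]
    intro ι hι
    rw [Ideal.mem_comap, HomogeneousLocalization.algebraMap_apply]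
    exact val_mem_map 𝒜 P I hι
  exact hle hβ

/-- the closed fibre of `A_(P) → A_P` is a point, for `P` homogeneous and relevant. -/
theorem f2 (hP : P.IsHomogeneous 𝒜) {d : ℕ} (hd : 0 < d) {f : A} (hf : f ∈ 𝒜 d) (hfP : f ∉ P) :
    Groth.Agent.H73.PureCM.F2
      (algebraMap (HomogeneousLocalization.AtPrime 𝒜 P) (Localization.AtPrime P)) := by
  classical
  intro Q' hQ' hle
  set Q := Q'.comap (algebraMap A (Localization.AtPrime P)) with hQ
  have hQprime : Q.IsPrime := Ideal.comap_isPrime _ _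
  have hPQ : P ≤ Q := by
    intro x hx
    rw [← DirectSum.sum_support_decompose 𝒜 x]
    refine Ideal.sum_mem _ fun i _ => ?_
    have hxi : (decompose 𝒜 x i : A) ∈ P := hP i hx
    have hpow1 : (decompose 𝒜 x i : A) ^ d ∈ 𝒜 (d * i) := by
      simpa [smul_eq_mul] using SetLike.pow_mem_graded d (SetLike.coe_mem (decompose 𝒜 x i))
    have hpow2 : f ^ i ∈ 𝒜 (d * i) := by
      simpa [smul_eq_mul, mul_comm] using SetLike.pow_mem_graded i hf
    have hfiP : f ^ i ∉ P := fun h => hfP (Ideal.IsPrime.mem_of_pow_mem ‹_› _ h)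
    set β : HomogeneousLocalization.AtPrime 𝒜 P :=
      HomogeneousLocalization.mk ⟨d * i, ⟨_, hpow1⟩, ⟨_, hpow2⟩, hfiP⟩ with hβ
    have hc' : algebraMap A (Localization.AtPrime P) (f ^ i) * β.val =
        algebraMap A (Localization.AtPrime P) ((decompose 𝒜 x i : A) ^ d) := by
      rw [hβ, val_mk, Localization.mk_eq_mk']
      exact IsLocalization.mk'_spec' (Localization.AtPrime P) _ (⟨f ^ i, hfiP⟩ : P.primeCompl)
    have hβm : β ∈ maximalIdeal (HomogeneousLocalization.AtPrime 𝒜 P) := by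
      rw [mem_maximalIdeal, mem_nonunits_iff, ← HomogeneousLocalization.isUnit_iff_isUnit_val]
      intro hu
      have : IsUnit (algebraMap A (Localization.AtPrime P) ((decompose 𝒜 x i : A) ^ d)) := by
        rw [← hc']
        exact (IsLocalization.map_units (Localization.AtPrime P)
          (⟨f ^ i, hfiP⟩ : P.primeCompl)).mul hu
      rw [IsLocalization.AtPrime.isUnit_to_map_iff (Localization.AtPrime P) P] at this
      exact this (Ideal.pow_mem_of_mem P hxi d hd)
    have h1 : β.val ∈ Q' := hle (by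
      rw [← HomogeneousLocalization.algebraMap_apply]; exact Ideal.mem_map_of_mem _ hβm)
    have h2 : algebraMap A (Localization.AtPrime P) ((decompose 𝒜 x i : A) ^ d) ∈ Q' := by
      rw [← hc']; exact Q'.mul_mem_left _ h1
    have h3 : (decompose 𝒜 x i : A) ^ d ∈ Q := h2
    exact hQprime.mem_of_pow_mem d h3
  apply le_antisymm (IsLocalRing.le_maximalIdeal hQ'.ne_top)
  rw [← Localization.AtPrime.map_eq_maximalIdeal,
    ← IsLocalization.map_comap P.primeCompl (Localization.AtPrime P) Q']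
  exact Ideal.map_mono hPQ

/-- `A_(P)` is Cohen–Macaulay if `A_P` is. -/
theorem isCM_atPrime [IsNoetherianRing A]
    [IsNoetherianRing (HomogeneousLocalization.AtPrime 𝒜 P)]
    (hP : P.IsHomogeneous 𝒜) {d : ℕ} (hd : 0 < d) {f : A} (hf : f ∈ 𝒜 d) (hfP : f ∉ P)
    (hR : LocCoh.IsCohenMacaulayLocalRing (Localization.AtPrime P)) :
    LocCoh.IsCohenMacaulayLocalRing (HomogeneousLocalization.AtPrime 𝒜 P) := by
  haveI : IsNoetherianRing (Localization.AtPrime P) :=
    IsLocalization.isNoetherianRing P.primeCompl _ inferInstance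
  obtain ⟨n, hn⟩ := Groth.Agent.H29.CML.exists_nat_supportDim_eq
    (A := Localization.AtPrime P) (Localization.AtPrime P)
  rw [Module.supportDim_self_eq_ringKrullDim] at hn
  exact Groth.Agent.H73.PureCM.isCM_of_CP n _ _ _ (cp 𝒜 P) (f2 𝒜 P hP hd hf hfP) hR hn

open AlgebraicGeometry in
/-- The local rings of `Proj A` are Cohen–Macaulay if `A` is. -/
theorem main [hA : LocCoh.IsCohenMacaulayRing A] (x : Proj 𝒜) :
    LocCoh.IsCohenMacaulayLocalRing ((Proj 𝒜).presheaf.stalk x) := by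
  haveI : IsNoetherianRing A := hA.toIsNoetherian
  have hp : x.asHomogeneousIdeal.toIdeal.IsPrime := x.isPrime
  let e : (Proj 𝒜).presheaf.stalk x ≃+*
      HomogeneousLocalization.AtPrime 𝒜 x.asHomogeneousIdeal.toIdeal :=
    (Proj.stalkIso 𝒜 x).commRingCatIsoToRingEquiv
  haveI : IsNoetherian (Proj 𝒜) := Groth.Agent.H73.ProjNoethAG.isNoetherian_proj 𝒜
  haveI : IsNoetherianRing ((Proj 𝒜).presheaf.stalk x) := inferInstance
  haveI : IsNoetherianRing (HomogeneousLocalization.AtPrime 𝒜 x.asHomogeneousIdeal.toIdeal) :=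
    isNoetherianRing_of_ringEquiv _ e
  obtain ⟨f, m, hf, hm, hfP⟩ := Groth.Agent.H73.ProjS1.exists_homogeneous_not_mem 𝒜 x
  have hB := isCM_atPrime 𝒜 x.asHomogeneousIdeal.toIdeal x.asHomogeneousIdeal.isHomogeneous
    hm hf hfP (hA.isCohenMacaulayLocalRing_localization _)
  exact Groth.Agent.H49.isCohenMacaulayLocalRing_of_ringEquiv e.symm hB

end Groth.Agent.H73.ProjCM
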