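import Mathlib

/-!
# Normality of `Proj` of a normal graded ring

If `P` is a homogeneous prime of a graded ring `A` and `A_P` is an integrally closed domain,
then the homogeneous localization `A_(P)` is an integrally closed domain.
-/

set_option autoImplicit false
universe u

namespace Groth.Agent.H73.ProjNormal

open DirectSum HomogeneousLocalization

variable {A : Type u} [CommRing A] (𝒜 : ℕ → AddSubgroup A) [GradedRing 𝒜]
variable (P : Ideal A) [P.IsPrime]

/-- If `A_P` is a domain and `P` is homogeneous, the kernel of `A → A_P` is homogeneous. -/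
theorem ker_isHomogeneous [IsDomain (Localization.AtPrime P)] :
    (RingHom.ker (algebraMap A (Localization.AtPrime P))).IsHomogeneous 𝒜 := by
  set q := RingHom.ker (algebraMap A (Localization.AtPrime P)) with hq
  have hqprime : q.IsPrime := RingHom.ker_isPrime _
  have hq'prime : (q.homogeneousCore 𝒜).toIdeal.IsPrime := Ideal.IsPrime.homogeneousCore hqprime
  have hle : (q.homogeneousCore 𝒜).toIdeal ≤ q := Ideal.toIdeal_homogeneousCore_le 𝒜 q
  have hqP : q ≤ P := by
    intro z hz
    rw [hq, RingHom.mem_ker, IsLocalization.map_eq_zero_iff P.primeCompl] at hz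
    obtain ⟨m, hm⟩ := hz
    have : (m : A) * z ∈ P := by rw [hm]; exact zero_mem _
    exact (Ideal.IsPrime.mem_or_mem ‹_› this).resolve_left m.2
  have hdisj : Disjoint (P.primeCompl : Set A) ((q.homogeneousCore 𝒜).toIdeal : Set A) := by
    rw [Set.disjoint_left]
    intro a ha ha'
    exact ha (hqP (hle ha'))
  have hcomap := IsLocalization.under_map_of_isPrime_disjoint P.primeCompl
    (Localization.AtPrime P) hq'prime hdisj
  have hge : q ≤ (q.homogeneousCore 𝒜).toIdeal := by
    intro z hz
    rw [← hcomap, Ideal.mem_comap]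
    rw [hq, RingHom.mem_ker] at hz
    rw [hz]
    exact zero_mem _
  have : q = (q.homogeneousCore 𝒜).toIdeal := le_antisymm hge hle
  rw [this]
  exact (q.homogeneousCore 𝒜).isHomogeneous

/-- Divisibility in `A_P` between elements of `A_(P)` descends to `A_(P)`. -/
theorem exists_mul_eq [IsDomain (Localization.AtPrime P)]
    (a b : HomogeneousLocalization.AtPrime 𝒜 P) (c : Localization.AtPrime P)
    (h : c * b.val = a.val) : ∃ c' : HomogeneousLocalization.AtPrime 𝒜 P, c' * b = a := by
  classical
  obtain ⟨u, t, rfl⟩ := IsLocalization.exists_mk'_eq P.primeCompl c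
  have hker := ker_isHomogeneous 𝒜 P
  set q := RingHom.ker (algebraMap A (Localization.AtPrime P)) with hq
  -- the basic relation
  have hb : algebraMap A (Localization.AtPrime P) b.den * b.val =
      algebraMap A (Localization.AtPrime P) b.num := by
    rw [← Algebra.smul_def]; exact b.den_smul_val
  have ha : algebraMap A (Localization.AtPrime P) a.den * a.val =
      algebraMap A (Localization.AtPrime P) a.num := by
    rw [← Algebra.smul_def]; exact a.den_smul_val
  have hc : algebraMap A (Localization.AtPrime P) t *
      IsLocalization.mk' (Localization.AtPrime P) u t =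
      algebraMap A (Localization.AtPrime P) u := IsLocalization.mk'_spec' _ _ _
  have hz : u * (b.num * a.den) - t * (b.den * a.num) ∈ q := by
    rw [hq, RingHom.mem_ker, map_sub, sub_eq_zero]
    simp only [map_mul]
    rw [← hc, ← hb, ← ha, ← h]
    ring
  -- homogeneous components
  have hβ : b.num * a.den ∈ 𝒜 (b.deg + a.deg) :=
    SetLike.GradedMul.mul_mem b.num_mem_deg a.den_mem_deg
  have hα : b.den * a.num ∈ 𝒜 (b.deg + a.deg) :=
    SetLike.GradedMul.mul_mem b.den_mem_deg a.num_mem_deg
  have hcomp : ∀ j : ℕ, (decompose 𝒜 u j : A) * (b.num * a.den) -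
      (decompose 𝒜 t j : A) * (b.den * a.num) ∈ q := by
    intro j
    have := hker (j + (b.deg + a.deg)) hz
    rwa [decompose_sub, DirectSum.sub_apply, AddSubgroupClass.coe_sub,
      coe_decompose_mul_add_of_right_mem 𝒜 hβ, coe_decompose_mul_add_of_right_mem 𝒜 hα] at this
  -- a component of `t` outside `P`
  obtain ⟨j, hj⟩ : ∃ j : ℕ, (decompose 𝒜 (t : A) j : A) ∉ P := by
    by_contra hcon
    push Not at hcon
    apply t.2
    show (t : A) ∈ P
    rw [← DirectSum.sum_support_decompose 𝒜 (t : A)]
    exact Ideal.sum_mem _ fun i _ => hcon i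
  refine ⟨HomogeneousLocalization.mk ⟨j, ⟨decompose 𝒜 u j, SetLike.coe_mem _⟩,
    ⟨decompose 𝒜 (t : A) j, SetLike.coe_mem _⟩, hj⟩, ?_⟩
  apply HomogeneousLocalization.val_injective
  rw [val_mul, val_mk]
  have hcj := hcomp j
  rw [hq, RingHom.mem_ker, map_sub, sub_eq_zero] at hcj
  simp only [map_mul] at hcj
  have hunit : IsUnit (algebraMap A (Localization.AtPrime P) (decompose 𝒜 (t : A) j) *
      algebraMap A (Localization.AtPrime P) b.den * algebraMap A (Localization.AtPrime P) a.den) :=
    ((IsLocalization.map_units (Localization.AtPrime P) (⟨_, hj⟩ : P.primeCompl)).mul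
      (IsLocalization.map_units (Localization.AtPrime P) (⟨_, b.den_mem⟩ : P.primeCompl))).mul
      (IsLocalization.map_units (Localization.AtPrime P) (⟨_, a.den_mem⟩ : P.primeCompl))
  apply hunit.mul_left_cancel
  have hc' : algebraMap A (Localization.AtPrime P) (decompose 𝒜 (t : A) j) *
      Localization.mk (decompose 𝒜 u j : A) (⟨_, hj⟩ : P.primeCompl) =
      algebraMap A (Localization.AtPrime P) (decompose 𝒜 u j) := by
    rw [Localization.mk_eq_mk']
    exact IsLocalization.mk'_spec' (Localization.AtPrime P) _ (⟨_, hj⟩ : P.primeCompl)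
  calc _ = (algebraMap A (Localization.AtPrime P) (decompose 𝒜 (t : A) j) *
        Localization.mk (decompose 𝒜 u j : A) (⟨_, hj⟩ : P.primeCompl)) *
        (algebraMap A (Localization.AtPrime P) b.den * b.val) *
        algebraMap A (Localization.AtPrime P) a.den := by ring
    _ = algebraMap A (Localization.AtPrime P) (decompose 𝒜 (t : A) j) *
        algebraMap A (Localization.AtPrime P) b.den *
        (algebraMap A (Localization.AtPrime P) a.den * a.val) := by
      rw [hc', hb, ha]
      linear_combination hcj
    _ = _ := by ring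

instance isDomain [IsDomain (Localization.AtPrime P)] :
    IsDomain (HomogeneousLocalization.AtPrime 𝒜 P) :=
  Function.Injective.isDomain (algebraMap (HomogeneousLocalization.AtPrime 𝒜 P)
    (Localization.AtPrime P)) (HomogeneousLocalization.val_injective _)

theorem isIntegrallyClosed [IsDomain (Localization.AtPrime P)]
    [IsIntegrallyClosed (Localization.AtPrime P)] :
    IsIntegrallyClosed (HomogeneousLocalization.AtPrime 𝒜 P) := by
  set B := HomogeneousLocalization.AtPrime 𝒜 P
  set R := Localization.AtPrime P
  rw [isIntegrallyClosed_iff (FractionRing B)]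
  intro x hx
  set g : B →+* FractionRing R := (algebraMap R (FractionRing R)).comp (algebraMap B R) with hg
  have hginj : Function.Injective g :=
    (IsFractionRing.injective R (FractionRing R)).comp (HomogeneousLocalization.val_injective _)
  set φ : FractionRing B →+* FractionRing R := IsFractionRing.lift hginj with hφ
  have hint : IsIntegral R (φ x) := by
    refine IsIntegral.map_of_comp_eq (algebraMap B R) φ ?_ hx
    ext y
    simp only [RingHom.comp_apply, hφ, IsFractionRing.lift_algebraMap, hg]
  obtain ⟨c, hc⟩ := IsIntegrallyClosed.isIntegral_iff.mp hint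
  obtain ⟨a, b, hb, rfl⟩ := IsFractionRing.div_surjective B x
  have hb0 : algebraMap B (FractionRing B) b ≠ 0 :=
    IsFractionRing.to_map_ne_zero_of_mem_nonZeroDivisors hb
  have hgb0 : g b ≠ 0 := by
    rw [Ne, map_eq_zero_iff g hginj]
    exact nonZeroDivisors.ne_zero hb
  have hrel : c * b.val = a.val := by
    apply IsFractionRing.injective R (FractionRing R)
    rw [map_mul, hc, map_div₀, hφ, IsFractionRing.lift_algebraMap, IsFractionRing.lift_algebraMap]
    exact div_mul_cancel₀ _ hgb0
  obtain ⟨c', hc'⟩ := exists_mul_eq 𝒜 P a b c hrel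
  refine ⟨c', ?_⟩
  rw [← hc', map_mul]
  exact (mul_div_cancel_right₀ _ hb0).symm

end Groth.Agent.H73.ProjNormal
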