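import Mathlib

/-!
# Projectivity of a cokernel from fibrewise injectivity
-/

set_option autoImplicit false

universe u

namespace Groth.Agent.H73.ProjOpcycles

open TensorProduct

section modules

variable {A : Type u} [CommRing A]

/-- If `X₀ ⊗ K → X₁ ⊗ K → X₂ ⊗ K` is exact then `(X₁ / im X₀) ⊗ K → X₂ ⊗ K` is injective. -/
theorem rTensor_quotient_injective {X₀ X₁ X₂ : Type u}
    [AddCommGroup X₀] [AddCommGroup X₁] [AddCommGroup X₂]
    [Module A X₀] [Module A X₁] [Module A X₂]
    (d₀ : X₀ →ₗ[A] X₁) (d₁ : X₁ →ₗ[A] X₂)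
    (f : X₁ ⧸ LinearMap.range d₀ →ₗ[A] X₂) (hfq : f ∘ₗ (LinearMap.range d₀).mkQ = d₁)
    (K : Type u) [AddCommGroup K] [Module A K]
    (hex : Function.Exact (d₀.rTensor K) (d₁.rTensor K)) :
    Function.Injective (f.rTensor K) := by
  rw [injective_iff_map_eq_zero]
  intro z hz
  obtain ⟨y, rfl⟩ := LinearMap.rTensor_surjective K (Submodule.mkQ_surjective (LinearMap.range d₀)) z
  rw [← LinearMap.comp_apply, ← LinearMap.rTensor_comp, hfq] at hz
  obtain ⟨x, rfl⟩ := (hex y).mp hz
  rw [← LinearMap.comp_apply, ← LinearMap.rTensor_comp]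
  have : (LinearMap.range d₀).mkQ ∘ₗ d₀ = 0 := by
    ext x
    simp
  rw [this, LinearMap.rTensor_zero, LinearMap.zero_apply]

/-- Local-global: if `M → N → P → 0` is exact with `M` finite, `N` finite projective, `P` finitely
presented and `M ⊗ A/m → N ⊗ A/m` injective for every maximal ideal `m`, then `P` is projective. -/
theorem projective_of_rTensor_quotient_injective {M N P : Type u}
    [AddCommGroup M] [AddCommGroup N] [AddCommGroup P] [Module A M] [Module A N] [Module A P]
    (f : M →ₗ[A] N) (g : N →ₗ[A] P) (hg : Function.Surjective g) (h : Function.Exact f g)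
    [Module.Finite A M] [Module.Finite A N] [Module.Projective A N]
    [Module.FinitePresentation A P]
    (hf : ∀ (m : Ideal A) [m.IsMaximal], Function.Injective (f.rTensor (A ⧸ m))) :
    Module.Projective A P := by
  refine Module.projective_of_localization_maximal' (fun m _ => Localization.AtPrime m)
    (fun m _ => Localization.AtPrime m ⊗[A] P)
    (fun m _ => TensorProduct.mk A (Localization.AtPrime m) P 1) ?_
  intro m hm
  let R := Localization.AtPrime m
  let k := IsLocalRing.ResidueField R
  have hfin : Module.Finite R (R ⊗[A] N) := inferInstance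
  have hflat : Module.Flat R (R ⊗[A] N) := inferInstance
  have hfree : Module.Free R (R ⊗[A] N) := Module.free_of_flat_of_isLocalRing
  have hsurj : Function.Surjective (g.baseChange R) := by
    rw [LinearMap.baseChange_eq_ltensor]
    exact LinearMap.lTensor_surjective _ hg
  have hexact : Function.Exact (f.baseChange R) (g.baseChange R) := by
    rw [LinearMap.baseChange_eq_ltensor, LinearMap.baseChange_eq_ltensor]
    exact lTensor_exact _ h hg
  -- the `A`-linear equivalence `A ⧸ m ≃ k`
  let e : (A ⧸ m) ≃ₗ[A] k :=
    LinearEquiv.ofBijective ((Algebra.linearMap (A ⧸ m) m.ResidueField).restrictScalars A)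
      m.bijective_algebraMap_quotient_residueField
  have hinj1 : Function.Injective (f.lTensor k) := by
    rw [LinearMap.lTensor_inj_iff_rTensor_inj]
    have hcomm : (f.rTensor k) ∘ₗ (e.toLinearMap.lTensor M) =
        (e.toLinearMap.lTensor N) ∘ₗ (f.rTensor (A ⧸ m)) := by
      rw [LinearMap.rTensor_comp_lTensor, LinearMap.lTensor_comp_rTensor]
    have h3 : Function.Injective ((f.rTensor k) ∘ₗ (e.toLinearMap.lTensor M)) := by
      rw [hcomm]
      exact (e.lTensor N).injective.comp (hf m)
    intro x y hxy
    obtain ⟨x, rfl⟩ := (e.lTensor M).surjective x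
    obtain ⟨y, rfl⟩ := (e.lTensor M).surjective y
    exact congrArg _ (h3 hxy)
  have hinj : Function.Injective ((f.baseChange R).lTensor k) := by
    have hcomm : ∀ z, TensorProduct.AlgebraTensorModule.cancelBaseChange A R R k N
        (((f.baseChange R).lTensor k) z) =
        (f.lTensor k) (TensorProduct.AlgebraTensorModule.cancelBaseChange A R R k M z) := by
      intro z
      induction z using TensorProduct.induction_on with
      | zero => simp
      | tmul x w =>
        induction w using TensorProduct.induction_on with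
        | zero => simp
        | tmul a m => simp
        | add w w' hw hw' => simp only [tmul_add, map_add, hw, hw']
      | add z z' hz hz' => simp only [map_add, hz, hz']
    intro x y hxy
    have := congrArg (TensorProduct.AlgebraTensorModule.cancelBaseChange A R R k N) hxy
    rw [hcomm, hcomm] at this
    exact (TensorProduct.AlgebraTensorModule.cancelBaseChange A R R k M).injective (hinj1 this)
  have : Module.Free R (R ⊗[A] P) :=
    Module.free_of_lTensor_residueField_injective (f.baseChange R) (g.baseChange R) hsurj hexact hinj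
  infer_instance

end modules

open CategoryTheory CategoryTheory.Limits

/-- Exactness at `q` of a cochain complex of modules, as `Function.Exact`. -/
lemma function_exact_of_exactAt (A : Type u) [CommRing A]
    (K : CochainComplex (ModuleCat.{u} A) ℤ) (q : ℤ)
    (h : K.ExactAt q) : Function.Exact (K.d (q - 1) q).hom (K.d q (q + 1)).hom := by
  have hex : (K.sc' (q - 1) q (q + 1)).Exact :=
    (K.exactAt_iff' (q - 1) q (q + 1) (by simp) (by simp)).mp h
  exact (ShortComplex.ShortExact.moduleCat_exact_iff_function_exact _).mp hex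

theorem main (A : Type u) [CommRing A] [IsNoetherianRing A]
    (Q : CochainComplex (ModuleCat.{u} A) ℤ)
    (hQ : ∀ i, Module.Finite A (Q.X i) ∧ Module.Projective A (Q.X i)) (d : ℤ)
    (h2 : ∀ (m : Ideal A) [m.IsMaximal],
      IsZero ((((MonoidalCategory.tensorRight (ModuleCat.of A (A ⧸ m))).mapHomologicalComplex
        (ComplexShape.up ℤ)).obj Q).homology (d - 1))) :
    Module.Projective A (Q.opcycles d) := by
  obtain ⟨e, he⟩ : ∃ e : ℤ, e + 1 = d := ⟨d - 1, by omega⟩
  subst he
  have e1 : e + 1 - 1 = e := by omega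
  rw [e1] at h2
  let d₀ : Q.X (e - 1) →ₗ[A] Q.X e := (Q.d (e - 1) e).hom
  let d₁ : Q.X e →ₗ[A] Q.X (e + 1) := (Q.d e (e + 1)).hom
  have hdd : ∀ x, d₁ (d₀ x) = 0 := by
    intro x
    show ((Q.d (e - 1) e) ≫ (Q.d e (e + 1))).hom x = 0
    rw [Q.d_comp_d]
    rfl
  let f : (Q.X e ⧸ LinearMap.range d₀) →ₗ[A] Q.X (e + 1) :=
    (LinearMap.range d₀).liftQ d₁ (by
      rintro _ ⟨x, rfl⟩
      exact hdd x)
  have hfq : f ∘ₗ (LinearMap.range d₀).mkQ = d₁ := Submodule.liftQ_mkQ _ _ _
  let g : Q.X (e + 1) →ₗ[A] Q.opcycles (e + 1) := (Q.pOpcycles (e + 1)).hom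
  have hg : Function.Surjective g := (ModuleCat.epi_iff_surjective _).mp inferInstance
  have hex0 : (ShortComplex.mk (Q.d e (e + 1)) (Q.pOpcycles (e + 1))
      (Q.d_pOpcycles e (e + 1))).Exact :=
    ShortComplex.exact_of_g_is_cokernel _ (Q.opcyclesIsCokernel e (e + 1) (by simp))
  have hex1 : Function.Exact d₁ g :=
    (ShortComplex.ShortExact.moduleCat_exact_iff_function_exact _).mp hex0
  have hrange : LinearMap.range f = LinearMap.range d₁ := by
    rw [← hfq, LinearMap.range_comp, Submodule.range_mkQ, Submodule.map_top]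
  have hex : Function.Exact f g := by
    intro y
    rw [hex1 y]
    show y ∈ LinearMap.range d₁ ↔ y ∈ LinearMap.range f
    rw [hrange]
  have := (hQ e).1
  have := (hQ (e + 1)).1
  have := (hQ (e + 1)).2
  have : Module.Finite A (Q.opcycles (e + 1)) := Module.Finite.of_surjective g hg
  have : Module.FinitePresentation A (Q.opcycles (e + 1)) :=
    Module.finitePresentation_of_finite A _
  refine projective_of_rTensor_quotient_injective f g hg hex (fun m _ => ?_)
  refine rTensor_quotient_injective d₀ d₁ f hfq (A ⧸ m) ?_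
  have h3 := function_exact_of_exactAt A _ e
    ((HomologicalComplex.exactAt_iff_isZero_homology _ _).mpr (h2 m))
  exact h3

end Groth.Agent.H73.ProjOpcycles
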