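import Mathlib
import Groth.Agent.H73.FinInterVal

/-!
# Primes of a finite intersection of valuation subrings

Every prime of `B = (⋂ 𝒱 i) ∩ K` is the contraction of a prime of one of the valuation rings
`𝒱 i ∩ K`.
-/

set_option autoImplicit false
universe u

namespace Groth.Agent.H73.PruferDim

open Groth.Agent.H73.FinInterVal

variable {L : Type u} [Field L] {ι : Type*} [Finite ι] [Nonempty ι]
  (𝒱 : ι → ValuationSubring L) (K : Subfield L)

/-- The valuation subring `𝒱 i ∩ K` of `K`. -/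
def W (i : ι) : ValuationSubring K := (𝒱 i).comap K.subtype

/-- The inclusion `B → 𝒱 i ∩ K`. -/
def ψ (i : ι) : B 𝒱 K →+* W 𝒱 K i :=
  RingHom.codRestrict
    (RingHom.codRestrict (B 𝒱 K).subtype K (fun b => (mem_B.mp b.2).2)) (W 𝒱 K i)
    (fun b => (mem_B.mp b.2).1 i)

omit [Finite ι] [Nonempty ι] in
@[simp] lemma ψ_coe (i : ι) (b : B 𝒱 K) : (((ψ 𝒱 K i b : W 𝒱 K i) : K) : L) = (b : L) := rfl

omit [Finite ι] [Nonempty ι] in
lemma ψ_injective (i : ι) : Function.Injective (ψ 𝒱 K i) := by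
  intro a b h
  apply Subtype.ext
  have := congrArg (fun w : W 𝒱 K i => ((w : K) : L)) h
  simpa using this

/-- Elements of `W i` are fractions of elements of `B` with denominator outside the centre. -/
lemma exists_frac_W (i : ι) (w : W 𝒱 K i) :
    ∃ a b : B 𝒱 K, b ∉ p 𝒱 K i ∧ ψ 𝒱 K i b * w = ψ 𝒱 K i a := by
  have hwK : ((w : K) : L) ∈ K := (w : K).2
  have hwV : ((w : K) : L) ∈ 𝒱 i := w.2
  obtain ⟨a, b, ha, hb, hb0, hxe, hval⟩ := exists_frac (𝒱 := 𝒱) hwK
  refine ⟨⟨a, ha⟩, ⟨b, hb⟩, ?_, ?_⟩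
  · rw [mem_p, hval i hwV]
    exact lt_irrefl _
  · apply Subtype.ext
    apply Subtype.ext
    show b * ((w : K) : L) = a
    rw [hxe, mul_div_cancel₀ _ hb0]

/-- Every prime of `B` contained in the centre `p i` is the contraction of a prime of `W i`. -/
theorem exists_comap_eq_of_le (i : ι) (P : Ideal (B 𝒱 K)) [hP : P.IsPrime] (hle : P ≤ p 𝒱 K i) :
    ∃ Q : Ideal (W 𝒱 K i), Q.IsPrime ∧ Q.comap (ψ 𝒱 K i) = P := by
  rw [← Ideal.comap_map_eq_self_iff_of_isPrime]
  refine le_antisymm ?_ Ideal.le_comap_map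
  intro x hx
  rw [Ideal.mem_comap] at hx
  -- every element of the extended ideal is a fraction `y / c` with `y ∈ P`, `c ∉ p i`
  have key : ∀ z ∈ Ideal.map (ψ 𝒱 K i) P, ∃ c y : B 𝒱 K, c ∉ p 𝒱 K i ∧ y ∈ P ∧
      ψ 𝒱 K i c * z = ψ 𝒱 K i y := by
    intro z hz
    induction hz using Submodule.span_induction with
    | mem z hz =>
      obtain ⟨y, hy, rfl⟩ := hz
      exact ⟨1, y, (p_isPrime i).one_notMem, hy, by rw [map_one, one_mul]⟩
    | zero => exact ⟨1, 0, (p_isPrime i).one_notMem, P.zero_mem, by simp⟩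
    | add z₁ z₂ _ _ h₁ h₂ =>
      obtain ⟨c₁, y₁, hc₁, hy₁, e₁⟩ := h₁
      obtain ⟨c₂, y₂, hc₂, hy₂, e₂⟩ := h₂
      refine ⟨c₁ * c₂, c₂ * y₁ + c₁ * y₂, ?_, ?_, ?_⟩
      · intro h
        rcases (p_isPrime i).mem_or_mem h with h | h
        · exact hc₁ h
        · exact hc₂ h
      · exact P.add_mem (P.mul_mem_left _ hy₁) (P.mul_mem_left _ hy₂)
      · rw [map_mul, map_add, map_mul, map_mul, ← e₁, ← e₂]
        ring
    | smul w z _ h =>
      obtain ⟨c, y, hc, hy, e⟩ := h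
      obtain ⟨a', b', hb', e'⟩ := exists_frac_W 𝒱 K i w
      refine ⟨b' * c, a' * y, ?_, P.mul_mem_left _ hy, ?_⟩
      · intro h
        rcases (p_isPrime i).mem_or_mem h with h | h
        · exact hb' h
        · exact hc h
      · rw [map_mul, map_mul, ← e, ← e', smul_eq_mul]
        ring
  obtain ⟨c, y, hc, hy, e⟩ := key _ hx
  rw [← map_mul] at e
  have hcx : c * x = y := ψ_injective 𝒱 K i e
  have : c * x ∈ P := hcx ▸ hy
  rcases hP.mem_or_mem this with h | h
  · exact absurd (hle h) hc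
  · exact h

/-- If all the `𝒱 i ∩ K` have finite spectrum, so does `B`. -/
theorem finite_primeSpectrum (h : ∀ i, Finite (PrimeSpectrum (W 𝒱 K i))) :
    Finite (PrimeSpectrum (B 𝒱 K)) := by
  let f : (Σ i, PrimeSpectrum (W 𝒱 K i)) → PrimeSpectrum (B 𝒱 K) :=
    fun x => ⟨x.2.asIdeal.comap (ψ 𝒱 K x.1), inferInstance⟩
  apply Finite.of_surjective f
  intro P
  obtain ⟨i, hi⟩ := exists_le_p P.asIdeal
  obtain ⟨Q, hQ, hQP⟩ := exists_comap_eq_of_le 𝒱 K i P.asIdeal hi
  exact ⟨⟨i, ⟨Q, hQ⟩⟩, PrimeSpectrum.ext hQP⟩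

omit [Finite ι] [Nonempty ι] in
/-- A finite partial order has finite Krull dimension. -/
theorem krullDim_lt_top_of_finite {α : Type*} [PartialOrder α] [Finite α] :
    Order.krullDim α < ⊤ := by
  have h : Order.krullDim α ≤ ((Nat.card α : ℕ) : WithBot ℕ∞) := by
    rw [Order.krullDim]
    refine iSup_le (fun s => ?_)
    have hinj : Function.Injective s.toFun := s.strictMono.injective
    have h1 := Nat.card_le_card_of_injective _ hinj
    rw [Nat.card_eq_fintype_card, Fintype.card_fin] at h1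
    have h2 : s.length ≤ Nat.card α := by omega
    exact_mod_cast h2
  refine lt_of_le_of_lt h ?_
  exact WithBot.coe_lt_coe.mpr (ENat.natCast_lt_top _)

end Groth.Agent.H73.PruferDim
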