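import Groth.Agent.H73.FinInterVal

/-!
# `R ∩ K` for a semilocal Prüfer domain `R` and a subfield `K` of its fraction field
-/

set_option autoImplicit false
universe u

namespace Groth.Agent.H73.PruferInter

open Groth.Agent.H73.FinInterVal

variable (R L : Type u) [CommRing R] [IsDomain R] [Field L] [Algebra R L] [IsFractionRing R L]
  (hR : ∀ (p : Ideal R) [p.IsPrime], ValuationRing (Localization.AtPrime p))

/-- The localization of `R` at a maximal ideal, as a valuation subring of `L`. -/
noncomputable def val (m : MaximalSpectrum R) : ValuationSubring L :=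
  .ofSubring (Localization.subalgebra.ofField L _ m.asIdeal.primeCompl_le_nonZeroDivisors).toSubring
    fun x => by
      have hv : ValuationRing
          (Localization.subalgebra.ofField L _ m.asIdeal.primeCompl_le_nonZeroDivisors) := by
        have := hR m.asIdeal
        exact Function.Surjective.valuationRing
          (IsLocalization.algEquiv m.asIdeal.primeCompl (Localization.AtPrime m.asIdeal)
            (Localization.subalgebra.ofField L _
              m.asIdeal.primeCompl_le_nonZeroDivisors)).toRingEquiv.toRingHom
          (IsLocalization.algEquiv m.asIdeal.primeCompl (Localization.AtPrime m.asIdeal)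
            (Localization.subalgebra.ofField L _
              m.asIdeal.primeCompl_le_nonZeroDivisors)).surjective
      simpa [IsLocalization.IsInteger] using ValuationRing.isInteger_or_isInteger
        (Localization.subalgebra.ofField L _ m.asIdeal.primeCompl_le_nonZeroDivisors) x

theorem range_eq_iInf :
    (algebraMap R L).range = ⨅ m : MaximalSpectrum R, (val R L hR m).toSubring := by
  ext x
  have h := MaximalSpectrum.iInf_localization_eq_bot R L
  have h1 : x ∈ (⊥ : Subalgebra R L) ↔ x ∈ (algebraMap R L).range := by
    rw [Algebra.mem_bot]; rfl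
  rw [← h1, ← h, Algebra.mem_iInf, Subring.mem_iInf]
  rfl

include hR in
theorem main (hfin : Finite (MaximalSpectrum R)) (K : Subfield L) :
    (∀ (p : Ideal ↥((algebraMap R L).range ⊓ K.toSubring)) [p.IsPrime],
        ValuationRing (Localization.AtPrime p)) ∧
      Finite (MaximalSpectrum ↥((algebraMap R L).range ⊓ K.toSubring)) ∧
      ∀ x : L, x ∈ K → ∃ a b : L, a ∈ (algebraMap R L).range ⊓ K.toSubring ∧
        b ∈ (algebraMap R L).range ⊓ K.toSubring ∧ b ≠ 0 ∧ x = a / b := by
  have hne : Nonempty (MaximalSpectrum R) := by
    obtain ⟨m, hm⟩ := Ideal.exists_maximal R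
    exact ⟨⟨m, hm⟩⟩
  have hB : (algebraMap R L).range ⊓ K.toSubring = B (val R L hR) K := by
    rw [range_eq_iInf R L hR]; rfl
  rw [hB]
  refine ⟨fun p _ => valuationRing_localization p, finite_maximalSpectrum, fun x hx => ?_⟩
  obtain ⟨a, b, ha, hb, hb0, hxe, -⟩ := exists_frac (𝒱 := val R L hR) hx
  exact ⟨a, b, ha, hb, hb0, hxe⟩

end Groth.Agent.H73.PruferInter
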