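import Mathlib.RingTheory.Valuation.ValuationRing
import Mathlib.RingTheory.Localization.AtPrime.Basic
import Mathlib.RingTheory.KrullDimension.Basic
import Mathlib.RingTheory.Spectrum.Maximal.Basic
import Mathlib.RingTheory.Ideal.Operations
import Mathlib.Order.KrullDimension

set_option autoImplicit false

universe u

namespace Groth.Agent.H73

/-- A totally ordered partial order of finite Krull dimension is finite. -/
lemma finite_of_total_of_krullDim_lt_top {α : Type*} [PartialOrder α]
    (htot : ∀ a b : α, a ≤ b ∨ b ≤ a) (h : Order.krullDim α < ⊤) : Finite α := by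
  classical
  by_contra hinf
  rw [not_finite_iff_infinite] at hinf
  let _ : LinearOrder α :=
    { (inferInstance : PartialOrder α) with
      le_total := htot
      toDecidableLE := Classical.decRel _ }
  apply h.ne
  rw [ENat.WithBot.eq_top_iff_forall_ge]
  intro n
  rw [Order.le_krullDim_iff]
  obtain ⟨s, hs⟩ := Infinite.exists_subset_card_eq α (n + 1)
  refine ⟨⟨n, fun i => s.orderEmbOfFin hs i, fun i => ?_⟩, rfl⟩
  exact (s.orderEmbOfFin hs).strictMono (Fin.castSucc_lt_succ)

variable (R : Type u) [CommRing R]

/-- A ring with finitely many maximal ideals, all of whose localizations at maximal ideals are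
valuation rings, and of finite Krull dimension, has finite spectrum. -/
theorem finite_primeSpectrum_of_prufer [IsDomain R]
    (hR : ∀ (p : Ideal R) [p.IsPrime], ValuationRing (Localization.AtPrime p))
    (hfin : Finite (MaximalSpectrum R)) (hdim : ringKrullDim R < ⊤) :
    Finite (PrimeSpectrum R) := by
  have hm : ∀ m : MaximalSpectrum R, (Set.Iic m.toPrimeSpectrum).Finite := by
    intro m
    have := m.isMaximal.isPrime
    have hV : ValuationRing (Localization.AtPrime m.asIdeal) := hR m.asIdeal
    let e : PrimeSpectrum (Localization.AtPrime m.asIdeal) ≃o Set.Iic m.toPrimeSpectrum :=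
      IsLocalization.AtPrime.primeSpectrumOrderIso (Localization.AtPrime m.asIdeal) m.asIdeal
    have htot : ∀ a b : Set.Iic m.toPrimeSpectrum, a ≤ b ∨ b ≤ a := by
      intro a b
      rcases (ValuationRing.le_total_ideal (A := Localization.AtPrime m.asIdeal)).total
        (e.symm a).asIdeal (e.symm b).asIdeal with h | h
      · left
        have : e.symm a ≤ e.symm b := h
        exact e.symm.le_iff_le.mp this
      · right
        have : e.symm b ≤ e.symm a := h
        exact e.symm.le_iff_le.mp this
    have hdim' : Order.krullDim (Set.Iic m.toPrimeSpectrum) < ⊤ :=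
      lt_of_le_of_lt (Order.krullDim_le_of_strictMono (fun x => x.1) (fun _ _ h => h)) hdim
    exact Set.finite_coe_iff.mp (finite_of_total_of_krullDim_lt_top htot hdim')
  have huniv : (Set.univ : Set (PrimeSpectrum R)) = ⋃ m : MaximalSpectrum R,
      Set.Iic m.toPrimeSpectrum := by
    ext p
    simp only [Set.mem_univ, Set.mem_iUnion, Set.mem_Iic, true_iff]
    obtain ⟨M, hM, hpM⟩ := Ideal.exists_le_maximal p.asIdeal p.isPrime.ne_top
    exact ⟨⟨M, hM⟩, hpM⟩
  rw [← Set.finite_univ_iff, huniv]
  exact Set.finite_iUnion hm

end Groth.Agent.H73
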