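import Mathlib

/-!
# Krull dimension of valuation subrings of fields of finite transcendence degree

If `K` has transcendence degree `d` over its prime field, every valuation subring of `K` has
Krull dimension at most `d + 1`.
-/

set_option autoImplicit false

universe u

namespace Groth.Agent.H73.ValDim

open MvPolynomial

section core

variable {R₀ : Type*} [CommRing R₀] [IsNoetherianRing R₀] [IsDomain R₀] {ι : Type*} [Finite ι]
  {A : Type*} [CommRing A]

/-- If a chain of primes of `A` pulls back to a strict chain in a polynomial ring over `R₀` in the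
variables `ι` and the chain is longer than `dim R₀ + #ι - 1`, then the map from the polynomial
ring is injective. -/
theorem injective_of_chain (φ : MvPolynomial ι R₀ →+* A) (s : LTSeries (PrimeSpectrum A))
    (hs : ∀ i : Fin s.length, ∃ f, φ f ∈ (s i.succ).asIdeal ∧ φ f ∉ (s i.castSucc).asIdeal)
    (hdim : ringKrullDim R₀ + (Nat.card ι : WithBot ℕ∞) < ((s.length + 1 : ℕ) : WithBot ℕ∞)) :
    Function.Injective φ := by
  by_contra hinj
  have hker : RingHom.ker φ ≠ ⊥ := by rwa [Ne, ← RingHom.injective_iff_ker_eq_bot]
  let Q : Fin (s.length + 1) → PrimeSpectrum (MvPolynomial ι R₀) :=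
    fun i => ⟨(s i).asIdeal.comap φ, inferInstance⟩
  let t' : LTSeries (PrimeSpectrum (MvPolynomial ι R₀)) :=
    { length := s.length
      toFun := Q
      step := fun i => by
        obtain ⟨f, hf1, hf2⟩ := hs i
        have hle : (Q i.castSucc).asIdeal ≤ (Q i.succ).asIdeal :=
          Ideal.comap_mono (PrimeSpectrum.asIdeal_le_asIdeal _ _ |>.mpr (s.step i).le)
        show Q i.castSucc < Q i.succ
        rw [← PrimeSpectrum.asIdeal_lt_asIdeal]
        exact lt_of_le_of_ne hle (fun h => hf2 (by
          have : f ∈ (Q i.succ).asIdeal := hf1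
          rw [← h] at this
          exact this)) }
  have hbot : (⟨⊥, Ideal.isPrime_bot⟩ : PrimeSpectrum (MvPolynomial ι R₀)) < t'.head := by
    rw [← PrimeSpectrum.asIdeal_lt_asIdeal]
    show (⊥ : Ideal (MvPolynomial ι R₀)) < (s 0).asIdeal.comap φ
    refine lt_of_lt_of_le (bot_lt_iff_ne_bot.mpr hker) ?_
    exact Ideal.comap_mono bot_le
  let t := t'.cons ⟨⊥, Ideal.isPrime_bot⟩ hbot
  have h1 : ((t.length : ℕ) : WithBot ℕ∞) ≤ ringKrullDim (MvPolynomial ι R₀) :=
    Order.LTSeries.length_le_krullDim t
  rw [MvPolynomial.ringKrullDim_of_isNoetherianRing] at h1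
  have h2 : t.length = s.length + 1 := by simp [t, t']
  rw [h2] at h1
  exact absurd h1 (not_le.mpr hdim)

end core

section valuation

variable {K : Type u} [Field K] (A : ValuationSubring K)

/-- Choice of elements witnessing strictness of a chain of primes. -/
lemma exists_witness (s : LTSeries (PrimeSpectrum A)) (i : Fin s.length) :
    ∃ x : A, x ∈ (s i.succ).asIdeal ∧ x ∉ (s i.castSucc).asIdeal := by
  have h : (s i.castSucc).asIdeal < (s i.succ).asIdeal :=
    (PrimeSpectrum.asIdeal_lt_asIdeal _ _).mpr (s.step i)
  exact SetLike.exists_of_lt h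

/-- Equal characteristic case: if the prime field is contained in `A`, chains of primes of `A`
have length at most the transcendence degree over the prime field. -/
theorem length_le_of_bot_le (hT : ∀ c ∈ (⊥ : Subfield K), c ∈ A) (d : ℕ)
    (hd : Algebra.trdeg (⊥ : Subfield K) K = d) (s : LTSeries (PrimeSpectrum A)) :
    s.length ≤ d := by
  classical
  choose x hx1 hx2 using exists_witness A s
  let ψ : (⊥ : Subfield K) →+* A :=
    RingHom.codRestrict (⊥ : Subfield K).subtype A (fun c => hT c c.2)
  let φ : MvPolynomial (Fin s.length) (⊥ : Subfield K) →+* A := MvPolynomial.eval₂Hom ψ x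
  have hinj : Function.Injective φ := by
    refine injective_of_chain φ s (fun i => ⟨X i, ?_, ?_⟩) ?_
    · simpa [φ] using hx1 i
    · simpa [φ] using hx2 i
    · rw [ringKrullDim_eq_zero_of_field, Nat.card_eq_fintype_card, Fintype.card_fin, zero_add]
      exact_mod_cast Nat.lt_succ_self _
  have hcomp : (MvPolynomial.aeval (fun i => (x i : K)) :
      MvPolynomial (Fin s.length) (⊥ : Subfield K) →ₐ[(⊥ : Subfield K)] K).toRingHom =
      A.subtype.comp φ := by
    apply MvPolynomial.ringHom_ext
    · intro c
      simp [φ, ψ]
      rfl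
    · intro i
      simp [φ]
  have hai : AlgebraicIndependent (⊥ : Subfield K) (fun i => (x i : K)) := by
    rw [algebraicIndependent_iff_injective_aeval]
    have : Function.Injective (A.subtype.comp φ) :=
      (Subtype.val_injective).comp hinj
    rw [← hcomp] at this
    exact this
  have hle := hai.lift_cardinalMk_le_trdeg
  rw [hd, Cardinal.mk_fin] at hle
  simpa using hle

/-- Mixed characteristic case: if a nonzero integer `N` lies in the last prime of a chain and not
in the first one, the chain has length at most `trdeg + 1`. -/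
theorem length_le_of_int (N : ℤ) (d : ℕ)
    (hd : Algebra.trdeg ℤ K = d) (s : LTSeries (PrimeSpectrum A))
    (hhead : (N : A) ∉ (s.head).asIdeal) (hlast : (N : A) ∈ (s.last).asIdeal) :
    s.length ≤ d + 1 := by
  classical
  have hex : ∃ i : Fin s.length, (N : A) ∈ (s i.succ).asIdeal ∧
      (N : A) ∉ (s i.castSucc).asIdeal := by
    by_contra hne
    push Not at hne
    have : ∀ i : Fin (s.length + 1), (N : A) ∉ (s i).asIdeal := by
      intro i
      induction i using Fin.induction with
      | zero => exact hhead
      | succ i ih => exact fun h => ih (hne i h)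
    exact this (Fin.last _) hlast
  obtain ⟨i₀, hi1, hi2⟩ := hex
  choose x hx1 hx2 using exists_witness A s
  let ι := {i : Fin s.length // i ≠ i₀}
  let x' : ι → A := fun j => x j.1
  let φ : MvPolynomial ι ℤ →+* A := MvPolynomial.eval₂Hom (Int.castRingHom A) x'
  have hcard : Nat.card ι = s.length - 1 := by
    rw [Nat.card_eq_fintype_card]
    simp [ι, Fintype.card_subtype_compl]
  have hpos : 0 < s.length := i₀.pos
  have hinj : Function.Injective φ := by
    refine injective_of_chain φ s (fun i => ?_) ?_
    · by_cases h : i = i₀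
      · subst h
        refine ⟨C N, ?_, ?_⟩
        · simpa [φ] using hi1
        · simpa [φ] using hi2
      · refine ⟨X ⟨i, h⟩, ?_, ?_⟩
        · simpa [φ, x'] using hx1 i
        · simpa [φ, x'] using hx2 i
    · rw [IsPrincipalIdealRing.ringKrullDim_eq_one ℤ Int.not_isField, hcard]
      have : 1 + (s.length - 1) < s.length + 1 := by omega
      exact_mod_cast this
  have hcomp : (MvPolynomial.aeval (fun j => (x' j : K)) :
      MvPolynomial ι ℤ →ₐ[ℤ] K).toRingHom = A.subtype.comp φ := by
    apply MvPolynomial.ringHom_ext
    · intro c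
      simp [φ]
    · intro i
      simp [φ]
  have hai : AlgebraicIndependent ℤ (fun j => (x' j : K)) := by
    rw [algebraicIndependent_iff_injective_aeval]
    have : Function.Injective (A.subtype.comp φ) :=
      (Subtype.val_injective).comp hinj
    rw [← hcomp] at this
    exact this
  have hle := hai.lift_cardinalMk_le_trdeg
  rw [hd, Cardinal.mk_fintype] at hle
  have h2 : Fintype.card ι ≤ d := by simpa using hle
  rw [← Nat.card_eq_fintype_card, hcard] at h2
  omega

omit A in
/-- In characteristic zero the transcendence degree over `ℤ` is the one over the prime field. -/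
lemma trdeg_int_eq [CharZero K] : Algebra.trdeg ℤ K = Algebra.trdeg (⊥ : Subfield K) K := by
  have halg : Algebra.IsAlgebraic ℤ (⊥ : Subfield K) := by
    constructor
    intro c
    have hc : (c : K) ∈ (algebraMap ℚ K).fieldRange := by
      rw [← Subfield.bot_eq_of_charZero]
      exact c.2
    obtain ⟨q, hq⟩ := hc
    have hq' : IsAlgebraic ℤ q :=
      (IsLocalization.isAlgebraic (S := ℚ) (nonZeroDivisors ℤ)).isAlgebraic q
    have h1 : IsAlgebraic ℤ (algebraMap ℚ K q) := hq'.algebraMap
    rw [hq] at h1
    exact (isAlgebraic_algebraMap_iff (A := K) (S := (⊥ : Subfield K))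
      Subtype.val_injective).mp h1
  have h0 : Algebra.trdeg ℤ (⊥ : Subfield K) = 0 := trdeg_eq_zero
  have := trdeg_add_eq ℤ (⊥ : Subfield K) (A := K)
  rw [h0, zero_add] at this
  exact this.symm

/-- Either the prime field is contained in `A`, or `K` has characteristic zero and some nonzero
integer is a nonunit of `A`. -/
lemma bot_le_or_exists_int : (∀ c ∈ (⊥ : Subfield K), c ∈ A) ∨
    (CharZero K ∧ ∃ N : ℤ, (N : K) ≠ 0 ∧ (N : K)⁻¹ ∉ A) := by
  obtain ⟨p, hp⟩ := CharP.exists K
  rcases CharP.char_is_prime_or_zero K p with hpp | rfl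
  · left
    have : Fact p.Prime := ⟨hpp⟩
    let _ : Algebra (ZMod p) K := ZMod.algebra K p
    intro c hc
    rw [Subfield.bot_eq_of_zMod_algebra p] at hc
    obtain ⟨z, rfl⟩ := hc
    have h1 : algebraMap (ZMod p) K z = ((z.val : ℕ) : K) := by
      conv_lhs => rw [← ZMod.natCast_zmod_val z]
      rw [map_natCast]
    rw [h1]
    exact natCast_mem A _
  · have : CharZero K := CharP.charP_to_charZero K
    by_cases h : ∀ N : ℤ, (N : K) ≠ 0 → (N : K)⁻¹ ∈ A
    · left
      intro c hc
      rw [Subfield.bot_eq_of_charZero] at hc
      obtain ⟨q, rfl⟩ := hc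
      rw [eq_ratCast, Rat.cast_def, div_eq_mul_inv]
      refine A.mul_mem _ _ (intCast_mem A _) ?_
      have h2 := h (q.den : ℤ) (by
        have : (q.den : K) ≠ 0 := by exact_mod_cast q.den_ne_zero
        simp)
      simpa using h2
    · right
      push Not at h
      exact ⟨inferInstance, h⟩

/-- Every valuation subring of a field of transcendence degree `d` over its prime field has Krull
dimension at most `d + 1`. -/
theorem ringKrullDim_le (d : ℕ) (hd : Algebra.trdeg (⊥ : Subfield K) K = d) :
    ringKrullDim A ≤ ((d + 1 : ℕ) : WithBot ℕ∞) := by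
  rw [ringKrullDim, Order.krullDim]
  refine iSup_le (fun s => ?_)
  have key : s.length ≤ d + 1 := by
    rcases bot_le_or_exists_int A with hT | ⟨hchar, N, hN0, hN⟩
    · exact (length_le_of_bot_le A hT d hd s).trans (Nat.le_succ d)
    · have hd' : Algebra.trdeg ℤ K = d := by rw [trdeg_int_eq, hd]
      have hNA0 : (N : A) ≠ 0 := by
        intro h0
        apply hN0
        have := congrArg (A.subtype) h0
        simpa using this
      have hNmax : (N : A) ∈ IsLocalRing.maximalIdeal A := by
        rw [IsLocalRing.mem_maximalIdeal, mem_nonunits_iff]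
        intro hu
        obtain ⟨u, hu⟩ := hu.exists_right_inv
        apply hN
        have h1 : ((N : A) : K) * (u : K) = 1 := by
          have := congrArg (A.subtype) hu
          simpa using this
        have h2 : (N : K)⁻¹ = (u : K) := by
          have h3 : (N : K) * (u : K) = 1 := by simpa using h1
          exact inv_eq_of_mul_eq_one_right h3
        rw [h2]
        exact u.2
      -- first surgery: make sure `N` is not in the head
      obtain ⟨s₁, hs₁len, hs₁head⟩ : ∃ s₁ : LTSeries (PrimeSpectrum A),
          s.length ≤ s₁.length ∧ (N : A) ∉ (s₁.head).asIdeal := by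
        by_cases hh : (N : A) ∈ (s.head).asIdeal
        · have hlt : (⟨⊥, Ideal.isPrime_bot⟩ : PrimeSpectrum A) < s.head := by
            rw [← PrimeSpectrum.asIdeal_lt_asIdeal]
            refine bot_lt_iff_ne_bot.mpr (fun hb => hNA0 ?_)
            rw [hb] at hh
            exact hh
          refine ⟨s.cons ⟨⊥, Ideal.isPrime_bot⟩ hlt, by simp, ?_⟩
          rw [RelSeries.head_cons]
          exact hNA0
        · exact ⟨s, le_rfl, hh⟩
      -- second surgery: make sure `N` is in the last prime
      obtain ⟨s₂, hs₂len, hs₂head, hs₂last⟩ : ∃ s₂ : LTSeries (PrimeSpectrum A),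
          s₁.length ≤ s₂.length ∧ (N : A) ∉ (s₂.head).asIdeal ∧
            (N : A) ∈ (s₂.last).asIdeal := by
        by_cases hl : (N : A) ∈ (s₁.last).asIdeal
        · exact ⟨s₁, le_rfl, hs₁head, hl⟩
        · have hlt : s₁.last < IsLocalRing.closedPoint A := by
            rw [← PrimeSpectrum.asIdeal_lt_asIdeal]
            refine lt_of_le_of_ne (IsLocalRing.le_maximalIdeal s₁.last.2.ne_top) ?_
            intro he
            apply hl
            rw [he]
            exact hNmax
          refine ⟨s₁.snoc (IsLocalRing.closedPoint A) hlt, by simp, ?_, ?_⟩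
          · rw [RelSeries.head_snoc]
            exact hs₁head
          · rw [RelSeries.last_snoc]
            exact hNmax
      have := length_le_of_int A N d hd' s₂ hs₂head hs₂last
      omega
  exact_mod_cast key

end valuation

end Groth.Agent.H73.ValDim
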