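import Mathlib
import Groth.Agent.H73.ValDim

/-!
# Finiteness of the spectrum of valuation subrings of finitely generated fields
-/

set_option autoImplicit false

universe u

namespace Groth.Agent.H73.ValFinite

section order

/-- A totally ordered partial order of finite Krull dimension is finite. -/
theorem finite_of_krullDim_le {α : Type*} [PartialOrder α] (htot : ∀ a b : α, a ≤ b ∨ b ≤ a)
    (n : ℕ) (h : Order.krullDim α ≤ (n : WithBot ℕ∞)) : Finite α := by
  classical
  by_contra hinf
  rw [not_finite_iff_infinite] at hinf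
  let _ : LinearOrder α :=
    { (inferInstance : PartialOrder α) with
      le_total := htot
      toDecidableLE := Classical.decRel _ }
  obtain ⟨s, hs⟩ := Infinite.exists_subset_card_eq α (n + 2)
  let e := s.orderEmbOfFin hs
  let t : LTSeries α := LTSeries.mk (n + 1) (fun i => e i) (fun i j hij => e.strictMono hij)
  have h1 : ((t.length : ℕ) : WithBot ℕ∞) ≤ Order.krullDim α := Order.LTSeries.length_le_krullDim t
  have h2 : ((n + 1 : ℕ) : WithBot ℕ∞) ≤ (n : WithBot ℕ∞) := h1.trans h
  have h3 : n + 1 ≤ n := by exact_mod_cast h2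
  omega

end order

section trdeg

variable {F : Type u} [Field F]

/-- A field generated by a set `S` is algebraic over the subalgebra generated by `S` over the
prime field. -/
theorem isAlgebraic_adjoin_of_closure_eq_top (S : Set F) (hS : Subfield.closure S = ⊤) :
    Algebra.IsAlgebraic (Algebra.adjoin (⊥ : Subfield F) S) F := by
  constructor
  intro x
  have hx : x ∈ Subfield.closure S := by rw [hS]; trivial
  obtain ⟨y, hy, z, hz, rfl⟩ := Subfield.mem_closure_iff.mp hx
  have hle : Subring.closure S ≤ (Algebra.adjoin (⊥ : Subfield F) S).toSubring :=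
    Subring.closure_le.mpr Algebra.subset_adjoin
  have hy' : IsAlgebraic (Algebra.adjoin (⊥ : Subfield F) S) y :=
    isAlgebraic_algebraMap (⟨y, hle hy⟩ : Algebra.adjoin (⊥ : Subfield F) S)
  have hz' : IsAlgebraic (Algebra.adjoin (⊥ : Subfield F) S) z :=
    isAlgebraic_algebraMap (⟨z, hle hz⟩ : Algebra.adjoin (⊥ : Subfield F) S)
  rw [div_eq_mul_inv]
  exact hy'.mul hz'.inv

/-- A finitely generated field has finite transcendence degree over its prime field. -/
theorem exists_trdeg_eq_of_closure_eq_top (S : Set F) (hfin : S.Finite)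
    (hS : Subfield.closure S = ⊤) : ∃ d : ℕ, Algebra.trdeg (⊥ : Subfield F) F = d := by
  have := isAlgebraic_adjoin_of_closure_eq_top S hS
  have h1 : Algebra.trdeg (⊥ : Subfield F) F ≤ Cardinal.mk S :=
    Algebra.IsAlgebraic.trdeg_le_cardinalMk (⊥ : Subfield F) S
  have h2 : Cardinal.mk S < Cardinal.aleph0 := by
    have := hfin.to_subtype
    exact Cardinal.lt_aleph0_of_finite S
  obtain ⟨d, hd⟩ := Cardinal.lt_aleph0.mp (lt_of_le_of_lt h1 h2)
  exact ⟨d, hd⟩

/-- Valuation subrings of finitely generated fields have finite spectrum. -/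
theorem finite_primeSpectrum (A : ValuationSubring F) (S : Set F) (hfin : S.Finite)
    (hS : Subfield.closure S = ⊤) : Finite (PrimeSpectrum A) := by
  obtain ⟨d, hd⟩ := exists_trdeg_eq_of_closure_eq_top S hfin hS
  have h := ValDim.ringKrullDim_le A d hd
  refine finite_of_krullDim_le (fun a b => ?_) (d + 1) h
  rcases (ValuationRing.le_total_ideal (A := A)).total a.asIdeal b.asIdeal with h1 | h1
  · exact Or.inl ((PrimeSpectrum.asIdeal_le_asIdeal _ _).mp h1)
  · exact Or.inr ((PrimeSpectrum.asIdeal_le_asIdeal _ _).mp h1)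

end trdeg

end Groth.Agent.H73.ValFinite
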