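import Mathlib
import Groth.Agent.H73.ValFinite

/-!
# A valuation ring is a directed union of valuation subrings with finite spectrum
-/

set_option autoImplicit false

universe u

namespace Groth.Agent.H73.ValUnion

variable (R : Type u) [CommRing R] [IsDomain R]

/-- The subfield of the fraction field generated by a finite subset of `R`. -/
noncomputable def gen (s : Finset R) : Subfield (FractionRing R) :=
  Subfield.closure ((algebraMap R (FractionRing R)) '' (s : Set R))

/-- The elements of `R` lying in the subfield generated by `s`. -/
noncomputable def F (s : Finset R) : Subring R :=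
  Subring.comap (algebraMap R (FractionRing R)) (gen R s).toSubring

variable {R}

lemma mem_F {s : Finset R} {x : R} : x ∈ F R s ↔ algebraMap R (FractionRing R) x ∈ gen R s :=
  Iff.rfl

lemma gen_mono {s t : Finset R} (h : s ≤ t) : gen R s ≤ gen R t :=
  Subfield.closure_mono (Set.image_mono (Finset.coe_subset.mpr h))

lemma F_mono : Monotone (F R) := fun _ _ h _ hx => gen_mono h hx

lemma mem_F_singleton (x : R) : x ∈ F R {x} :=
  Subfield.subset_closure ⟨x, by simp, rfl⟩

lemma iSup_F : (⨆ s, F R s) = ⊤ :=
  eq_top_iff.mpr fun x _ => (le_iSup (F R) {x}) (mem_F_singleton x)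

/-- The generators of `gen R s` inside `gen R s`. -/
def gens (s : Finset R) : Set (gen R s) := {x | (x : FractionRing R) ∈
  (algebraMap R (FractionRing R)) '' (s : Set R)}

lemma gens_finite (s : Finset R) : (gens s).Finite := by
  have h : ((algebraMap R (FractionRing R)) '' (s : Set R)).Finite := s.finite_toSet.image _
  exact h.preimage (Subtype.val_injective.injOn)

lemma closure_gens (s : Finset R) : Subfield.closure (gens s) = ⊤ := by
  rw [eq_top_iff]
  rintro ⟨x, hx⟩ -
  have key : ∀ (y : FractionRing R) (hy : y ∈ gen R s),
      (⟨y, hy⟩ : gen R s) ∈ Subfield.closure (gens s) := by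
    intro y hy
    induction hy using Subfield.closure_induction with
    | mem y hy => exact Subfield.subset_closure hy
    | one => exact one_mem _
    | add y z _ _ hy hz => exact add_mem hy hz
    | neg y _ hy => exact neg_mem hy
    | inv y _ hy => exact inv_mem hy
    | mul y z _ _ hy hz => exact mul_mem hy hz
  exact key x hx

section valuationRing

variable (R) [ValuationRing R]

/-- The image of `R` in its fraction field, as a valuation subring. -/
noncomputable def A₀ : ValuationSubring (FractionRing R) :=
  { (algebraMap R (FractionRing R)).range with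
    mem_or_inv_mem' := fun x => by
      rcases ValuationRing.isInteger_or_isInteger R x with h | h
      · left
        obtain ⟨a, ha⟩ := h
        exact ⟨a, ha⟩
      · right
        obtain ⟨a, ha⟩ := h
        exact ⟨a, ha⟩ }

variable {R}

lemma mem_A₀ {x : FractionRing R} : x ∈ A₀ R ↔ ∃ a : R, algebraMap R (FractionRing R) a = x :=
  Iff.rfl

/-- The induced valuation subring of the subfield generated by `s`. -/
noncomputable def A (s : Finset R) : ValuationSubring (gen R s) :=
  (A₀ R).comap (gen R s).subtype

/-- The comparison map `F R s → A s`. -/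
noncomputable def toA (s : Finset R) : F R s →+* A s :=
  RingHom.codRestrict
    (RingHom.codRestrict ((algebraMap R (FractionRing R)).comp (F R s).subtype) (gen R s)
      (fun x => x.2)) (A s) (fun x => ⟨x.1, rfl⟩)

lemma toA_bijective (s : Finset R) : Function.Bijective (toA s) := by
  constructor
  · intro x y hxy
    have h1 : algebraMap R (FractionRing R) x.1 = algebraMap R (FractionRing R) y.1 :=
      congrArg (fun z : A s => ((z : gen R s) : FractionRing R)) hxy
    exact Subtype.ext (IsFractionRing.injective R (FractionRing R) h1)
  · rintro ⟨⟨y, hy⟩, hyA⟩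
    obtain ⟨a, ha⟩ := hyA
    have ha' : algebraMap R (FractionRing R) a = y := ha
    refine ⟨⟨a, ?_⟩, ?_⟩
    · rw [mem_F, ha']
      exact hy
    · apply Subtype.ext
      apply Subtype.ext
      exact ha'

instance valuationRing_F (s : Finset R) : ValuationRing (F R s) := by
  rw [ValuationRing.iff_dvd_total]
  constructor
  intro a b
  have key : ∀ a b : F R s, ∀ c : R, (a : R) * c = b → ∃ c' : F R s, a * c' = b := by
    intro a b c hc
    by_cases ha : (a : R) = 0
    · refine ⟨0, ?_⟩
      apply Subtype.ext
      rw [← hc, ha]
      simp
    · have hcmem : c ∈ F R s := by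
        rw [mem_F]
        have ha' : algebraMap R (FractionRing R) a ≠ 0 := by
          rwa [Ne, IsFractionRing.to_map_eq_zero_iff]
        have : algebraMap R (FractionRing R) c =
            algebraMap R (FractionRing R) b / algebraMap R (FractionRing R) a := by
          rw [eq_div_iff ha', mul_comm, ← map_mul, hc]
        rw [this]
        exact (gen R s).div_mem b.2 a.2
      exact ⟨⟨c, hcmem⟩, Subtype.ext hc⟩
  obtain ⟨c, hc | hc⟩ := ValuationRing.cond (a : R) (b : R)
  · obtain ⟨c', hc'⟩ := key a b c hc
    exact Or.inl ⟨c', hc'.symm⟩
  · obtain ⟨c', hc'⟩ := key b a c hc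
    exact Or.inr ⟨c', hc'.symm⟩

theorem finite_primeSpectrum_F (s : Finset R) : Finite (PrimeSpectrum (F R s)) := by
  have h : Finite (PrimeSpectrum (A s)) :=
    ValFinite.finite_primeSpectrum (A s) (gens s) (gens_finite s) (closure_gens s)
  exact Finite.of_equiv _
    (PrimeSpectrum.comapEquiv (RingEquiv.ofBijective (toA s) (toA_bijective s))).symm.toEquiv

theorem main : ∃ (ι : Type u) (_ : Preorder ι) (_ : IsDirected ι (fun a b ↦ a ≤ b))
    (_ : Nonempty ι) (F : ι → Subring R), Monotone F ∧ (⨆ i, F i) = ⊤ ∧
      ∀ i, ValuationRing (F i) ∧ Finite (PrimeSpectrum (F i)) :=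
  ⟨Finset R, inferInstance, inferInstance, inferInstance, F R, F_mono, iSup_F,
    fun s => ⟨valuationRing_F s, finite_primeSpectrum_F s⟩⟩

end valuationRing

end Groth.Agent.H73.ValUnion
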