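import Mathlib
import Groth.Agent.H73.PruferInter
import Groth.Agent.H73.PruferDim
import Groth.Agent.H73.ValUnion

/-!
# A semilocal Prüfer domain is a directed union of semilocal Prüfer domains of finite dimension
-/

set_option autoImplicit false
universe u

namespace Groth.Agent.H73.PruferUnion

open Groth.Agent.H73.FinInterVal

section transfer

variable {S T : Type u} [CommRing S] [IsDomain S] [CommRing T] [IsDomain T] (e : S ≃+* T)
include e

/-- The Prüfer condition transfers along a ring isomorphism. -/
theorem prufer_of_ringEquiv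
    (hT : ∀ (q : Ideal T) [q.IsPrime], ValuationRing (Localization.AtPrime q))
    (p : Ideal S) [hp : p.IsPrime] : ValuationRing (Localization.AtPrime p) := by
  let q : Ideal T := p.comap (e.symm : T →+* S)
  have hq : q.IsPrime := Ideal.comap_isPrime _ _
  have H : p.primeCompl.map e.toMonoidHom = q.primeCompl := by
    ext y
    constructor
    · rintro ⟨x, hx, rfl⟩
      intro hy
      apply hx
      have : e.symm (e x) ∈ p := hy
      simpa using this
    · intro hy
      refine ⟨e.symm y, ?_, by simp⟩
      intro hx
      exact hy hx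
  let f : Localization.AtPrime q ≃+* Localization.AtPrime p :=
    (IsLocalization.ringEquivOfRingEquiv (Localization.AtPrime p) (Localization.AtPrime q) e H).symm
  have := hT q
  exact Function.Surjective.valuationRing (f : Localization.AtPrime q →+* Localization.AtPrime p)
    f.surjective

theorem finite_maximalSpectrum_of_ringEquiv (hT : Finite (MaximalSpectrum T)) :
    Finite (MaximalSpectrum S) := by
  let g : MaximalSpectrum S → MaximalSpectrum T :=
    fun m => ⟨m.asIdeal.comap (e.symm : T →+* S), by
      have := m.isMaximal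
      exact Ideal.comap_isMaximal_of_equiv e.symm⟩
  apply Finite.of_injective g
  intro m m' h
  apply MaximalSpectrum.ext
  have h1 : m.asIdeal.comap (e.symm : T →+* S) = m'.asIdeal.comap (e.symm : T →+* S) :=
    congrArg MaximalSpectrum.asIdeal h
  ext x
  have h2 := Ideal.ext_iff.mp h1 (e x)
  simpa [Ideal.mem_comap] using h2

end transfer

section main

variable (R : Type u) [CommRing R] [IsDomain R]
  (hR : ∀ (p : Ideal R) [p.IsPrime], ValuationRing (Localization.AtPrime p))

include hR in
theorem main (hfin : Finite (MaximalSpectrum R)) (s : Finset R) :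
    ∃ R' : Subring R, (↑s : Set R) ⊆ R' ∧
      (∀ (p : Ideal R') [p.IsPrime], ValuationRing (Localization.AtPrime p)) ∧
      Finite (MaximalSpectrum R') ∧ ringKrullDim R' < ⊤ := by
  have hne : Nonempty (MaximalSpectrum R) := by
    obtain ⟨m, hm⟩ := Ideal.exists_maximal R
    exact ⟨⟨m, hm⟩⟩
  let L := FractionRing R
  let K : Subfield L := ValUnion.gen R s
  let 𝒱 : MaximalSpectrum R → ValuationSubring L := PruferInter.val R L hR
  have hrange : ∀ y : L, y ∈ (algebraMap R L).range ↔ ∀ i, y ∈ 𝒱 i := by
    intro y
    rw [PruferInter.range_eq_iInf R L hR, Subring.mem_iInf]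
    rfl
  -- the comparison isomorphism
  let f : ValUnion.F R s →+* B 𝒱 K :=
    RingHom.codRestrict ((algebraMap R L).comp (ValUnion.F R s).subtype) (B 𝒱 K)
      (fun x => mem_B.mpr ⟨(hrange _).mp ⟨x.1, rfl⟩, x.2⟩)
  have hf : Function.Bijective f := by
    constructor
    · intro x y hxy
      have h1 : algebraMap R L x.1 = algebraMap R L y.1 := congrArg Subtype.val hxy
      exact Subtype.ext (IsFractionRing.injective R L h1)
    · rintro ⟨y, hy⟩
      obtain ⟨hy1, hy2⟩ := mem_B.mp hy
      obtain ⟨a, ha⟩ := (hrange y).mpr hy1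
      refine ⟨⟨a, ?_⟩, Subtype.ext ha⟩
      rw [ValUnion.mem_F, ha]
      exact hy2
  let e : ValUnion.F R s ≃+* B 𝒱 K := RingEquiv.ofBijective f hf
  have hspec : Finite (PrimeSpectrum (B 𝒱 K)) :=
    PruferDim.finite_primeSpectrum 𝒱 K (fun i =>
      ValFinite.finite_primeSpectrum (PruferDim.W 𝒱 K i) (ValUnion.gens s)
        (ValUnion.gens_finite s) (ValUnion.closure_gens s))
  refine ⟨ValUnion.F R s, ?_, ?_, ?_, ?_⟩
  · intro x hx
    exact Subfield.subset_closure ⟨x, hx, rfl⟩
  · intro p _
    exact prufer_of_ringEquiv e (fun q _ => valuationRing_localization q) p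
  · exact finite_maximalSpectrum_of_ringEquiv e finite_maximalSpectrum
  · rw [ringKrullDim_eq_of_ringEquiv e]
    exact PruferDim.krullDim_lt_top_of_finite

end main

end Groth.Agent.H73.PruferUnion
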