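import Mathlib

set_option autoImplicit false
set_option linter.unusedSectionVars false
set_option linter.unusedVariables false

/-!
# `k₀(K₀^p)((T)) = k₀(K₀^p((T)))` (helper73, for S4561)
-/

namespace Groth.Agent.H73.PthPowerSeries

universe u

section Span
variable (p : ℕ) (hp : 1 ≤ p) {k₀ K₀ : Type u} [Field k₀] [Field K₀] [Algebra k₀ K₀]

/-- the subfield generated by `p`-th powers -/
abbrev Kp (K : Type u) [Field K] : Subfield K := Subfield.closure (Set.range fun y : K => y ^ p)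

/-- the subfield `k₀(K₀^p)` -/
abbrev Fp (k₀ K₀ : Type u) [Field k₀] [Field K₀] [Algebra k₀ K₀] : Subfield K₀ :=
  Subfield.closure (Set.range (algebraMap k₀ K₀) ∪ Set.range fun y : K₀ => y ^ p)

lemma map_mem_Kp (d : Kp p k₀) : algebraMap k₀ K₀ (d : k₀) ∈ Kp p K₀ := by
  have h : Kp p k₀ ≤ (Kp p K₀).comap (algebraMap k₀ K₀) := by
    rw [Subfield.closure_le]
    rintro _ ⟨x, rfl⟩
    show algebraMap k₀ K₀ (x ^ p) ∈ Kp p K₀
    rw [map_pow]
    exact Subfield.subset_closure ⟨_, rfl⟩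
  exact h d.2

variable {m : ℕ} (β : Fin m → k₀) (hβ : Submodule.span (Kp p k₀) (Set.range β) = ⊤)

/-- the `K₀^p`-span of the images of the `β i` -/
noncomputable abbrev S₀ : Submodule (Kp p K₀) K₀ :=
  Submodule.span (Kp p K₀) (Set.range fun i => algebraMap k₀ K₀ (β i))

include hβ in
lemma map_mem_S₀ (x : k₀) : algebraMap k₀ K₀ x ∈ S₀ p β := by
  have hx : x ∈ Submodule.span (Kp p k₀) (Set.range β) := by rw [hβ]; trivial
  obtain ⟨d, rfl⟩ := (Submodule.mem_span_range_iff_exists_fun _).1 hx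
  rw [map_sum]
  refine Submodule.sum_mem _ (fun i _ => ?_)
  have : algebraMap k₀ K₀ (d i • β i)
      = (⟨algebraMap k₀ K₀ (d i : k₀), map_mem_Kp p (d i)⟩ : Kp p K₀) • algebraMap k₀ K₀ (β i) := by
    rw [Subfield.smul_def, Subfield.smul_def, smul_eq_mul, smul_eq_mul, map_mul]
  rw [this]
  exact Submodule.smul_mem _ _ (Submodule.subset_span ⟨i, rfl⟩)

include hβ in
lemma mul_mem_S₀ {x y : K₀} (hx : x ∈ S₀ p β) (hy : y ∈ S₀ p β) : x * y ∈ S₀ p β := by
  induction hx using Submodule.span_induction with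
  | mem x hx =>
    obtain ⟨i, rfl⟩ := hx
    induction hy using Submodule.span_induction with
    | mem y hy =>
      obtain ⟨j, rfl⟩ := hy
      rw [← map_mul]
      exact map_mem_S₀ p β hβ _
    | zero => simp
    | add y z _ _ hy hz => rw [mul_add]; exact Submodule.add_mem _ hy hz
    | smul c y _ hy =>
      rw [mul_smul_comm]
      exact Submodule.smul_mem _ _ hy
  | zero => simp
  | add x z _ _ hx hz => rw [add_mul]; exact Submodule.add_mem _ hx hz
  | smul c x _ hx =>
    rw [smul_mul_assoc]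
    exact Submodule.smul_mem _ _ hx

include hβ in
lemma one_mem_S₀ : (1 : K₀) ∈ S₀ p β := by
  have := map_mem_S₀ p β hβ (K₀ := K₀) 1
  rwa [map_one] at this

include hβ in
lemma pow_mem_S₀ {x : K₀} (hx : x ∈ S₀ p β) (n : ℕ) : x ^ n ∈ S₀ p β := by
  induction n with
  | zero => rw [pow_zero]; exact one_mem_S₀ p β hβ
  | succ n ih => rw [pow_succ]; exact mul_mem_S₀ p β hβ ih hx

include hβ hp in
lemma inv_mem_S₀ {x : K₀} (hx : x ∈ S₀ p β) : x⁻¹ ∈ S₀ p β := by
  by_cases h0 : x = 0
  · rw [h0, inv_zero]; exact Submodule.zero_mem _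
  · have hmem : (x ^ p)⁻¹ ∈ Kp p K₀ := inv_mem (Subfield.subset_closure ⟨x, rfl⟩)
    have : x⁻¹ = (⟨(x ^ p)⁻¹, hmem⟩ : Kp p K₀) • x ^ (p - 1) := by
      rw [Subfield.smul_def, smul_eq_mul]
      have hpp : x ^ p = x ^ (p - 1) * x := by
        rw [← pow_succ]
        congr 1
        omega
      show x⁻¹ = (x ^ p)⁻¹ * x ^ (p - 1)
      rw [hpp, mul_inv, mul_comm (x ^ (p - 1))⁻¹, mul_assoc, inv_mul_cancel₀ (pow_ne_zero _ h0),
        mul_one]
    rw [this]
    exact Submodule.smul_mem _ _ (pow_mem_S₀ p β hβ hx _)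

include hβ hp in
lemma Fp_le (a : K₀) (ha : a ∈ Fp p k₀ K₀) : a ∈ S₀ p β := by
  let T : Subfield K₀ :=
    { carrier := ((S₀ p β : Submodule (Kp p K₀) K₀) : Set K₀)
      mul_mem' := fun hx hy => mul_mem_S₀ p β hβ hx hy
      one_mem' := one_mem_S₀ p β hβ
      add_mem' := fun hx hy => Submodule.add_mem _ hx hy
      zero_mem' := Submodule.zero_mem _
      neg_mem' := fun hx => Submodule.neg_mem _ hx
      inv_mem' := fun x hx => by
        show x⁻¹ ∈ S₀ p β
        exact inv_mem_S₀ p hp β hβ hx }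
  have hle : Fp p k₀ K₀ ≤ T := by
    rw [Subfield.closure_le]
    rintro x (⟨y, rfl⟩ | ⟨y, rfl⟩)
    · exact map_mem_S₀ p β hβ y
    · show y ^ p ∈ S₀ p β
      have : y ^ p = (⟨y ^ p, Subfield.subset_closure ⟨y, rfl⟩⟩ : Kp p K₀) • (1 : K₀) := by
        rw [Subfield.smul_def, smul_eq_mul, mul_one]
      rw [this]
      exact Submodule.smul_mem _ _ (one_mem_S₀ p β hβ)
  exact hle ha

end Span

section Main
variable (p : ℕ) [Fact p.Prime] {k₀ K₀ : Type u} [Field k₀] [Field K₀] [Algebra k₀ K₀]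

theorem main (hfin : Module.Finite (Subfield.closure (Set.range fun x : k₀ => x ^ p)) k₀) (r : ℕ) :
    Subfield.closure (algebraMap (MvPowerSeries (Fin r) K₀) (FractionRing (MvPowerSeries (Fin r) K₀)) ''
        {f | ∀ n, MvPowerSeries.coeff n f ∈
          Subfield.closure (Set.range (algebraMap k₀ K₀) ∪ Set.range fun y : K₀ => y ^ p)}) =
      Subfield.closure
        (Set.range (algebraMap k₀ (FractionRing (MvPowerSeries (Fin r) K₀))) ∪
          (Subfield.closure (algebraMap (MvPowerSeries (Fin r) K₀) (FractionRing (MvPowerSeries (Fin r) K₀)) ''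
            {f | ∀ n, MvPowerSeries.coeff n f ∈ Subfield.closure (Set.range fun y : K₀ => y ^ p)}) :
            Set (FractionRing (MvPowerSeries (Fin r) K₀)))) := by
  have hp : 1 ≤ p := (Fact.out : p.Prime).one_lt.le
  obtain ⟨m, β, hβ⟩ := Module.Finite.exists_fin (R := Kp p k₀) (M := k₀)
  have hk0 : ∀ x : k₀, algebraMap k₀ (FractionRing (MvPowerSeries (Fin r) K₀)) x
      = algebraMap (MvPowerSeries (Fin r) K₀) (FractionRing (MvPowerSeries (Fin r) K₀))
          (MvPowerSeries.C (algebraMap k₀ K₀ x)) := by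
    intro x
    rw [IsScalarTower.algebraMap_apply k₀ (MvPowerSeries (Fin r) K₀), MvPowerSeries.algebraMap_apply]
  apply le_antisymm
  · rw [Subfield.closure_le]
    rintro _ ⟨f, hf, rfl⟩
    -- decompose the coefficients
    have hc : ∀ n, ∃ c : Fin m → Kp p K₀,
        ∑ i, c i • algebraMap k₀ K₀ (β i) = MvPowerSeries.coeff n f := fun n =>
      (Submodule.mem_span_range_iff_exists_fun _).1 (Fp_le p hp β hβ _ (hf n))
    choose c hcs using hc
    obtain ⟨fi, hfi⟩ : ∃ fi : Fin m → MvPowerSeries (Fin r) K₀,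
        ∀ i n, MvPowerSeries.coeff n (fi i) = ((c n i : Kp p K₀) : K₀) :=
      ⟨fun i n => ((c n i : Kp p K₀) : K₀), fun i n => rfl⟩
    have hdec : f = ∑ i, MvPowerSeries.C (algebraMap k₀ K₀ (β i)) * fi i := by
      ext n
      rw [map_sum, ← hcs n]
      refine Finset.sum_congr rfl (fun i _ => ?_)
      rw [MvPowerSeries.coeff_C_mul, Subfield.smul_def, smul_eq_mul, mul_comm, hfi]
    rw [hdec, map_sum]
    refine sum_mem (fun i _ => ?_)
    rw [map_mul]
    refine mul_mem ?_ ?_
    · rw [← hk0]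
      exact Subfield.subset_closure (Or.inl ⟨_, rfl⟩)
    · refine Subfield.subset_closure (Or.inr ?_)
      refine Subfield.subset_closure ⟨_, fun n => ?_, rfl⟩
      rw [hfi]
      exact (c n i).2
  · rw [Subfield.closure_le]
    rintro x (⟨y, rfl⟩ | hx)
    · rw [hk0]
      refine Subfield.subset_closure ⟨_, fun n => ?_, rfl⟩
      rw [MvPowerSeries.coeff_C]
      split_ifs
      · exact Subfield.subset_closure (Or.inl ⟨_, rfl⟩)
      · exact zero_mem _
    · refine (Subfield.closure_mono (Set.image_mono ?_)) hx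
      intro f hf n
      exact (Subfield.closure_mono Set.subset_union_right) (hf n)

end Main

end Groth.Agent.H73.PthPowerSeries
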