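import Mathlib
import Groth.Agent.H73.LaurentUnits

/-!
# Group structures on the punctured affine line
-/

set_option autoImplicit false
open CategoryTheory MonoidalCategory CartesianMonoidalCategory MonObj GrpObj AlgebraicGeometry
  CategoryTheory.Limits

namespace Groth.Agent.H73.PuncturedLineGrp

universe u

section basic

variable (k : Type u) [Field k]

/-- The structure ring hom `k → Γ(S, ⊤)` of a `k`-scheme. -/
noncomputable def str (S : Over (Spec (CommRingCat.of k))) : k →+* Γ(S.left, ⊤) :=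
  ((Scheme.ΓSpecIso (CommRingCat.of k)).inv ≫ S.hom.appTop).hom

/-- The affine `k`-scheme of a ring `B` under `k`. -/
noncomputable abbrev Sp (B : Type u) [CommRing B] (j : k →+* B) : Over (Spec (CommRingCat.of k)) :=
  Over.mk (Spec.map (CommRingCat.ofHom j))

variable {k}

/-- Morphisms into an affine `k`-scheme from ring maps. -/
noncomputable def toSp (S : Over (Spec (CommRingCat.of k))) {B : Type u} [CommRing B] (j : k →+* B)
    (θ : B →+* Γ(S.left, ⊤)) (hθ : θ.comp j = str k S) : S ⟶ Sp k B j :=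
  Over.homMk (S.left.toSpecΓ ≫ Spec.map (CommRingCat.ofHom θ)) (by
    change (S.left.toSpecΓ ≫ Spec.map (CommRingCat.ofHom θ)) ≫ Spec.map (CommRingCat.ofHom j) = S.hom
    rw [Category.assoc, ← Spec.map_comp, ← CommRingCat.ofHom_comp, hθ]
    have : CommRingCat.ofHom (str k S) =
        (Scheme.ΓSpecIso (CommRingCat.of k)).inv ≫ S.hom.appTop := rfl
    rw [this, Spec.map_comp, ← Scheme.toSpecΓ_naturality_assoc, toSpecΓ_SpecMap_ΓSpecIso_inv,
      Category.comp_id])

theorem toSp_appTop (S : Over (Spec (CommRingCat.of k))) {B : Type u} [CommRing B] (j : k →+* B)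
    (θ : B →+* Γ(S.left, ⊤)) (hθ : θ.comp j = str k S) (b : B) :
    (toSp S j θ hθ).left.appTop.hom ((Scheme.ΓSpecIso (CommRingCat.of B)).inv.hom b) = θ b := by
  have h1 : (toSp S j θ hθ).left = S.left.toSpecΓ ≫ Spec.map (CommRingCat.ofHom θ) := rfl
  have h2 : (Scheme.ΓSpecIso (CommRingCat.of B)).inv ≫ (toSp S j θ hθ).left.appTop =
      CommRingCat.ofHom θ := by
    rw [h1, Scheme.Hom.comp_appTop, ← Scheme.ΓSpecIso_inv_naturality_assoc,
      Scheme.toSpecΓ_appTop, Iso.inv_hom_id, Category.comp_id]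
  exact DFunLike.congr_fun (congrArg CommRingCat.Hom.hom h2) b

end basic

section tau

open LaurentPolynomial

variable {k : Type u} [Field k] {G : Over (Spec (CommRingCat.of k))}
  (e : G.left ≅ Spec (CommRingCat.of (LaurentPolynomial k)))

/-- The `T`-coordinate of a point of `G`. -/
noncomputable def tau {S : Over (Spec (CommRingCat.of k))} (g : S ⟶ G) : Γ(S.left, ⊤) :=
  (g.left ≫ e.hom).appTop.hom
    ((Scheme.ΓSpecIso (CommRingCat.of (LaurentPolynomial k))).inv.hom (LaurentPolynomial.T 1))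

/-- The ring map `k[T;T⁻¹] → Γ(S, ⊤)` of a point of `G`. -/
noncomputable def phi {S : Over (Spec (CommRingCat.of k))} (g : S ⟶ G) :
    LaurentPolynomial k →+* Γ(S.left, ⊤) :=
  ((Scheme.ΓSpecIso (CommRingCat.of (LaurentPolynomial k))).inv ≫ (g.left ≫ e.hom).appTop).hom

theorem phi_T {S : Over (Spec (CommRingCat.of k))} (g : S ⟶ G) :
    phi e g (LaurentPolynomial.T 1) = tau e g := rfl

theorem tau_comp {S S' : Over (Spec (CommRingCat.of k))} (f : S' ⟶ S) (g : S ⟶ G) :
    tau e (f ≫ g) = f.left.appTop.hom (tau e g) := by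
  unfold tau
  rw [Over.comp_left, Category.assoc, Scheme.Hom.comp_appTop]
  rfl

theorem isUnit_tau {S : Over (Spec (CommRingCat.of k))} (g : S ⟶ G) : IsUnit (tau e g) := by
  rw [← phi_T]
  exact (LaurentPolynomial.isUnit_T 1).map _

variable (he : e.hom ≫ Spec.map (CommRingCat.ofHom (algebraMap k (LaurentPolynomial k))) = G.hom)

include he in
theorem phi_C {S : Over (Spec (CommRingCat.of k))} (g : S ⟶ G) (a : k) :
    phi e g (LaurentPolynomial.C a) = str k S a := by
  have hw : (g.left ≫ e.hom) ≫ Spec.map (CommRingCat.ofHom (algebraMap k (LaurentPolynomial k))) =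
      S.hom := by
    rw [Category.assoc, he, Over.w]
  have h2 : CommRingCat.ofHom (algebraMap k (LaurentPolynomial k)) ≫
      ((Scheme.ΓSpecIso (CommRingCat.of (LaurentPolynomial k))).inv ≫ (g.left ≫ e.hom).appTop) =
      (Scheme.ΓSpecIso (CommRingCat.of k)).inv ≫ S.hom.appTop := by
    rw [← hw, Scheme.ΓSpecIso_inv_naturality_assoc]
    simp only [Scheme.Hom.comp_appTop, Category.assoc]
  have := DFunLike.congr_fun (congrArg CommRingCat.Hom.hom h2) a
  rw [LaurentPolynomial.C_eq_algebraMap]
  exact this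

include he in
/-- A point of `G` is determined by its `T`-coordinate. -/
theorem tau_injective {S : Over (Spec (CommRingCat.of k))} (g h : S ⟶ G)
    (hgh : tau e g = tau e h) : g = h := by
  have hφ : phi e g = phi e h :=
    LaurentUnits.ringHom_ext' (fun a => by rw [phi_C e he, phi_C e he])
      (by rw [phi_T, phi_T, hgh])
  apply Over.OverMorphism.ext
  have h1 : g.left ≫ e.hom = h.left ≫ e.hom := by
    apply ext_of_isAffine
    have h3 : (Scheme.ΓSpecIso (CommRingCat.of (LaurentPolynomial k))).inv ≫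
        (g.left ≫ e.hom).appTop =
        (Scheme.ΓSpecIso (CommRingCat.of (LaurentPolynomial k))).inv ≫
        (h.left ≫ e.hom).appTop := by
      apply CommRingCat.hom_ext
      exact hφ
    exact (cancel_epi _).mp h3
  exact (cancel_mono e.hom).mp h1

/-- `str` of an affine `k`-scheme. -/
theorem str_Sp (B : Type u) [CommRing B] (j : k →+* B) (a : k) :
    str k (Sp k B j) a = (Scheme.ΓSpecIso (CommRingCat.of B)).inv.hom (j a) := by
  have h := Scheme.ΓSpecIso_inv_naturality (CommRingCat.ofHom j)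
  exact (DFunLike.congr_fun (congrArg CommRingCat.Hom.hom h) a).symm

/-- The tautological point `Spec k[T;T⁻¹] → G`. -/
noncomputable def taut : Sp k (LaurentPolynomial k) (algebraMap k (LaurentPolynomial k)) ⟶ G :=
  Over.homMk e.inv (by
    change e.inv ≫ G.hom = Spec.map _
    rw [← he, Iso.inv_hom_id_assoc])

theorem tau_taut : tau e (taut e he) =
    (Scheme.ΓSpecIso (CommRingCat.of (LaurentPolynomial k))).inv.hom (LaurentPolynomial.T 1) := by
  unfold tau
  have : (taut e he).left ≫ e.hom = 𝟙 _ := e.inv_hom_id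
  rw [this]
  rfl

/-- The point of `G` with a given unit as `T`-coordinate. -/
noncomputable def pt (S : Over (Spec (CommRingCat.of k))) (v : Γ(S.left, ⊤)ˣ) : S ⟶ G :=
  toSp S (algebraMap k (LaurentPolynomial k)) (LaurentPolynomial.eval₂ (str k S) v) (by
    ext a
    rw [RingHom.comp_apply, ← LaurentPolynomial.C_eq_algebraMap, LaurentPolynomial.eval₂_C]) ≫
    taut e he

theorem tau_pt (S : Over (Spec (CommRingCat.of k))) (v : Γ(S.left, ⊤)ˣ) :
    tau e (pt e he S v) = v := by
  unfold pt
  rw [tau_comp, tau_taut, toSp_appTop, LaurentPolynomial.eval₂_T, zpow_one]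

variable [GrpObj G]
  (hunit : tau e η[G] = 1)

include hunit in
theorem tau_one (S : Over (Spec (CommRingCat.of k))) : tau e (1 : S ⟶ G) = 1 := by
  rw [Hom.one_def, tau_comp, hunit, map_one]

/-- The structure map `k → (k[T;T⁻¹])[T;T⁻¹]`. -/
noncomputable def jR : k →+* LaurentPolynomial (LaurentPolynomial k) :=
  (LaurentPolynomial.C).comp (algebraMap k (LaurentPolynomial k))

/-- The universal object `Spec (k[T;T⁻¹])[T;T⁻¹]`. -/
noncomputable abbrev S₀ : Over (Spec (CommRingCat.of k)) :=
  Sp k (LaurentPolynomial (LaurentPolynomial k)) (jR (k := k))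

/-- shorthand for `ΓSpecIso.inv` on the double Laurent ring -/
noncomputable abbrev iR : LaurentPolynomial (LaurentPolynomial k) →+* Γ((S₀ (k := k)).left, ⊤) :=
  (Scheme.ΓSpecIso (CommRingCat.of (LaurentPolynomial (LaurentPolynomial k)))).inv.hom

/-- shorthand for `ΓSpecIso.inv` on the Laurent ring -/
noncomputable abbrev iL : LaurentPolynomial k →+*
    Γ((Sp k (LaurentPolynomial k) (algebraMap k (LaurentPolynomial k))).left, ⊤) :=
  (Scheme.ΓSpecIso (CommRingCat.of (LaurentPolynomial k))).inv.hom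

theorem iR_injective : Function.Injective (iR (k := k)) := by
  intro a b h
  have := congrArg (Scheme.ΓSpecIso (CommRingCat.of (LaurentPolynomial (LaurentPolynomial k)))).hom.hom h
  simpa using this

theorem iL_injective : Function.Injective (iL (k := k)) := by
  intro a b h
  have := congrArg (Scheme.ΓSpecIso (CommRingCat.of (LaurentPolynomial k))).hom.hom h
  simpa using this

theorem iR_surjective : Function.Surjective (iR (k := k)) := by
  intro y
  refine ⟨(Scheme.ΓSpecIso (CommRingCat.of (LaurentPolynomial (LaurentPolynomial k)))).hom.hom y, ?_⟩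
  simp [iR]

/-- the two universal units -/
noncomputable def v₁ : Γ((S₀ (k := k)).left, ⊤)ˣ :=
  ((LaurentPolynomial.isUnit_T (R := k) 1).map ((iR (k := k)).comp LaurentPolynomial.C)).unit

noncomputable def v₂ : Γ((S₀ (k := k)).left, ⊤)ˣ :=
  ((LaurentPolynomial.isUnit_T (R := LaurentPolynomial k) 1).map (iR (k := k))).unit

/-- Specialization morphisms `Spec k[T;T⁻¹] → Spec (k[T;T⁻¹])[T;T⁻¹]`. -/
noncomputable def sp (θ : LaurentPolynomial (LaurentPolynomial k) →+* LaurentPolynomial k)
    (hθ : θ.comp (jR (k := k)) = algebraMap k (LaurentPolynomial k)) :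
    Sp k (LaurentPolynomial k) (algebraMap k (LaurentPolynomial k)) ⟶ S₀ (k := k) :=
  toSp _ (jR (k := k)) ((iL (k := k)).comp θ) (by
    ext a
    rw [RingHom.comp_apply, RingHom.comp_apply, ← RingHom.comp_apply θ, hθ, str_Sp])

theorem sp_appTop (θ : LaurentPolynomial (LaurentPolynomial k) →+* LaurentPolynomial k)
    (hθ : θ.comp (jR (k := k)) = algebraMap k (LaurentPolynomial k))
    (r : LaurentPolynomial (LaurentPolynomial k)) :
    (sp θ hθ).left.appTop.hom (iR r) = iL (θ r) :=
  toSp_appTop _ _ _ _ r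

theorem θ₁_comp_jR : (LaurentUnits.θ₁ k).comp (jR (k := k)) = algebraMap k (LaurentPolynomial k) := by
  ext a
  simp [jR, LaurentUnits.θ₁, LaurentPolynomial.eval₂_C]

theorem θ₂_comp_jR : (LaurentUnits.θ₂ k).comp (jR (k := k)) = algebraMap k (LaurentPolynomial k) := by
  ext a
  simp only [jR, LaurentUnits.θ₂, RingHom.comp_apply, LaurentPolynomial.eval₂_C, LaurentUnits.ev1,
    ← LaurentPolynomial.C_eq_algebraMap, RingHom.id_apply]

theorem v₁_val : ((v₁ (k := k) : Γ((S₀ (k := k)).left, ⊤)ˣ) : Γ((S₀ (k := k)).left, ⊤)) =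
    iR (LaurentPolynomial.C (LaurentPolynomial.T 1)) := rfl

theorem v₂_val : ((v₂ (k := k) : Γ((S₀ (k := k)).left, ⊤)ˣ) : Γ((S₀ (k := k)).left, ⊤)) =
    iR (LaurentPolynomial.T 1) := rfl

include hunit in
/-- The universal case. -/
theorem tau_mul_universal :
    tau e (pt e he S₀ v₁ * pt e he S₀ v₂) = iR (LaurentPolynomial.C (LaurentPolynomial.T 1) * LaurentPolynomial.T 1) := by
  obtain ⟨u₀, hu₀⟩ := iR_surjective (k := k) (tau e (pt e he S₀ v₁ * pt e he S₀ v₂))
  have hunit₀ : IsUnit u₀ := by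
    have h1 : IsUnit (iR u₀) := hu₀ ▸ isUnit_tau e _
    have := h1.map (Scheme.ΓSpecIso (CommRingCat.of (LaurentPolynomial (LaurentPolynomial k)))).hom.hom
    simpa [iR] using this
  -- first specialization
  have s1 : LaurentUnits.θ₁ k u₀ = LaurentPolynomial.T 1 := by
    apply iL_injective
    rw [← sp_appTop _ θ₁_comp_jR, hu₀, ← tau_comp, comp_mul]
    have a1 : sp _ θ₁_comp_jR ≫ pt e he S₀ v₁ = taut e he := by
      apply tau_injective e he
      rw [tau_comp, tau_pt, v₁_val, sp_appTop, tau_taut]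
      simp [LaurentUnits.θ₁, LaurentPolynomial.eval₂_C]
    have a2 : sp _ θ₁_comp_jR ≫ pt e he S₀ v₂ = 1 := by
      apply tau_injective e he
      rw [tau_comp, tau_pt, v₂_val, sp_appTop, tau_one e hunit]
      simp [LaurentUnits.θ₁, LaurentPolynomial.eval₂_T]
    rw [a1, a2, _root_.mul_one, tau_taut]
  -- second specialization
  have s2 : LaurentUnits.θ₂ k u₀ = LaurentPolynomial.T 1 := by
    apply iL_injective
    rw [← sp_appTop _ θ₂_comp_jR, hu₀, ← tau_comp, comp_mul]
    have a1 : sp _ θ₂_comp_jR ≫ pt e he S₀ v₁ = 1 := by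
      apply tau_injective e he
      rw [tau_comp, tau_pt, v₁_val, sp_appTop, tau_one e hunit]
      simp [LaurentUnits.θ₂, LaurentUnits.ev1, LaurentPolynomial.eval₂_C, LaurentPolynomial.eval₂_T]
    have a2 : sp _ θ₂_comp_jR ≫ pt e he S₀ v₂ = taut e he := by
      apply tau_injective e he
      rw [tau_comp, tau_pt, v₂_val, sp_appTop, tau_taut]
      congr 1
      rw [LaurentUnits.θ₂, LaurentPolynomial.eval₂_T, LaurentUnits.unitT_zpow]
    rw [a1, a2, _root_.one_mul, tau_taut]
  rw [← hu₀, LaurentUnits.eq_of_specializations k hunit₀ s1 s2]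

include he hunit in
/-- The main theorem: `T`-coordinates are multiplicative. -/
theorem tau_mul (S : Over (Spec (CommRingCat.of k))) (g h : S ⟶ G) :
    tau e (g * h) = tau e g * tau e h := by
  let v : Γ(S.left, ⊤)ˣ := (isUnit_tau e g).unit
  let w : Γ(S.left, ⊤)ˣ := (isUnit_tau e h).unit
  let θ : LaurentPolynomial (LaurentPolynomial k) →+* Γ(S.left, ⊤) :=
    LaurentPolynomial.eval₂ (LaurentPolynomial.eval₂ (str k S) v) w
  have hθ : θ.comp (jR (k := k)) = str k S := by
    ext a
    simp only [θ, jR, RingHom.comp_apply, LaurentPolynomial.eval₂_C,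
      ← LaurentPolynomial.C_eq_algebraMap]
  let m : S ⟶ S₀ (k := k) := toSp S (jR (k := k)) θ hθ
  have hm : ∀ r, m.left.appTop.hom (iR r) = θ r := fun r => toSp_appTop S _ θ hθ r
  have a1 : m ≫ pt e he S₀ v₁ = g := by
    apply tau_injective e he
    rw [tau_comp, tau_pt, v₁_val, hm]
    simp only [θ, LaurentPolynomial.eval₂_C, LaurentPolynomial.eval₂_T, zpow_one]
    rfl
  have a2 : m ≫ pt e he S₀ v₂ = h := by
    apply tau_injective e he
    rw [tau_comp, tau_pt, v₂_val, hm]
    simp only [θ, LaurentPolynomial.eval₂_T, zpow_one]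
    rfl
  have key : tau e (m ≫ (pt e he S₀ v₁ * pt e he S₀ v₂)) = tau e g * tau e h := by
    rw [tau_comp, tau_mul_universal e he hunit, map_mul, map_mul, ← v₁_val, ← v₂_val,
      ← tau_pt e he S₀ v₁, ← tau_pt e he S₀ v₂, ← tau_comp, ← tau_comp, a1, a2]
  rw [comp_mul, a1, a2] at key
  exact key

end tau

end Groth.Agent.H73.PuncturedLineGrp
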