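import Mathlib
import Groth.Agent.H85.QLinSep

/-!
helper73: fixed vectors of the iterates of a semisimple `q`-linear endomorphism over a separably
closed field, from helper85's basis of fixed vectors (`H85.QLinSep.exists_basis_fixed`).
-/

set_option autoImplicit false
universe u v

namespace Groth.Agent.H73.QLinIter

variable {k : Type u} [Field k] {V : Type v} [AddCommGroup V] [Module k V]

theorem iterate_smul (q : ℕ) (φ : V →+ V) (hφ : ∀ (c : k) (v : V), φ (c • v) = c ^ q • φ v)
    (n : ℕ) (c : k) (v : V) : φ^[n] (c • v) = c ^ (q ^ n) • φ^[n] v := by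
  induction n with
  | zero => simp
  | succ n ih =>
    rw [Function.iterate_succ_apply', ih, hφ, Function.iterate_succ_apply', ← pow_mul, pow_succ]

theorem iterate_sum {ι : Type*} (φ : V →+ V) (n : ℕ) (s : Finset ι) (f : ι → V) :
    φ^[n] (∑ i ∈ s, f i) = ∑ i ∈ s, φ^[n] (f i) := by
  induction n with
  | zero => simp
  | succ n ih =>
    simp only [Function.iterate_succ_apply']
    rw [ih, map_sum]

theorem main (k : Type u) [Field k] [IsSepClosed k] (p : ℕ)
    [Fact p.Prime] [CharP k p] (r : ℕ) (hr : 0 < r) (V : Type v) [AddCommGroup V] [Module k V]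
    [FiniteDimensional k V] (φ : V →+ V) (hφ : ∀ (c : k) (v : V), φ (c • v) = c ^ (p ^ r) • φ v)
    (hss : Submodule.span k (Set.range φ) = ⊤) (n : ℕ) (v : V) :
    φ^[n] v = v ↔ ∃ (s : Finset V) (c : V → k), (∀ w ∈ s, φ w = w) ∧
      (∀ w ∈ s, c w ^ ((p ^ r) ^ n) = c w) ∧ v = ∑ w ∈ s, c w • w := by
  classical
  constructor
  · intro hv
    obtain ⟨b, hb, -⟩ := Groth.Agent.H85.QLinSep.exists_basis_fixed k p r hr V φ hφ hss
    have hfix : ∀ i, φ^[n] (b i) = b i := fun i => Function.iterate_fixed (hb i) n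
    have h1 : φ^[n] v = ∑ i, (b.repr v i) ^ ((p ^ r) ^ n) • b i := by
      conv_lhs => rw [← b.sum_repr v]
      rw [iterate_sum]
      refine Finset.sum_congr rfl fun i _ => ?_
      rw [iterate_smul (p ^ r) φ hφ, hfix]
    have h2 : ∀ i, (b.repr v i) ^ ((p ^ r) ^ n) = b.repr v i := by
      intro i
      have h3 : (b.repr (φ^[n] v) : Fin (Module.finrank k V) → k) = b.repr v := by rw [hv]
      rw [h1, Module.Basis.repr_sum_self] at h3
      exact congrFun h3 i
    refine ⟨Finset.univ.image b, Function.extend b (fun i => b.repr v i) 0, ?_, ?_, ?_⟩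
    · intro w hw
      obtain ⟨i, -, rfl⟩ := Finset.mem_image.mp hw
      exact hb i
    · intro w hw
      obtain ⟨i, -, rfl⟩ := Finset.mem_image.mp hw
      rw [b.injective.extend_apply]
      exact h2 i
    · rw [Finset.sum_image (fun i _ j _ h => b.injective h)]
      conv_lhs => rw [← b.sum_repr v]
      refine Finset.sum_congr rfl fun i _ => ?_
      rw [b.injective.extend_apply]
  · rintro ⟨s, c, h1, h2, rfl⟩
    rw [iterate_sum]
    refine Finset.sum_congr rfl fun w hw => ?_
    rw [iterate_smul (p ^ r) φ hφ, Function.iterate_fixed (h1 w hw), h2 w hw]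

end Groth.Agent.H73.QLinIter
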