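import Mathlib
import Groth.Agent.H85.QLinSep

/-!
helper73: the semisimple part `V_ss = ⋂ span (im φ^n)` of a `q`-linear endomorphism of a
finite-dimensional vector space over a separably closed field has a basis of fixed vectors
(from helper85's `H85.QLinSep.exists_basis_fixed` applied to `V_ss`).
-/

set_option autoImplicit false
universe u v

namespace Groth.Agent.H73.QLinSS

variable {k : Type u} [Field k] {V : Type v} [AddCommGroup V] [Module k V]

/-- the span of the image of the `(n+1)`-st iterate -/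
def W (k : Type u) [Field k] {V : Type v} [AddCommGroup V] [Module k V] (φ : V →+ V) (n : ℕ) :
    Submodule k V :=
  Submodule.span k (Set.range (φ^[n + 1]))

theorem W_succ_le (φ : V →+ V) (n : ℕ) : W k φ (n + 1) ≤ W k φ n := by
  refine Submodule.span_mono ?_
  rintro _ ⟨v, rfl⟩
  exact ⟨φ v, by rw [← Function.iterate_succ_apply]⟩

theorem W_antitone (φ : V →+ V) : Antitone (W k φ) :=
  antitone_nat_of_succ_le (W_succ_le φ)

theorem map_mem_W (q : ℕ) (φ : V →+ V) (hφ : ∀ (c : k) (v : V), φ (c • v) = c ^ q • φ v)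
    (n : ℕ) {x : V} (hx : x ∈ W k φ n) : φ x ∈ W k φ (n + 1) := by
  induction hx using Submodule.span_induction with
  | mem x hx =>
    obtain ⟨v, rfl⟩ := hx
    refine Submodule.subset_span ⟨v, ?_⟩
    rw [Function.iterate_succ_apply' (n := n + 1)]
  | zero => rw [map_zero]; exact Submodule.zero_mem _
  | add x y _ _ hx hy => rw [map_add]; exact Submodule.add_mem _ hx hy
  | smul c x _ hx => rw [hφ]; exact Submodule.smul_mem _ _ hx

theorem exists_stable [FiniteDimensional k V] (φ : V →+ V) :
    ∃ N, ∀ n, N ≤ n → W k φ n = W k φ N := by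
  obtain ⟨N, hN⟩ := IsArtinian.monotone_stabilizes
    (⟨fun n => OrderDual.toDual (W k φ n), fun a b h => W_antitone φ h⟩ :
      ℕ →o (Submodule k V)ᵒᵈ)
  exact ⟨N, fun n hn => (OrderDual.toDual.injective (hN n hn)).symm⟩

theorem main (k : Type u) [Field k] [IsSepClosed k] (p : ℕ)
    [Fact p.Prime] [CharP k p] (r : ℕ) (hr : 0 < r) (V : Type v) [AddCommGroup V] [Module k V]
    [FiniteDimensional k V] (φ : V →+ V) (hφ : ∀ (c : k) (v : V), φ (c • v) = c ^ (p ^ r) • φ v) :
    let Vss : Submodule k V := ⨅ n : ℕ, Submodule.span k (Set.range (φ^[n + 1]))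
    ∃ b : Module.Basis (Fin (Module.finrank k ↥Vss)) k ↥Vss, (∀ i, φ (b i : V) = (b i : V)) ∧
      ∀ v : V, φ v = v → ∃ c : Fin (Module.finrank k ↥Vss) → k,
        (∀ i, c i ^ (p ^ r) = c i) ∧ v = ∑ i, c i • (b i : V) := by
  classical
  intro Vss
  obtain ⟨N, hN⟩ := exists_stable (k := k) φ
  have hVss : Vss = W k φ N := by
    apply le_antisymm
    · exact iInf_le _ N
    · refine le_iInf fun n => ?_
      rcases le_total N n with h | h
      · exact (hN n h).ge
      · exact W_antitone φ h
  have hmap : ∀ x ∈ Vss, φ x ∈ Vss := by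
    intro x hx
    rw [hVss] at hx ⊢
    have := map_mem_W (p ^ r) φ hφ N hx
    rwa [hN (N + 1) (Nat.le_succ N)] at this
  -- the restricted endomorphism
  let φ' : ↥Vss →+ ↥Vss :=
    { toFun := fun x => ⟨φ x, hmap x x.2⟩
      map_zero' := by ext; simp
      map_add' := fun x y => by ext; simp }
  have hφ' : ∀ (c : k) (v : ↥Vss), φ' (c • v) = c ^ (p ^ r) • φ' v := by
    intro c v
    ext
    simp [φ', hφ]
  have hss : Submodule.span k (Set.range φ') = ⊤ := by
    apply Submodule.map_injective_of_injective Vss.injective_subtype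
    rw [Submodule.map_span, Submodule.map_top, Submodule.range_subtype]
    apply le_antisymm
    · refine Submodule.span_le.mpr ?_
      rintro _ ⟨_, ⟨x, rfl⟩, rfl⟩
      exact (φ' x).2
    · have h1 : Vss = W k φ (N + 1) := by rw [hVss, hN (N + 1) (Nat.le_succ N)]
      conv_lhs => rw [h1]
      refine Submodule.span_mono ?_
      rintro _ ⟨v, rfl⟩
      have hv : φ^[N + 1] v ∈ Vss := by
        rw [hVss]; exact Submodule.subset_span ⟨v, rfl⟩
      refine ⟨φ' ⟨φ^[N + 1] v, hv⟩, ⟨_, rfl⟩, ?_⟩
      simp only [Submodule.subtype_apply, φ', AddMonoidHom.coe_mk, ZeroHom.coe_mk]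
      exact (Function.iterate_succ_apply' φ (N + 1) v).symm
  obtain ⟨b, hb, hrepr⟩ :=
    Groth.Agent.H85.QLinSep.exists_basis_fixed k p r hr (↥Vss) φ' hφ' hss
  refine ⟨b, fun i => ?_, fun v hv => ?_⟩
  · have := congrArg (Subtype.val) (hb i)
    exact this
  · have hvmem : v ∈ Vss := by
      refine (Submodule.mem_iInf _).mpr fun n => Submodule.subset_span ⟨v, ?_⟩
      exact Function.iterate_fixed hv (n + 1)
    have hfix : φ' ⟨v, hvmem⟩ = ⟨v, hvmem⟩ := by
      ext; exact hv
    refine ⟨fun i => b.repr ⟨v, hvmem⟩ i, fun i => hrepr _ hfix i, ?_⟩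
    have := congrArg (Subtype.val) (b.sum_repr ⟨v, hvmem⟩)
    simp only [Submodule.coe_sum, Submodule.coe_smul] at this
    exact this.symm

end Groth.Agent.H73.QLinSS
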