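import Mathlib.AlgebraicGeometry.Morphisms.QuasiCompact
import Mathlib.Topology.LocalAtTarget

set_option autoImplicit false

universe u

namespace Groth.Agent.H73

open CategoryTheory CategoryTheory.Limits AlgebraicGeometry TopologicalSpace

/-- Target `Spec R`: for quasi-compact `f`, the image of a closed set which is stable under
specialization is closed. -/
theorem isClosed_image_of_stable_Spec {X : Scheme.{u}} {R : CommRingCat.{u}} (f : X ⟶ Spec R)
    [QuasiCompact f] (W : Set X) (hW : IsClosed W) (H : StableUnderSpecialization (f '' W)) :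
    IsClosed (f '' W) := by
  obtain ⟨R', g, hg⟩ := compactSpace_iff_exists.mp (QuasiCompact.compactSpace_of_compactSpace f)
  have himg : f '' W = (g ≫ f) '' (g ⁻¹' W) := by
    rw [Scheme.Hom.comp_base, TopCat.coe_comp, Set.image_comp, Set.image_preimage_eq _ hg]
  rw [himg] at H ⊢
  obtain ⟨φ, hφ⟩ := Spec.homEquiv.symm.surjective (g ≫ f)
  rw [← hφ] at H ⊢
  exact PrimeSpectrum.isClosed_image_of_stableUnderSpecialization φ.hom (g ⁻¹' W)
    (hW.preimage g.continuous) H

/-- Affine target. -/
theorem isClosed_image_of_stable_affine {X Y : Scheme.{u}} [IsAffine Y] (f : X ⟶ Y)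
    [QuasiCompact f] (W : Set X) (hW : IsClosed W) (H : StableUnderSpecialization (f '' W)) :
    IsClosed (f '' W) := by
  let e : Y ≃ₜ Spec Γ(Y, ⊤) := Scheme.homeoOfIso Y.isoSpec
  have himg : (f ≫ Y.isoSpec.hom) '' W = e '' (f '' W) := by
    rw [Scheme.Hom.comp_base, TopCat.coe_comp, Set.image_comp]
    rfl
  have hst : StableUnderSpecialization ((f ≫ Y.isoSpec.hom) '' W) := by
    rw [himg]
    rintro _ z hz ⟨y, hy, rfl⟩
    obtain ⟨z, rfl⟩ := e.surjective z
    refine ⟨z, H ?_ hy, rfl⟩
    exact e.isInducing.specializes_iff.mp hz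
  have := isClosed_image_of_stable_Spec (f ≫ Y.isoSpec.hom) W hW hst
  rw [himg] at this
  exact (e.isClosed_image).mp this

/-- For a quasi-compact morphism, the image of a closed set which is stable under specialization
is closed. -/
theorem isClosed_image_of_stableUnderSpecialization {X Y : Scheme.{u}} (f : X ⟶ Y)
    [QuasiCompact f] (W : Set X) (hW : IsClosed W) (H : StableUnderSpecialization (f '' W)) :
    IsClosed (f '' W) := by
  have hcov : IsOpenCover (fun U : Y.affineOpens => (U : Y.Opens)) :=
    IsOpenCover.mk (iSup_affineOpens_eq_top Y)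
  rw [hcov.isClosed_iff_coe_preimage]
  intro U
  have : IsAffine (U : Y.Opens) := U.2
  have himg : (Subtype.val ⁻¹' (f '' W) : Set ↥(U : Y.Opens)) =
      (f ∣_ (U : Y.Opens)) '' (Subtype.val ⁻¹' W : Set ↥(f ⁻¹ᵁ (U : Y.Opens))) := by
    ext y
    constructor
    · rintro ⟨x, hx, hxy⟩
      have hxU : x ∈ f ⁻¹ᵁ (U : Y.Opens) := by
        show f x ∈ (U : Y.Opens)
        rw [hxy]
        exact y.2
      refine ⟨⟨x, hxU⟩, hx, ?_⟩
      apply Subtype.ext
      rw [morphismRestrict_base_coe]
      exact hxy
    · rintro ⟨x, hx, rfl⟩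
      refine ⟨x.1, hx, ?_⟩
      rw [morphismRestrict_base_coe]
  rw [himg]
  refine isClosed_image_of_stable_affine (f ∣_ (U : Y.Opens)) _
    (hW.preimage continuous_subtype_val) ?_
  rw [← himg]
  intro y z hyz hy
  exact H (hyz.map continuous_subtype_val) hy

end Groth.Agent.H73
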