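import Mathlib

set_option autoImplicit false
set_option linter.unusedSectionVars false
set_option linter.unusedVariables false
open QuadraticMap Matrix Polynomial

/-!
# Étale-local splitting of non-degenerate quadratic forms of even rank (helper73, for S3215)
-/

namespace Groth.Agent.H73.QuadSplit

section Abstract
variable {S : Type*} [CommRing S] {M M' : Type*} [AddCommGroup M] [Module S M]
  [AddCommGroup M'] [Module S M']

/-- hyperbolic family -/
structure IsHypFam {n : ℕ} (Q : QuadraticForm S M) (e f : Fin n → M) : Prop where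
  qe : ∀ k, Q (e k) = 0
  qf : ∀ k, Q (f k) = 0
  ee : ∀ k l, polar Q (e k) (e l) = 0
  ff : ∀ k l, polar Q (f k) (f l) = 0
  ef : ∀ k l, polar Q (e k) (f l) = if k = l then 1 else 0

lemma polar_of_map {Q : QuadraticForm S M} {Q' : QuadraticForm S M'} (T : M' →ₗ[S] M)
    (hT : ∀ z, Q (T z) = Q' z) (x y : M') : polar Q (T x) (T y) = polar Q' x y := by
  simp only [polar, ← map_add, hT]

lemma IsHypFam.map {n : ℕ} {Q : QuadraticForm S M} {Q' : QuadraticForm S M'} (T : M' →ₗ[S] M)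
    (hT : ∀ z, Q (T z) = Q' z) {e f : Fin n → M'} (h : IsHypFam Q' e f) :
    IsHypFam Q (fun k => T (e k)) (fun k => T (f k)) where
  qe k := by rw [hT, h.qe]
  qf k := by rw [hT, h.qf]
  ee k l := by rw [polar_of_map T hT, h.ee]
  ff k l := by rw [polar_of_map T hT, h.ff]
  ef k l := by rw [polar_of_map T hT, h.ef]

lemma IsHypFam.cons {n : ℕ} {Q : QuadraticForm S M} {e f : Fin n → M} (h : IsHypFam Q e f)
    {e₀ f₀ : M} (he₀ : Q e₀ = 0) (hf₀ : Q f₀ = 0) (hef : polar Q e₀ f₀ = 1)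
    (h1 : ∀ k, polar Q e₀ (e k) = 0) (h2 : ∀ k, polar Q e₀ (f k) = 0)
    (h3 : ∀ k, polar Q f₀ (e k) = 0) (h4 : ∀ k, polar Q f₀ (f k) = 0) :
    IsHypFam Q (Fin.cons e₀ e : Fin (n+1) → M) (Fin.cons f₀ f) where
  qe k := by
    refine Fin.cases ?_ (fun k => ?_) k
    · simpa using he₀
    · simpa using h.qe k
  qf k := by
    refine Fin.cases ?_ (fun k => ?_) k
    · simpa using hf₀
    · simpa using h.qf k
  ee k l := by
    refine Fin.cases ?_ (fun k => ?_) k <;> refine Fin.cases ?_ (fun l => ?_) l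
    · simp [polar_self, he₀]
    · simpa using h1 l
    · simpa [polar_comm] using h1 k
    · simpa using h.ee k l
  ff k l := by
    refine Fin.cases ?_ (fun k => ?_) k <;> refine Fin.cases ?_ (fun l => ?_) l
    · simp [polar_self, hf₀]
    · simpa using h4 l
    · simpa [polar_comm] using h4 k
    · simpa using h.ff k l
  ef k l := by
    refine Fin.cases ?_ (fun k => ?_) k <;> refine Fin.cases ?_ (fun l => ?_) l
    · simpa using hef
    · simpa [Fin.succ_ne_zero, eq_comm] using h2 l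
    · simpa [Fin.succ_ne_zero, polar_comm] using h3 k
    · simpa [Fin.succ_inj] using h.ef k l

/-- Q vanishes on the span of a totally isotropic family -/
lemma map_sum_isotropic {n : ℕ} (Q : QuadraticForm S M) (e : Fin n → M)
    (qe : ∀ k, Q (e k) = 0) (ee : ∀ k l, polar Q (e k) (e l) = 0) (x : Fin n → S)
    (s : Finset (Fin n)) : Q (∑ k ∈ s, x k • e k) = 0 ∧
      ∀ l, polar Q (∑ k ∈ s, x k • e k) (e l) = 0 := by
  induction s using Finset.induction_on with
  | empty => simp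
  | insert a s ha ih =>
    rw [Finset.sum_insert ha]
    constructor
    · rw [QuadraticMap.map_add Q, QuadraticMap.map_smul, qe, polar_comm, polar_smul_right,
        ih.2 a]
      simp [ih.1]
    · intro l
      rw [polar_add_left, polar_smul_left, ee, ih.2 l]
      simp

lemma polar_sum_smul_right {κ : Type*} (Q : QuadraticForm S M) (z : M) (g : κ → M) (c : κ → S)
    (s : Finset κ) :
    polar Q z (∑ k ∈ s, c k • g k) = ∑ k ∈ s, c k * polar Q z (g k) := by
  have h0 : ∀ w, polarBilin Q z w = polar Q z w := fun w => rfl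
  rw [← h0, map_sum]
  refine Finset.sum_congr rfl (fun k _ => ?_)
  rw [h0, polar_smul_right, smul_eq_mul]

lemma IsHypFam.eval {n : ℕ} {Q : QuadraticForm S M} {e f : Fin n → M} (h : IsHypFam Q e f)
    (x y : Fin n → S) :
    Q (∑ k, x k • e k + ∑ k, y k • f k) = ∑ k, x k * y k := by
  rw [QuadraticMap.map_add Q, (map_sum_isotropic Q e h.qe h.ee x Finset.univ).1,
    (map_sum_isotropic Q f h.qf h.ff y Finset.univ).1, zero_add, zero_add,
    polar_sum_smul_right]
  have h2 : ∀ l, polar Q (∑ k, x k • e k) (f l) = x l := by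
    intro l
    rw [polar_comm, polar_sum_smul_right]
    simp [polar_comm _ (f l), h.ef, Finset.sum_ite_eq']
  simp only [h2]
  exact Finset.sum_congr rfl (fun k _ => mul_comm _ _)

/-- correcting `f₀` to an isotropic partner. -/
lemma hyp_pair_fix (Q : QuadraticForm S M) {e₀ f₁ : M} (he₀ : Q e₀ = 0)
    (hef : polar Q e₀ f₁ = 1) :
    Q (f₁ - Q f₁ • e₀) = 0 ∧ polar Q e₀ (f₁ - Q f₁ • e₀) = 1 := by
  constructor
  · rw [sub_eq_add_neg, ← neg_smul, QuadraticMap.map_add Q, QuadraticMap.map_smul, he₀,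
      polar_smul_right, polar_comm, hef]
    simp
  · rw [polar_sub_right, polar_smul_right, polar_self, he₀, hef]
    simp

/-- projection to the orthogonal complement of a hyperbolic pair -/
lemma proj_orth (Q : QuadraticForm S M) {e₀ f₀ : M} (he₀ : Q e₀ = 0) (hf₀ : Q f₀ = 0)
    (hef : polar Q e₀ f₀ = 1) (v : M) :
    polar Q e₀ (v - polar Q v f₀ • e₀ - polar Q v e₀ • f₀) = 0 ∧
    polar Q f₀ (v - polar Q v f₀ • e₀ - polar Q v e₀ • f₀) = 0 := by
  constructor
  · rw [polar_sub_right, polar_sub_right, polar_smul_right, polar_smul_right, polar_self, he₀,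
      hef, polar_comm Q v e₀]
    simp
  · rw [polar_sub_right, polar_sub_right, polar_smul_right, polar_smul_right, polar_self, hf₀,
      polar_comm Q f₀ e₀, hef, polar_comm Q v f₀]
    simp

end Abstract

section MatrixForm
variable {S : Type*} [CommRing S] {ι : Type*} [Fintype ι] [DecidableEq ι]

/-- the quadratic form `x ↦ xᵀ c x`. -/
noncomputable def Qc (c : Matrix ι ι S) : QuadraticForm S (ι → S) :=
  (Matrix.toBilin' c).toQuadraticMap

lemma Qc_apply (c : Matrix ι ι S) (x : ι → S) : Qc c x = x ⬝ᵥ c *ᵥ x := by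
  simp [Qc, Matrix.toBilin'_apply']

lemma polar_Qc (c : Matrix ι ι S) (x y : ι → S) :
    polar (Qc c) x y = x ⬝ᵥ (c + cᵀ) *ᵥ y := by
  rw [Qc, LinearMap.BilinMap.polar_toQuadraticMap, Matrix.toBilin'_apply', Matrix.toBilin'_apply',
    Matrix.add_mulVec, dotProduct_add]
  congr 1
  rw [Matrix.mulVec_transpose, Matrix.dotProduct_mulVec, dotProduct_comm]

lemma Qc_map {S' : Type*} [CommRing S'] (φ : S →+* S') (c : Matrix ι ι S) (x : ι → S) :
    Qc (c.map φ) (φ ∘ x) = φ (Qc c x) := by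
  rw [Qc_apply, Qc_apply, RingHom.map_dotProduct]
  congr 1
  ext i
  simp [Matrix.mulVec, dotProduct, map_sum]

lemma polar_Qc_map {S' : Type*} [CommRing S'] (φ : S →+* S') (c : Matrix ι ι S) (x y : ι → S) :
    polar (Qc (c.map φ)) (φ ∘ x) (φ ∘ y) = φ (polar (Qc c) x y) := by
  have h : ∀ u v : ι → S, (φ ∘ u) + (φ ∘ v) = φ ∘ (u + v) := by
    intro u v; ext i; simp
  simp only [polar, h, Qc_map, map_sub]

lemma Qc_pullback {κ : Type*} [Fintype κ] [DecidableEq κ] (G : Matrix ι κ S) (c : Matrix ι ι S)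
    (z : κ → S) : Qc (Gᵀ * c * G) z = Qc c (G *ᵥ z) := by
  rw [Qc_apply, Qc_apply, ← Matrix.mulVec_mulVec, ← Matrix.mulVec_mulVec,
    Matrix.dotProduct_mulVec, Matrix.vecMul_transpose]

lemma Qc_single (c : Matrix ι ι S) (i : ι) : Qc c (Pi.single i 1) = c i i := by
  simp [Qc_apply]

lemma polar_Qc_single (c : Matrix ι ι S) (i j : ι) :
    polar (Qc c) (Pi.single i 1) (Pi.single j 1) = c i j + c j i := by
  simp [polar_Qc]

end MatrixForm

section ENbhdSec
universe u
variable {L : Type u} [Field L]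

/-- an étale neighbourhood of the geometric point `θ : R → L`. -/
structure ENbhd {R : Type u} [CommRing R] (θ : R →+* L) where
  S : Type u
  [cr : CommRing S]
  [alg : Algebra R S]
  et : Algebra.Etale R S
  ψ : S →+* L
  hψ : ∀ r, ψ (algebraMap R S r) = θ r

attribute [instance] ENbhd.cr ENbhd.alg

variable {R : Type u} [CommRing R] (θ : R →+* L)

noncomputable def ENbhd.refl : ENbhd θ where
  S := R
  et := inferInstance
  ψ := θ
  hψ _ := rfl

noncomputable def ENbhd.away (t : R) (ht : θ t ≠ 0) : ENbhd θ where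
  S := Localization.Away t
  et := inferInstance
  ψ := IsLocalization.Away.lift t (g := θ) (IsUnit.mk0 _ ht)
  hψ r := IsLocalization.Away.lift_eq t _ r

lemma ENbhd.away_isUnit (t : R) (ht : θ t ≠ 0) :
    IsUnit (algebraMap R (ENbhd.away θ t ht).S t) := by
  show IsUnit (algebraMap R (Localization.Away t) t)
  exact IsLocalization.Away.algebraMap_isUnit t

variable {θ}

noncomputable def ENbhd.trans (N : ENbhd θ) (N' : ENbhd N.ψ) : ENbhd θ :=
  letI : Algebra R N'.S := ((algebraMap N.S N'.S).comp (algebraMap R N.S)).toAlgebra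
  haveI : IsScalarTower R N.S N'.S := IsScalarTower.of_algebraMap_eq (fun _ => rfl)
  haveI := N.et
  haveI := N'.et
  { S := N'.S
    et := Algebra.Etale.comp R N.S N'.S
    ψ := N'.ψ
    hψ := fun r => by
      show N'.ψ (algebraMap N.S N'.S (algebraMap R N.S r)) = θ r
      rw [N'.hψ, N.hψ] }

lemma ENbhd.trans_algebraMap (N : ENbhd θ) (N' : ENbhd N.ψ) (r : R) :
    algebraMap R (N.trans N').S r = algebraMap N.S N'.S (algebraMap R N.S r) := rfl


/-- the standard étale pair `X² + βX + δ` (unit discriminant). -/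
noncomputable def quadPair (β δ Dinv : R) (hD : (β ^ 2 - 4 * δ) * Dinv = 1) :
    StandardEtalePair R where
  f := X ^ 2 + (C β * X + C δ)
  monic_f := by
    apply monic_X_pow_add
    exact lt_of_le_of_lt (degree_linear_le) (by norm_num)
  g := 1
  cond := ⟨C Dinv * (2 * X + C β), - (4 * C Dinv), 1, by
    have h : (C β ^ 2 - 4 * C δ) * C Dinv = (1 : R[X]) := by
      have := congrArg (C : R → R[X]) hD
      simpa [map_ofNat] using this
    have hd : derivative (X ^ 2 + (C β * X + C δ)) = 2 * X + C β := by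
      simp
      ring
    rw [hd]
    linear_combination h⟩

variable (θ)
variable [IsAlgClosed L]

lemma quadPair_root (β δ Dinv : R) (hD : (β ^ 2 - 4 * δ) * Dinv = 1) :
    ∃ r : L, r ^ 2 + θ β * r + θ δ = 0 := by
  have hdeg : ((X : L[X]) ^ 2 + (C (θ β) * X + C (θ δ))).degree ≠ 0 := by
    rw [degree_add_eq_left_of_degree_lt (by
      rw [degree_X_pow]; exact lt_of_le_of_lt degree_linear_le (by norm_num)), degree_X_pow]
    norm_num
  obtain ⟨r, hr⟩ := IsAlgClosed.exists_root _ hdeg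
  refine ⟨r, ?_⟩
  simpa [IsRoot, add_assoc] using hr

noncomputable def ENbhd.quad (β δ Dinv : R) (hD : (β ^ 2 - 4 * δ) * Dinv = 1) : ENbhd θ :=
  letI : Algebra R L := θ.toAlgebra
  { S := (quadPair β δ Dinv hD).Ring
    et := inferInstance
    ψ := ((quadPair β δ Dinv hD).lift (quadPair_root θ β δ Dinv hD).choose
      ⟨by
        have := (quadPair_root θ β δ Dinv hD).choose_spec
        simp only [quadPair, map_add, map_pow, aeval_X, map_mul, aeval_C,
          RingHom.algebraMap_toAlgebra]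
        linear_combination this, by simp [quadPair]⟩).toRingHom
    hψ := fun r => AlgHom.commutes _ r }

/-- the root -/
noncomputable def ENbhd.quadRoot (β δ Dinv : R) (hD : (β ^ 2 - 4 * δ) * Dinv = 1) :
    (ENbhd.quad θ β δ Dinv hD).S := (quadPair β δ Dinv hD).X

omit [IsAlgClosed L] in
lemma quadPair_X_spec (β δ Dinv : R) (hD : (β ^ 2 - 4 * δ) * Dinv = 1) :
    (quadPair β δ Dinv hD).X ^ 2
      + algebraMap R (quadPair β δ Dinv hD).Ring β * (quadPair β δ Dinv hD).X
      + algebraMap R (quadPair β δ Dinv hD).Ring δ = 0 := by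
  have := (quadPair β δ Dinv hD).hasMap_X.1
  change aeval (quadPair β δ Dinv hD).X (X ^ 2 + (C β * X + C δ)) = 0 at this
  rw [map_add, map_add, map_pow, map_mul, aeval_X, aeval_C, aeval_C] at this
  linear_combination this

lemma ENbhd.quadRoot_spec (β δ Dinv : R) (hD : (β ^ 2 - 4 * δ) * Dinv = 1) :
    (ENbhd.quadRoot θ β δ Dinv hD) ^ 2
      + algebraMap R (ENbhd.quad θ β δ Dinv hD).S β * (ENbhd.quadRoot θ β δ Dinv hD)
      + algebraMap R (ENbhd.quad θ β δ Dinv hD).S δ = 0 :=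
  quadPair_X_spec β δ Dinv hD

end ENbhdSec

section Binary
universe u
variable {L : Type u} [Field L] [IsAlgClosed L] {R : Type u} [CommRing R] (θ : R →+* L)

/-- the conclusion of the binary lemma over an algebra `S`. -/
def BinSplit {S : Type*} [CommRing S] (A T G : S) (p₁ p₂ p₃ p₄ : S) : Prop :=
  p₁ ^ 2 * A + p₁ * p₂ * T + p₂ ^ 2 * G = 0 ∧ p₃ ^ 2 * A + p₃ * p₄ * T + p₄ ^ 2 * G = 0 ∧
  2 * p₁ * p₃ * A + (p₁ * p₄ + p₂ * p₃) * T + 2 * p₂ * p₄ * G = 1 ∧ IsUnit (p₁ * p₄ - p₂ * p₃)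

lemma binary_alg {S : Type*} [CommRing S] (A T G lam Di : S)
    (r1 : A + lam * T + lam ^ 2 * G = 0) (r2 : (T ^ 2 - 4 * A * G) * Di = 1) :
    BinSplit A T G 1 lam (-(((T + 2 * lam * G) * Di) ^ 2 * G))
      ((T + 2 * lam * G) * Di - ((T + 2 * lam * G) * Di) ^ 2 * G * lam) := by
  have hu : ((T + 2 * lam * G) * Di) * (T + 2 * lam * G) = 1 := by
    linear_combination r2 + 4 * G * Di * r1
  refine ⟨by linear_combination r1, ?_, ?_, ?_⟩
  · linear_combination ((((T + 2 * lam * G) * Di) ^ 2 * G) ^ 2) * r1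
      - (((T + 2 * lam * G) * Di) ^ 2 * G) * hu
  · linear_combination hu - 2 * (((T + 2 * lam * G) * Di) ^ 2 * G) * r1
  · have : (1 : S) * ((T + 2 * lam * G) * Di - ((T + 2 * lam * G) * Di) ^ 2 * G * lam)
        - lam * (-(((T + 2 * lam * G) * Di) ^ 2 * G)) = (T + 2 * lam * G) * Di := by ring
    rw [this]
    exact IsUnit.of_mul_eq_one _ hu

lemma exists_quad (β δ Dinv : R) (hD : (β ^ 2 - 4 * δ) * Dinv = 1) :
    ∃ N : ENbhd θ, ∃ lam : N.S, lam ^ 2 + algebraMap R N.S β * lam + algebraMap R N.S δ = 0 :=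
  ⟨ENbhd.quad θ β δ Dinv hD, ENbhd.quadRoot θ β δ Dinv hD, ENbhd.quadRoot_spec θ β δ Dinv hD⟩

lemma exists_away (s : R) (hs : θ s ≠ 0) :
    ∃ N : ENbhd θ, IsUnit (algebraMap R N.S s) :=
  ⟨ENbhd.away θ s hs, ENbhd.away_isUnit θ s hs⟩

variable {θ} in
lemma binary_core' (N₁ : ENbhd θ) (α t γ : R) (γi Di : N₁.S)
    (hγi : algebraMap R N₁.S γ * γi = 1)
    (hDi : ((algebraMap R N₁.S t) ^ 2 - 4 * algebraMap R N₁.S α * algebraMap R N₁.S γ) * Di = 1) :
    ∃ N : ENbhd θ, ∃ p₁ p₂ p₃ p₄ : N.S,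
      BinSplit (algebraMap R N.S α) (algebraMap R N.S t) (algebraMap R N.S γ) p₁ p₂ p₃ p₄ := by
  have hq : ((algebraMap R N₁.S t * γi) ^ 2 - 4 * (algebraMap R N₁.S α * γi))
      * (Di * (algebraMap R N₁.S γ) ^ 2) = 1 := by
    linear_combination hDi + ((algebraMap R N₁.S t) ^ 2 * Di * (algebraMap R N₁.S γ * γi + 1)
      - 4 * algebraMap R N₁.S α * Di * algebraMap R N₁.S γ) * hγi
  obtain ⟨N₂, lam, hlam⟩ := exists_quad N₁.ψ _ _ _ hq
  have key := binary_alg (algebraMap N₁.S N₂.S (algebraMap R N₁.S α))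
    (algebraMap N₁.S N₂.S (algebraMap R N₁.S t)) (algebraMap N₁.S N₂.S (algebraMap R N₁.S γ))
    lam (algebraMap N₁.S N₂.S Di)
    (by
      have h1 := congrArg (algebraMap N₁.S N₂.S) hγi
      simp only [map_mul, map_one] at h1 hlam
      linear_combination (algebraMap N₁.S N₂.S (algebraMap R N₁.S γ)) * hlam
        - (lam * algebraMap N₁.S N₂.S (algebraMap R N₁.S t)
          + algebraMap N₁.S N₂.S (algebraMap R N₁.S α)) * h1)
    (by
      have h2 := congrArg (algebraMap N₁.S N₂.S) hDi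
      simpa [map_ofNat] using h2)
  exact ⟨N₁.trans N₂, _, _, _, _, key⟩

lemma binary_core (α t γ : R) (hγ : θ γ ≠ 0) (hD : θ (t ^ 2 - 4 * α * γ) ≠ 0) :
    ∃ N : ENbhd θ, ∃ p₁ p₂ p₃ p₄ : N.S,
      BinSplit (algebraMap R N.S α) (algebraMap R N.S t) (algebraMap R N.S γ) p₁ p₂ p₃ p₄ := by
  have hprod : θ (γ * (t ^ 2 - 4 * α * γ)) ≠ 0 := by
    rw [map_mul]; exact mul_ne_zero hγ hD
  obtain ⟨N₁, hunit⟩ := exists_away θ _ hprod
  rw [map_mul] at hunit
  obtain ⟨γi, hγi⟩ := (isUnit_of_mul_isUnit_left hunit).exists_right_inv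
  obtain ⟨Di, hDi⟩ := (isUnit_of_mul_isUnit_right hunit).exists_right_inv
  refine binary_core' N₁ α t γ γi Di hγi ?_
  simpa [map_ofNat] using hDi

lemma BinSplit.swap {S : Type*} [CommRing S] {A T G p₁ p₂ p₃ p₄ : S}
    (h : BinSplit G T A p₁ p₂ p₃ p₄) : BinSplit A T G p₂ p₁ p₄ p₃ := by
  obtain ⟨h1, h2, h3, h4⟩ := h
  refine ⟨by linear_combination h1, by linear_combination h2, by linear_combination h3, ?_⟩
  have : p₂ * p₃ - p₁ * p₄ = -(p₁ * p₄ - p₂ * p₃) := by ring
  rw [this]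
  exact h4.neg

lemma BinSplit.shear {S : Type*} [CommRing S] {A T G p₁ p₂ p₃ p₄ : S}
    (h : BinSplit A (2 * A + T) (A + T + G) p₁ p₂ p₃ p₄) :
    BinSplit A T G (p₁ + p₂) p₂ (p₃ + p₄) p₄ := by
  obtain ⟨h1, h2, h3, h4⟩ := h
  refine ⟨by linear_combination h1, by linear_combination h2, by linear_combination h3, ?_⟩
  have : (p₁ + p₂) * p₄ - p₂ * (p₃ + p₄) = p₁ * p₄ - p₂ * p₃ := by ring
  rw [this]
  exact h4

lemma binary_split (α t γ : R) (hD : θ (t ^ 2 - 4 * α * γ) ≠ 0) :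
    ∃ N : ENbhd θ, ∃ p₁ p₂ p₃ p₄ : N.S,
      BinSplit (algebraMap R N.S α) (algebraMap R N.S t) (algebraMap R N.S γ) p₁ p₂ p₃ p₄ := by
  by_cases hγ : θ γ = 0
  · by_cases hα : θ α = 0
    · have ht : θ t ≠ 0 := by
        intro ht
        apply hD
        simp [ht, hα, hγ]
      have h1 : θ (α + t + γ) ≠ 0 := by
        simpa [hα, hγ] using ht
      have h2 : θ ((2 * α + t) ^ 2 - 4 * α * (α + t + γ)) ≠ 0 := by
        have : (2 * α + t) ^ 2 - 4 * α * (α + t + γ) = t ^ 2 - 4 * α * γ := by ring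
        rw [this]; exact hD
      obtain ⟨N, p₁, p₂, p₃, p₄, h⟩ := binary_core θ α (2 * α + t) (α + t + γ) h1 h2
      have h' : BinSplit (algebraMap R N.S α) (2 * algebraMap R N.S α + algebraMap R N.S t)
          (algebraMap R N.S α + algebraMap R N.S t + algebraMap R N.S γ) p₁ p₂ p₃ p₄ := by
        simpa [map_ofNat] using h
      exact ⟨N, _, _, _, _, h'.shear⟩
    · have h2 : θ (t ^ 2 - 4 * γ * α) ≠ 0 := by
        have : t ^ 2 - 4 * γ * α = t ^ 2 - 4 * α * γ := by ring
        rw [this]; exact hD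
      obtain ⟨N, p₁, p₂, p₃, p₄, h⟩ := binary_core θ γ t α hα h2
      exact ⟨N, _, _, _, _, h.swap⟩
  · exact binary_core θ α t γ hγ hD

end Binary

section Vec
variable {S : Type*} [CommRing S] {ι : Type*} [Fintype ι] [DecidableEq ι]

/-- `p v_i + q v_j`. -/
def vec (i j : ι) (p q : S) : ι → S := p • Pi.single i 1 + q • Pi.single j 1

lemma Qc_vec (c : Matrix ι ι S) (i j : ι) (p q : S) :
    Qc c (vec i j p q) = p ^ 2 * c i i + p * q * (c i j + c j i) + q ^ 2 * c j j := by
  rw [vec, QuadraticMap.map_add (Qc c), QuadraticMap.map_smul, QuadraticMap.map_smul,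
    polar_smul_left, polar_smul_right, Qc_single, Qc_single, polar_Qc_single]
  simp only [smul_eq_mul]
  ring

lemma polar_vec (c : Matrix ι ι S) (i j : ι) (p₁ p₂ p₃ p₄ : S) :
    polar (Qc c) (vec i j p₁ p₂) (vec i j p₃ p₄)
      = 2 * p₁ * p₃ * c i i + (p₁ * p₄ + p₂ * p₃) * (c i j + c j i) + 2 * p₂ * p₄ * c j j := by
  rw [vec, vec, polar_add_left, polar_add_right, polar_add_right]
  simp only [polar_smul_left, polar_smul_right, polar_self, Qc_single, polar_Qc_single,
    smul_eq_mul]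
  ring

lemma vec_apply_of_ne (i j k : ι) (p q : S) (hi : k ≠ i) (hj : k ≠ j) : vec i j p q k = 0 := by
  simp [vec, Pi.single_apply, hi, hj]

lemma vec_map {S' : Type*} [CommRing S'] (φ : S →+* S') (i j : ι) (p q : S) :
    φ ∘ (vec i j p q : ι → S) = vec i j (φ p) (φ q) := by
  ext k
  simp [vec, Pi.single_apply, apply_ite φ]

end Vec

section FindPair
variable {L : Type*} [Field L] {ι : Type*} [Fintype ι] [DecidableEq ι]

/-- non-degeneracy in kernel form -/
def ND (c : Matrix ι ι L) : Prop := ∀ z : ι → L, (∀ y, polar (Qc c) y z = 0) → z = 0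

lemma ND.of_mulVec {c : Matrix ι ι L} (h : ND c) (z : ι → L)
    (hz : ∀ l, ∑ m, (c l m + c m l) * z m = 0) : z = 0 := by
  apply h
  intro y
  rw [polar_Qc]
  have : (c + cᵀ) *ᵥ z = 0 := by
    ext l
    simpa [Matrix.mulVec, dotProduct] using hz l
  rw [this, dotProduct_zero]

lemma find_pair (c : Matrix ι ι L) (hcard : 2 ≤ Fintype.card ι) (hND : ND c) :
    ∃ (i j k : ι) (a : ℕ), i ≠ j ∧ k ≠ j ∧
      ((c i j + c j i) + a * (c i k + c k i)) ^ 2
        - 4 * c i i * (c j j + a * (c j k + c k j) + (a : L) ^ 2 * c k k) ≠ 0 := by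
  classical
  set P : ι → ι → L := fun x y => c x y + c y x with hP
  have hPs : ∀ x y, P x y = P y x := fun x y => add_comm _ _
  have hPd : ∀ x, P x x = 2 * c x x := fun x => (two_mul _).symm
  obtain ⟨i₀, j₀, hij₀⟩ := Fintype.exists_pair_of_one_lt_card (α := ι) (by omega)
  by_cases hdiag : ∀ i, P i i = 0
  · -- zero diagonal
    have hz : (Pi.single i₀ (1 : L) : ι → L) ≠ 0 := by
      intro h
      have := congrFun h i₀
      simp at this
    have : ¬ ∀ l, ∑ m, (c l m + c m l) * (Pi.single i₀ (1 : L) : ι → L) m = 0 :=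
      fun h => hz (hND.of_mulVec _ h)
    push Not at this
    obtain ⟨l, hl⟩ := this
    have hl' : P l i₀ ≠ 0 := by
      simpa [Pi.single_apply, hP] using hl
    have hne : l ≠ i₀ := by
      rintro rfl
      exact hl' (hdiag l)
    refine ⟨l, i₀, l, 0, hne, hne, ?_⟩
    have h1 : 4 * c l l * c i₀ i₀ = P l l * P i₀ i₀ := by rw [hPd, hPd]; ring
    simp only [Nat.cast_zero, zero_mul, add_zero, ne_eq, zero_pow, OfNat.ofNat_ne_zero,
      not_false_eq_true]
    have : 4 * c l l * c i₀ i₀ = 0 := by rw [h1, hdiag l, zero_mul]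
    rw [this, sub_zero]
    exact pow_ne_zero 2 hl'
  · push Not at hdiag
    obtain ⟨i, hi⟩ := hdiag
    have h2 : (2 : L) ≠ 0 := by
      intro h
      apply hi
      rw [hPd, h, zero_mul]
    set a₀ := P i i with ha₀
    set P' : ι → ι → L := fun x y => a₀ * P x y - P i x * P i y with hP'
    have hP'i : ∀ y, P' i y = 0 := fun y => by simp [hP', ha₀]
    have hP'i2 : ∀ y, P' y i = 0 := fun y => by
      simp only [hP', ha₀]; rw [hPs y i]; ring
    by_cases h2a : ∃ j, P' j j ≠ 0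
    · obtain ⟨j, hj⟩ := h2a
      have hne : i ≠ j := by
        rintro rfl
        exact hj (hP'i _)
      refine ⟨i, j, i, 0, hne, hne, ?_⟩
      simp only [Nat.cast_zero, zero_mul, add_zero, ne_eq, zero_pow, OfNat.ofNat_ne_zero,
        not_false_eq_true]
      intro h
      apply hj
      have : P' j j = -((c i j + c j i) ^ 2 - 4 * c i i * c j j) := by
        simp only [hP', ha₀, hP]
        ring
      rw [this, h, neg_zero]
    · push Not at h2a
      by_cases h2b : ∃ j k, P' j k ≠ 0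
      · obtain ⟨j, k, hjk⟩ := h2b
        have hji : i ≠ j := by
          rintro rfl
          exact hjk (hP'i _)
        have hki : k ≠ i := by
          rintro rfl
          exact hjk (hP'i2 _)
        have hkj : k ≠ j := by
          rintro rfl
          exact hjk (h2a _)
        refine ⟨i, j, k, 1, hji, hkj, ?_⟩
        intro h
        apply hjk
        have e1 : ((c i j + c j i) + ((1 : ℕ) : L) * (c i k + c k i)) ^ 2
            - 4 * c i i * (c j j + ((1 : ℕ) : L) * (c j k + c k j) + (((1 : ℕ) : L)) ^ 2 * c k k)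
            = -(P' j j + P' k k + 2 * P' j k) := by
          simp only [hP', ha₀, hP, Nat.cast_one]
          ring
        rw [e1, h2a j, h2a k, zero_add, zero_add, neg_eq_zero] at h
        exact (mul_eq_zero.1 h).resolve_left h2
      · push Not at h2b
        exfalso
        obtain ⟨j₁, hj₁⟩ : ∃ j₁, j₁ ≠ i := by
          by_cases h : i₀ = i
          · exact ⟨j₀, fun h' => hij₀ (h.trans h'.symm)⟩
          · exact ⟨i₀, h⟩
        have hz := hND.of_mulVec (a₀ • Pi.single j₁ (1 : L) - P i j₁ • Pi.single i (1 : L)) (by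
          intro l
          have := h2b l j₁
          simp only [hP', hP, ha₀] at this
          simp only [Pi.sub_apply, Pi.smul_apply, Pi.single_apply, smul_eq_mul, mul_ite, mul_one,
            mul_zero, mul_sub, Finset.sum_sub_distrib, Finset.sum_ite_eq', Finset.mem_univ,
            if_true]
          simp only [ha₀, hP]
          linear_combination this)
        have := congrFun hz j₁
        simp [Pi.single_apply, hj₁] at this
        exact hi this

end FindPair

section Transv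
variable {S : Type*} [CommRing S] {ι : Type*} [Fintype ι] [DecidableEq ι]

lemma transv_mulVec_single (k j x : ι) (hkj : k ≠ j) (a : S) :
    (Matrix.transvection k j a) *ᵥ (Pi.single x (1 : S))
      = if x = j then vec j k 1 a else Pi.single x 1 := by
  ext y
  simp only [Matrix.transvection, Matrix.add_mulVec, Matrix.one_mulVec, Pi.add_apply]
  split_ifs with h
  · subst h
    simp only [vec, Pi.add_apply, Pi.smul_apply, smul_eq_mul, one_mul]
    congr 1
    simp [Matrix.mulVec, dotProduct, Matrix.single_apply, Pi.single_apply, eq_comm]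
  · have : (Matrix.single k j a *ᵥ (Pi.single x (1 : S))) y = 0 := by
      simp [Matrix.mulVec, dotProduct, Matrix.single_apply, Pi.single_apply, h]
      intro _ h'
      exact absurd h'.symm h
    rw [this, add_zero]

lemma transv_entries (c : Matrix ι ι S) (i j k : ι) (hij : i ≠ j) (hkj : k ≠ j) (a : S) :
    ((Matrix.transvection k j a)ᵀ * c * (Matrix.transvection k j a)) i i = c i i ∧
    ((Matrix.transvection k j a)ᵀ * c * (Matrix.transvection k j a)) j j
      = c j j + a * (c j k + c k j) + a ^ 2 * c k k ∧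
    ((Matrix.transvection k j a)ᵀ * c * (Matrix.transvection k j a)) i j
      + ((Matrix.transvection k j a)ᵀ * c * (Matrix.transvection k j a)) j i
      = (c i j + c j i) + a * (c i k + c k i) := by
  set E := Matrix.transvection k j a with hE
  have hi : E *ᵥ (Pi.single i (1 : S)) = Pi.single i 1 := by
    rw [hE, transv_mulVec_single k j i hkj a, if_neg hij]
  have hj : E *ᵥ (Pi.single j (1 : S)) = vec j k 1 a := by
    rw [hE, transv_mulVec_single k j j hkj a, if_pos rfl]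
  refine ⟨?_, ?_, ?_⟩
  · rw [← Qc_single (Eᵀ * c * E) i, Qc_pullback, hi, Qc_single]
  · rw [← Qc_single (Eᵀ * c * E) j, Qc_pullback, hj, Qc_vec]
    ring
  · rw [← polar_Qc_single (Eᵀ * c * E) i j, ← polar_of_map (Q := Qc c) (Matrix.mulVecLin E)
      (fun z => (Qc_pullback E c z).symm)]
    simp only [Matrix.mulVecLin_apply, hi, hj, vec]
    rw [polar_add_right, polar_smul_right, polar_smul_right, polar_Qc_single, polar_Qc_single]
    simp only [smul_eq_mul]
    ring

end Transv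

section NDlemmas
variable {L : Type*} [Field L] {ι : Type*} [Fintype ι] [DecidableEq ι]

lemma ND.congr {c : Matrix ι ι L} (h : ND c) (E E' : Matrix ι ι L) (h1 : E * E' = 1)
    (h2 : E' * E = 1) : ND (Eᵀ * c * E) := by
  intro z hz
  have hz' : ∀ y', polar (Qc c) y' (E *ᵥ z) = 0 := by
    intro y'
    have := hz (E' *ᵥ y')
    rw [← polar_of_map (Q := Qc c) (Matrix.mulVecLin E) (fun z => (Qc_pullback E c z).symm)] at this
    simpa [Matrix.mulVecLin_apply, Matrix.mulVec_mulVec, h1] using this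
  have := h _ hz'
  have h3 := congrArg (fun v => E' *ᵥ v) this
  simpa [Matrix.mulVec_mulVec, h2] using h3

variable {ι' : Type*} [Fintype ι'] [DecidableEq ι']

lemma ND.complement {c : Matrix ι ι L} (h : ND c) (i j : ι) (hij : i ≠ j) (e₀ f₀ : ι → L) (G : Matrix ι ι' L)
    (emb : ι' → ι)
    (hspan : ∀ α β : L, ∃ s r : L, (vec i j α β : ι → L) = s • e₀ + r • f₀)
    (hemb : ∀ x : ι, x ≠ i → x ≠ j → ∃ l, emb l = x)
    (he : ∀ z, polar (Qc c) e₀ (G *ᵥ z) = 0) (hf : ∀ z, polar (Qc c) f₀ (G *ᵥ z) = 0)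
    (hG : ∀ z l, (G *ᵥ z) (emb l) = z l) : ND (Gᵀ * c * G) := by
  intro z hz
  have hz' : ∀ y, polar (Qc c) y (G *ᵥ z) = 0 := by
    intro y
    -- decompose y
    set y' : ι' → L := fun l => y (emb l) with hy'
    obtain ⟨s, r, hsr⟩ := hspan ((y - G *ᵥ y') i) ((y - G *ᵥ y') j)
    have hdec : y = G *ᵥ y' + (s • e₀ + r • f₀) := by
      rw [← hsr]
      ext x
      by_cases hxi : x = i
      · subst hxi
        simp [vec, Pi.single_apply, hij]
      · by_cases hxj : x = j
        · subst hxj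
          simp [vec, Pi.single_apply, hxi]
        · obtain ⟨l, rfl⟩ := hemb x hxi hxj
          simp [vec, Pi.single_apply, hxi, hxj, hG, hy']
    rw [hdec, polar_add_left, polar_add_left, polar_smul_left, polar_smul_left, he, hf]
    have := hz y'
    rw [← polar_of_map (Q := Qc c) (Matrix.mulVecLin G) (fun z => (Qc_pullback G c z).symm)] at this
    simp only [Matrix.mulVecLin_apply] at this
    rw [this]
    simp
  have h0 := h _ hz'
  ext l
  rw [← hG z l, h0]
  rfl

end NDlemmas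

section StepLemmas
variable {S S' : Type*} [CommRing S] [CommRing S'] {ι κ : Type*} [Fintype ι] [DecidableEq ι]
  [Fintype κ] [DecidableEq κ]

lemma map_mulVec_eq_sum (φ : S →+* S') (w : κ → ι → S) (z : κ → S') :
    ((Matrix.of fun a l => w l a).map φ) *ᵥ z = ∑ l, z l • (φ ∘ w l) := by
  ext x
  simp [Matrix.mulVec, dotProduct, mul_comm]

lemma orth_mulVec (φ : S →+* S') (c : Matrix ι ι S) (x : ι → S) (w : κ → ι → S)
    (h : ∀ l, polar (Qc c) x (w l) = 0) (z : κ → S') :
    polar (Qc (c.map φ)) (φ ∘ x) (((Matrix.of fun a l => w l a).map φ) *ᵥ z) = 0 := by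
  rw [map_mulVec_eq_sum, polar_sum_smul_right]
  simp [polar_Qc_map, h]

lemma vec_lin (i j : ι) (s r a b a' b' : S) :
    s • (vec i j a b : ι → S) + r • vec i j a' b' = vec i j (s * a + r * a') (s * b + r * b') := by
  ext x
  simp only [vec, Pi.add_apply, Pi.smul_apply, smul_eq_mul]
  ring

lemma card_compl (i j : ι) (hij : i ≠ j) :
    Fintype.card {l : ι // l ≠ i ∧ l ≠ j} = Fintype.card ι - 2 := by
  rw [Fintype.card_subtype]
  have : (Finset.univ.filter (fun l : ι => l ≠ i ∧ l ≠ j)) = (Finset.univ.erase i).erase j := by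
    ext l
    simp [and_comm]
  rw [this, Finset.card_erase_of_mem (by simp [hij.symm]), Finset.card_erase_of_mem (by simp)]
  simp [Finset.card_univ]
  omega

end StepLemmas

section Step
universe u
variable {L : Type u} [Field L]

lemma step_core {S₁ : Type u} [CommRing S₁] (ψ₁ : S₁ →+* L) {ι : Type} [Fintype ι] [DecidableEq ι]
    (c₁ : Matrix ι ι S₁) (hND : ND (c₁.map ψ₁)) (i j : ι) (hij : i ≠ j) (p₁ p₂ p₃ p₄ : S₁)
    (hsplit : BinSplit (c₁ i i) (c₁ i j + c₁ j i) (c₁ j j) p₁ p₂ p₃ p₄) (m : ℕ)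
    (ih : ∀ (c' : Matrix {l : ι // l ≠ i ∧ l ≠ j} {l : ι // l ≠ i ∧ l ≠ j} S₁), ND (c'.map ψ₁) →
      ∃ N₂ : ENbhd ψ₁, ∃ e' f' : Fin m → {l : ι // l ≠ i ∧ l ≠ j} → N₂.S,
        IsHypFam (Qc (c'.map (algebraMap S₁ N₂.S))) e' f') :
    ∃ N₂ : ENbhd ψ₁, ∃ e f : Fin (m + 1) → ι → N₂.S,
      IsHypFam (Qc (c₁.map (algebraMap S₁ N₂.S))) e f := by
  have he₀ : Qc c₁ (vec i j p₁ p₂) = 0 := by rw [Qc_vec]; exact hsplit.1
  have hf₀ : Qc c₁ (vec i j p₃ p₄) = 0 := by rw [Qc_vec]; exact hsplit.2.1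
  have hef : polar (Qc c₁) (vec i j p₁ p₂) (vec i j p₃ p₄) = 1 := by
    rw [polar_vec]; exact hsplit.2.2.1
  have hdet : IsUnit (p₁ * p₄ - p₂ * p₃) := hsplit.2.2.2
  obtain ⟨wv, hwv⟩ : ∃ wv : ι → ι → S₁, ∀ l, wv l = Pi.single l 1
      - polar (Qc c₁) (Pi.single l 1) (vec i j p₃ p₄) • vec i j p₁ p₂
      - polar (Qc c₁) (Pi.single l 1) (vec i j p₁ p₂) • vec i j p₃ p₄ := ⟨_, fun l => rfl⟩
  have horth_e : ∀ l, polar (Qc c₁) (vec i j p₁ p₂) (wv l) = 0 := fun l => by
    rw [hwv]; exact (proj_orth (Qc c₁) he₀ hf₀ hef _).1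
  have horth_f : ∀ l, polar (Qc c₁) (vec i j p₃ p₄) (wv l) = 0 := fun l => by
    rw [hwv]; exact (proj_orth (Qc c₁) he₀ hf₀ hef _).2
  have hwv_apply : ∀ l x : ι, x ≠ i → x ≠ j → wv l x = if x = l then 1 else 0 := by
    intro l x hxi hxj
    rw [hwv]
    simp [vec_apply_of_ne i j x _ _ hxi hxj, Pi.single_apply]
  obtain ⟨G, hG⟩ : ∃ G : Matrix ι {l : ι // l ≠ i ∧ l ≠ j} S₁,
      G = Matrix.of (fun a (l : {l : ι // l ≠ i ∧ l ≠ j}) => wv l.val a) := ⟨_, rfl⟩
  have hGval : ∀ {S' : Type u} [CommRing S'] (φ : S₁ →+* S')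
      (z : {l : ι // l ≠ i ∧ l ≠ j} → S') (l : {l : ι // l ≠ i ∧ l ≠ j}),
      ((G.map φ) *ᵥ z) l.val = z l := by
    intro S' _ φ z l
    rw [hG]
    simp only [Matrix.mulVec, dotProduct, Matrix.map_apply, Matrix.of_apply]
    have : ∀ l' : {l : ι // l ≠ i ∧ l ≠ j}, φ (wv l'.val l.val) * z l'
        = if l' = l then z l' else 0 := by
      intro l'
      rw [hwv_apply _ _ l.2.1 l.2.2]
      by_cases h : l' = l
      · subst h; simp
      · have : ¬ (l.val = l'.val) := fun h' => h (Subtype.ext h'.symm)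
        simp [h, this]
    simp only [this, Finset.sum_ite_eq', Finset.mem_univ, if_true]
  have hND' : ND ((Gᵀ * c₁ * G).map ψ₁) := by
    have : (Gᵀ * c₁ * G).map ψ₁ = (G.map ψ₁)ᵀ * (c₁.map ψ₁) * (G.map ψ₁) := by
      simp [Matrix.map_mul, Matrix.transpose_map]
    rw [this]
    have hd : ψ₁ p₁ * ψ₁ p₄ - ψ₁ p₂ * ψ₁ p₃ ≠ 0 := by
      have := (hdet.map ψ₁).ne_zero
      simpa using this
    apply hND.complement i j hij (ψ₁ ∘ vec i j p₁ p₂) (ψ₁ ∘ vec i j p₃ p₄) (G.map ψ₁) Subtype.val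
    · intro α β
      refine ⟨(α * ψ₁ p₄ - β * ψ₁ p₃) / (ψ₁ p₁ * ψ₁ p₄ - ψ₁ p₂ * ψ₁ p₃),
        (β * ψ₁ p₁ - α * ψ₁ p₂) / (ψ₁ p₁ * ψ₁ p₄ - ψ₁ p₂ * ψ₁ p₃), ?_⟩
      rw [vec_map, vec_map, vec_lin]
      congr 1
      · rw [div_mul_eq_mul_div, div_mul_eq_mul_div, ← add_div, eq_div_iff hd]
        ring
      · rw [div_mul_eq_mul_div, div_mul_eq_mul_div, ← add_div, eq_div_iff hd]
        ring
    · intro x hxi hxj
      exact ⟨⟨x, hxi, hxj⟩, rfl⟩
    · intro z
      rw [hG]
      exact orth_mulVec ψ₁ c₁ _ (fun l : {l : ι // l ≠ i ∧ l ≠ j} => wv l.val)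
        (fun l => horth_e l.val) z
    · intro z
      rw [hG]
      exact orth_mulVec ψ₁ c₁ _ (fun l : {l : ι // l ≠ i ∧ l ≠ j} => wv l.val)
        (fun l => horth_f l.val) z
    · intro z l
      exact hGval ψ₁ z l
  obtain ⟨N₂, e', f', hfam⟩ := ih (Gᵀ * c₁ * G) hND'
  have hc' : (Gᵀ * c₁ * G).map (algebraMap S₁ N₂.S)
      = (G.map (algebraMap S₁ N₂.S))ᵀ * (c₁.map (algebraMap S₁ N₂.S))
        * (G.map (algebraMap S₁ N₂.S)) := by
    simp [Matrix.map_mul, Matrix.transpose_map]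
  have hfam₁ := hfam.map (Q := Qc (c₁.map (algebraMap S₁ N₂.S)))
    (Matrix.mulVecLin (G.map (algebraMap S₁ N₂.S)))
    (fun z => by rw [hc', Qc_pullback]; rfl)
  refine ⟨N₂, Fin.cons ((algebraMap S₁ N₂.S) ∘ vec i j p₁ p₂) _,
    Fin.cons ((algebraMap S₁ N₂.S) ∘ vec i j p₃ p₄) _, hfam₁.cons ?_ ?_ ?_ ?_ ?_ ?_ ?_⟩
  · rw [Qc_map, he₀, map_zero]
  · rw [Qc_map, hf₀, map_zero]
  · rw [polar_Qc_map, hef, map_one]
  · intro k
    simp only [Matrix.mulVecLin_apply]
    rw [hG]
    exact orth_mulVec _ c₁ _ (fun l : {l : ι // l ≠ i ∧ l ≠ j} => wv l.val)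
      (fun l => horth_e l.val) _
  · intro k
    simp only [Matrix.mulVecLin_apply]
    rw [hG]
    exact orth_mulVec _ c₁ _ (fun l : {l : ι // l ≠ i ∧ l ≠ j} => wv l.val)
      (fun l => horth_e l.val) _
  · intro k
    simp only [Matrix.mulVecLin_apply]
    rw [hG]
    exact orth_mulVec _ c₁ _ (fun l : {l : ι // l ≠ i ∧ l ≠ j} => wv l.val)
      (fun l => horth_f l.val) _
  · intro k
    simp only [Matrix.mulVecLin_apply]
    rw [hG]
    exact orth_mulVec _ c₁ _ (fun l : {l : ι // l ≠ i ∧ l ≠ j} => wv l.val)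
      (fun l => horth_f l.val) _

end Step

section Induction
universe u
variable {L : Type u} [Field L] [IsAlgClosed L]

theorem exists_hyp (m : ℕ) : ∀ {R : Type u} [CommRing R] (θ : R →+* L) {ι : Type} [Fintype ι]
    [DecidableEq ι] (c : Matrix ι ι R), Fintype.card ι = 2 * m → ND (c.map θ) →
    ∃ N : ENbhd θ, ∃ e f : Fin m → ι → N.S,
      IsHypFam (Qc (c.map (algebraMap R N.S))) e f := by
  induction m with
  | zero =>
    intro R _ θ ι _ _ c _ _
    exact ⟨ENbhd.refl θ, fun k => k.elim0, fun k => k.elim0,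
      ⟨fun k => k.elim0, fun k => k.elim0, fun k => k.elim0, fun k => k.elim0,
        fun k => k.elim0⟩⟩
  | succ m ih =>
    intro R _ θ ι _ _ c hcard hND
    obtain ⟨i, j, k, a, hij, hkj, hdisc⟩ := find_pair (c.map θ) (by omega) hND
    obtain ⟨E, hE⟩ : ∃ E : Matrix ι ι R, E = Matrix.transvection k j (a : R) := ⟨_, rfl⟩
    obtain ⟨h1, h2, h3⟩ := transv_entries c i j k hij hkj (a : R)
    rw [← hE] at h1 h2 h3
    have hND₁ : ND ((Eᵀ * c * E).map θ) := by
      have : (Eᵀ * c * E).map θ = (E.map θ)ᵀ * (c.map θ) * (E.map θ) := by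
        simp [Matrix.map_mul, Matrix.transpose_map]
      rw [this]
      refine hND.congr (E.map θ) ((Matrix.transvection k j (-(a : R))).map θ) ?_ ?_
      · rw [← Matrix.map_mul, hE, Matrix.transvection_mul_transvection_same _ _ hkj]
        simp
      · rw [← Matrix.map_mul, hE, Matrix.transvection_mul_transvection_same _ _ hkj]
        simp
    have hD₁ : θ (((Eᵀ * c * E) i j + (Eᵀ * c * E) j i) ^ 2
        - 4 * (Eᵀ * c * E) i i * (Eᵀ * c * E) j j) ≠ 0 := by
      rw [h1, h2, h3]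
      simpa [map_ofNat] using hdisc
    obtain ⟨N₁, p₁, p₂, p₃, p₄, hsplit⟩ :=
      binary_split θ ((Eᵀ * c * E) i i) ((Eᵀ * c * E) i j + (Eᵀ * c * E) j i)
        ((Eᵀ * c * E) j j) hD₁
    have hND₁' : ND (((Eᵀ * c * E).map (algebraMap R N₁.S)).map N₁.ψ) := by
      have : ((Eᵀ * c * E).map (algebraMap R N₁.S)).map N₁.ψ = (Eᵀ * c * E).map θ := by
        rw [Matrix.map_map]
        congr 1
        funext r
        exact N₁.hψ r
      rw [this]; exact hND₁
    have hcard' : Fintype.card {l : ι // l ≠ i ∧ l ≠ j} = 2 * m := by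
      rw [card_compl i j hij, hcard]; omega
    obtain ⟨N₂, e, f, hfam⟩ := step_core N₁.ψ ((Eᵀ * c * E).map (algebraMap R N₁.S)) hND₁' i j hij
      p₁ p₂ p₃ p₄ (by simpa using hsplit) m (fun c' hc' => ih N₁.ψ c' hcard' hc')
    -- transform back by E
    obtain ⟨φ, hφ⟩ : ∃ φ : R →+* N₂.S, φ = (algebraMap N₁.S N₂.S).comp (algebraMap R N₁.S) :=
      ⟨_, rfl⟩
    have hcomp : ∀ M : Matrix ι ι R,
        (M.map (algebraMap R N₁.S)).map (algebraMap N₁.S N₂.S) = M.map φ := by
      intro M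
      rw [Matrix.map_map, hφ]
      rfl
    have hmm : ((Eᵀ * c * E).map (algebraMap R N₁.S)).map (algebraMap N₁.S N₂.S)
        = (E.map φ)ᵀ * (c.map φ) * (E.map φ) := by
      rw [hcomp, Matrix.map_mul, Matrix.map_mul, Matrix.transpose_map]
    have hfam' := hfam.map (Q := Qc (c.map φ)) (Matrix.mulVecLin (E.map φ))
      (fun z => by rw [hmm, Qc_pullback]; rfl)
    rw [hφ] at hfam'
    exact ⟨N₁.trans N₂, _, _, hfam'⟩

end Induction

section Pointwise
universe u

/-- the hyperbolic Gram matrix -/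
def Jm (m : ℕ) (S : Type*) [CommRing S] : Matrix (Fin m ⊕ Fin m) (Fin m ⊕ Fin m) S :=
  Matrix.fromBlocks 0 1 1 0

lemma Jm_mul_self (m : ℕ) (S : Type*) [CommRing S] : Jm m S * Jm m S = 1 := by
  simp [Jm, Matrix.fromBlocks_multiply]

/-- the matrix with columns `e`, `f`. -/
def gmat {m : ℕ} {S : Type*} [CommRing S] {ι : Type*} (e f : Fin m → ι → S) :
    Matrix ι (Fin m ⊕ Fin m) S :=
  Matrix.of (fun x k => Sum.elim (fun a => e a x) (fun a => f a x) k)

lemma gmat_mulVec {m : ℕ} {S : Type*} [CommRing S] {ι : Type*} (e f : Fin m → ι → S)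
    (x : Fin m ⊕ Fin m → S) :
    gmat e f *ᵥ x = ∑ a, x (Sum.inl a) • e a + ∑ a, x (Sum.inr a) • f a := by
  ext y
  simp [gmat, Matrix.mulVec, dotProduct, Fintype.sum_sum_type, mul_comm]

lemma gmat_mulVec_single {m : ℕ} {S : Type*} [CommRing S] {ι : Type*} (e f : Fin m → ι → S)
    (k : Fin m ⊕ Fin m) :
    gmat e f *ᵥ Pi.single k 1 = Sum.elim e f k := by
  ext y
  rcases k with a | a <;> simp [gmat, Matrix.mulVec, dotProduct, Pi.single_apply]

lemma gram_eq {m : ℕ} {S : Type*} [CommRing S] (c : Matrix (Fin m ⊕ Fin m) (Fin m ⊕ Fin m) S)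
    (e f : Fin m → (Fin m ⊕ Fin m) → S) (h : IsHypFam (Qc c) e f) :
    (gmat e f)ᵀ * (c + cᵀ) * gmat e f = Jm m S := by
  have key : ∀ k l, ((gmat e f)ᵀ * (c + cᵀ) * gmat e f) k l
      = polar (Qc c) (Sum.elim e f k) (Sum.elim e f l) := by
    intro k l
    have hp := polar_of_map (Q := Qc c) (Q' := Qc ((gmat e f)ᵀ * c * gmat e f))
      (Matrix.mulVecLin (gmat e f)) (fun z => (Qc_pullback _ c z).symm) (Pi.single k 1)
      (Pi.single l 1)
    simp only [Matrix.mulVecLin_apply] at hp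
    rw [← gmat_mulVec_single, ← gmat_mulVec_single, hp, polar_Qc_single]
    simp only [Matrix.mul_add, Matrix.add_mul, Matrix.add_apply]
    congr 1
    have ht : (gmat e f)ᵀ * cᵀ * gmat e f = ((gmat e f)ᵀ * c * gmat e f)ᵀ := by
      simp [Matrix.transpose_mul, Matrix.mul_assoc]
    rw [ht, Matrix.transpose_apply]
  ext k l
  rw [key]
  rcases k with a | a <;> rcases l with b | b
  · simp [Jm, h.ee]
  · simp [Jm, h.ef, Matrix.one_apply]
  · simp [Jm, polar_comm _ (f a), h.ef, Matrix.one_apply, eq_comm]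
  · simp [Jm, h.ff]

lemma isUnit_det_gmat {m : ℕ} {S : Type*} [CommRing S]
    (c : Matrix (Fin m ⊕ Fin m) (Fin m ⊕ Fin m) S)
    (e f : Fin m → (Fin m ⊕ Fin m) → S) (h : IsHypFam (Qc c) e f) :
    IsUnit (gmat e f).det := by
  have h1 : (Jm m S * ((gmat e f)ᵀ * (c + cᵀ))) * gmat e f = 1 := by
    rw [Matrix.mul_assoc, gram_eq c e f h, Jm_mul_self]
  have h2 := congrArg Matrix.det h1
  rw [Matrix.det_mul, Matrix.det_one] at h2
  exact IsUnit.of_mul_eq_one _ (by rw [mul_comm]; exact h2)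

/-- data of a splitting étale neighbourhood of `p`. -/
structure SplitNbhd {A : Type u} [CommRing A] {m : ℕ}
    (c : Matrix (Fin m ⊕ Fin m) (Fin m ⊕ Fin m) A) (p : PrimeSpectrum A) where
  S : Type u
  [cr : CommRing S]
  [alg : Algebra A S]
  et : Algebra.Etale A S
  q : PrimeSpectrum S
  hq : q.asIdeal.comap (algebraMap A S) = p.asIdeal
  g : Matrix (Fin m ⊕ Fin m) (Fin m ⊕ Fin m) S
  hg : IsUnit g.det
  hQ : ∀ x : Fin m ⊕ Fin m → S,
    Qc (c.map (algebraMap A S)) (g *ᵥ x) = ∑ j, x (Sum.inl j) * x (Sum.inr j)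

attribute [instance] SplitNbhd.cr SplitNbhd.alg

lemma ND_of_isUnit_det {L : Type*} [Field L] {ι : Type*} [Fintype ι] [DecidableEq ι]
    (c : Matrix ι ι L) (h : (c + cᵀ).det ≠ 0) : ND c := by
  intro z hz
  have : (c + cᵀ) *ᵥ z = 0 := by
    ext l
    have := hz (Pi.single l 1)
    rw [polar_Qc] at this
    simpa [single_dotProduct] using this
  exact Matrix.eq_zero_of_mulVec_eq_zero h this

theorem pointwise {A : Type u} [CommRing A] {m : ℕ}
    (c : Matrix (Fin m ⊕ Fin m) (Fin m ⊕ Fin m) A) (hdet : IsUnit (c + cᵀ).det)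
    (p : PrimeSpectrum A) : Nonempty (SplitNbhd c p) := by
  obtain ⟨θ, hθ⟩ : ∃ θ : A →+* AlgebraicClosure p.asIdeal.ResidueField,
      θ = (algebraMap p.asIdeal.ResidueField (AlgebraicClosure p.asIdeal.ResidueField)).comp
        (algebraMap A p.asIdeal.ResidueField) := ⟨_, rfl⟩
  have hker : ∀ a, θ a = 0 ↔ a ∈ p.asIdeal := by
    intro a
    rw [hθ, RingHom.comp_apply, map_eq_zero, Ideal.algebraMap_residueField_eq_zero]
  have hND : ND (c.map θ) := by
    apply ND_of_isUnit_det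
    have h1 : c.map θ + (c.map θ)ᵀ = θ.mapMatrix (c + cᵀ) := by
      ext x y
      simp
    rw [h1, ← RingHom.map_det]
    exact (hdet.map θ).ne_zero
  obtain ⟨N, e, f, hfam⟩ := exists_hyp m θ c (by simp; ring) hND
  haveI := N.et
  have hq : Ideal.comap (algebraMap A N.S) (RingHom.ker N.ψ) = p.asIdeal := by
    ext a
    simp only [Ideal.mem_comap, RingHom.mem_ker, N.hψ, hker]
  have hQ : ∀ x : Fin m ⊕ Fin m → N.S, Qc (c.map (algebraMap A N.S)) (gmat e f *ᵥ x)
      = ∑ j, x (Sum.inl j) * x (Sum.inr j) := by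
    intro x
    rw [gmat_mulVec, hfam.eval]
  exact ⟨{ S := N.S
           et := N.et
           q := ⟨RingHom.ker N.ψ, RingHom.ker_isPrime _⟩
           hq := hq
           g := gmat e f
           hg := isUnit_det_gmat _ e f hfam
           hQ := hQ }⟩

theorem global {A : Type u} [CommRing A] {m : ℕ}
    (c : Matrix (Fin m ⊕ Fin m) (Fin m ⊕ Fin m) A) (hdet : IsUnit (c + cᵀ).det) :
    ∃ (n : ℕ) (B : Fin n → Type u) (_ : ∀ t, CommRing (B t)) (_ : ∀ t, Algebra A (B t)),
      (∀ t, Algebra.Etale A (B t)) ∧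
      (∀ p : PrimeSpectrum A, ∃ (t : Fin n) (q : PrimeSpectrum (B t)),
        q.asIdeal.comap (algebraMap A (B t)) = p.asIdeal) ∧
      ∀ t, ∃ g : Matrix (Fin m ⊕ Fin m) (Fin m ⊕ Fin m) (B t), IsUnit g.det ∧
        ∀ x : Fin m ⊕ Fin m → B t,
          Qc (c.map (algebraMap A (B t))) (g *ᵥ x) = ∑ j : Fin m, x (Sum.inl j) * x (Sum.inr j) := by
  classical
  let D : ∀ p : PrimeSpectrum A, SplitNbhd c p := fun p => (pointwise c hdet p).some
  let U : PrimeSpectrum A → Set (PrimeSpectrum A) :=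
    fun p => Set.range (PrimeSpectrum.comap (algebraMap A (D p).S))
  have hopen : ∀ p, IsOpen (U p) := by
    intro p
    haveI := (D p).et
    exact (PrimeSpectrum.isOpenMap_comap_of_hasGoingDown_of_finitePresentation
      (R := A) (S := (D p).S)).isOpen_range
  have hmem : ∀ p, p ∈ U p := fun p => ⟨(D p).q, PrimeSpectrum.ext (D p).hq⟩
  obtain ⟨t, ht⟩ := isCompact_univ.elim_finite_subcover U hopen
    (fun p _ => Set.mem_iUnion.2 ⟨p, hmem p⟩)
  let idx : Fin t.card → PrimeSpectrum A := fun k => (t.equivFin.symm k).1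
  refine ⟨t.card, fun k => (D (idx k)).S, fun k => (D (idx k)).cr, fun k => (D (idx k)).alg,
    fun k => (D (idx k)).et, ?_, fun k => ⟨(D (idx k)).g, (D (idx k)).hg, (D (idx k)).hQ⟩⟩
  intro p
  have hp := ht (Set.mem_univ p)
  simp only [Set.mem_iUnion] at hp
  obtain ⟨p', hp't, q', hq'⟩ := hp
  obtain ⟨k, hk⟩ : ∃ k, idx k = p' := ⟨t.equivFin ⟨p', hp't⟩, by simp [idx]⟩
  subst hk
  refine ⟨k, q', ?_⟩
  have := congrArg PrimeSpectrum.asIdeal hq'
  simpa using this

end Pointwise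

end Groth.Agent.H73.QuadSplit
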