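import Mathlib
import Groth.Prelude.Def_RegImm

/-!
# `A[T]/(monic)` is syntomic and faithfully flat
-/

set_option autoImplicit false
open Polynomial TensorProduct

namespace Groth.Agent.H73.SyntRoot

universe u

section fibre

variable (κ : Type u) [Field κ] (F : Type u) [CommRing F] [Algebra κ F]

/-- A `κ`-algebra of dimension `deg g` generated by one element `θ` killed by a monic polynomial
`g` of positive degree: the kernel of `aeval θ` is `(g)`. -/
theorem ker_aeval_eq (g : κ[X]) (hg : g.Monic) (θ : F) (hθ : aeval θ g = 0)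
    (hgen : Function.Surjective (aeval θ : κ[X] →ₐ[κ] F))
    (hdim : Module.finrank κ F = g.natDegree) (hpos : 0 < g.natDegree) :
    RingHom.ker (aeval θ : κ[X] →ₐ[κ] F).toRingHom = Ideal.span {g} := by
  have hg0 : g ≠ 0 := hg.ne_zero
  have : Module.Finite κ F := Module.finite_of_finrank_pos (by omega)
  let L : AdjoinRoot g →ₐ[κ] F := AdjoinRoot.liftAlgHom g (Algebra.ofId κ F) θ (by
    rw [← hθ]; rfl)
  have hL : ∀ q : κ[X], L (AdjoinRoot.mk g q) = aeval θ q := by
    intro q
    simp [L, AdjoinRoot.liftAlgHom, aeval_def]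
  have hLsurj : Function.Surjective L := by
    intro y
    obtain ⟨q, rfl⟩ := hgen y
    exact ⟨AdjoinRoot.mk g q, hL q⟩
  have hfin1 : Module.finrank κ (AdjoinRoot g) = g.natDegree := by
    rw [(AdjoinRoot.powerBasis hg0).finrank, AdjoinRoot.powerBasis_dim]
  have : Module.Finite κ (AdjoinRoot g) := (AdjoinRoot.powerBasis hg0).finite
  have hLinj : Function.Injective L := by
    have := (LinearMap.injective_iff_surjective_of_finrank_eq_finrank
      (f := L.toLinearMap) (hfin1.trans hdim.symm)).mpr hLsurj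
    exact this
  ext q
  rw [RingHom.mem_ker, Ideal.mem_span_singleton]
  change aeval θ q = 0 ↔ _
  rw [← hL q, ← AdjoinRoot.mk_eq_zero]
  constructor
  · intro h
    exact hLinj (by rw [h, map_zero])
  · intro h
    rw [h, map_zero]

/-- Such an algebra is a global complete intersection (after the trivial localization). -/
theorem isGlobalCI_away_one (g : κ[X]) (hg : g.Monic) (θ : F) (hθ : aeval θ g = 0)
    (hgen : Function.Surjective (aeval θ : κ[X] →ₐ[κ] F))
    (hdim : Module.finrank κ F = g.natDegree) (hpos : 0 < g.natDegree) :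
    Synt.IsGlobalCI κ (Localization.Away (1 : F)) := by
  right
  refine ⟨1, 1, le_rfl, ?_⟩
  have hfinF : Module.Finite κ F := Module.finite_of_finrank_pos (by omega)
  have hntF : Nontrivial F := Module.nontrivial_of_finrank_pos (R := κ) (by omega)
  let e : MvPolynomial (Fin 1) κ ≃ₐ[κ] κ[X] :=
    MvPolynomial.uniqueAlgEquiv κ (Fin 1)
  let ι : F ≃ₐ[F] Localization.Away (1 : F) :=
    IsLocalization.atUnits F (Submonoid.powers (1 : F)) (by
      rintro x ⟨n, rfl⟩
      simp)
  let φ : MvPolynomial (Fin 1) κ →ₐ[κ] Localization.Away (1 : F) :=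
    ((ι.restrictScalars κ).toAlgHom.comp (aeval θ)).comp e.toAlgHom
  have hφ : ∀ x, φ x = ι (aeval θ (e x)) := fun x => rfl
  refine ⟨φ, fun _ => e.symm g, ?_, ?_, ?_⟩
  · intro y
    obtain ⟨z, hz⟩ := hgen (ι.symm y)
    refine ⟨e.symm z, ?_⟩
    rw [hφ, AlgEquiv.apply_symm_apply, hz, AlgEquiv.apply_symm_apply]
  · have hker := ker_aeval_eq κ F g hg θ hθ hgen hdim hpos
    ext x
    rw [RingHom.mem_ker]
    change φ x = 0 ↔ _
    rw [hφ, EmbeddingLike.map_eq_zero_iff]
    have h1 : aeval θ (e x) = 0 ↔ e x ∈ Ideal.span {g} := by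
      rw [← hker, RingHom.mem_ker]; rfl
    rw [h1]
    have hrange : Set.range (fun _ : Fin 1 => e.symm g) = {e.symm g} := by
      ext y; simp
    rw [hrange, Ideal.mem_span_singleton, Ideal.mem_span_singleton]
    constructor
    · rintro ⟨c, hc⟩
      refine ⟨e.symm c, ?_⟩
      apply e.injective
      rw [hc, map_mul, AlgEquiv.apply_symm_apply, AlgEquiv.apply_symm_apply]
    · rintro ⟨c, hc⟩
      refine ⟨e c, ?_⟩
      rw [hc, map_mul, AlgEquiv.apply_symm_apply]
  · have hart : IsArtinianRing F := IsArtinianRing.of_finite κ F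
    have h0 : ringKrullDim F = 0 := ringKrullDimZero_iff_ringKrullDim_eq_zero.mp inferInstance
    rw [← ringKrullDim_eq_of_ringEquiv ι.toRingEquiv, h0]
    rfl

end fibre

section main

variable (A : Type u) [CommRing A] (f : A[X])

theorem isSyntomic_adjoinRoot (hf : f.Monic) (hpos' : Nontrivial A → 0 < f.natDegree) :
    Synt.IsSyntomic A (AdjoinRoot f) := by
  have hfree : Module.Free A (AdjoinRoot f) := Module.Free.of_basis (AdjoinRoot.powerBasis' hf).basis
  have hfin : Module.Finite A (AdjoinRoot f) := (AdjoinRoot.powerBasis' hf).finite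
  refine ⟨inferInstance, inferInstance, ?_⟩
  intro P
  have hntA : Nontrivial A := ⟨⟨0, 1, fun h => P.2.ne_top ((Ideal.eq_top_iff_one _).2 (h ▸ zero_mem _))⟩⟩
  have hpos := hpos' hntA
  refine ⟨inferInstance, fun q => ⟨1, ?_, ?_⟩⟩
  · exact fun h => q.2.ne_top ((Ideal.eq_top_iff_one _).2 h)
  · let κ := P.asIdeal.ResidueField
    let g : κ[X] := f.map (algebraMap A κ)
    let θ : P.asIdeal.Fiber (AdjoinRoot f) := (1 : κ) ⊗ₜ[A] AdjoinRoot.root f
    have hincl : ∀ q : A[X], aeval θ (q.map (algebraMap A κ)) =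
        (1 : κ) ⊗ₜ[A] AdjoinRoot.mk f q := by
      intro q
      rw [aeval_map_algebraMap]
      have := aeval_algHom_apply
        (Algebra.TensorProduct.includeRight : AdjoinRoot f →ₐ[A] κ ⊗[A] AdjoinRoot f)
        (AdjoinRoot.root f) q
      rw [AdjoinRoot.aeval_eq] at this
      exact this
    refine isGlobalCI_away_one κ _ g (hf.map _) θ ?_ ?_ ?_ ?_
    · rw [hincl f, AdjoinRoot.mk_self, TensorProduct.tmul_zero]
    · intro y
      induction y using TensorProduct.induction_on with
      | zero => exact ⟨0, map_zero _⟩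
      | tmul c b =>
        obtain ⟨q, rfl⟩ := AdjoinRoot.mk_surjective b
        refine ⟨C c * q.map (algebraMap A κ), ?_⟩
        rw [map_mul, hincl q, aeval_C, Algebra.TensorProduct.algebraMap_apply,
          Algebra.TensorProduct.tmul_mul_tmul, one_mul, mul_one]
        rfl
      | add x y hx hy =>
        obtain ⟨a, rfl⟩ := hx
        obtain ⟨b, rfl⟩ := hy
        exact ⟨a + b, map_add _ _ _⟩
    · rw [Module.finrank_baseChange, (AdjoinRoot.powerBasis' hf).finrank,
        AdjoinRoot.powerBasis'_dim, hf.natDegree_map]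
    · rw [hf.natDegree_map]; exact hpos

theorem faithfullyFlat_adjoinRoot (hf : f.Monic) (hpos' : Nontrivial A → 0 < f.natDegree) :
    Module.FaithfullyFlat A (AdjoinRoot f) := by
  have hfree : Module.Free A (AdjoinRoot f) := Module.Free.of_basis (AdjoinRoot.powerBasis' hf).basis
  rcases subsingleton_or_nontrivial A with hA | hA
  · refine { toFlat := inferInstance, submodule_ne_top := fun m hm => ?_ }
    exact absurd (Subsingleton.elim m ⊤) hm.ne_top
  · have hpos := hpos' hA
    have hne : Nonempty (Fin (AdjoinRoot.powerBasis' hf).dim) := by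
      rw [AdjoinRoot.powerBasis'_dim]; exact ⟨⟨0, hpos⟩⟩
    have : Nontrivial (AdjoinRoot f) :=
      (AdjoinRoot.powerBasis' hf).basis.repr.toEquiv.nontrivial
    infer_instance

end main

end Groth.Agent.H73.SyntRoot
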