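import Groth.Agent.H73.QuadSplit
import Groth.Agent.H73.SyntRoot

set_option autoImplicit false
set_option linter.unusedSectionVars false
set_option linter.unusedVariables false
open QuadraticMap Matrix Polynomial

/-!
# Local splitting of semiregular quadratic forms of odd rank (helper73, for S17003)

Étale-locally a semiregular form of rank `2m+1` is `u z² + Σ xᵢ yᵢ` with `u` a unit.
-/

namespace Groth.Agent.H73.QuadSplitOdd

open Groth.Agent.H73.QuadSplit

section Abstract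
variable {S : Type*} [CommRing S] {M M' : Type*} [AddCommGroup M] [Module S M]
  [AddCommGroup M'] [Module S M']

/-- hyperbolic family plus an orthogonal vector -/
structure IsOddFam {n : ℕ} (Q : QuadraticForm S M) (e f : Fin n → M) (g : M) : Prop where
  hyp : IsHypFam Q e f
  ge : ∀ k, polar Q g (e k) = 0
  gf : ∀ k, polar Q g (f k) = 0

lemma IsOddFam.map {n : ℕ} {Q : QuadraticForm S M} {Q' : QuadraticForm S M'} (T : M' →ₗ[S] M)
    (hT : ∀ z, Q (T z) = Q' z) {e f : Fin n → M'} {g : M'} (h : IsOddFam Q' e f g) :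
    IsOddFam Q (fun k => T (e k)) (fun k => T (f k)) (T g) where
  hyp := h.hyp.map T hT
  ge k := by rw [polar_of_map T hT, h.ge]
  gf k := by rw [polar_of_map T hT, h.gf]

lemma IsOddFam.cons {n : ℕ} {Q : QuadraticForm S M} {e f : Fin n → M} {g : M}
    (h : IsOddFam Q e f g)
    {e₀ f₀ : M} (he₀ : Q e₀ = 0) (hf₀ : Q f₀ = 0) (hef : polar Q e₀ f₀ = 1)
    (h1 : ∀ k, polar Q e₀ (e k) = 0) (h2 : ∀ k, polar Q e₀ (f k) = 0)
    (h3 : ∀ k, polar Q f₀ (e k) = 0) (h4 : ∀ k, polar Q f₀ (f k) = 0)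
    (h5 : polar Q e₀ g = 0) (h6 : polar Q f₀ g = 0) :
    IsOddFam Q (Fin.cons e₀ e : Fin (n+1) → M) (Fin.cons f₀ f) g where
  hyp := h.hyp.cons he₀ hf₀ hef h1 h2 h3 h4
  ge k := by
    refine Fin.cases ?_ (fun k => ?_) k
    · simpa [polar_comm] using h5
    · simpa using h.ge k
  gf k := by
    refine Fin.cases ?_ (fun k => ?_) k
    · simpa [polar_comm] using h6
    · simpa using h.gf k

lemma IsOddFam.polar_f {n : ℕ} {Q : QuadraticForm S M} {e f : Fin n → M} {g : M}
    (h : IsOddFam Q e f g) (z : S) (x y : Fin n → S) (l : Fin n) :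
    polar Q (z • g + (∑ k, x k • e k + ∑ k, y k • f k)) (f l) = x l := by
  rw [polar_comm, polar_add_right, polar_add_right, polar_smul_right, polar_sum_smul_right,
    polar_sum_smul_right, polar_comm Q (f l) g, h.gf]
  simp [polar_comm Q (f l) (e _), h.hyp.ef, h.hyp.ff]

lemma IsOddFam.polar_e {n : ℕ} {Q : QuadraticForm S M} {e f : Fin n → M} {g : M}
    (h : IsOddFam Q e f g) (z : S) (x y : Fin n → S) (l : Fin n) :
    polar Q (z • g + (∑ k, x k • e k + ∑ k, y k • f k)) (e l) = y l := by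
  rw [polar_comm, polar_add_right, polar_add_right, polar_smul_right, polar_sum_smul_right,
    polar_sum_smul_right, polar_comm Q (e l) g, h.ge]
  simp [h.hyp.ef, h.hyp.ee]

lemma IsOddFam.eval {n : ℕ} {Q : QuadraticForm S M} {e f : Fin n → M} {g : M}
    (h : IsOddFam Q e f g) (z : S) (x y : Fin n → S) :
    Q (z • g + (∑ k, x k • e k + ∑ k, y k • f k)) = z ^ 2 * Q g + ∑ k, x k * y k := by
  rw [QuadraticMap.map_add Q, QuadraticMap.map_smul, h.hyp.eval, polar_smul_left,
    polar_add_right, polar_sum_smul_right, polar_sum_smul_right]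
  simp only [h.ge, h.gf, mul_zero, Finset.sum_const_zero, add_zero, smul_eq_mul]
  ring

lemma IsOddFam.inj {n : ℕ} {Q : QuadraticForm S M} {e f : Fin n → M} {g : M}
    (h : IsOddFam Q e f g) (z : S) (x y : Fin n → S)
    (h0 : z • g + (∑ k, x k • e k + ∑ k, y k • f k) = 0) :
    (∀ l, x l = 0) ∧ (∀ l, y l = 0) ∧ z ^ 2 * Q g = 0 := by
  refine ⟨fun l => ?_, fun l => ?_, ?_⟩
  · rw [← h.polar_f z x y l, h0, polar_zero_left]
  · rw [← h.polar_e z x y l, h0, polar_zero_left]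
  · have := h.eval z x y
    rw [h0, QuadraticMap.map_zero] at this
    have hx : ∀ l, x l = 0 := fun l => by rw [← h.polar_f z x y l, h0, polar_zero_left]
    simp only [hx, zero_mul, Finset.sum_const_zero, add_zero] at this
    exact this.symm

end Abstract

section MapRing
variable {S S' : Type*} [CommRing S] [CommRing S'] {ι : Type*} [Fintype ι] [DecidableEq ι]

lemma IsOddFam.mapRing {n : ℕ} (φ : S →+* S') {c : Matrix ι ι S} {e f : Fin n → ι → S}
    {g : ι → S} (h : IsOddFam (Qc c) e f g) :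
    IsOddFam (Qc (c.map φ)) (fun k => φ ∘ e k) (fun k => φ ∘ f k) (φ ∘ g) where
  hyp :=
    { qe := fun k => by rw [Qc_map, h.hyp.qe, map_zero]
      qf := fun k => by rw [Qc_map, h.hyp.qf, map_zero]
      ee := fun k l => by rw [polar_Qc_map, h.hyp.ee, map_zero]
      ff := fun k l => by rw [polar_Qc_map, h.hyp.ff, map_zero]
      ef := fun k l => by rw [polar_Qc_map, h.hyp.ef, apply_ite φ, map_one, map_zero] }
  ge k := by rw [polar_Qc_map, h.ge, map_zero]
  gf k := by rw [polar_Qc_map, h.gf, map_zero]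

end MapRing

section SRsec
variable {L : Type*} [Field L] {ι : Type*} [Fintype ι] [DecidableEq ι]

/-- the quadratic radical vanishes -/
def SR (c : Matrix ι ι L) : Prop :=
  ∀ z : ι → L, (∀ y, polar (Qc c) y z = 0) → Qc c z = 0 → z = 0

lemma SR.nd_of_two_ne_zero {c : Matrix ι ι L} (h : SR c) (h2 : (2 : L) ≠ 0) : ND c := by
  intro z hz
  apply h z hz
  have := hz z
  rw [polar_self, two_nsmul, ← two_mul] at this
  exact (mul_eq_zero.1 this).resolve_left h2

lemma SR.congr {c : Matrix ι ι L} (h : SR c) (E E' : Matrix ι ι L) (h1 : E * E' = 1)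
    (h2 : E' * E = 1) : SR (Eᵀ * c * E) := by
  intro z hz hq
  have hz' : ∀ y', polar (Qc c) y' (E *ᵥ z) = 0 := by
    intro y'
    have := hz (E' *ᵥ y')
    rw [← polar_of_map (Q := Qc c) (Matrix.mulVecLin E) (fun z => (Qc_pullback E c z).symm)] at this
    simpa [Matrix.mulVecLin_apply, Matrix.mulVec_mulVec, h1] using this
  have hq' : Qc c (E *ᵥ z) = 0 := by rw [← Qc_pullback]; exact hq
  have := h _ hz' hq'
  have h3 := congrArg (fun v => E' *ᵥ v) this
  simpa [Matrix.mulVec_mulVec, h2] using h3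

variable {ι' : Type*} [Fintype ι'] [DecidableEq ι']

lemma SR.complement {c : Matrix ι ι L} (h : SR c) (i j : ι) (hij : i ≠ j) (e₀ f₀ : ι → L)
    (G : Matrix ι ι' L) (emb : ι' → ι)
    (hspan : ∀ α β : L, ∃ s r : L, (vec i j α β : ι → L) = s • e₀ + r • f₀)
    (hemb : ∀ x : ι, x ≠ i → x ≠ j → ∃ l, emb l = x)
    (he : ∀ z, polar (Qc c) e₀ (G *ᵥ z) = 0) (hf : ∀ z, polar (Qc c) f₀ (G *ᵥ z) = 0)
    (hG : ∀ z l, (G *ᵥ z) (emb l) = z l) : SR (Gᵀ * c * G) := by
  intro z hz hq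
  have hz' : ∀ y, polar (Qc c) y (G *ᵥ z) = 0 := by
    intro y
    set y' : ι' → L := fun l => y (emb l) with hy'
    obtain ⟨s, r, hsr⟩ := hspan ((y - G *ᵥ y') i) ((y - G *ᵥ y') j)
    have hdec : y = G *ᵥ y' + (s • e₀ + r • f₀) := by
      rw [← hsr]
      ext x
      by_cases hxi : x = i
      · subst hxi
        simp [QuadSplit.vec, Pi.single_apply, hij]
      · by_cases hxj : x = j
        · subst hxj
          simp [QuadSplit.vec, Pi.single_apply, hxi]
        · obtain ⟨l, rfl⟩ := hemb x hxi hxj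
          simp [QuadSplit.vec, Pi.single_apply, hxi, hxj, hG, hy']
    rw [hdec, polar_add_left, polar_add_left, polar_smul_left, polar_smul_left, he, hf]
    have := hz y'
    rw [← polar_of_map (Q := Qc c) (Matrix.mulVecLin G) (fun z => (Qc_pullback G c z).symm)] at this
    simp only [Matrix.mulVecLin_apply] at this
    rw [this]
    simp
  have hq' : Qc c (G *ᵥ z) = 0 := by rw [← Qc_pullback]; exact hq
  have h0 := h _ hz' hq'
  ext l
  rw [← hG z l, h0]
  rfl

lemma find_pair_SR [IsAlgClosed L] (c : Matrix ι ι L) (hcard : 2 ≤ Fintype.card ι) (hSR : SR c) :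
    ∃ (i j k : ι) (a : ℕ), i ≠ j ∧ k ≠ j ∧
      ((c i j + c j i) + a * (c i k + c k i)) ^ 2
        - 4 * c i i * (c j j + a * (c j k + c k j) + (a : L) ^ 2 * c k k) ≠ 0 := by
  by_cases h2 : (2 : L) = 0
  · have h4 : (4 : L) = 0 := by linear_combination 2 * h2
    by_cases hP : ∃ i j, i ≠ j ∧ c i j + c j i ≠ 0
    · obtain ⟨i, j, hij, hne⟩ := hP
      refine ⟨i, j, i, 0, hij, hij, ?_⟩
      simp only [Nat.cast_zero, zero_mul, add_zero, h4, sub_zero]
      exact pow_ne_zero 2 hne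
    · push Not at hP
      exfalso
      obtain ⟨i₀, j₀, hij₀⟩ := Fintype.exists_pair_of_one_lt_card (α := ι) (by omega)
      have hpol : ∀ y z, polar (Qc c) y z = 0 := by
        intro y z
        rw [polar_Qc]
        have : c + cᵀ = 0 := by
          ext i j
          by_cases hij : i = j
          · subst hij
            simp only [Matrix.add_apply, Matrix.transpose_apply, Matrix.zero_apply]
            rw [← two_mul, h2, zero_mul]
          · simpa using hP i j hij
        rw [this, Matrix.zero_mulVec, dotProduct_zero]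
      by_cases hc0 : c i₀ i₀ = 0
      · have := hSR (Pi.single i₀ 1) (fun y => hpol _ _) (by rw [Qc_single]; exact hc0)
        have := congrFun this i₀
        simp at this
      · obtain ⟨s, hs⟩ := IsAlgClosed.exists_pow_nat_eq (c j₀ j₀ / c i₀ i₀) (n := 2) (by norm_num)
        have := hSR (vec i₀ j₀ s 1) (fun y => hpol _ _) (by
          rw [Qc_vec, hs, hP i₀ j₀ hij₀, div_mul_cancel₀ _ hc0]
          linear_combination c j₀ j₀ * h2)
        have := congrFun this j₀
        simp [QuadSplit.vec, Pi.single_apply, hij₀.symm] at this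
  · exact find_pair c hcard (hSR.nd_of_two_ne_zero h2)

end SRsec

section Step
universe u
variable {L : Type u} [Field L]

lemma step_core_odd {S₁ : Type u} [CommRing S₁] (ψ₁ : S₁ →+* L) {ι : Type} [Fintype ι]
    [DecidableEq ι]
    (c₁ : Matrix ι ι S₁) (hSR : SR (c₁.map ψ₁)) (i j : ι) (hij : i ≠ j) (p₁ p₂ p₃ p₄ : S₁)
    (hsplit : BinSplit (c₁ i i) (c₁ i j + c₁ j i) (c₁ j j) p₁ p₂ p₃ p₄) (m : ℕ)
    (ih : ∀ (c' : Matrix {l : ι // l ≠ i ∧ l ≠ j} {l : ι // l ≠ i ∧ l ≠ j} S₁), SR (c'.map ψ₁) →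
      ∃ N₂ : ENbhd ψ₁, ∃ (e' f' : Fin m → {l : ι // l ≠ i ∧ l ≠ j} → N₂.S)
        (g' : {l : ι // l ≠ i ∧ l ≠ j} → N₂.S),
        IsOddFam (Qc (c'.map (algebraMap S₁ N₂.S))) e' f' g' ∧
          N₂.ψ (Qc (c'.map (algebraMap S₁ N₂.S)) g') ≠ 0) :
    ∃ N₂ : ENbhd ψ₁, ∃ (e f : Fin (m + 1) → ι → N₂.S) (g : ι → N₂.S),
      IsOddFam (Qc (c₁.map (algebraMap S₁ N₂.S))) e f g ∧
        N₂.ψ (Qc (c₁.map (algebraMap S₁ N₂.S)) g) ≠ 0 := by
  have he₀ : Qc c₁ (QuadSplit.vec i j p₁ p₂) = 0 := by rw [Qc_vec]; exact hsplit.1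
  have hf₀ : Qc c₁ (QuadSplit.vec i j p₃ p₄) = 0 := by rw [Qc_vec]; exact hsplit.2.1
  have hef : polar (Qc c₁) (QuadSplit.vec i j p₁ p₂) (QuadSplit.vec i j p₃ p₄) = 1 := by
    rw [polar_vec]; exact hsplit.2.2.1
  have hdet : IsUnit (p₁ * p₄ - p₂ * p₃) := hsplit.2.2.2
  obtain ⟨wv, hwv⟩ : ∃ wv : ι → ι → S₁, ∀ l, wv l = Pi.single l 1
      - polar (Qc c₁) (Pi.single l 1) (QuadSplit.vec i j p₃ p₄) • QuadSplit.vec i j p₁ p₂
      - polar (Qc c₁) (Pi.single l 1) (QuadSplit.vec i j p₁ p₂) • QuadSplit.vec i j p₃ p₄ :=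
    ⟨_, fun l => rfl⟩
  have horth_e : ∀ l, polar (Qc c₁) (QuadSplit.vec i j p₁ p₂) (wv l) = 0 := fun l => by
    rw [hwv]; exact (proj_orth (Qc c₁) he₀ hf₀ hef _).1
  have horth_f : ∀ l, polar (Qc c₁) (QuadSplit.vec i j p₃ p₄) (wv l) = 0 := fun l => by
    rw [hwv]; exact (proj_orth (Qc c₁) he₀ hf₀ hef _).2
  have hwv_apply : ∀ l x : ι, x ≠ i → x ≠ j → wv l x = if x = l then 1 else 0 := by
    intro l x hxi hxj
    rw [hwv]
    simp [vec_apply_of_ne i j x _ _ hxi hxj, Pi.single_apply]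
  obtain ⟨G, hG⟩ : ∃ G : Matrix ι {l : ι // l ≠ i ∧ l ≠ j} S₁,
      G = Matrix.of (fun a (l : {l : ι // l ≠ i ∧ l ≠ j}) => wv l.val a) := ⟨_, rfl⟩
  have hGval : ∀ {S' : Type u} [CommRing S'] (φ : S₁ →+* S')
      (z : {l : ι // l ≠ i ∧ l ≠ j} → S') (l : {l : ι // l ≠ i ∧ l ≠ j}),
      ((G.map φ) *ᵥ z) l.val = z l := by
    intro S' _ φ z l
    rw [hG]
    simp only [Matrix.mulVec, dotProduct, Matrix.map_apply, Matrix.of_apply]
    have : ∀ l' : {l : ι // l ≠ i ∧ l ≠ j}, φ (wv l'.val l.val) * z l'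
        = if l' = l then z l' else 0 := by
      intro l'
      rw [hwv_apply _ _ l.2.1 l.2.2]
      by_cases h : l' = l
      · subst h; simp
      · have : ¬ (l.val = l'.val) := fun h' => h (Subtype.ext h'.symm)
        simp [h, this]
    simp only [this, Finset.sum_ite_eq', Finset.mem_univ, if_true]
  have hSR' : SR ((Gᵀ * c₁ * G).map ψ₁) := by
    have : (Gᵀ * c₁ * G).map ψ₁ = (G.map ψ₁)ᵀ * (c₁.map ψ₁) * (G.map ψ₁) := by
      simp [Matrix.map_mul, Matrix.transpose_map]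
    rw [this]
    have hd : ψ₁ p₁ * ψ₁ p₄ - ψ₁ p₂ * ψ₁ p₃ ≠ 0 := by
      have := (hdet.map ψ₁).ne_zero
      simpa using this
    apply hSR.complement i j hij (ψ₁ ∘ QuadSplit.vec i j p₁ p₂) (ψ₁ ∘ QuadSplit.vec i j p₃ p₄)
      (G.map ψ₁) Subtype.val
    · intro α β
      refine ⟨(α * ψ₁ p₄ - β * ψ₁ p₃) / (ψ₁ p₁ * ψ₁ p₄ - ψ₁ p₂ * ψ₁ p₃),
        (β * ψ₁ p₁ - α * ψ₁ p₂) / (ψ₁ p₁ * ψ₁ p₄ - ψ₁ p₂ * ψ₁ p₃), ?_⟩
      rw [QuadSplit.vec_map, QuadSplit.vec_map, vec_lin]
      congr 1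
      · rw [div_mul_eq_mul_div, div_mul_eq_mul_div, ← add_div, eq_div_iff hd]
        ring
      · rw [div_mul_eq_mul_div, div_mul_eq_mul_div, ← add_div, eq_div_iff hd]
        ring
    · intro x hxi hxj
      exact ⟨⟨x, hxi, hxj⟩, rfl⟩
    · intro z
      rw [hG]
      exact orth_mulVec ψ₁ c₁ _ (fun l : {l : ι // l ≠ i ∧ l ≠ j} => wv l.val)
        (fun l => horth_e l.val) z
    · intro z
      rw [hG]
      exact orth_mulVec ψ₁ c₁ _ (fun l : {l : ι // l ≠ i ∧ l ≠ j} => wv l.val)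
        (fun l => horth_f l.val) z
    · intro z l
      exact hGval ψ₁ z l
  obtain ⟨N₂, e', f', g', hfam, hval⟩ := ih (Gᵀ * c₁ * G) hSR'
  have hc' : (Gᵀ * c₁ * G).map (algebraMap S₁ N₂.S)
      = (G.map (algebraMap S₁ N₂.S))ᵀ * (c₁.map (algebraMap S₁ N₂.S))
        * (G.map (algebraMap S₁ N₂.S)) := by
    simp [Matrix.map_mul, Matrix.transpose_map]
  have hfam₁ := hfam.map (Q := Qc (c₁.map (algebraMap S₁ N₂.S)))
    (Matrix.mulVecLin (G.map (algebraMap S₁ N₂.S)))
    (fun z => by rw [hc', Qc_pullback]; rfl)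
  have hval₁ : N₂.ψ (Qc (c₁.map (algebraMap S₁ N₂.S))
      (Matrix.mulVecLin (G.map (algebraMap S₁ N₂.S)) g')) ≠ 0 := by
    rw [hc', Qc_pullback] at hval
    exact hval
  refine ⟨N₂, Fin.cons ((algebraMap S₁ N₂.S) ∘ QuadSplit.vec i j p₁ p₂) _,
    Fin.cons ((algebraMap S₁ N₂.S) ∘ QuadSplit.vec i j p₃ p₄) _, _,
    hfam₁.cons ?_ ?_ ?_ ?_ ?_ ?_ ?_ ?_ ?_, hval₁⟩
  · rw [Qc_map, he₀, map_zero]
  · rw [Qc_map, hf₀, map_zero]
  · rw [polar_Qc_map, hef, map_one]
  · intro k
    simp only [Matrix.mulVecLin_apply]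
    rw [hG]
    exact orth_mulVec _ c₁ _ (fun l : {l : ι // l ≠ i ∧ l ≠ j} => wv l.val)
      (fun l => horth_e l.val) _
  · intro k
    simp only [Matrix.mulVecLin_apply]
    rw [hG]
    exact orth_mulVec _ c₁ _ (fun l : {l : ι // l ≠ i ∧ l ≠ j} => wv l.val)
      (fun l => horth_e l.val) _
  · intro k
    simp only [Matrix.mulVecLin_apply]
    rw [hG]
    exact orth_mulVec _ c₁ _ (fun l : {l : ι // l ≠ i ∧ l ≠ j} => wv l.val)
      (fun l => horth_f l.val) _
  · intro k
    simp only [Matrix.mulVecLin_apply]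
    rw [hG]
    exact orth_mulVec _ c₁ _ (fun l : {l : ι // l ≠ i ∧ l ≠ j} => wv l.val)
      (fun l => horth_f l.val) _
  · simp only [Matrix.mulVecLin_apply]
    rw [hG]
    exact orth_mulVec _ c₁ _ (fun l : {l : ι // l ≠ i ∧ l ≠ j} => wv l.val)
      (fun l => horth_e l.val) _
  · simp only [Matrix.mulVecLin_apply]
    rw [hG]
    exact orth_mulVec _ c₁ _ (fun l : {l : ι // l ≠ i ∧ l ≠ j} => wv l.val)
      (fun l => horth_f l.val) _

end Step

section Induction
universe u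
variable {L : Type u} [Field L] [IsAlgClosed L]

theorem exists_odd (m : ℕ) : ∀ {R : Type u} [CommRing R] (θ : R →+* L) {ι : Type} [Fintype ι]
    [DecidableEq ι] (c : Matrix ι ι R), Fintype.card ι = 2 * m + 1 → SR (c.map θ) →
    ∃ N : ENbhd θ, ∃ (e f : Fin m → ι → N.S) (g : ι → N.S),
      IsOddFam (Qc (c.map (algebraMap R N.S))) e f g ∧
        N.ψ (Qc (c.map (algebraMap R N.S)) g) ≠ 0 := by
  induction m with
  | zero =>
    intro R _ θ ι _ _ c hcard hSR
    have hcard1 : Fintype.card ι = 1 := by omega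
    obtain ⟨i₀, hi₀⟩ := Fintype.card_eq_one_iff.1 hcard1
    have hne : θ (c i₀ i₀) ≠ 0 := by
      intro h0
      have hz := hSR (Pi.single i₀ 1) (fun y => ?_) (by rw [Qc_single]; simpa using h0)
      · have := congrFun hz i₀
        simp at this
      · have hy : y = y i₀ • Pi.single i₀ 1 := by
          ext x
          rw [hi₀ x]
          simp
        rw [hy, polar_smul_left, polar_self, Qc_single]
        simp [h0]
    refine ⟨ENbhd.refl θ, fun k => k.elim0, fun k => k.elim0, Pi.single i₀ 1,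
      ⟨⟨fun k => k.elim0, fun k => k.elim0, fun k => k.elim0, fun k => k.elim0,
        fun k => k.elim0⟩, fun k => k.elim0, fun k => k.elim0⟩, ?_⟩
    rw [Qc_single]
    exact hne
  | succ m ih =>
    intro R _ θ ι _ _ c hcard hSR
    obtain ⟨i, j, k, a, hij, hkj, hdisc⟩ := find_pair_SR (c.map θ) (by omega) hSR
    obtain ⟨E, hE⟩ : ∃ E : Matrix ι ι R, E = Matrix.transvection k j (a : R) := ⟨_, rfl⟩
    obtain ⟨h1, h2, h3⟩ := transv_entries c i j k hij hkj (a : R)
    rw [← hE] at h1 h2 h3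
    have hSR₁ : SR ((Eᵀ * c * E).map θ) := by
      have : (Eᵀ * c * E).map θ = (E.map θ)ᵀ * (c.map θ) * (E.map θ) := by
        simp [Matrix.map_mul, Matrix.transpose_map]
      rw [this]
      refine hSR.congr (E.map θ) ((Matrix.transvection k j (-(a : R))).map θ) ?_ ?_
      · rw [← Matrix.map_mul, hE, Matrix.transvection_mul_transvection_same _ _ hkj]
        simp
      · rw [← Matrix.map_mul, hE, Matrix.transvection_mul_transvection_same _ _ hkj]
        simp
    have hD₁ : θ (((Eᵀ * c * E) i j + (Eᵀ * c * E) j i) ^ 2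
        - 4 * (Eᵀ * c * E) i i * (Eᵀ * c * E) j j) ≠ 0 := by
      rw [h1, h2, h3]
      simpa [map_ofNat] using hdisc
    obtain ⟨N₁, p₁, p₂, p₃, p₄, hsplit⟩ :=
      binary_split θ ((Eᵀ * c * E) i i) ((Eᵀ * c * E) i j + (Eᵀ * c * E) j i)
        ((Eᵀ * c * E) j j) hD₁
    have hSR₁' : SR (((Eᵀ * c * E).map (algebraMap R N₁.S)).map N₁.ψ) := by
      have : ((Eᵀ * c * E).map (algebraMap R N₁.S)).map N₁.ψ = (Eᵀ * c * E).map θ := by
        rw [Matrix.map_map]
        congr 1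
        funext r
        exact N₁.hψ r
      rw [this]; exact hSR₁
    have hcard' : Fintype.card {l : ι // l ≠ i ∧ l ≠ j} = 2 * m + 1 := by
      rw [card_compl i j hij, hcard]; omega
    obtain ⟨N₂, e, f, g, hfam, hval⟩ := step_core_odd N₁.ψ ((Eᵀ * c * E).map (algebraMap R N₁.S))
      hSR₁' i j hij p₁ p₂ p₃ p₄ (by simpa using hsplit) m (fun c' hc' => ih N₁.ψ c' hcard' hc')
    -- transform back by E
    obtain ⟨φ, hφ⟩ : ∃ φ : R →+* N₂.S, φ = (algebraMap N₁.S N₂.S).comp (algebraMap R N₁.S) :=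
      ⟨_, rfl⟩
    have hcomp : ∀ M : Matrix ι ι R,
        (M.map (algebraMap R N₁.S)).map (algebraMap N₁.S N₂.S) = M.map φ := by
      intro M
      rw [Matrix.map_map, hφ]
      rfl
    have hmm : ((Eᵀ * c * E).map (algebraMap R N₁.S)).map (algebraMap N₁.S N₂.S)
        = (E.map φ)ᵀ * (c.map φ) * (E.map φ) := by
      rw [hcomp, Matrix.map_mul, Matrix.map_mul, Matrix.transpose_map]
    have hfam' := hfam.map (Q := Qc (c.map φ)) (Matrix.mulVecLin (E.map φ))
      (fun z => by rw [hmm, Qc_pullback]; rfl)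
    have hval' : N₂.ψ (Qc (c.map φ) (Matrix.mulVecLin (E.map φ) g)) ≠ 0 := by
      rw [hmm, Qc_pullback] at hval
      exact hval
    rw [hφ] at hfam' hval'
    exact ⟨N₁.trans N₂, _, _, _, hfam', hval'⟩

end Induction

section Tmap
variable {S S' : Type*} [CommRing S] [CommRing S'] {ι : Type*} {m : ℕ}

/-- the linear map with "columns" `g, e₀, f₀, e₁, f₁, …` -/
noncomputable def Tmap (e f : Fin m → ι → S) (g : ι → S) :
    (Fin (2 * m + 1) → S) →ₗ[S] (ι → S) :=
  (LinearMap.proj (⟨0, by omega⟩ : Fin (2 * m + 1))).smulRight g +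
    ∑ k : Fin m, ((LinearMap.proj (⟨2 * k + 1, by omega⟩ : Fin (2 * m + 1))).smulRight (e k) +
      (LinearMap.proj (⟨2 * k + 2, by omega⟩ : Fin (2 * m + 1))).smulRight (f k))

lemma Tmap_apply (e f : Fin m → ι → S) (g : ι → S) (z : Fin (2 * m + 1) → S) :
    Tmap e f g z = z ⟨0, by omega⟩ • g + (∑ k : Fin m, z ⟨2 * k + 1, by omega⟩ • e k
      + ∑ k : Fin m, z ⟨2 * k + 2, by omega⟩ • f k) := by
  simp [Tmap, LinearMap.sum_apply, Finset.sum_add_distrib]

variable [Fintype ι] [DecidableEq ι]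

/-- the matrix of `Tmap` -/
noncomputable def Gmat (e f : Fin m → ι → S) (g : ι → S) : Matrix ι (Fin (2 * m + 1)) S :=
  LinearMap.toMatrix' (Tmap e f g)

lemma Gmat_mulVec (e f : Fin m → ι → S) (g : ι → S) (z : Fin (2 * m + 1) → S) :
    Gmat e f g *ᵥ z = z ⟨0, by omega⟩ • g + (∑ k : Fin m, z ⟨2 * k + 1, by omega⟩ • e k
      + ∑ k : Fin m, z ⟨2 * k + 2, by omega⟩ • f k) := by
  rw [Gmat, LinearMap.toMatrix'_mulVec, Tmap_apply]

lemma Gmat_map (φ : S →+* S') (e f : Fin m → ι → S) (g : ι → S) :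
    (Gmat e f g).map φ = Gmat (fun k => φ ∘ e k) (fun k => φ ∘ f k) (φ ∘ g) := by
  refine Matrix.ext fun x j => ?_
  simp only [Gmat, Matrix.map_apply, LinearMap.toMatrix'_apply, Tmap_apply, Pi.add_apply,
    Pi.smul_apply, Finset.sum_apply, smul_eq_mul, map_add, map_mul, map_sum, Function.comp_apply,
    Pi.single_apply, apply_ite φ, map_one, map_zero]

lemma Qc_Gmat {c : Matrix ι ι S} {e f : Fin m → ι → S} {g : ι → S}
    (h : IsOddFam (Qc c) e f g) (z : Fin (2 * m + 1) → S) :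
    Qc c (Gmat e f g *ᵥ z) = Qc c g * z ⟨0, by omega⟩ ^ 2
      + ∑ k : Fin m, z ⟨2 * k + 1, by omega⟩ * z ⟨2 * k + 2, by omega⟩ := by
  rw [Gmat_mulVec, h.eval, mul_comm]

lemma fin_odd_cases (j : Fin (2 * m + 1)) :
    j = ⟨0, by omega⟩ ∨ (∃ k : Fin m, j = ⟨2 * k + 1, by omega⟩) ∨
      ∃ k : Fin m, j = ⟨2 * k + 2, by omega⟩ := by
  obtain ⟨j, hj⟩ := j
  rcases Nat.even_or_odd' j with ⟨k, hk | hk⟩
  · rcases Nat.eq_zero_or_pos k with h0 | h0
    · left
      exact Fin.ext (by simp; omega)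
    · right; right
      exact ⟨⟨k - 1, by omega⟩, Fin.ext (by simp; omega)⟩
  · right; left
    exact ⟨⟨k, by omega⟩, Fin.ext (by simp; omega)⟩

end Tmap

section Pointwise
universe u

variable {L : Type u} [Field L] [IsAlgClosed L]

lemma det_Gmat_ne_zero {m : ℕ} (c : Matrix (Fin (2 * m + 1)) (Fin (2 * m + 1)) L)
    (e f : Fin m → Fin (2 * m + 1) → L) (g : Fin (2 * m + 1) → L)
    (h : IsOddFam (Qc c) e f g) (hg : Qc c g ≠ 0) : (Gmat e f g).det ≠ 0 := by
  intro hdet
  obtain ⟨v, hv, hv0⟩ := Matrix.exists_mulVec_eq_zero_iff.2 hdet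
  rw [Gmat_mulVec] at hv0
  obtain ⟨hx, hy, hz⟩ := h.inj _ _ _ hv0
  apply hv
  have hz0 : v ⟨0, by omega⟩ = 0 := by
    rcases mul_eq_zero.1 hz with h1 | h1
    · exact pow_eq_zero_iff (two_ne_zero) |>.1 h1
    · exact absurd h1 hg
  funext j
  rcases fin_odd_cases j with rfl | ⟨k, rfl⟩ | ⟨k, rfl⟩
  · exact hz0
  · exact hx k
  · exact hy k

theorem exists_odd_unit {R : Type u} [CommRing R] (m : ℕ) (θ : R →+* L)
    (c : Matrix (Fin (2 * m + 1)) (Fin (2 * m + 1)) R) (hSR : SR (c.map θ)) :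
    ∃ N : ENbhd θ, ∃ (e f : Fin m → Fin (2 * m + 1) → N.S) (g : Fin (2 * m + 1) → N.S),
      IsOddFam (Qc (c.map (algebraMap R N.S))) e f g ∧ IsUnit (Gmat e f g).det ∧
        IsUnit (Qc (c.map (algebraMap R N.S)) g) := by
  obtain ⟨N, e, f, g, hfam, hval⟩ := exists_odd m θ c (by simp) hSR
  have hdet : N.ψ (Gmat e f g).det ≠ 0 := by
    rw [RingHom.map_det, RingHom.mapMatrix_apply, Gmat_map]
    refine det_Gmat_ne_zero _ _ _ _ (hfam.mapRing N.ψ) ?_
    rw [Qc_map]
    exact hval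
  have hprod : N.ψ ((Gmat e f g).det * Qc (c.map (algebraMap R N.S)) g) ≠ 0 := by
    rw [map_mul]
    exact mul_ne_zero hdet hval
  obtain ⟨N', hunit⟩ := exists_away N.ψ _ hprod
  rw [map_mul] at hunit
  obtain ⟨φ, hφ⟩ : ∃ φ : R →+* N'.S, φ = (algebraMap N.S N'.S).comp (algebraMap R N.S) :=
    ⟨_, rfl⟩
  have hfam' : IsOddFam (Qc (c.map φ)) (fun k => algebraMap N.S N'.S ∘ e k)
      (fun k => algebraMap N.S N'.S ∘ f k) (algebraMap N.S N'.S ∘ g) := by
    have := hfam.mapRing (algebraMap N.S N'.S)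
    rw [Matrix.map_map] at this
    rw [hφ]
    exact this
  have hu1 : IsUnit (Gmat (fun k => algebraMap N.S N'.S ∘ e k)
      (fun k => algebraMap N.S N'.S ∘ f k) (algebraMap N.S N'.S ∘ g)).det := by
    rw [← Gmat_map, ← RingHom.mapMatrix_apply, ← RingHom.map_det]
    exact isUnit_of_mul_isUnit_left hunit
  have hu2 : IsUnit (Qc (c.map φ) (algebraMap N.S N'.S ∘ g)) := by
    have h2 : Qc (c.map φ) (algebraMap N.S N'.S ∘ g)
        = algebraMap N.S N'.S (Qc (c.map (algebraMap R N.S)) g) := by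
      rw [← Qc_map, Matrix.map_map, hφ]
      rfl
    rw [h2]
    exact isUnit_of_mul_isUnit_right hunit
  rw [hφ] at hfam' hu2
  exact ⟨N.trans N', _, _, _, hfam', hu1, hu2⟩

/-- data of an étale neighbourhood of `p` where the form becomes `u z₀² + Σ x y`. -/
structure OddNbhd {A : Type u} [CommRing A] {m : ℕ}
    (c : Matrix (Fin (2 * m + 1)) (Fin (2 * m + 1)) A) (p : PrimeSpectrum A) where
  S : Type u
  [cr : CommRing S]
  [alg : Algebra A S]
  et : Algebra.Etale A S
  q : PrimeSpectrum S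
  hq : q.asIdeal.comap (algebraMap A S) = p.asIdeal
  e : Fin m → Fin (2 * m + 1) → S
  f : Fin m → Fin (2 * m + 1) → S
  g : Fin (2 * m + 1) → S
  hfam : IsOddFam (Qc (c.map (algebraMap A S))) e f g
  hG : IsUnit (Gmat e f g).det
  hu : IsUnit (Qc (c.map (algebraMap A S)) g)

attribute [instance] OddNbhd.cr OddNbhd.alg

theorem pointwise_odd {A : Type u} [CommRing A] {m : ℕ}
    (c : Matrix (Fin (2 * m + 1)) (Fin (2 * m + 1)) A)
    (hSR : ∀ (K : Type u) [Field K] (θ : A →+* K), SR (c.map θ))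
    (p : PrimeSpectrum A) : Nonempty (OddNbhd c p) := by
  obtain ⟨θ, hθ⟩ : ∃ θ : A →+* AlgebraicClosure p.asIdeal.ResidueField,
      θ = (algebraMap p.asIdeal.ResidueField (AlgebraicClosure p.asIdeal.ResidueField)).comp
        (algebraMap A p.asIdeal.ResidueField) := ⟨_, rfl⟩
  have hker : ∀ a, θ a = 0 ↔ a ∈ p.asIdeal := by
    intro a
    rw [hθ, RingHom.comp_apply, map_eq_zero, Ideal.algebraMap_residueField_eq_zero]
  obtain ⟨N, e, f, g, hfam, hG, hu⟩ := exists_odd_unit m θ c (hSR _ θ)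
  haveI := N.et
  have hq : Ideal.comap (algebraMap A N.S) (RingHom.ker N.ψ) = p.asIdeal := by
    ext a
    simp only [Ideal.mem_comap, RingHom.mem_ker, N.hψ, hker]
  exact ⟨{ S := N.S
           et := N.et
           q := ⟨RingHom.ker N.ψ, RingHom.ker_isPrime _⟩
           hq := hq
           e := e
           f := f
           g := g
           hfam := hfam
           hG := hG
           hu := hu }⟩

end Pointwise

section Global
universe u

lemma IsOddFam.pi {n : ℕ} {ι : Type*} [Fintype ι] [DecidableEq ι] {κ : Type*}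
    {T : κ → Type*} [∀ k, CommRing (T k)]
    (cB : Matrix ι ι (∀ k, T k)) (e f : Fin n → ι → ∀ k, T k) (g : ι → ∀ k, T k)
    (h : ∀ k, IsOddFam (Qc (cB.map (Pi.evalRingHom T k)))
      (fun a => Pi.evalRingHom T k ∘ e a) (fun a => Pi.evalRingHom T k ∘ f a)
      (Pi.evalRingHom T k ∘ g)) : IsOddFam (Qc cB) e f g where
  hyp :=
    { qe := fun a => by
        funext k
        have := (h k).hyp.qe a
        rw [Qc_map] at this
        simpa using this
      qf := fun a => by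
        funext k
        have := (h k).hyp.qf a
        rw [Qc_map] at this
        simpa using this
      ee := fun a b => by
        funext k
        have := (h k).hyp.ee a b
        rw [polar_Qc_map] at this
        simpa using this
      ff := fun a b => by
        funext k
        have := (h k).hyp.ff a b
        rw [polar_Qc_map] at this
        simpa using this
      ef := fun a b => by
        funext k
        have := (h k).hyp.ef a b
        rw [polar_Qc_map] at this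
        rw [Pi.evalRingHom_apply] at this
        rw [this]
        split_ifs <;> rfl }
  ge a := by
    funext k
    have := (h k).ge a
    rw [polar_Qc_map] at this
    simpa using this
  gf a := by
    funext k
    have := (h k).gf a
    rw [polar_Qc_map] at this
    simpa using this

theorem global_odd {A : Type u} [CommRing A] {m : ℕ}
    (c : Matrix (Fin (2 * m + 1)) (Fin (2 * m + 1)) A)
    (hSR : ∀ (K : Type u) [Field K] (θ : A →+* K), SR (c.map θ)) :
    ∃ (B : Type u) (_ : CommRing B) (_ : Algebra A B), Algebra.Etale A B ∧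
      Module.FaithfullyFlat A B ∧
      ∃ (e f : Fin m → Fin (2 * m + 1) → B) (g : Fin (2 * m + 1) → B),
        IsOddFam (Qc (c.map (algebraMap A B))) e f g ∧ IsUnit (Gmat e f g).det ∧
          IsUnit (Qc (c.map (algebraMap A B)) g) := by
  classical
  let D : ∀ p : PrimeSpectrum A, OddNbhd c p := fun p => (pointwise_odd c hSR p).some
  let U : PrimeSpectrum A → Set (PrimeSpectrum A) :=
    fun p => Set.range (PrimeSpectrum.comap (algebraMap A (D p).S))
  have hopen : ∀ p, IsOpen (U p) := by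
    intro p
    haveI := (D p).et
    exact (PrimeSpectrum.isOpenMap_comap_of_hasGoingDown_of_finitePresentation
      (R := A) (S := (D p).S)).isOpen_range
  have hmem : ∀ p, p ∈ U p := fun p => ⟨(D p).q, PrimeSpectrum.ext (D p).hq⟩
  obtain ⟨t, ht⟩ := isCompact_univ.elim_finite_subcover U hopen
    (fun p _ => Set.mem_iUnion.2 ⟨p, hmem p⟩)
  let idx : Fin t.card → PrimeSpectrum A := fun k => (t.equivFin.symm k).1
  haveI hetk : ∀ k, Algebra.Etale A (D (idx k)).S := fun k => (D (idx k)).et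
  have hmapk : ∀ k, (c.map (algebraMap A (∀ k, (D (idx k)).S))).map
      (Pi.evalRingHom (fun k => (D (idx k)).S) k) = c.map (algebraMap A (D (idx k)).S) := by
    intro k
    rw [Matrix.map_map]
    rfl
  refine ⟨∀ k, (D (idx k)).S, inferInstance, inferInstance, inferInstance, ?_,
    fun a i k => (D (idx k)).e a i, fun a i k => (D (idx k)).f a i, fun i k => (D (idx k)).g i,
    ?_, ?_, ?_⟩
  · apply Module.FaithfullyFlat.of_comap_surjective
    intro p
    have hp := ht (Set.mem_univ p)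
    simp only [Set.mem_iUnion] at hp
    obtain ⟨p', hp't, q', hq'⟩ := hp
    obtain ⟨k, hk⟩ : ∃ k, idx k = p' := ⟨t.equivFin ⟨p', hp't⟩, by simp [idx]⟩
    subst hk
    refine ⟨PrimeSpectrum.comap (Pi.evalRingHom (fun k => (D (idx k)).S) k) q', ?_⟩
    rw [← hq']
    rfl
  · apply IsOddFam.pi
    intro k
    rw [hmapk]
    exact (D (idx k)).hfam
  · rw [Pi.isUnit_iff]
    intro k
    have h1 : (Gmat (fun a i k => (D (idx k)).e a i) (fun a i k => (D (idx k)).f a i)
        (fun i k => (D (idx k)).g i)).det k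
        = (Gmat (D (idx k)).e (D (idx k)).f (D (idx k)).g).det := by
      have h2 := RingHom.map_det (Pi.evalRingHom (fun k => (D (idx k)).S) k)
        (Gmat (fun a i k => (D (idx k)).e a i) (fun a i k => (D (idx k)).f a i)
          (fun i k => (D (idx k)).g i))
      rw [RingHom.mapMatrix_apply, Gmat_map] at h2
      exact h2
    rw [h1]
    exact (D (idx k)).hG
  · rw [Pi.isUnit_iff]
    intro k
    have h1 : (Qc (c.map (algebraMap A (∀ k, (D (idx k)).S))) (fun i k => (D (idx k)).g i)) k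
        = Qc (c.map (algebraMap A (D (idx k)).S)) (D (idx k)).g := by
      have h2 := Qc_map (Pi.evalRingHom (fun k => (D (idx k)).S) k)
        (c.map (algebraMap A (∀ k, (D (idx k)).S))) (fun i k => (D (idx k)).g i)
      rw [hmapk] at h2
      exact h2.symm
    rw [h1]
    exact (D (idx k)).hu

theorem final_odd {R : Type u} [CommRing R] (m : ℕ)
    (c : Matrix (Fin (2 * m + 1)) (Fin (2 * m + 1)) R)
    (hSR : ∀ (K : Type u) [Field K] (θ : R →+* K), SR (c.map θ)) :
    ∃ (A : Type u) (_ : CommRing A) (_ : Algebra R A), Module.FaithfullyFlat R A ∧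
      Algebra.FinitePresentation R A ∧
      ∃ K : Matrix (Fin (2 * m + 1)) (Fin (2 * m + 1)) A, IsUnit K.det ∧
        ∀ z : Fin (2 * m + 1) → A, Qc (c.map (algebraMap R A)) (K *ᵥ z)
          = z ⟨0, by omega⟩ ^ 2 + ∑ k : Fin m, z ⟨2 * k + 1, by omega⟩ * z ⟨2 * k + 2, by omega⟩ := by
  classical
  obtain ⟨B, iCR, iAlg, hEt, hFF, e, f, g, hfam, hG, hu⟩ := global_odd c hSR
  obtain ⟨u, hu_def⟩ : ∃ u : B, u = Qc (c.map (algebraMap R B)) g := ⟨_, rfl⟩
  rw [← hu_def] at hu
  have hf : (X ^ 2 - C u : B[X]).Monic := monic_X_pow_sub_C u (by norm_num)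
  have hFFA : Module.FaithfullyFlat B (AdjoinRoot (X ^ 2 - C u : B[X])) :=
    SyntRoot.faithfullyFlat_adjoinRoot B _ hf (fun _ => by
      rw [natDegree_X_pow_sub_C]; norm_num)
  have hFFR : Module.FaithfullyFlat R (AdjoinRoot (X ^ 2 - C u : B[X])) :=
    Module.FaithfullyFlat.trans R B _
  have hFP : Algebra.FinitePresentation R (AdjoinRoot (X ^ 2 - C u : B[X])) := inferInstance
  refine ⟨AdjoinRoot (X ^ 2 - C u : B[X]), inferInstance, inferInstance, hFFR, hFP, ?_⟩
  obtain ⟨r, hr_def⟩ : ∃ r : AdjoinRoot (X ^ 2 - C u : B[X]), r = AdjoinRoot.root _ := ⟨_, rfl⟩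
  have hr : r ^ 2 = algebraMap B (AdjoinRoot (X ^ 2 - C u : B[X])) u := by
    have := AdjoinRoot.eval₂_root (X ^ 2 - C u : B[X])
    rw [eval₂_sub, eval₂_pow, eval₂_X, eval₂_C, sub_eq_zero] at this
    rw [hr_def, this]
    rfl
  have hru : IsUnit r := by
    have : IsUnit (r * r) := by
      rw [← pow_two, hr]
      exact hu.map _
    exact isUnit_of_mul_isUnit_left this
  obtain ⟨ri, hri⟩ := hru.exists_right_inv
  have hmap : (c.map (algebraMap R B)).map (algebraMap B (AdjoinRoot (X ^ 2 - C u : B[X])))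
      = c.map (algebraMap R (AdjoinRoot (X ^ 2 - C u : B[X]))) := by
    rw [Matrix.map_map]
    refine Matrix.ext fun i j => ?_
    exact (IsScalarTower.algebraMap_apply R B _ (c i j)).symm
  have hfam' := hfam.mapRing (algebraMap B (AdjoinRoot (X ^ 2 - C u : B[X])))
  rw [hmap] at hfam'
  have hQg : Qc (c.map (algebraMap R (AdjoinRoot (X ^ 2 - C u : B[X]))))
      (algebraMap B (AdjoinRoot (X ^ 2 - C u : B[X])) ∘ g) = r ^ 2 := by
    rw [← hmap, Qc_map, ← hu_def, hr]
  have h0lt : 0 < 2 * m + 1 := by omega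
  obtain ⟨d, hd⟩ : ∃ d : Fin (2 * m + 1) → AdjoinRoot (X ^ 2 - C u : B[X]),
      d = fun j => if j = ⟨0, h0lt⟩ then ri else 1 := ⟨_, rfl⟩
  refine ⟨Gmat (fun k => algebraMap B (AdjoinRoot (X ^ 2 - C u : B[X])) ∘ e k)
      (fun k => algebraMap B (AdjoinRoot (X ^ 2 - C u : B[X])) ∘ f k)
      (algebraMap B (AdjoinRoot (X ^ 2 - C u : B[X])) ∘ g) * Matrix.diagonal d, ?_, ?_⟩
  · rw [Matrix.det_mul, Matrix.det_diagonal]
    refine IsUnit.mul ?_ ?_
    · rw [← Gmat_map, ← RingHom.mapMatrix_apply, ← RingHom.map_det]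
      exact hG.map _
    · rw [hd, Finset.prod_ite_eq']
      simp only [Finset.mem_univ, if_true]
      exact IsUnit.of_mul_eq_one r (by rw [mul_comm]; exact hri)
  · intro z
    rw [← Matrix.mulVec_mulVec, Qc_Gmat hfam', hQg]
    have h0 : (Matrix.diagonal d *ᵥ z) ⟨0, by omega⟩ = ri * z ⟨0, by omega⟩ := by
      rw [Matrix.mulVec_diagonal, hd]
      simp
    have h1 : ∀ k : Fin m, (Matrix.diagonal d *ᵥ z) ⟨2 * k + 1, by omega⟩
        = z ⟨2 * k + 1, by omega⟩ := by
      intro k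
      rw [Matrix.mulVec_diagonal, hd]
      simp
    have h2 : ∀ k : Fin m, (Matrix.diagonal d *ᵥ z) ⟨2 * k + 2, by omega⟩
        = z ⟨2 * k + 2, by omega⟩ := by
      intro k
      rw [Matrix.mulVec_diagonal, hd]
      simp
    simp only [h0, h1, h2]
    congr 1
    linear_combination (z ⟨0, by omega⟩ ^ 2 * (r * ri + 1)) * hri

end Global

end Groth.Agent.H73.QuadSplitOdd
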