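import Groth.Agent.H73.QuadSplitOdd
import Groth.Agent.H84.QuadSemireg
import Groth.Agent.H84.QuadCoord

set_option autoImplicit false
set_option linter.unusedSectionVars false
set_option linter.unusedVariables false
open QuadraticMap Matrix

/-!
# fppf-local splitting of semiregular quadratic forms of odd rank (helper73, for S17003)
-/

namespace Groth.Agent.H73.QuadSplitOddMain

open Groth.Agent.H73.QuadSplit Groth.Agent.H73.QuadSplitOdd Groth.Agent.H84 QuadGrp

universe u

section Bridge
variable {R : Type u} [CommRing R] {n : ℕ}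

lemma Qc_liftMat (Q : QuadraticForm R (Fin n → R)) (x : Fin n → R) :
    Qc (liftMat Q) x = Q x := by
  have h1 : liftMat Q = LinearMap.BilinForm.toMatrix' (bilinLift Q) := by
    refine Matrix.ext fun i j => ?_
    rw [LinearMap.BilinForm.toMatrix'_apply]
    rfl
  rw [Qc, h1, Matrix.toBilin'_toMatrix']
  conv_rhs => rw [← bilinLift_spec Q]

lemma polar_Qc_liftMat (Q : QuadraticForm R (Fin n → R)) (x y : Fin n → R) :
    polar (Qc (liftMat Q)) x y = polar Q x y := by
  simp only [polar, Qc_liftMat]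

lemma Qc_ext_fin {T : Type*} [CommRing T] (c c' : Matrix (Fin n) (Fin n) T)
    (hd : ∀ i, c i i = c' i i) (hs : ∀ i j, c i j + c j i = c' i j + c' j i)
    (y : Fin n → T) : Qc c y = Qc c' y := by
  have hsub : Qc c y - Qc c' y = Qc (c - c') y := by
    simp only [Qc_apply, Matrix.sub_mulVec, dotProduct_sub]
  have hy : y = ∑ k, y k • (Pi.single k 1 : Fin n → T) := by
    ext i
    simp [Finset.sum_apply, Pi.single_apply]
  have h0 : Qc (c - c') y = 0 := by
    rw [hy]
    refine (map_sum_isotropic (Qc (c - c')) (fun k => Pi.single k 1) (fun k => ?_)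
      (fun k l => ?_) y Finset.univ).1
    · rw [Qc_single]
      simp [hd]
    · rw [polar_Qc_single]
      simp only [Matrix.sub_apply]
      linear_combination hs k l
  rw [← sub_eq_zero, hsub, h0]

lemma comp_single {A : Type*} [CommRing A] (φ : R →+* A) (i : Fin n) :
    φ ∘ (Pi.single i 1 : Fin n → R) = (Pi.single i 1 : Fin n → A) := by
  ext j
  simp [Pi.single_apply, apply_ite φ]

lemma Qc_map_eq_of_natural {A : Type u} [CommRing A] (φ : R →+* A)
    (c₁ : Matrix (Fin n) (Fin n) R) (Q' : QuadraticForm A (Fin n → A))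
    (hnat : ∀ x : Fin n → R, Q' (φ ∘ x) = φ (Qc c₁ x)) (y : Fin n → A) :
    Qc (c₁.map φ) y = Q' y := by
  rw [← Qc_liftMat Q' y]
  apply Qc_ext_fin
  · intro i
    rw [← Qc_single (liftMat Q') i, Qc_liftMat, Matrix.map_apply, ← Qc_single c₁ i, ← hnat,
      comp_single]
  · intro i j
    rw [← polar_Qc_single (liftMat Q') i j, polar_Qc_liftMat, Matrix.map_apply, Matrix.map_apply,
      ← map_add, ← polar_Qc_single c₁ i j]
    have hadd : φ ∘ ((Pi.single i 1 : Fin n → R) + Pi.single j 1)
        = (Pi.single i 1 : Fin n → A) + Pi.single j 1 := by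
      rw [← comp_single φ i, ← comp_single φ j]
      ext k
      simp
    simp only [polar, map_sub, ← hnat, hadd, comp_single]

end Bridge

section Split
variable (T : Type u) [CommRing T] (m : ℕ)

lemma splitForm_odd_apply (x : Fin (2 * m + 1) → T) :
    splitForm T (2 * m + 1) x = x ⟨0, by omega⟩ ^ 2
      + ∑ k : Fin m, x ⟨2 * k + 1, by omega⟩ * x ⟨2 * k + 2, by omega⟩ := by
  unfold QuadGrp.splitForm
  have h1 : (2 * m + 1) % 2 = 1 := by omega
  rw [dif_pos h1]
  simp only [QuadraticMap.add_apply, QuadraticMap.sum_apply, linMulLin_apply,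
    LinearMap.proj_apply, QuadraticMap.comp_apply, QuadraticMap.sq_apply]
  rw [add_comm, pow_two]
  congr 1
  refine Fintype.sum_equiv (finCongr (by omega)) _ _ (fun i => ?_)
  congr 1 <;> congr 1 <;> ext <;> simp [h1]

lemma splitForm_natural {R : Type u} [CommRing R] (φ : R →+* T) (x : Fin (2 * m + 1) → R) :
    splitForm T (2 * m + 1) (φ ∘ x) = φ (splitForm R (2 * m + 1) x) := by
  rw [splitForm_odd_apply, splitForm_odd_apply]
  simp only [Function.comp_apply, map_add, map_pow, map_sum, map_mul]

end Split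

section SRsec
variable {R : Type u} [CommRing R]

lemma SR_of_semiregular (m : ℕ) (Q : QuadraticForm R (Fin (2 * m + 1) → R))
    (hQ : IsSemiregular (Pi.basisFun R (Fin (2 * m + 1))) (LinearEquiv.refl R R) Q)
    (K : Type u) [Field K] (θ : R →+* K) : SR ((liftMat Q).map θ) := by
  have hcoef : coeffs (Pi.basisFun K (Fin (2 * m + 1))) (LinearEquiv.refl K K)
      (Qc ((liftMat Q).map θ))
      = θ ∘ coeffs (Pi.basisFun R (Fin (2 * m + 1))) (LinearEquiv.refl R R) Q := by
    funext s
    induction s using Sym2.ind with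
    | _ i j =>
      rw [Function.comp_apply, coeffs_mk, coeffs_mk]
      simp only [Pi.basisFun_apply, LinearEquiv.refl_apply]
      split_ifs with h
      · rw [Qc_single, Matrix.map_apply, ← Qc_single (liftMat Q) i, Qc_liftMat]
      · rw [polar_Qc_single, Matrix.map_apply, Matrix.map_apply, ← map_add,
          ← polar_Qc_single (liftMat Q) i j, polar_Qc_liftMat]
  have hhd : halfDisc (Pi.basisFun K (Fin (2 * m + 1))) (LinearEquiv.refl K K)
      (Qc ((liftMat Q).map θ))
      = θ (halfDisc (Pi.basisFun R (Fin (2 * m + 1))) (LinearEquiv.refl R R) Q) := by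
    unfold halfDisc
    rw [hcoef, MvPolynomial.eval₂_comp_left θ]
    congr 1
    exact RingHom.ext_int _ _
  have hne : halfDisc (Pi.basisFun K (Fin (2 * m + 1))) (LinearEquiv.refl K K)
      (Qc ((liftMat Q).map θ)) ≠ 0 := by
    rw [hhd]
    exact (hQ.map θ).ne_zero
  have hnd := nondegenerate_of_halfDisc_ne_zero m (Pi.basisFun K (Fin (2 * m + 1)))
    (Qc ((liftMat Q).map θ)) hne
  intro z hz hq
  have hmem : z ∈ (Qc ((liftMat Q).map θ)).radical := by
    refine ⟨hq, LinearMap.ext fun y => ?_⟩
    rw [polarBilin_apply_apply, polar_comm]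
    exact hz y
  rw [hnd.radical_eq_bot] at hmem
  exact (Submodule.mem_bot _).1 hmem

end SRsec

section Main

theorem main (R : Type u) [CommRing R] (m : ℕ)
    (Q : QuadraticForm R (Fin (2 * m + 1) → R))
    (hQ : QuadGrp.IsSemiregular (Pi.basisFun R (Fin (2 * m + 1))) (LinearEquiv.refl R R) Q) :
    ∃ (A : Type u) (_ : CommRing A) (_ : Algebra R A), Module.FaithfullyFlat R A ∧
      Algebra.FinitePresentation R A ∧
      Nonempty ((QuadGrp.baseChangeForm A Q).IsometryEquiv
        (QuadGrp.baseChangeForm A (QuadGrp.splitForm R (2 * m + 1)))) := by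
  obtain ⟨A, iCR, iAlg, hFF, hFP, K, hK, hform⟩ :=
    final_odd m (liftMat Q) (SR_of_semiregular m Q hQ)
  refine ⟨A, iCR, iAlg, hFF, hFP, ⟨?_⟩⟩
  have h1 : K * K⁻¹ = 1 := Matrix.mul_nonsing_inv K hK
  have h2 : K⁻¹ * K = 1 := Matrix.nonsing_inv_mul K hK
  refine { toLinearEquiv := conjEquiv R A K⁻¹ K h2 h1, map_app' := fun z => ?_ }
  have e1 : ∀ y, qA (splitForm R (2 * m + 1)) A y = splitForm A (2 * m + 1) y := fun y => by
    unfold qA
    rw [← Qc_apply]
    exact Qc_map_eq_of_natural (algebraMap R A) _ _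
      (fun x => by rw [Qc_liftMat]; exact splitForm_natural A m (algebraMap R A) x) y
  have e2 : ∀ y, qA Q A y = Qc ((liftMat Q).map (algebraMap R A)) y :=
    fun y => (Qc_apply _ _).symm
  show baseChangeForm A (splitForm R (2 * m + 1)) (conjEquiv R A K⁻¹ K h2 h1 z)
    = baseChangeForm A Q z
  rw [baseChangeForm_apply, baseChangeForm_apply, conjEquiv_apply, LinearEquiv.apply_symm_apply,
    e1, e2, splitForm_odd_apply, ← hform, Matrix.mulVec_mulVec, h1, Matrix.one_mulVec]

end Main

end Groth.Agent.H73.QuadSplitOddMain
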