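import Mathlib
import Groth.Prelude.Def_W4c2filtblowupsingRees

/-!
# Tools for normality of Rees algebras of valuation filtrations
-/

namespace Groth.Agent.H73.ReesNormal

open Polynomial IsAbsoluteValue

/-- A subalgebra `T` of an integrally closed domain `S` which is integrally closed in `S` is an
integrally closed domain. -/
theorem isIntegrallyClosed_of_subalgebra {A S : Type*} [CommRing A] [CommRing S] [IsDomain S]
    [Algebra A S] [IsIntegrallyClosed S] (T : Subalgebra A S)
    (hT : ∀ s : S, IsIntegral T s → s ∈ T) : IsIntegrallyClosed T := by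
  let L := FractionRing S
  rw [isIntegrallyClosed_iff (FractionRing T)]
  intro x hx
  have hinj : Function.Injective (algebraMap T L) := by
    rw [IsScalarTower.algebraMap_eq T S L]
    exact (IsFractionRing.injective S L).comp Subtype.val_injective
  let j : FractionRing T →ₐ[T] L :=
    IsFractionRing.liftAlgHom (A := T) (K := FractionRing T) (g := Algebra.ofId T L) hinj
  have h1 : IsIntegral T (j x) := hx.map j
  have h2 : IsIntegral S (j x) := h1.tower_top
  obtain ⟨s, hs⟩ := (isIntegrallyClosed_iff L).mp inferInstance h2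
  have h3 : IsIntegral T s := by
    rw [← hs] at h1
    exact (isIntegral_algebraMap_iff (IsFractionRing.injective S L)).mp h1
  refine ⟨⟨s, hT s h3⟩, ?_⟩
  apply (j : FractionRing T →+* L).injective
  change j _ = j x
  rw [AlgHom.commutes, ← hs]
  rfl

/-- Elements integral over a subalgebra on which a nonarchimedean absolute value is `≤ 1` have
absolute value `≤ 1`. -/
theorem le_one_of_isIntegral {A S : Type*} [CommRing A] [CommRing S] [Nontrivial S] [Algebra A S]
    (G : S → ℝ) [IsAbsoluteValue G] (hG : IsNonarchimedean G)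
    (T : Subalgebra A S) (hT : ∀ t ∈ T, G t ≤ 1) (f : S) (hf : IsIntegral T f) : G f ≤ 1 := by
  by_contra h
  push Not at h
  obtain ⟨P, hPm, hP⟩ := hf
  rw [eval₂_eq_sum_range, Finset.sum_range_succ, hPm.coeff_natDegree, map_one, one_mul] at hP
  set n := P.natDegree with hn
  have hfn : f ^ n = -∑ j ∈ Finset.range n, algebraMap T S (P.coeff j) * f ^ j := by
    rw [eq_neg_iff_add_eq_zero, add_comm]; exact hP
  have h1 : G (f ^ n) = G f ^ n := abv_pow G f n
  have h2 : G (f ^ n) = G (∑ j ∈ Finset.range n, algebraMap T S (P.coeff j) * f ^ j) := by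
    rw [hfn, abv_neg G]
  rcases Nat.eq_zero_or_pos n with hn0 | hnpos
  · rw [hn0] at h1 h2
    simp only [pow_zero, Finset.range_zero, Finset.sum_empty] at h1 h2
    rw [h2, abv_zero G] at h1
    exact zero_ne_one h1
  · have hne : (Finset.range n).Nonempty := ⟨0, Finset.mem_range.mpr hnpos⟩
    obtain ⟨j, hj, hle⟩ := hG.finset_image_add_of_nonempty
      (fun j => algebraMap T S (P.coeff j) * f ^ j) hne
    rw [← h2, h1] at hle
    have hj' : j < n := Finset.mem_range.mp hj
    have h3 : G (algebraMap T S (P.coeff j) * f ^ j) ≤ G f ^ j := by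
      rw [abv_mul G, abv_pow G]
      have : G (algebraMap T S (P.coeff j)) ≤ 1 := hT _ (P.coeff j).2
      calc G (algebraMap T S (P.coeff j)) * G f ^ j ≤ 1 * G f ^ j := by
            gcongr
        _ = G f ^ j := one_mul _
    have h4 : G f ^ j < G f ^ n := pow_lt_pow_right₀ h hj'
    linarith

section absOf

variable {K : Type*} [Field K] (w : AddValuation K (WithTop ℤ)) (q : ℕ)

theorem exists_int_of_ne_zero {x : K} (hx : x ≠ 0) : ∃ n : ℤ, w x = (n : WithTop ℤ) := by
  have : w x ≠ ⊤ := fun h => hx ((AddValuation.top_iff w).mp h)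
  obtain ⟨n, hn⟩ := WithTop.ne_top_iff_exists.mp this
  exact ⟨n, hn.symm⟩

open Classical in
/-- The real-valued function `x ↦ 2 ^ (-(q * w x))`. -/
noncomputable def absFun (x : K) : ℝ :=
  if x = 0 then 0 else (2 : ℝ) ^ (-((q : ℤ) * (w x).untopD 0))

theorem absFun_zero : absFun w q 0 = 0 := by simp [absFun]

theorem absFun_of_eq {x : K} (hx : x ≠ 0) {n : ℤ} (hn : w x = (n : WithTop ℤ)) :
    absFun w q x = (2 : ℝ) ^ (-((q : ℤ) * n)) := by
  simp [absFun, hx, hn]

theorem absFun_nonneg (x : K) : 0 ≤ absFun w q x := by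
  unfold absFun
  split_ifs
  · exact le_rfl
  · positivity

theorem absFun_mul (x y : K) : absFun w q (x * y) = absFun w q x * absFun w q y := by
  by_cases hx : x = 0
  · simp [hx, absFun_zero]
  by_cases hy : y = 0
  · simp [hy, absFun_zero]
  obtain ⟨n, hn⟩ := exists_int_of_ne_zero w hx
  obtain ⟨m, hm⟩ := exists_int_of_ne_zero w hy
  have hxy : w (x * y) = ((n + m : ℤ) : WithTop ℤ) := by
    rw [AddValuation.map_mul, hn, hm, WithTop.coe_add]
  rw [absFun_of_eq w q (mul_ne_zero hx hy) hxy, absFun_of_eq w q hx hn, absFun_of_eq w q hy hm,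
    ← zpow_add₀ (two_ne_zero)]
  congr 1
  ring

theorem absFun_add_le_max (x y : K) :
    absFun w q (x + y) ≤ max (absFun w q x) (absFun w q y) := by
  by_cases hxy : x + y = 0
  · rw [hxy, absFun_zero]
    exact le_max_of_le_left (absFun_nonneg w q x)
  by_cases hx : x = 0
  · simp [hx, absFun_zero, absFun_nonneg]
  by_cases hy : y = 0
  · simp [hy, absFun_zero, absFun_nonneg]
  obtain ⟨n, hn⟩ := exists_int_of_ne_zero w hx
  obtain ⟨m, hm⟩ := exists_int_of_ne_zero w hy
  obtain ⟨l, hl⟩ := exists_int_of_ne_zero w hxy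
  rw [absFun_of_eq w q hxy hl, absFun_of_eq w q hx hn, absFun_of_eq w q hy hm]
  have hq : (0 : ℤ) ≤ q := Int.natCast_nonneg q
  rcases AddValuation.map_add' w x y with h | h
  · rw [hn, hl, WithTop.coe_le_coe] at h
    refine le_max_of_le_left (zpow_le_zpow_right₀ (by norm_num) ?_)
    nlinarith
  · rw [hm, hl, WithTop.coe_le_coe] at h
    refine le_max_of_le_right (zpow_le_zpow_right₀ (by norm_num) ?_)
    nlinarith

/-- The absolute value `x ↦ 2 ^ (-(q * w x))`. -/
noncomputable def absOf : AbsoluteValue K ℝ where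
  toFun := absFun w q
  map_mul' := absFun_mul w q
  nonneg' := absFun_nonneg w q
  eq_zero' x := by
    constructor
    · intro h
      by_contra hx
      obtain ⟨n, hn⟩ := exists_int_of_ne_zero w hx
      rw [absFun_of_eq w q hx hn] at h
      exact (zpow_pos (by norm_num : (0 : ℝ) < 2) _).ne' h
    · rintro rfl
      exact absFun_zero w q
  add_le' x y := (absFun_add_le_max w q x y).trans
    (max_le_add_of_nonneg (absFun_nonneg w q x) (absFun_nonneg w q y))

theorem absOf_apply (x : K) : absOf w q x = absFun w q x := rfl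

theorem isNonarchimedean_absOf : IsNonarchimedean (absOf w q) := absFun_add_le_max w q

end absOf

universe u

/-- The Rees algebra of a filtration cut out by finitely (or infinitely) many `ℤ`-valued
valuations with rational weights is integrally closed. -/
theorem main (A K : Type u) [CommRing A] [IsDomain A] [IsIntegrallyClosed A] [Field K]
    [Algebra A K] [IsFractionRing A K] (ι : Type) (v : ι → AddValuation K (WithTop ℤ))
    (p q : ι → ℕ) (hq : ∀ i, 0 < q i) (𝓕 : FiltBl.IdealFiltration A)
    (hF : ∀ (k : ℕ) (x : A), x ∈ 𝓕.F k ↔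
      ∀ i, ((k * p i : ℕ) : WithTop ℤ) ≤ (q i : WithTop ℤ) * v i (algebraMap A K x)) :
    IsIntegrallyClosed 𝓕.rees := by
  classical
  have hinj : Function.Injective (algebraMap A K) := IsFractionRing.injective A K
  let N : ι → AbsoluteValue A ℝ := fun i => (absOf (v i) (q i)).comp hinj
  have hN : ∀ i a, N i a = absFun (v i) (q i) (algebraMap A K a) := fun i a => rfl
  have hna : ∀ i, IsNonarchimedean (N i) := fun i a b => by
    simp only [hN, map_add]
    exact absFun_add_le_max _ _ _ _
  let c : ι → ℝ := fun i => (2 : ℝ) ^ (p i)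
  have hc : ∀ i, 0 < c i := fun i => by positivity
  -- coefficient criterion
  have hcoef : ∀ (k : ℕ) (a : A), a ∈ 𝓕.F k ↔ ∀ i, N i a * c i ^ k ≤ 1 := by
    intro k a
    rw [hF]
    refine forall_congr' fun i => ?_
    by_cases ha : a = 0
    · subst ha
      have hq' : ((q i : ℕ) : WithTop ℤ) ≠ 0 := by
        exact_mod_cast (hq i).ne'
      simp only [hN, map_zero, absFun_zero, zero_mul, zero_le_one, iff_true]
      rw [AddValuation.map_zero, WithTop.mul_top hq']
      exact le_top
    · have ha' : algebraMap A K a ≠ 0 := fun h => ha (hinj (by rw [h, map_zero]))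
      obtain ⟨n, hn⟩ := exists_int_of_ne_zero (v i) ha'
      rw [hN, absFun_of_eq _ _ ha' hn, hn]
      have e1 : ((q i : ℕ) : WithTop ℤ) * (n : WithTop ℤ) = (((q i : ℤ) * n : ℤ) : WithTop ℤ) := by
        rw [WithTop.coe_mul]; rfl
      have e2 : ((k * p i : ℕ) : WithTop ℤ) = (((k * p i : ℕ) : ℤ) : WithTop ℤ) := rfl
      rw [e1, e2, WithTop.coe_le_coe]
      have e3 : (2 : ℝ) ^ (-((q i : ℤ) * n)) * c i ^ k =
          (2 : ℝ) ^ (((k * p i : ℕ) : ℤ) - (q i : ℤ) * n) := by
        simp only [c]
        rw [← pow_mul, ← zpow_natCast, ← zpow_add₀ (two_ne_zero)]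
        congr 1
        push_cast
        ring
      rw [e3, zpow_le_one_iff_right₀ (by norm_num : (1 : ℝ) < 2)]
      constructor <;> intro h <;> linarith
  have hmem : ∀ f : A[X], f ∈ 𝓕.rees ↔ ∀ i, f.gaussNorm (N i) (c i) ≤ 1 := by
    intro f
    have h0 : f ∈ 𝓕.rees ↔ ∀ k, f.coeff k ∈ 𝓕.F k := Iff.rfl
    rw [h0]
    constructor
    · intro h i
      unfold Polynomial.gaussNorm
      split_ifs with hs
      · exact Finset.sup'_le _ _ fun k _ => (hcoef k _).mp (h k) i
      · exact zero_le_one
    · intro h k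
      rw [hcoef]
      intro i
      exact (Polynomial.le_gaussNorm (N i) _ (hc i).le k).trans (h i)
  refine isIntegrallyClosed_of_subalgebra 𝓕.rees fun f hf => ?_
  rw [hmem]
  intro i
  have := Polynomial.gaussNorm_isAbsoluteValue (hna i) (hc i)
  exact le_one_of_isIntegral _ (Polynomial.isNonarchimedean_gaussNorm (N i) (hna i) (hc i).le)
    𝓕.rees (fun t ht => (hmem t).mp ht i) f hf

end Groth.Agent.H73.ReesNormal
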