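import Mathlib

/-!
# Exchange for kernels at a residue field

For `δ : M → F` with `F` finite free over a Noetherian ring `A` and a prime `p`, surjectivity of
`κ(p) ⊗ ker δ → ker (κ(p) ⊗ δ)` is equivalent to freeness of `(coker δ)_p`.
-/

set_option autoImplicit false
universe u v w

namespace Groth.Agent.H73.ResExchange

open TensorProduct

section eqv

variable {A : Type u} [CommRing A] (p : Ideal A) [p.IsPrime]

/-- `κ(p) ⊗_A X ≃ κ(p) ⊗_{A_p} X_p`. -/
noncomputable def eqv (X : Type v) [AddCommGroup X] [Module A X] :
    p.ResidueField ⊗[A] X ≃ₗ[p.ResidueField]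
      p.ResidueField ⊗[Localization.AtPrime p] LocalizedModule p.primeCompl X :=
  (IsBaseChange.comp (IsLocalizedModule.isBaseChange p.primeCompl (Localization.AtPrime p)
    (LocalizedModule.mkLinearMap p.primeCompl X))
    (TensorProduct.isBaseChange (Localization.AtPrime p) (LocalizedModule p.primeCompl X)
      p.ResidueField)).equiv

theorem eqv_tmul (X : Type v) [AddCommGroup X] [Module A X] (c : p.ResidueField) (x : X) :
    eqv p X (c ⊗ₜ[A] x) = c ⊗ₜ[Localization.AtPrime p] (LocalizedModule.mk x 1) := by
  rw [eqv, IsBaseChange.equiv_tmul]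
  simp [TensorProduct.smul_tmul']

theorem eqv_natural {X : Type v} {Y : Type w} [AddCommGroup X] [Module A X] [AddCommGroup Y]
    [Module A Y] (f : X →ₗ[A] Y) (z : p.ResidueField ⊗[A] X) :
    eqv p Y (f.lTensor p.ResidueField z) =
      (LocalizedModule.map p.primeCompl f).lTensor p.ResidueField (eqv p X z) := by
  induction z using TensorProduct.induction_on with
  | zero => simp
  | add a b ha hb => simp only [map_add, ha, hb]
  | tmul c x =>
    rw [LinearMap.lTensor_tmul, eqv_tmul, eqv_tmul, LinearMap.lTensor_tmul,
      LocalizedModule.map_mk]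

theorem lTensor_injective_iff {X : Type v} {Y : Type w} [AddCommGroup X] [Module A X]
    [AddCommGroup Y] [Module A Y] (f : X →ₗ[A] Y) :
    Function.Injective (f.lTensor p.ResidueField) ↔
      Function.Injective ((LocalizedModule.map p.primeCompl f).lTensor p.ResidueField) := by
  constructor
  · intro h a b hab
    obtain ⟨a, rfl⟩ := (eqv p X).surjective a
    obtain ⟨b, rfl⟩ := (eqv p X).surjective b
    rw [← eqv_natural, ← eqv_natural] at hab
    rw [h ((eqv p Y).injective hab)]
  · intro h a b hab
    apply (eqv p X).injective
    apply h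
    rw [← eqv_natural, ← eqv_natural, hab]

end eqv

section main

variable {A : Type u} [CommRing A]

/-- Tensoring `ker δ → M → F`: exactness in the middle is injectivity of `Q ⊗ im δ → Q ⊗ F`. -/
theorem exact_lTensor_iff_injective {M : Type v} {F : Type w} [AddCommGroup M] [Module A M]
    [AddCommGroup F] [Module A F] (δ : M →ₗ[A] F) (Q : Type*) [AddCommGroup Q] [Module A Q] :
    Function.Exact ((LinearMap.ker δ).subtype.lTensor Q) (δ.lTensor Q) ↔
      Function.Injective ((LinearMap.range δ).subtype.lTensor Q) := by
  have hex : Function.Exact (LinearMap.ker δ).subtype δ.rangeRestrict := by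
    rw [LinearMap.exact_iff, LinearMap.ker_rangeRestrict, Submodule.range_subtype]
  have hsurj : Function.Surjective δ.rangeRestrict := LinearMap.surjective_rangeRestrict δ
  have h1 : Function.Exact ((LinearMap.ker δ).subtype.lTensor Q) (δ.rangeRestrict.lTensor Q) :=
    lTensor_exact Q hex hsurj
  have h2 : Function.Surjective (δ.rangeRestrict.lTensor Q) := LinearMap.lTensor_surjective Q hsurj
  have hcomp : ∀ z, δ.lTensor Q z =
      (LinearMap.range δ).subtype.lTensor Q (δ.rangeRestrict.lTensor Q z) := by
    intro z
    rw [← LinearMap.comp_apply, ← LinearMap.lTensor_comp, LinearMap.subtype_comp_codRestrict]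
  constructor
  · intro h
    rw [injective_iff_map_eq_zero]
    intro y hy
    obtain ⟨z, rfl⟩ := h2 y
    rw [← hcomp] at hy
    obtain ⟨w, rfl⟩ := (h z).mp hy
    exact h1.apply_apply_eq_zero w
  · intro h z
    rw [hcomp, ← h1 z]
    constructor
    · intro hz
      exact h (by rw [hz, map_zero])
    · intro hz
      rw [hz, map_zero]

variable (p : Ideal A) [p.IsPrime]

theorem lTensor_injective_of_retraction {X : Type v} {Y : Type w} [AddCommGroup X] [Module A X]
    [AddCommGroup Y] [Module A Y] (f : X →ₗ[A] Y)
    (h : ∃ l : LocalizedModule p.primeCompl Y →ₗ[Localization.AtPrime p]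
        LocalizedModule p.primeCompl X, l ∘ₗ LocalizedModule.map p.primeCompl f = LinearMap.id) :
    Function.Injective (f.lTensor p.ResidueField) := by
  rw [lTensor_injective_iff]
  obtain ⟨l, hl⟩ := h
  have : l.lTensor p.ResidueField ∘ₗ (LocalizedModule.map p.primeCompl f).lTensor p.ResidueField =
      LinearMap.id := by
    rw [← LinearMap.lTensor_comp, hl, LinearMap.lTensor_id]
  exact Function.HasLeftInverse.injective ⟨_, LinearMap.congr_fun this⟩

theorem map_exact' {X Y Z : Type*} [AddCommGroup X] [Module A X]
    [AddCommGroup Y] [Module A Y] [AddCommGroup Z] [Module A Z] (f : X →ₗ[A] Y) (g : Y →ₗ[A] Z)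
    (h : Function.Exact f g) :
    Function.Exact (LocalizedModule.map p.primeCompl f) (LocalizedModule.map p.primeCompl g) :=
  LocalizedModule.map_exact p.primeCompl f g h

variable {M : Type v} {F : Type v} [AddCommGroup M] [Module A M] [Module.Finite A M]
    [AddCommGroup F] [Module A F] [Module.Finite A F] [Module.Free A F] (δ : M →ₗ[A] F)

instance : Module.Finite A (LinearMap.range δ) := by
  rw [LinearMap.range_eq_map]
  exact Module.Finite.map ⊤ δ

instance : Module.Free (Localization.AtPrime p) (LocalizedModule p.primeCompl F) :=
  Module.free_of_isLocalizedModule p.primeCompl (LocalizedModule.mkLinearMap p.primeCompl F)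

theorem free_of_injective
    (h : Function.Injective ((LinearMap.range δ).subtype.lTensor p.ResidueField)) :
    Module.Free (Localization.AtPrime p)
      (LocalizedModule p.primeCompl (F ⧸ LinearMap.range δ)) := by
  rw [lTensor_injective_iff] at h
  exact Module.free_of_lTensor_residueField_injective
    (LocalizedModule.map p.primeCompl (LinearMap.range δ).subtype)
    (LocalizedModule.map p.primeCompl (LinearMap.range δ).mkQ)
    (LocalizedModule.map_surjective _ _ (Submodule.mkQ_surjective _))
    (map_exact' p _ _ (LinearMap.exact_subtype_mkQ _)) h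

theorem of_free (h : Module.Free (Localization.AtPrime p)
      (LocalizedModule p.primeCompl (F ⧸ LinearMap.range δ))) :
    Function.Injective ((LinearMap.range δ).subtype.lTensor p.ResidueField) ∧
    Function.Injective ((LinearMap.ker δ).subtype.lTensor p.ResidueField) ∧
    Module.Free (Localization.AtPrime p) (LocalizedModule p.primeCompl (LinearMap.range δ)) := by
  -- the sequence `0 → I_p → F_p → C_p → 0` splits
  have hj := (Function.Exact.split_tfae (map_exact' p _ _ (LinearMap.exact_subtype_mkQ (LinearMap.range δ)))
    (LocalizedModule.map_injective _ _ (Submodule.injective_subtype _))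
    (LocalizedModule.map_surjective _ _ (Submodule.mkQ_surjective _))).out 0 1
  obtain ⟨l, hl⟩ := hj.mp (Module.projective_lifting_property _ _
    (LocalizedModule.map_surjective _ _ (Submodule.mkQ_surjective _)))
  have hproj : Module.Projective (Localization.AtPrime p)
      (LocalizedModule p.primeCompl (LinearMap.range δ)) :=
    Module.Projective.of_split _ _ hl
  have hfree : Module.Free (Localization.AtPrime p)
      (LocalizedModule p.primeCompl (LinearMap.range δ)) :=
    Module.free_of_flat_of_isLocalRing
  -- the sequence `0 → K_p → M_p → I_p → 0` splits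
  have hex : Function.Exact (LinearMap.ker δ).subtype δ.rangeRestrict := by
    rw [LinearMap.exact_iff, LinearMap.ker_rangeRestrict, Submodule.range_subtype]
  have hk := (Function.Exact.split_tfae (map_exact' p _ _ hex)
    (LocalizedModule.map_injective _ _ (Submodule.injective_subtype _))
    (LocalizedModule.map_surjective _ _ (LinearMap.surjective_rangeRestrict δ))).out 0 1
  obtain ⟨l', hl'⟩ := hk.mp (Module.projective_lifting_property _ _
    (LocalizedModule.map_surjective _ _ (LinearMap.surjective_rangeRestrict δ)))
  exact ⟨lTensor_injective_of_retraction p _ ⟨l, hl⟩,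
    lTensor_injective_of_retraction p _ ⟨l', hl'⟩, hfree⟩

theorem main :
    [ Function.Exact (LinearMap.lTensor p.ResidueField (LinearMap.ker δ).subtype)
        (LinearMap.lTensor p.ResidueField δ),
      Function.Exact (LinearMap.lTensor p.ResidueField (LinearMap.ker δ).subtype)
        (LinearMap.lTensor p.ResidueField δ) ∧
        Function.Injective (LinearMap.lTensor p.ResidueField (LinearMap.ker δ).subtype),
      Module.Free (Localization.AtPrime p)
        (LocalizedModule p.primeCompl (F ⧸ LinearMap.range δ)) ].TFAE ∧
    (Function.Exact (LinearMap.lTensor p.ResidueField (LinearMap.ker δ).subtype)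
        (LinearMap.lTensor p.ResidueField δ) →
      Module.Free (Localization.AtPrime p)
        (LocalizedModule p.primeCompl (LinearMap.range δ))) := by
  have h13 : Function.Exact (LinearMap.lTensor p.ResidueField (LinearMap.ker δ).subtype)
        (LinearMap.lTensor p.ResidueField δ) → Module.Free (Localization.AtPrime p)
        (LocalizedModule p.primeCompl (F ⧸ LinearMap.range δ)) := fun h =>
    free_of_injective p δ ((exact_lTensor_iff_injective δ _).mp h)
  refine ⟨?_, fun h => (of_free p δ (h13 h)).2.2⟩
  tfae_have 1 → 3 := h13
  tfae_have 3 → 2 := fun h =>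
    ⟨(exact_lTensor_iff_injective δ _).mpr (of_free p δ h).1, (of_free p δ h).2.1⟩
  tfae_have 2 → 1 := fun h => h.1
  tfae_finish

end main

end Groth.Agent.H73.ResExchange
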