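import Mathlib

/-!
# Finite free extensions with prescribed residue field extension at a prime

Given a ring `R`, a prime `p` and a finite extension `L` of `κ(p)`, we construct a finite free
`R`-algebra `S` such that `pS` is prime with residue field `L`.
-/

set_option autoImplicit false
set_option linter.style.haveILetI false
set_option linter.unusedSectionVars false
set_option maxHeartbeats 400000

open Polynomial

namespace Groth.Agent.H73.ResFieldExt

universe u

/-- `φ : S → L` exhibits the field `L` as the residue field of `S` at the ideal `q`. -/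
def IsResFieldHom {S : Type*} [CommRing S] (q : Ideal S) {L : Type*} [Field L] (φ : S →+* L) :
    Prop :=
  RingHom.ker φ = q ∧ ∀ x : L, ∃ a b : S, φ b ≠ 0 ∧ x * φ b = φ a

theorem clear_denoms {R κ : Type*} [CommRing R] [Field κ] (ψ : R →+* κ)
    (hfrac : ∀ x : κ, ∃ a b : R, ψ b ≠ 0 ∧ x * ψ b = ψ a) (f : κ[X]) :
    ∃ (d : R) (g : R[X]), ψ d ≠ 0 ∧ C (ψ d) * f = g.map ψ := by
  induction f using Polynomial.induction_on' with
  | add f₁ f₂ h₁ h₂ =>
    obtain ⟨d₁, g₁, hd₁, e₁⟩ := h₁
    obtain ⟨d₂, g₂, hd₂, e₂⟩ := h₂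
    refine ⟨d₁ * d₂, C d₂ * g₁ + C d₁ * g₂, by rw [map_mul]; exact mul_ne_zero hd₁ hd₂, ?_⟩
    rw [Polynomial.map_add, Polynomial.map_mul, Polynomial.map_mul, map_C, map_C, ← e₁, ← e₂,
      map_mul, C_mul]
    ring
  | monomial n x =>
    obtain ⟨a, b, hb, e⟩ := hfrac x
    refine ⟨b, monomial n a, hb, ?_⟩
    rw [map_monomial, C_mul_monomial, ← e, mul_comm]

theorem one_step {R : Type u} [CommRing R] (p : Ideal R) {κ : Type u} [Field κ] [Algebra R κ]
    (hκ : IsResFieldHom p (algebraMap R κ)) {L : Type u} [Field L] [Algebra κ L] [Algebra R L]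
    [IsScalarTower R κ L] (pb : PowerBasis κ L) :
    ∃ (S : Type u) (_ : CommRing S) (_ : Algebra R S) (_ : Module.Finite R S)
      (_ : Module.Free R S) (φ : S →+* L), (∀ r, φ (algebraMap R S r) = algebraMap R L r) ∧
        IsResFieldHom (p.map (algebraMap R S)) φ := by
  classical
  haveI : FiniteDimensional κ L := pb.finite
  have hαint : IsIntegral κ pb.gen := Algebra.IsIntegral.isIntegral _
  have hPmonic : (minpoly κ pb.gen).Monic := minpoly.monic hαint
  obtain ⟨d, g, hd, hg⟩ := clear_denoms (algebraMap R κ) hκ.2 (minpoly κ pb.gen)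
  have hQmonic : (scaleRoots (minpoly κ pb.gen) (algebraMap R κ d)).Monic :=
    (monic_scaleRoots_iff _).mpr hPmonic
  have hQdeg : (scaleRoots (minpoly κ pb.gen) (algebraMap R κ d)).natDegree =
      (minpoly κ pb.gen).natDegree := natDegree_scaleRoots _ _
  have hQlifts : scaleRoots (minpoly κ pb.gen) (algebraMap R κ d) ∈ lifts (algebraMap R κ) := by
    rw [lifts_iff_coeff_lifts]
    intro i
    rw [coeff_scaleRoots]
    rcases lt_trichotomy i (minpoly κ pb.gen).natDegree with hi | hi | hi
    · have h1 : algebraMap R κ d * (minpoly κ pb.gen).coeff i = algebraMap R κ (g.coeff i) := by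
        have := congrArg (fun q => q.coeff i) hg
        simpa [coeff_C_mul, coeff_map] using this
      refine ⟨g.coeff i * d ^ ((minpoly κ pb.gen).natDegree - i - 1), ?_⟩
      have h2 : (minpoly κ pb.gen).natDegree - i = ((minpoly κ pb.gen).natDegree - i - 1) + 1 := by
        omega
      rw [map_mul, map_pow, ← h1]
      conv_rhs => rw [h2, pow_succ]
      ring
    · refine ⟨1, ?_⟩
      rw [hi, hPmonic.coeff_natDegree]
      simp
    · refine ⟨0, ?_⟩
      rw [coeff_eq_zero_of_natDegree_lt hi]
      simp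
  obtain ⟨Q', hQ'map, hQ'deg, hQ'monic⟩ := lifts_and_natDegree_eq_and_monic hQlifts hQmonic
  have hβroot : aeval (algebraMap κ L (algebraMap R κ d) * pb.gen)
      (scaleRoots (minpoly κ pb.gen) (algebraMap R κ d)) = 0 :=
    scaleRoots_aeval_eq_zero (minpoly.aeval κ pb.gen)
  -- `β` generates
  have hβgen : Algebra.adjoin κ {algebraMap κ L (algebraMap R κ d) * pb.gen} = ⊤ := by
    rw [eq_top_iff, ← pb.adjoin_gen_eq_top]
    refine Algebra.adjoin_le ?_
    rintro _ rfl
    have : pb.gen = (algebraMap R κ d)⁻¹ • (algebraMap κ L (algebraMap R κ d) * pb.gen) := by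
      rw [Algebra.smul_def, ← mul_assoc, ← map_mul, inv_mul_cancel₀ hd, map_one, one_mul]
    have hmem : (algebraMap R κ d)⁻¹ • (algebraMap κ L (algebraMap R κ d) * pb.gen) ∈
        Algebra.adjoin κ {algebraMap κ L (algebraMap R κ d) * pb.gen} :=
      Subalgebra.smul_mem _ (Algebra.self_mem_adjoin_singleton κ _) _
    rwa [← this] at hmem
  have hβint : IsIntegral κ (algebraMap κ L (algebraMap R κ d) * pb.gen) :=
    Algebra.IsIntegral.isIntegral _
  have hpbβgen : (PowerBasis.ofAdjoinEqTop' hβint hβgen).gen =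
      algebraMap κ L (algebraMap R κ d) * pb.gen := PowerBasis.ofAdjoinEqTop'_gen _ _
  have hdim : (PowerBasis.ofAdjoinEqTop' hβint hβgen).dim = Q'.natDegree := by
    rw [hQ'deg, hQdeg, pb.natDegree_minpoly, ← pb.finrank,
      (PowerBasis.ofAdjoinEqTop' hβint hβgen).finrank]
  have hev : eval₂ (algebraMap R L) (algebraMap κ L (algebraMap R κ d) * pb.gen) Q' = 0 := by
    rw [IsScalarTower.algebraMap_eq R κ L, ← eval₂_map, hQ'map, ← aeval_def]
    exact hβroot
  have hQ'ne : Q' ≠ 1 := by
    intro h
    have h0 : Q'.natDegree = 0 := by rw [h, natDegree_one]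
    have := (PowerBasis.ofAdjoinEqTop' hβint hβgen).dim_pos
    omega
  refine ⟨AdjoinRoot Q', inferInstance, inferInstance, (AdjoinRoot.powerBasis' hQ'monic).finite,
    Module.Free.of_basis (AdjoinRoot.powerBasis' hQ'monic).basis,
    AdjoinRoot.lift (algebraMap R L) _ hev, fun r => AdjoinRoot.lift_of hev, ?_, ?_⟩
  · apply le_antisymm
    · intro s hs
      obtain ⟨g₀, rfl⟩ := AdjoinRoot.mk_surjective s
      have hmk : AdjoinRoot.mk Q' g₀ = AdjoinRoot.mk Q' (g₀ %ₘ Q') := by
        rw [AdjoinRoot.mk_eq_mk]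
        exact ⟨g₀ /ₘ Q', by rw [sub_eq_iff_eq_add']; exact (modByMonic_add_div g₀ Q').symm⟩
      rw [hmk] at hs ⊢
      rw [RingHom.mem_ker, AdjoinRoot.lift_mk] at hs
      have hdeg : ((g₀ %ₘ Q').map (algebraMap R κ)).natDegree <
          (PowerBasis.ofAdjoinEqTop' hβint hβgen).dim := by
        calc ((g₀ %ₘ Q').map (algebraMap R κ)).natDegree ≤ (g₀ %ₘ Q').natDegree :=
              natDegree_map_le
          _ < Q'.natDegree := natDegree_modByMonic_lt g₀ hQ'monic hQ'ne
          _ = _ := hdim.symm
      have hzero : (g₀ %ₘ Q').map (algebraMap R κ) = 0 := by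
        by_contra hne
        have := (PowerBasis.ofAdjoinEqTop' hβint hβgen).dim_le_natDegree_of_root hne
          (by rw [hpbβgen, aeval_def, eval₂_map, ← IsScalarTower.algebraMap_eq]; exact hs)
        omega
      have hcoeff : ∀ i, (g₀ %ₘ Q').coeff i ∈ p := by
        intro i
        have := congrArg (fun q => q.coeff i) hzero
        simp only [coeff_map, coeff_zero] at this
        rw [← hκ.1]
        exact this
      have h1 : g₀ %ₘ Q' ∈ Ideal.map C p := Ideal.mem_map_C_iff.mpr hcoeff
      have h2 := Ideal.mem_map_of_mem (AdjoinRoot.mk Q') h1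
      rwa [Ideal.map_map] at h2
    · rw [Ideal.map_le_iff_le_comap]
      intro r hr
      rw [Ideal.mem_comap, RingHom.mem_ker]
      have : algebraMap R κ r = 0 := by
        have := hκ.1.symm ▸ hr
        exact this
      change AdjoinRoot.lift (algebraMap R L) _ hev (AdjoinRoot.of Q' r) = 0
      rw [AdjoinRoot.lift_of, IsScalarTower.algebraMap_apply R κ L, this, map_zero]
  · intro x
    obtain ⟨f, hf⟩ := (PowerBasis.ofAdjoinEqTop' hβint hβgen).exists_eq_aeval' x
    obtain ⟨e, h, he, hh⟩ := clear_denoms (algebraMap R κ) hκ.2 f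
    refine ⟨AdjoinRoot.mk Q' h, AdjoinRoot.of Q' e, ?_, ?_⟩
    · rw [AdjoinRoot.lift_of, IsScalarTower.algebraMap_apply R κ L]
      exact (_root_.map_ne_zero _).mpr he
    · rw [AdjoinRoot.lift_of, AdjoinRoot.lift_mk, hf, hpbβgen, IsScalarTower.algebraMap_eq R κ L,
        ← eval₂_map, ← hh, eval₂_mul, eval₂_C, ← aeval_def, mul_comm]
      rfl

theorem key : ∀ (n : ℕ) (R : Type u) [CommRing R] (p : Ideal R) (κ : Type u) [Field κ]
    [Algebra R κ] (_ : IsResFieldHom p (algebraMap R κ)) (L : Type u) [Field L] [Algebra κ L]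
    [Algebra R L] [IsScalarTower R κ L] [FiniteDimensional κ L], Module.finrank κ L = n →
    ∃ (S : Type u) (_ : CommRing S) (_ : Algebra R S) (_ : Module.Finite R S)
      (_ : Module.Free R S) (φ : S →+* L), (∀ r, φ (algebraMap R S r) = algebraMap R L r) ∧
        IsResFieldHom (p.map (algebraMap R S)) φ := by
  intro n
  induction n using Nat.strong_induction_on with
  | _ n ih =>
  intro R _ p κ _ _ hκ L _ _ _ _ _ hn
  by_cases hsurj : Function.Surjective (algebraMap κ L)
  · refine ⟨R, inferInstance, inferInstance, inferInstance, inferInstance, algebraMap R L,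
      fun r => rfl, ?_, ?_⟩
    · rw [Algebra.algebraMap_self, Ideal.map_id, ← hκ.1]
      ext r
      rw [RingHom.mem_ker, RingHom.mem_ker, IsScalarTower.algebraMap_apply R κ L,
        map_eq_zero_iff _ (algebraMap κ L).injective]
    · intro x
      obtain ⟨y, rfl⟩ := hsurj x
      obtain ⟨a, b, hb, e⟩ := hκ.2 y
      refine ⟨a, b, ?_, ?_⟩
      · rw [IsScalarTower.algebraMap_apply R κ L]
        exact (_root_.map_ne_zero _).mpr hb
      · rw [IsScalarTower.algebraMap_apply R κ L, IsScalarTower.algebraMap_apply R κ L, ← map_mul,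
          e]
  · rw [Function.Surjective] at hsurj
    push Not at hsurj
    obtain ⟨α, hα⟩ := hsurj
    have hint : IsIntegral κ α := Algebra.IsIntegral.isIntegral α
    obtain ⟨S', _, _, hfin', hfree', φ', hφ', hres'⟩ :=
      one_step p hκ (IntermediateField.adjoin.powerBasis hint)
    -- degrees
    have h1 : Module.finrank κ (IntermediateField.adjoin κ {α}) *
        Module.finrank (IntermediateField.adjoin κ {α}) L = Module.finrank κ L :=
      Module.finrank_mul_finrank κ _ L
    have h2 : Module.finrank κ (IntermediateField.adjoin κ {α}) ≠ 1 := by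
      rw [Ne, IntermediateField.finrank_eq_one_iff, IntermediateField.adjoin_simple_eq_bot_iff,
        IntermediateField.mem_bot]
      rintro ⟨y, hy⟩
      exact hα y hy
    have h3 : 0 < Module.finrank κ (IntermediateField.adjoin κ {α}) := Module.finrank_pos
    have h4 : 0 < Module.finrank (IntermediateField.adjoin κ {α}) L := Module.finrank_pos
    have hlt : Module.finrank (IntermediateField.adjoin κ {α}) L < n := by
      rw [← hn, ← h1]
      have : 2 ≤ Module.finrank κ (IntermediateField.adjoin κ {α}) := by omega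
      nlinarith
    letI : Algebra S' (IntermediateField.adjoin κ {α}) := φ'.toAlgebra
    letI : Algebra S' L := ((algebraMap (IntermediateField.adjoin κ {α}) L).comp φ').toAlgebra
    haveI : IsScalarTower S' (IntermediateField.adjoin κ {α}) L :=
      IsScalarTower.of_algebraMap_eq (fun _ => rfl)
    obtain ⟨S'', _, _, hfin'', hfree'', φ'', hφ'', hres''⟩ :=
      ih _ hlt S' (p.map (algebraMap R S')) (IntermediateField.adjoin κ {α}) hres' L rfl
    letI : Algebra R S'' := ((algebraMap S' S'').comp (algebraMap R S')).toAlgebra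
    haveI : IsScalarTower R S' S'' := IsScalarTower.of_algebraMap_eq (fun _ => rfl)
    refine ⟨S'', inferInstance, inferInstance, Module.Finite.trans S' S'',
      Module.Free.trans (R := R) (S := S') (M := S''), φ'', ?_, ?_⟩
    · intro r
      change φ'' (algebraMap S' S'' (algebraMap R S' r)) = _
      rw [hφ'']
      change algebraMap (IntermediateField.adjoin κ {α}) L (φ' (algebraMap R S' r)) = _
      rw [hφ']
      rfl
    · have : p.map (algebraMap R S'') =
          (p.map (algebraMap R S')).map (algebraMap S' S'') := (Ideal.map_map _ _).symm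
      rw [this]
      exact hres''

theorem main (R : Type u) [CommRing R] (p : Ideal R) [p.IsPrime]
    (L : Type u) [Field L] [Algebra p.ResidueField L] [FiniteDimensional p.ResidueField L]
    [Algebra R L] [IsScalarTower R p.ResidueField L] :
    ∃ (S : Type u) (_ : CommRing S) (_ : Algebra R S) (_ : Module.Finite R S) (_ : Module.Free R S)
      (_ : (p.map (algebraMap R S)).IsPrime)
      (e : (p.map (algebraMap R S)).ResidueField ≃+* L),
      ∀ r : R, e (algebraMap R (p.map (algebraMap R S)).ResidueField r) = algebraMap R L r := by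
  have hκ : IsResFieldHom p (algebraMap R p.ResidueField) := by
    refine ⟨Ideal.ker_algebraMap_residueField p, fun x => ?_⟩
    obtain ⟨⟨a, s⟩, hs⟩ := IsLocalization.surj (nonZeroDivisors (R ⧸ p)) x
    obtain ⟨a', rfl⟩ := Ideal.Quotient.mk_surjective a
    obtain ⟨s', hs'⟩ := Ideal.Quotient.mk_surjective (s : R ⧸ p)
    refine ⟨a', s', ?_, ?_⟩
    · have h1 : algebraMap (R ⧸ p) p.ResidueField (s : R ⧸ p) ≠ 0 :=
        map_ne_zero_of_mem_nonZeroDivisors _ p.injective_algebraMap_quotient_residueField s.2
      rw [← hs'] at h1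
      exact h1
    · have h2 := hs
      simp only [← hs'] at h2
      exact h2
  obtain ⟨S, _, _, hfin, hfree, φ, hφ, hker, hfrac⟩ :=
    key _ R p p.ResidueField hκ L rfl
  haveI hprime : (p.map (algebraMap R S)).IsPrime := hker ▸ RingHom.ker_isPrime φ
  have hunits : (p.map (algebraMap R S)).primeCompl ≤ (IsUnit.submonoid L).comap φ := by
    intro s hs
    change IsUnit (φ s)
    rw [isUnit_iff_ne_zero]
    intro h0
    exact hs (hker ▸ (RingHom.mem_ker.mpr h0))
  refine ⟨S, inferInstance, inferInstance, hfin, hfree, hprime,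
    RingEquiv.ofBijective (Ideal.ResidueField.lift _ φ (le_of_eq hker.symm) hunits)
      ⟨RingHom.injective _, fun x => ?_⟩, fun r => ?_⟩
  · obtain ⟨a, b, hb, e⟩ := hfrac x
    refine ⟨algebraMap S _ a / algebraMap S _ b, ?_⟩
    rw [map_div₀, Ideal.ResidueField.lift_algebraMap, Ideal.ResidueField.lift_algebraMap, ← e,
      mul_div_assoc, div_self hb, mul_one]
  · rw [RingEquiv.ofBijective_apply, IsScalarTower.algebraMap_apply R S, 
      Ideal.ResidueField.lift_algebraMap, hφ]

end Groth.Agent.H73.ResFieldExt
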