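import Groth.Prelude.Def_SekSuwa2
import Mathlib.RingTheory.AdjoinRoot

set_option autoImplicit false

universe u

namespace Groth.Agent.H73

open Polynomial SekSuwa

variable {R : Type u} [CommRing R] {lam : R} {N : ℕ}

section Monic

lemma natDegree_one_add_le (lam : R) : (1 + C lam * X : R[X]).natDegree ≤ 1 := by
  refine (natDegree_add_le _ _).trans ?_
  rw [natDegree_one]
  exact max_le (Nat.zero_le _) ((natDegree_C_mul_le lam X).trans natDegree_X_le)

lemma coeff_one_add (lam : R) : (1 + C lam * X : R[X]).coeff 1 = lam := by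
  rw [coeff_add, coeff_C_mul, coeff_X_one, coeff_one]
  simp

lemma psiPoly_coeff (h : DivCond lam N) (k : ℕ) :
    lam ^ N * (psiPoly lam N h).coeff k = ((1 + C lam * X : R[X]) ^ N - 1).coeff k := by
  rw [← psiPoly_spec h, coeff_C_mul]

lemma psiPoly_natDegree_le (h : DivCond lam N) : (psiPoly lam N h).natDegree ≤ N := by
  rw [natDegree_le_iff_coeff_eq_zero]
  intro k hk
  have h1 := psiPoly_coeff h k
  have h2 : ((1 + C lam * X : R[X]) ^ N - 1).coeff k = 0 := by
    apply coeff_eq_zero_of_natDegree_lt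
    refine lt_of_le_of_lt ((natDegree_sub_le _ _).trans ?_) hk
    rw [natDegree_one]
    refine max_le ?_ (Nat.zero_le _)
    have := natDegree_pow_le_of_le N (natDegree_one_add_le lam)
    simpa using this
  rw [h2] at h1
  exact cancel_nzd h.pow_nzd (h1.trans (mul_zero _).symm)

lemma psiPoly_coeff_N (hN : 0 < N) (h : DivCond lam N) : (psiPoly lam N h).coeff N = 1 := by
  have h1 := psiPoly_coeff h N
  have h2 : ((1 + C lam * X : R[X]) ^ N - 1).coeff N = lam ^ N := by
    rw [coeff_sub, coeff_one, if_neg (by omega), sub_zero]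
    have := coeff_pow_of_natDegree_le (m := N) (natDegree_one_add_le lam)
    rw [Nat.mul_one, coeff_one_add] at this
    exact this
  rw [h2] at h1
  exact cancel_nzd h.pow_nzd (h1.trans (mul_one _).symm)

lemma psiPoly_monic (hN : 0 < N) (h : DivCond lam N) : (psiPoly lam N h).Monic :=
  monic_of_natDegree_le_of_coeff_eq_one N (psiPoly_natDegree_le h) (psiPoly_coeff_N hN h)

lemma psiPoly_natDegree [Nontrivial R] (hN : 0 < N) (h : DivCond lam N) :
    (psiPoly lam N h).natDegree = N := by
  apply le_antisymm (psiPoly_natDegree_le h)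
  apply le_natDegree_of_ne_zero
  rw [psiPoly_coeff_N hN h]
  exact one_ne_zero

end Monic

section Equiv

variable (hN : 0 < N) (h : DivCond lam N)

lemma aeval_root_psiPoly :
    aeval (AdjoinRoot.root (psiPoly lam N h)) (psiPoly lam N h) = 0 := by
  rw [AdjoinRoot.aeval_eq, AdjoinRoot.mk_self]

lemma uB_pow : (1 + lam • AdjoinRoot.root (psiPoly lam N h)) ^ N = 1 := by
  have e := aeval_psiPoly h (AdjoinRoot.root (psiPoly lam N h))
  rw [aeval_root_psiPoly, mul_zero] at e
  rw [Algebra.smul_def]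
  exact (sub_eq_zero.mp e.symm)

include hN in
lemma uB_rel : (1 + lam • AdjoinRoot.root (psiPoly lam N h)) *
    (1 + lam • AdjoinRoot.root (psiPoly lam N h)) ^ (N - 1) = 1 := by
  rw [← pow_succ', Nat.sub_add_cancel hN, uB_pow]

/-- The map `AK → R[T]/(P)`. -/
noncomputable def toAdjoinRoot : AK R lam N h →ₐ[R] AdjoinRoot (psiPoly lam N h) :=
  Ideal.Quotient.liftₐ (kerIdeal lam N h)
    (A.lift R lam (AdjoinRoot.root (psiPoly lam N h))
      ((1 + lam • AdjoinRoot.root (psiPoly lam N h)) ^ (N - 1)) (uB_rel hN h)) (by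
    intro a ha
    obtain ⟨d, rfl⟩ := Ideal.mem_span_singleton'.mp ha
    rw [map_mul, kerGen, ← Polynomial.aeval_algHom_apply, A.lift_t, aeval_root_psiPoly, mul_zero])

lemma toAdjoinRoot_t : toAdjoinRoot hN h AK.t = AdjoinRoot.root (psiPoly lam N h) := by
  have : toAdjoinRoot hN h AK.t = A.lift R lam (AdjoinRoot.root (psiPoly lam N h))
      ((1 + lam • AdjoinRoot.root (psiPoly lam N h)) ^ (N - 1)) (uB_rel hN h) A.t := rfl
  rw [this, A.lift_t]

lemma toAdjoinRoot_inv : toAdjoinRoot hN h AK.inv =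
    (1 + lam • AdjoinRoot.root (psiPoly lam N h)) ^ (N - 1) := by
  have : toAdjoinRoot hN h AK.inv = A.lift R lam (AdjoinRoot.root (psiPoly lam N h))
      ((1 + lam • AdjoinRoot.root (psiPoly lam N h)) ^ (N - 1)) (uB_rel hN h) A.inv := rfl
  rw [this, A.lift_inv]

/-- The map `R[T]/(P) → AK`. -/
noncomputable def ofAdjoinRoot : AdjoinRoot (psiPoly lam N h) →ₐ[R] AK R lam N h :=
  AdjoinRoot.liftAlgHom (psiPoly lam N h) (Algebra.ofId R (AK R lam N h)) AK.t (by
    have := AK.aeval_t (R := R) (lam := lam) (N := N) (h := h)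
    rw [Polynomial.aeval_def] at this
    exact this)

lemma ofAdjoinRoot_root : ofAdjoinRoot h (AdjoinRoot.root (psiPoly lam N h)) = AK.t :=
  AdjoinRoot.liftAlgHom_root _ _ _ _

include hN in
lemma AK_inv_eq : (AK.inv : AK R lam N h) = (1 + lam • AK.t) ^ (N - 1) := by
  have e1 : (1 + lam • (AK.t : AK R lam N h)) * AK.inv = 1 := by
    have := congrArg (AK.mkHom R lam N h) (A.u_mul_inv (R := R) (lam := lam))
    rw [map_mul, map_one, A.u, map_add, map_one, map_smul] at this
    exact this
  have e2 : (1 + lam • (AK.t : AK R lam N h)) * (1 + lam • AK.t) ^ (N - 1) = 1 := by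
    rw [← pow_succ', Nat.sub_add_cancel hN, AK.u_pow]
  calc (AK.inv : AK R lam N h) = AK.inv * ((1 + lam • AK.t) * (1 + lam • AK.t) ^ (N - 1)) := by
        rw [e2, mul_one]
    _ = ((1 + lam • AK.t) * AK.inv) * (1 + lam • AK.t) ^ (N - 1) := by ring
    _ = (1 + lam • AK.t) ^ (N - 1) := by rw [e1, one_mul]

/-- `AK ≃ R[T]/(P)`. -/
noncomputable def equivAdjoinRoot : AK R lam N h ≃ₐ[R] AdjoinRoot (psiPoly lam N h) :=
  AlgEquiv.ofAlgHom (toAdjoinRoot hN h) (ofAdjoinRoot h)
    (by
      apply AdjoinRoot.algHom_ext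
      rw [AlgHom.comp_apply, ofAdjoinRoot_root, toAdjoinRoot_t]
      rfl)
    (by
      apply AK.algHom_ext
      · rw [AlgHom.comp_apply, toAdjoinRoot_t, ofAdjoinRoot_root]
        rfl
      · rw [AlgHom.comp_apply, toAdjoinRoot_inv, map_pow, map_add, map_one, map_smul,
          ofAdjoinRoot_root, ← AK_inv_eq hN h]
        rfl)

include hN in
lemma AK_finite : Module.Finite R (AK R lam N h) :=
  have := (psiPoly_monic hN h).finite_adjoinRoot
  Module.Finite.equiv (equivAdjoinRoot hN h).symm.toLinearEquiv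

include hN in
lemma AK_free : Module.Free R (AK R lam N h) :=
  have := (psiPoly_monic hN h).free_adjoinRoot
  Module.Free.of_equiv (equivAdjoinRoot hN h).symm.toLinearEquiv

include hN in
lemma AK_finitePresentation : Algebra.FinitePresentation R (AK R lam N h) :=
  Algebra.FinitePresentation.equiv (equivAdjoinRoot hN h).symm

include hN in
lemma AK_finrank [Nontrivial R] : Module.finrank R (AK R lam N h) = N := by
  rw [(equivAdjoinRoot hN h).toLinearEquiv.finrank_eq,
    (AdjoinRoot.powerBasis' (psiPoly_monic hN h)).finrank, AdjoinRoot.powerBasis'_dim,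
    psiPoly_natDegree hN h]

end Equiv

end Groth.Agent.H73
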