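import Groth.Prelude.Def_SekSuwa2
import Groth.Prelude.Def_AlgGrp
import Mathlib.AlgebraicGeometry.Pullbacks
import Mathlib.CategoryTheory.Limits.Constructions.Over.Connected

set_option autoImplicit false

universe u

namespace Groth.Agent.H73

open CategoryTheory CategoryTheory.Limits AlgebraicGeometry SekSuwa MonObj MonoidalCategory CartesianMonoidalCategory

variable (R : Type u) [CommRing R] (lam : R) (N : ℕ) (h : DivCond lam N)

/-- The pushout square of rings behind `G_{λ,N} = ker ψ`. -/
theorem isPushout_AK :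
    IsPushout
      (CommRingCat.ofHom ((psiHom R lam N h : A R (lam ^ N) →ₐc[R] A R lam) :
        A R (lam ^ N) →+* A R lam))
      (CommRingCat.ofHom ((Bialgebra.counitAlgHom R (A R (lam ^ N)) : A R (lam ^ N) →ₐ[R] R) :
        A R (lam ^ N) →+* R))
      (CommRingCat.ofHom ((AK.mkHom R lam N h : A R lam →ₐc[R] AK R lam N h) :
        A R lam →+* AK R lam N h))
      (CommRingCat.ofHom (algebraMap R (AK R lam N h))) := by
  have hsq : (CommRingCat.ofHom ((psiHom R lam N h : A R (lam ^ N) →ₐc[R] A R lam) :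
        A R (lam ^ N) →+* A R lam)) ≫
      (CommRingCat.ofHom ((AK.mkHom R lam N h : A R lam →ₐc[R] AK R lam N h) :
        A R lam →+* AK R lam N h)) =
      (CommRingCat.ofHom ((Bialgebra.counitAlgHom R (A R (lam ^ N)) : A R (lam ^ N) →ₐ[R] R) :
        A R (lam ^ N) →+* R)) ≫ (CommRingCat.ofHom (algebraMap R (AK R lam N h))) := by
    ext x
    have := congrArg (fun f : A R (lam ^ N) →ₐc[R] AK R lam N h => f x) (mkHom_comp_psiHom R lam N h)
    exact this
  refine ⟨⟨hsq⟩, ⟨PushoutCocone.IsColimit.mk _ (fun s => ?_) (fun s => ?_) (fun s => ?_)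
    (fun s m h1 _ => ?_)⟩⟩
  · -- desc
    refine CommRingCat.ofHom (Ideal.Quotient.lift (kerIdeal lam N h) s.inl.hom ?_)
    intro a ha
    obtain ⟨d, rfl⟩ := Ideal.mem_span_singleton'.mp ha
    have hc := congrArg (fun f => f.hom (A.t : A R (lam ^ N))) s.condition
    simp only [CommRingCat.hom_comp, CommRingCat.hom_ofHom, RingHom.comp_apply] at hc
    have h1 : ((psiHom R lam N h : A R (lam ^ N) →ₐc[R] A R lam) :
        A R (lam ^ N) →+* A R lam) A.t = kerGen lam N h := psiHom_t R lam N h
    have h2 : ((Bialgebra.counitAlgHom R (A R (lam ^ N)) : A R (lam ^ N) →ₐ[R] R) :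
        A R (lam ^ N) →+* R) A.t = 0 := A.counit_t
    rw [h1, h2, map_zero] at hc
    rw [map_mul, hc, mul_zero]
  · ext x
    rfl
  · ext r
    have hc := congrArg (fun f => f.hom (algebraMap R (A R (lam ^ N)) r)) s.condition
    simp only [CommRingCat.hom_comp, CommRingCat.hom_ofHom, RingHom.comp_apply] at hc
    have h1 : ((psiHom R lam N h : A R (lam ^ N) →ₐc[R] A R lam) :
        A R (lam ^ N) →+* A R lam) (algebraMap R (A R (lam ^ N)) r) = algebraMap R (A R lam) r :=
      AlgHomClass.commutes (psiHom R lam N h) r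
    have h2 : ((Bialgebra.counitAlgHom R (A R (lam ^ N)) : A R (lam ^ N) →ₐ[R] R) :
        A R (lam ^ N) →+* R) (algebraMap R (A R (lam ^ N)) r) = r :=
      (Bialgebra.counitAlgHom R (A R (lam ^ N))).commutes r
    rw [h1, h2] at hc
    exact hc
  · ext x
    obtain ⟨a, rfl⟩ := Ideal.Quotient.mk_surjective x
    have := congrArg (fun f => f.hom a) h1
    exact this

/-- A commutative square in `Over X` whose underlying square is a pullback is a pullback. -/
theorem isPullback_over_of_left {C : Type*} [Category C] {X : C} {P A B D : Over X}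
    (f : P ⟶ A) (g : P ⟶ B) (k : A ⟶ D) (l : B ⟶ D) (w : f ≫ k = g ≫ l)
    (H : IsPullback f.left g.left k.left l.left) : IsPullback f g k l :=
  IsPullback.of_map (Over.forget X) w H

theorem isKernel_incl_psi : AlgGrp.IsKernel (incl R lam N h) (psi R lam N h) := by
  have hu : (toUnit (GK R lam N h)).left =
      Spec.map (CommRingCat.ofHom (algebraMap R (AK R lam N h))) := by
    rw [← Category.comp_id (toUnit (GK R lam N h)).left]
    exact Over.w (toUnit (GK R lam N h))
  have hw : incl R lam N h ≫ psi R lam N h = toUnit (GK R lam N h) ≫ η[G R (lam ^ N)] := by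
    rw [incl_psi]
    rfl
  refine isPullback_over_of_left _ _ _ _ hw ?_
  rw [hu]
  exact isPullback_SpecMap_of_isPushout _ _ _ _ (isPushout_AK R lam N h)

end Groth.Agent.H73
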