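import Mathlib

/-!
# Adic completion of a semilocal ring along an ideal of co-height zero

If `R` has finitely many maximal ideals and every prime containing `I` is maximal, then
`R^ → ∏_{m ⊇ I} (R_m)^` is bijective.
-/

set_option autoImplicit false
universe u

namespace Groth.Agent.H73.SemilocalCompl

variable {R : Type u} [CommRing R]

/-- membership of `r/1` in `J R_m`. -/
theorem algebraMap_mem_smul_top_iff (J : Ideal R) (m : Ideal R) [m.IsPrime] (r : R) :
    algebraMap R (Localization.AtPrime m) r ∈ (J • ⊤ : Submodule R (Localization.AtPrime m)) ↔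
      ∃ t, t ∉ m ∧ t * r ∈ J := by
  rw [Ideal.smul_top_eq_map, Submodule.restrictScalars_mem,
    IsLocalization.mem_map_algebraMap_iff m.primeCompl]
  constructor
  · rintro ⟨⟨a, s⟩, h⟩
    rw [← map_mul, IsLocalization.eq_iff_exists m.primeCompl] at h
    obtain ⟨c, hc⟩ := h
    refine ⟨c * s, (c * s).2, ?_⟩
    have : (c : R) * s * r = c * a := by rw [← hc]; ring
    show (c : R) * s * r ∈ J
    rw [this]
    exact Ideal.mul_mem_left _ _ a.2
  · rintro ⟨t, ht, htr⟩
    refine ⟨⟨⟨t * r, htr⟩, ⟨t, ht⟩⟩, ?_⟩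
    simp only [map_mul]
    ring

/-- membership of `a/s` in `J R_m`. -/
theorem mk'_mem_smul_top_iff (J : Ideal R) (m : Ideal R) [m.IsPrime] (a : R) (s : m.primeCompl) :
    IsLocalization.mk' (Localization.AtPrime m) a s ∈
      (J • ⊤ : Submodule R (Localization.AtPrime m)) ↔
      algebraMap R (Localization.AtPrime m) a ∈ (J • ⊤ : Submodule R (Localization.AtPrime m)) := by
  rw [Ideal.smul_top_eq_map, Submodule.restrictScalars_mem, Submodule.restrictScalars_mem]
  constructor
  · intro h
    have := Ideal.mul_mem_left _ (algebraMap R (Localization.AtPrime m) s) h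
    rwa [IsLocalization.mk'_spec'] at this
  · intro h
    have := Ideal.mul_mem_left _ (IsLocalization.mk' (Localization.AtPrime m) 1 s) h
    rwa [mul_comm, IsLocalization.mul_mk'_eq_mk'_of_mul, mul_one] at this

variable (I : Ideal R) (hI : ∀ (p : Ideal R), p.IsPrime → I ≤ p → p.IsMaximal)

include hI in
/-- Two distinct maximal ideals containing `I` are separated modulo `I ^ n`. -/
theorem exists_mul_mem_pow (n : ℕ) (m m' : Ideal R) [hm : m.IsMaximal] [hm' : m'.IsMaximal]
    (hne : m ≠ m') :
    ∃ t r, t ∉ m ∧ r ∉ m' ∧ t * r ∈ I ^ n := by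
  by_contra hcon
  push Not at hcon
  have hdisj : Disjoint ((I ^ n : Ideal R) : Set R) ((m.primeCompl ⊔ m'.primeCompl : Submonoid R) : Set R) := by
    rw [Set.disjoint_left]
    intro x hx hxS
    obtain ⟨t, ht, r, hr, rfl⟩ := Submonoid.mem_sup.mp hxS
    exact hcon t r ht hr hx
  obtain ⟨P, hP, hIP, hPS⟩ := Ideal.exists_le_prime_disjoint (I ^ n) _ hdisj
  have hIP' : I ≤ P := hP.le_of_pow_le hIP
  have hPmax : P.IsMaximal := hI P hP hIP'
  have h1 : P ≤ m := by
    intro x hx
    by_contra hxm
    exact Set.disjoint_left.mp hPS hx (SetLike.le_def.mp le_sup_left hxm)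
  have h2 : P ≤ m' := by
    intro x hx
    by_contra hxm
    exact Set.disjoint_left.mp hPS hx (SetLike.le_def.mp le_sup_right hxm)
  exact hne ((hPmax.eq_of_le hm.ne_top h1).symm.trans (hPmax.eq_of_le hm'.ne_top h2))

/-- The contraction of `I ^ n R_m`. -/
def contr (n : ℕ) (m : Ideal R) [m.IsPrime] : Ideal R :=
  Ideal.comap (algebraMap R (Localization.AtPrime m))
    ((I ^ n).map (algebraMap R (Localization.AtPrime m)))

theorem mem_contr_iff (n : ℕ) (m : Ideal R) [m.IsPrime] (r : R) :
    r ∈ contr I n m ↔ ∃ t, t ∉ m ∧ t * r ∈ I ^ n := by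
  rw [← algebraMap_mem_smul_top_iff, Ideal.smul_top_eq_map, Submodule.restrictScalars_mem]
  rfl

theorem pow_le_contr (n : ℕ) (m : Ideal R) [m.IsPrime] : I ^ n ≤ contr I n m :=
  Ideal.le_comap_map

include hI in
theorem eq_of_contr_le (n : ℕ) (m : Ideal R) [hm : m.IsMaximal]
    (P : Ideal R) [hP : P.IsMaximal] (h : contr I n m ≤ P) : P = m := by
  by_contra hne
  have hIP : I ≤ P := hP.isPrime.le_of_pow_le ((pow_le_contr I n m).trans h)
  obtain ⟨t, r, ht, hr, htr⟩ := exists_mul_mem_pow I hI n m P (Ne.symm hne)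
  exact hr (h ((mem_contr_iff I n m r).mpr ⟨t, ht, htr⟩))

include hI in
theorem contr_isCoprime (n : ℕ) (m m' : Ideal R) [hm : m.IsMaximal] [hm' : m'.IsMaximal]
    (hne : m ≠ m') :
    IsCoprime (contr I n m) (contr I n m') := by
  rw [Ideal.isCoprime_iff_sup_eq]
  by_contra hcon
  obtain ⟨P, hP, hle⟩ := Ideal.exists_le_maximal _ hcon
  exact hne ((eq_of_contr_le I hI n m P (le_sup_left.trans hle)).symm.trans
    (eq_of_contr_le I hI n m' P (le_sup_right.trans hle)))

include hI in
theorem exists_inv_mod_contr (n : ℕ) (m : Ideal R) [hm : m.IsMaximal]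
    (s : R) (hs : s ∉ m) : ∃ s', s * s' - 1 ∈ contr I n m := by
  have : Ideal.span {s} ⊔ contr I n m = ⊤ := by
    by_contra hcon
    obtain ⟨P, hP, hle⟩ := Ideal.exists_le_maximal _ hcon
    have := eq_of_contr_le I hI n m P (le_sup_right.trans hle)
    subst this
    exact hs (hle (Ideal.mem_sup_left (Ideal.subset_span rfl)))
  have h1 : (1 : R) ∈ Ideal.span {s} ⊔ contr I n m := by rw [this]; trivial
  obtain ⟨a, b, hb, hab⟩ := Ideal.mem_span_singleton_sup.mp h1
  refine ⟨a, ?_⟩
  have : s * a - 1 = -b := by rw [← hab]; ring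
  rw [this]
  exact neg_mem hb

/-- The level-`n` comparison map. -/
noncomputable def lvl (n : ℕ) (x : R ⧸ (I ^ n • ⊤ : Submodule R R))
    (m : {m : MaximalSpectrum R // I ≤ m.asIdeal}) :
    Localization.AtPrime m.1.asIdeal ⧸
      (I ^ n • ⊤ : Submodule R (Localization.AtPrime m.1.asIdeal)) :=
  (Algebra.linearMap R (Localization.AtPrime m.1.asIdeal)).reduceModIdeal (I ^ n) x

theorem lvl_injective (n : ℕ) : Function.Injective (lvl I n) := by
  intro x y hxy
  obtain ⟨r, rfl⟩ := Submodule.Quotient.mk_surjective _ x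
  obtain ⟨r', rfl⟩ := Submodule.Quotient.mk_surjective _ y
  rw [Submodule.Quotient.eq]
  have key : ∀ m : {m : MaximalSpectrum R // I ≤ m.asIdeal},
      ∃ t, t ∉ m.1.asIdeal ∧ t * (r - r') ∈ I ^ n := by
    intro m
    have := congrFun hxy m
    simp only [lvl, LinearMap.reduceModIdeal_apply] at this
    rw [Submodule.Quotient.eq, Algebra.linearMap_apply, Algebra.linearMap_apply, ← map_sub,
      algebraMap_mem_smul_top_iff] at this
    exact this
  rw [smul_eq_mul, Ideal.mul_top]
  by_contra hcon
  let Q : Ideal R := Submodule.comap (LinearMap.toSpanSingleton R R (r - r')) (I ^ n)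
  have hQ : ∀ t, t ∈ Q ↔ t * (r - r') ∈ I ^ n := by
    intro t
    simp only [Q, Submodule.mem_comap, LinearMap.toSpanSingleton_apply, smul_eq_mul]
  have hQne : Q ≠ ⊤ := by
    intro h
    have : (1 : R) ∈ Q := by rw [h]; trivial
    rw [hQ, one_mul] at this
    exact hcon this
  obtain ⟨P, hP, hle⟩ := Ideal.exists_le_maximal Q hQne
  have hIQ : I ^ n ≤ Q := by
    intro a ha
    rw [hQ]
    exact Ideal.mul_mem_right _ _ ha
  have hIP : I ≤ P := hP.isPrime.le_of_pow_le (hIQ.trans hle)
  obtain ⟨t, ht, htr⟩ := key ⟨⟨P, hP⟩, hIP⟩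
  exact ht (hle ((hQ t).mpr htr))

include hI in
theorem lvl_surjective [Finite (MaximalSpectrum R)] (n : ℕ) : Function.Surjective (lvl I n) := by
  classical
  intro y
  -- choose representatives
  have hy : ∀ m : {m : MaximalSpectrum R // I ≤ m.asIdeal}, ∃ (a : R) (s : R),
      s ∉ m.1.asIdeal ∧ ∃ hs : s ∈ m.1.asIdeal.primeCompl, y m = Submodule.Quotient.mk
        (IsLocalization.mk' (Localization.AtPrime m.1.asIdeal) a ⟨s, hs⟩) := by
    intro m
    obtain ⟨z, hz⟩ := Submodule.Quotient.mk_surjective _ (y m)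
    obtain ⟨a, s, rfl⟩ := IsLocalization.exists_mk'_eq m.1.asIdeal.primeCompl z
    exact ⟨a, s, s.2, s.2, hz.symm⟩
  choose a s hs hs' hy using hy
  have hinv : ∀ m : {m : MaximalSpectrum R // I ≤ m.asIdeal},
      ∃ s', s m * s' - 1 ∈ contr I n m.1.asIdeal := fun m =>
    exists_inv_mod_contr I hI n m.1.asIdeal (s m) (hs m)
  choose s' hs'' using hinv
  have hcop : Pairwise (Function.onFun IsCoprime
      (fun m : {m : MaximalSpectrum R // I ≤ m.asIdeal} => contr I n m.1.asIdeal)) := by
    intro m m' hne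
    apply contr_isCoprime I hI n
    intro h
    exact hne (Subtype.ext (MaximalSpectrum.ext h))
  obtain ⟨x, hx⟩ := Ideal.exists_forall_sub_mem_ideal hcop (fun m => s' m * a m)
  refine ⟨Submodule.Quotient.mk x, ?_⟩
  funext m
  rw [hy m]
  simp only [lvl, LinearMap.reduceModIdeal_apply]
  rw [Submodule.Quotient.eq, Algebra.linearMap_apply]
  have h1 : s m * x - a m ∈ contr I n m.1.asIdeal := by
    have : s m * x - a m = s m * (x - s' m * a m) + (s m * s' m - 1) * a m := by ring
    rw [this]
    exact add_mem (Ideal.mul_mem_left _ _ (hx m)) (Ideal.mul_mem_right _ _ (hs'' m))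
  have h2 : IsLocalization.mk' (Localization.AtPrime m.1.asIdeal) (s m * x - a m) ⟨s m, hs' m⟩ ∈
      (I ^ n • ⊤ : Submodule R (Localization.AtPrime m.1.asIdeal)) := by
    rw [mk'_mem_smul_top_iff, algebraMap_mem_smul_top_iff]
    exact (mem_contr_iff I n _ _).mp h1
  convert h2 using 1
  rw [IsLocalization.eq_mk'_iff_mul_eq, sub_mul, IsLocalization.mk'_spec, map_sub, map_mul]
  ring

include hI in
theorem main [Finite (MaximalSpectrum R)] :
    Function.Bijective (LinearMap.pi (fun m : {m : MaximalSpectrum R // I ≤ m.asIdeal} =>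
      AdicCompletion.map I (Algebra.linearMap R (Localization.AtPrime m.1.asIdeal)))) := by
  constructor
  · intro x y hxy
    ext n
    apply lvl_injective I n
    funext m
    have := congrArg (fun z => (z m).val n) hxy
    simpa [lvl] using this
  · intro Y
    have hz : ∀ n, ∃ z, lvl I n z = fun m => (Y m).val n := fun n => lvl_surjective I hI n _
    choose z hz using hz
    have hcompat : ∀ {k n : ℕ} (hkn : k ≤ n),
        AdicCompletion.transitionMap I R hkn (z n) = z k := by
      intro k n hkn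
      apply lvl_injective I k
      rw [hz k]
      funext m
      have h1 := LinearMap.congr_fun (AdicCompletion.transitionMap_comp_reduceModIdeal I
        (Algebra.linearMap R (Localization.AtPrime m.1.asIdeal)) hkn) (z n)
      simp only [LinearMap.comp_apply] at h1
      show (Algebra.linearMap R (Localization.AtPrime m.1.asIdeal)).reduceModIdeal (I ^ k)
        (AdicCompletion.transitionMap I R hkn (z n)) = _
      have h2 := congrFun (hz n) m
      simp only [lvl] at h2
      erw [← h1, h2]
      exact (Y m).2 hkn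
    refine ⟨⟨z, hcompat⟩, ?_⟩
    funext m
    ext n
    have := congrFun (hz n) m
    simpa [lvl] using this

end Groth.Agent.H73.SemilocalCompl
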