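import Groth.Agent.H73.FrobTwist
import Groth.Agent.H73.ComplDer0
import Groth.Agent.S4551
import Groth.Agent.H47.FSField
import Groth.Agent.H47.FSSep

/-!
# The reduced Frobenius twist of a complete local domain is generically separable (helper73)

`A` a domain finite over `k[[T_1..T_n]]`: for `m` large, the fraction field of
`(Tw k p m ⊗[k] A)_red ≅ k[A^(p^m)]` is contained in the separable closure of `k((T))` in
`Frac A`, hence is separable over `Tw k p m`.
-/

set_option autoImplicit false
set_option linter.unusedSectionVars false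
set_option linter.style.haveILetI false
universe u

namespace Groth.Agent.H73.SepTwist

open IsLocalRing TensorProduct Groth.Agent.H73.FrobTwist

attribute [local instance] FractionRing.liftAlgebra

section

variable (k : Type u) [Field k] (p : ℕ) [ExpChar k p] (A : Type u) [CommRing A] [IsDomain A]
  [Algebra k A] [ExpChar A p] (n : ℕ)
  [Algebra (MvPowerSeries (Fin n) k) A] [IsScalarTower k (MvPowerSeries (Fin n) k) A]
  [Module.Finite (MvPowerSeries (Fin n) k) A] [FaithfulSMul (MvPowerSeries (Fin n) k) A]

local notation "P₀" => MvPowerSeries (Fin n) k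
local notation "M₀" => FractionRing (MvPowerSeries (Fin n) k)
local notation "L" => FractionRing A

instance : IsDomain P₀ := NoZeroDivisors.to_isDomain _

theorem tower_k_M₀_L : IsScalarTower k M₀ L := by
  refine IsScalarTower.of_algebraMap_eq (fun c => ?_)
  rw [IsScalarTower.algebraMap_apply k P₀ M₀, ← IsScalarTower.algebraMap_apply P₀ M₀ L,
    IsScalarTower.algebraMap_apply P₀ A L, ← IsScalarTower.algebraMap_apply k P₀ A,
    ← IsScalarTower.algebraMap_apply k A L]

theorem exists_pow_mem_sepClosure :
    ∃ m : ℕ, ∀ a : A, (algebraMap A L a) ^ p ^ m ∈ separableClosure M₀ L := by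
  haveI : Algebra.IsIntegral P₀ A := Algebra.IsIntegral.of_finite _ _
  haveI : Algebra.IsAlgebraic M₀ L := isAlgebraic_of_isFractionRing P₀ A M₀ L
  haveI : ExpChar L p := expChar_of_injective_algebraMap (algebraMap k L).injective p
  generalize hLs : separableClosure M₀ L = Ls
  haveI : IsPurelyInseparable Ls L := by rw [← hLs]; infer_instance
  haveI : ExpChar Ls p :=
    RingHom.expChar (algebraMap Ls L) (RingHom.injective _) p
  have hq : ∀ m : ℕ, p ^ m ≠ 0 := fun m => pow_ne_zero _ (expChar_pos k p).ne'
  obtain ⟨S, hS⟩ := (Module.Finite.fg_top : (⊤ : Submodule P₀ A).FG)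
  have he0 : ∀ s : A, ∃ e : ℕ, (algebraMap A L s) ^ p ^ e ∈ Ls := by
    intro s
    obtain ⟨e, y, hy⟩ := IsPurelyInseparable.pow_mem Ls p (algebraMap A L s)
    exact ⟨e, by rw [← hy]; exact y.2⟩
  choose e he using he0
  refine ⟨S.sup e, fun a => ?_⟩
  have ha : a ∈ Submodule.span P₀ (S : Set A) := by rw [hS]; trivial
  induction ha using Submodule.span_induction with
  | mem s hs =>
    have hle : e s ≤ S.sup e := Finset.le_sup hs
    have h1 : p ^ S.sup e = p ^ e s * p ^ (S.sup e - e s) := by
      rw [← pow_add, Nat.add_sub_cancel' hle]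
    rw [h1, pow_mul]
    exact pow_mem (he s) _
  | zero =>
    rw [map_zero, zero_pow (hq _)]
    exact zero_mem Ls
  | add x y _ _ hx hy =>
    rw [map_add, add_pow_expChar_pow]
    exact add_mem hx hy
  | smul t x _ hx =>
    rw [Algebra.smul_def, map_mul, mul_pow]
    refine mul_mem ?_ hx
    rw [← IsScalarTower.algebraMap_apply P₀ A L, IsScalarTower.algebraMap_apply P₀ M₀ L]
    exact pow_mem (Ls.algebraMap_mem _) _

theorem isGeometricallyReduced_sepClosure :
    haveI := tower_k_M₀_L k A n
    Algebra.IsGeometricallyReduced k (separableClosure M₀ L) := by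
  haveI := tower_k_M₀_L k A n
  haveI := Groth.Agent.S4551.result k n
  haveI : Algebra.FormallySmooth k M₀ :=
    Groth.Agent.H47.formallySmooth_of_isGeometricallyReduced_field
  haveI : Algebra.FormallyEtale M₀ (separableClosure M₀ L) :=
    Algebra.FormallyEtale.of_isSeparable _ _
  haveI : Algebra.FormallySmooth k (separableClosure M₀ L) :=
    Algebra.FormallySmooth.comp k M₀ _
  exact Groth.Agent.H47.isGeometricallyReduced_of_formallySmooth_field

local notation "R'" m => (Tw k p m ⊗[k] A) ⧸ nilradical (Tw k p m ⊗[k] A)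

theorem isGeometricallyReduced_frac (m : ℕ)
    (hm : ∀ a : A, (algebraMap A L a) ^ p ^ m ∈ separableClosure M₀ L)
    (K : Type u) [Field K] [Algebra (R' m) K] [IsFractionRing (R' m) K] [Algebra (Tw k p m) K]
    [IsScalarTower (Tw k p m) (R' m) K] : Algebra.IsGeometricallyReduced (Tw k p m) K := by
  haveI := tower_k_M₀_L k A n
  have hred := isGeometricallyReduced_sepClosure k A n
  set Ls := separableClosure M₀ L with hLs
  have hkmem : ∀ c : k, algebraMap A L (algebraMap k A c) ∈ Ls := by
    intro c
    rw [← IsScalarTower.algebraMap_apply k A L, IsScalarTower.algebraMap_apply k M₀ L]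
    exact Ls.algebraMap_mem _
  let j : (R' m) →+* L := (algebraMap A L).comp (PhiBar k p m A)
  have hj : ∀ x, j x ∈ Ls := by
    intro x
    obtain ⟨y, rfl⟩ := Ideal.Quotient.mk_surjective x
    show algebraMap A L (Phi k p m A y) ∈ Ls
    induction y using TensorProduct.induction_on with
    | zero =>
      rw [map_zero, map_zero]
      exact Ls.zero_mem
    | tmul c a =>
      rw [Phi_tmul, map_mul, map_pow]
      exact Ls.mul_mem (hkmem _) (hm a)
    | add x y hx hy =>
      rw [map_add, map_add]
      exact Ls.add_mem hx hy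
  let j' : (R' m) →+* Ls := j.codRestrict Ls hj
  have hj' : Function.Injective j' := by
    intro x y h
    have h1 : j x = j y := congrArg Subtype.val h
    exact PhiBar_injective k p m A (IsFractionRing.injective A L h1)
  letI : Algebra (Tw k p m) Ls := (inferInstance : Algebra k Ls)
  haveI : Algebra.IsGeometricallyReduced (Tw k p m) Ls := hred
  haveI := isDomain_R' k p m A
  let F : K →ₐ[Tw k p m] Ls :=
    { toRingHom := IsFractionRing.lift hj'
      commutes' := fun c => by
        show IsFractionRing.lift hj' (algebraMap (Tw k p m) K c) = _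
        rw [IsScalarTower.algebraMap_apply (Tw k p m) (R' m) K, IsFractionRing.lift_algebraMap]
        apply Subtype.ext
        show algebraMap A L (PhiBar k p m A (algebraMap (Tw k p m) (R' m) c)) = _
        rw [← Ideal.Quotient.mk_algebraMap, Algebra.TensorProduct.algebraMap_apply,
          Algebra.algebraMap_self, RingHom.id_apply, PhiBar_mk, Phi_tmul, one_pow, mul_one,
          ← IsScalarTower.algebraMap_apply k A L]
        rfl }
  exact Algebra.IsGeometricallyReduced.of_injective F F.toRingHom.injective

end

/-- there is an `m` such that the fraction field of `(Tw k p m ⊗ A)_red` is separable over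
`Tw k p m`. -/
theorem exists_m (k : Type u) [Field k] (p : ℕ) [ExpChar k p] (A : Type u) [CommRing A]
    [IsDomain A] [IsNoetherianRing A] [IsLocalRing A] [Algebra k A] [ExpChar A p]
    [IsAdicComplete (maximalIdeal A) A] [Module.Finite k (ResidueField A)] :
    ∃ m : ℕ, ∀ (K : Type u) [Field K]
      [Algebra ((Tw k p m ⊗[k] A) ⧸ nilradical (Tw k p m ⊗[k] A)) K]
      [IsFractionRing ((Tw k p m ⊗[k] A) ⧸ nilradical (Tw k p m ⊗[k] A)) K]
      [Algebra (Tw k p m) K]
      [IsScalarTower (Tw k p m) ((Tw k p m ⊗[k] A) ⧸ nilradical (Tw k p m ⊗[k] A)) K],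
      Algebra.IsGeometricallyReduced (Tw k p m) K := by
  obtain ⟨n, w, hinj, hfin, -⟩ := Groth.Agent.H73.ComplDer.cohen_dim k A
  letI : Algebra (MvPowerSeries (Fin n) k) A := w.toRingHom.toAlgebra
  haveI : IsScalarTower k (MvPowerSeries (Fin n) k) A := IsScalarTower.of_algebraMap_eq (fun c => by
    show algebraMap k A c = w (algebraMap k _ c)
    exact (w.commutes c).symm)
  haveI : Module.Finite (MvPowerSeries (Fin n) k) A := hfin
  haveI : FaithfulSMul (MvPowerSeries (Fin n) k) A :=
    (faithfulSMul_iff_algebraMap_injective _ _).2 hinj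
  obtain ⟨m, hm⟩ := exists_pow_mem_sepClosure k p A n
  exact ⟨m, fun K _ _ _ _ _ => isGeometricallyReduced_frac k p A n m hm K⟩

end Groth.Agent.H73.SepTwist
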