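import Groth.Agent.H73.SepTwist
import Groth.Agent.S5074
import Groth.Agent.H73.OmegaHatUnramMain
import Groth.Agent.H73.OmegaHatReg
import Groth.Agent.H23.GeomRegIff

/-!
# EGA 0_IV 22.7.?: after a finite purely inseparable base change, a complete local domain is
generically unramified over a power series ring (helper73)
-/

set_option autoImplicit false
set_option linter.unusedSectionVars false
set_option linter.style.haveILetI false
universe u

namespace Groth.Agent.H73.SepTwist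

open IsLocalRing TensorProduct KaehlerDifferential Groth.Agent.H73.FrobTwist

theorem main (p : ℕ) (k A : Type u) [Field k]
    [ExpChar k p] (hk : (frobenius k p).Finite) [CommRing A] [IsDomain A] [IsNoetherianRing A]
    [IsLocalRing A]
    [Algebra k A] [IsAdicComplete (IsLocalRing.maximalIdeal A) A]
    [Module.Finite k (IsLocalRing.ResidueField A)] (hA : ¬ IsField A) (n : ℕ)
    (hn : ringKrullDim A = n) :
    ∃ (k' : Type u) (_ : Field k') (_ : Algebra k k'), Module.Finite k k' ∧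
      IsPurelyInseparable k k' ∧
      ∃ (_ : IsDomain ((k' ⊗[k] A) ⧸ nilradical (k' ⊗[k] A)))
        (_ : IsLocalRing ((k' ⊗[k] A) ⧸ nilradical (k' ⊗[k] A)))
        (_ : Algebra (MvPowerSeries (Fin n) k') ((k' ⊗[k] A) ⧸ nilradical (k' ⊗[k] A)))
        (_ : IsScalarTower k' (MvPowerSeries (Fin n) k')
          ((k' ⊗[k] A) ⧸ nilradical (k' ⊗[k] A))),
        IsLocalHom (algebraMap (MvPowerSeries (Fin n) k')
          ((k' ⊗[k] A) ⧸ nilradical (k' ⊗[k] A))) ∧
        Function.Injective (algebraMap (MvPowerSeries (Fin n) k')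
          ((k' ⊗[k] A) ⧸ nilradical (k' ⊗[k] A))) ∧
        Module.Finite (MvPowerSeries (Fin n) k') ((k' ⊗[k] A) ⧸ nilradical (k' ⊗[k] A)) ∧
        Algebra.IsUnramifiedAt (MvPowerSeries (Fin n) k')
          (⊥ : Ideal ((k' ⊗[k] A) ⧸ nilradical (k' ⊗[k] A))) := by
  haveI : ExpChar A p := expChar_A k p A
  obtain ⟨m, hm⟩ := exists_m k p A
  haveI hfinTw : Module.Finite k (Tw k p m) := finite_Tw k p m hk
  haveI hdom := isDomain_R' k p m A
  haveI hloc := isLocalRing_R' k p m A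
  haveI hnoe := isNoetherianRing_R' k p m A
  haveI hcompl := isAdicComplete_R' k p m A
  haveI hres := finite_residueField_R' k p m A
  have hdimR := (ringKrullDim_R' k p m A).trans hn
  have hne := (maximalIdeal_R'_ne_bot k p m A hA).symm
  -- the fraction field
  haveI hfr : IsFractionRing ((Tw k p m ⊗[k] A) ⧸ nilradical (Tw k p m ⊗[k] A))
      (Localization.AtPrime (⊥ : Ideal ((Tw k p m ⊗[k] A) ⧸ nilradical (Tw k p m ⊗[k] A)))) := by
    simpa [Ideal.primeCompl_bot] using Localization.isLocalization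
      (M := (⊥ : Ideal ((Tw k p m ⊗[k] A) ⧸ nilradical (Tw k p m ⊗[k] A))).primeCompl)
  have hP : CAlg.IsGeometricallyRegular (Tw k p m)
      (Localization.AtPrime (⊥ : Ideal ((Tw k p m ⊗[k] A) ⧸ nilradical (Tw k p m ⊗[k] A)))) := by
    letI : Field (Localization.AtPrime
        (⊥ : Ideal ((Tw k p m ⊗[k] A) ⧸ nilradical (Tw k p m ⊗[k] A)))) :=
      IsFractionRing.toField ((Tw k p m ⊗[k] A) ⧸ nilradical (Tw k p m ⊗[k] A))
    haveI : Algebra.IsGeometricallyReduced (Tw k p m) (Localization.AtPrime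
        (⊥ : Ideal ((Tw k p m ⊗[k] A) ⧸ nilradical (Tw k p m ⊗[k] A)))) := hm _
    haveI : Algebra.FormallySmooth (Tw k p m) (Localization.AtPrime
        (⊥ : Ideal ((Tw k p m ⊗[k] A) ⧸ nilradical (Tw k p m ⊗[k] A)))) :=
      Groth.Agent.H47.formallySmooth_of_isGeometricallyReduced_field
    exact Groth.Agent.H23.GeomRegIff.geomReg_of_formallySmooth _
  have hmin : (⊥ : Ideal ((Tw k p m ⊗[k] A) ⧸ nilradical (Tw k p m ⊗[k] A))) ∈
      minimalPrimes ((Tw k p m ⊗[k] A) ⧸ nilradical (Tw k p m ⊗[k] A)) := by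
    rw [IsDomain.minimalPrimes_eq_singleton_bot]
    rfl
  have hdimq : ringKrullDim (((Tw k p m ⊗[k] A) ⧸ nilradical (Tw k p m ⊗[k] A)) ⧸
      (⊥ : Ideal ((Tw k p m ⊗[k] A) ⧸ nilradical (Tw k p m ⊗[k] A)))) = n := by
    rw [ringKrullDim_eq_of_ringEquiv (RingEquiv.quotientBot _)]
    exact hdimR
  obtain ⟨hfree, hrank⟩ := Groth.Agent.S5074.result p (Tw k p m)
    ((Tw k p m ⊗[k] A) ⧸ nilradical (Tw k p m ⊗[k] A)) (frobenius_Tw_finite k p m hk) ⊥ hP ⊥
    hmin le_rfl n hdimq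
  haveI := hfree
  haveI := Groth.Agent.H73.OmegaHatLoc.finite_omegaHat (Tw k p m)
    ((Tw k p m ⊗[k] A) ⧸ nilradical (Tw k p m ⊗[k] A))
  let b := Module.finBasisOfFinrankEq _ _ hrank
  obtain ⟨alg, tower, hlocal, hfinite, hunr⟩ :=
    (Groth.Agent.H73.OmegaHatUnram.span_iff_exists_algebra (Tw k p m)
      ((Tw k p m ⊗[k] A) ⧸ nilradical (Tw k p m ⊗[k] A)) ⊥ hne
      ⟨⊥, hmin, le_rfl, by rw [hdimq, hdimR]⟩ n).mp ⟨b, b.span_eq⟩
  refine ⟨Tw k p m, inferInstance, inferInstance, hfinTw, isPurelyInseparable_Tw k p m, hdom, hloc,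
    alg, tower, hlocal, ?_, hfinite, hunr⟩
  have hinj := Groth.Agent.H73.OmegaHatReg.injective_algebraMap_quotient (Tw k p m)
    ((Tw k p m ⊗[k] A) ⧸ nilradical (Tw k p m ⊗[k] A)) n ⊥ hdimq
  exact Function.Injective.of_comp (f := Ideal.Quotient.mk ⊥) hinj

end Groth.Agent.H73.SepTwist
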