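import Groth.Agent.H73.ValSurj
import Mathlib.AlgebraicGeometry.Morphisms.UniversallyOpen
import Mathlib.AlgebraicGeometry.Morphisms.Flat

set_option autoImplicit false

universe u

namespace Groth.Agent.H73

open CategoryTheory CategoryTheory.Limits AlgebraicGeometry IsLocalRing

/-- A flat surjective morphism is universally S-subtrusive. -/
theorem univSSubtrusive_of_flat_of_surjective {X Y : Scheme.{u}} (f : X ⟶ Y) [Flat f]
    [Surjective f] : Subtr.UnivSSubtrusive f := by
  intro X' Y' i₁ i₂ f' hsq y y' hyy'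
  have hflat : Flat f' := MorphismProperty.of_isPullback hsq.flip inferInstance
  have hsurj : Surjective f' := MorphismProperty.of_isPullback hsq.flip inferInstance
  obtain ⟨x, rfl⟩ := hsurj.surj y
  obtain ⟨x', hx', rfl⟩ := (Flat.generalizingMap f') hyy'
  exact ⟨x, x', hx', rfl, rfl⟩

/-- If `g ≫ f` is universally S-subtrusive then so is `f`. -/
theorem univSSubtrusive_of_comp {X' X Y : Scheme.{u}} (g : X' ⟶ X) (f : X ⟶ Y)
    (H : Subtr.UnivSSubtrusive (g ≫ f)) : Subtr.UnivSSubtrusive f := by
  rw [univSSubtrusive_iff_valuationRing] at H ⊢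
  intro V _ _ _ h y y' hyy'
  obtain ⟨z, z', hzz', hz, hz'⟩ := H V h hyy'
  let c : pullback (g ≫ f) h ⟶ pullback f h :=
    pullback.lift (pullback.fst (g ≫ f) h ≫ g) (pullback.snd (g ≫ f) h)
      (by rw [Category.assoc, pullback.condition])
  have hc : c ≫ pullback.snd f h = pullback.snd (g ≫ f) h := pullback.lift_snd _ _ _
  refine ⟨c z, c z', hzz'.map c.continuous, ?_, ?_⟩
  · rw [← Scheme.Hom.comp_apply, hc, hz]
  · rw [← Scheme.Hom.comp_apply, hc, hz']

/-- An injective ring map from a valuation ring (more generally a Bézout domain) to a domain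
is flat. -/
theorem flat_of_injective_of_isBezout {V B : Type u} [CommRing V] [IsDomain V] [IsBezout V]
    [CommRing B] [IsDomain B] (φ : V →+* B) (hinj : Function.Injective φ) : φ.Flat := by
  let _ : Algebra V B := φ.toAlgebra
  have htors : Submodule.torsion V B = ⊥ := by
    rw [eq_bot_iff]
    rintro w ⟨⟨r, hr⟩, h⟩
    have hr0 : r ≠ 0 := nonZeroDivisors.ne_zero hr
    have h' : φ r * w = 0 := h
    rcases mul_eq_zero.mp h' with h1 | h1
    · exact absurd (hinj (h1.trans (map_zero φ).symm)) hr0
    · exact h1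
  have : Module.Flat V B := Module.Flat.flat_iff_torsion_eq_bot_of_isBezout.mpr htors
  exact RingHom.flat_algebraMap_iff.mpr this

end Groth.Agent.H73
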