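import Mathlib

set_option autoImplicit false
open MvPolynomial Matrix

namespace Groth.Agent.H73.SymKer

variable {A : Type*} [CommRing A] {N s : ℕ}

/-- column `j` of the big matrix -/
noncomputable def col (m : Fin s → (Fin (N + 1) → A)) (j : Fin (N + 1)) :
    Fin (s + 1) → MvPolynomial (Fin (N + 1)) A :=
  Fin.snoc (α := fun _ => MvPolynomial (Fin (N + 1)) A) (fun i' : Fin s => C (m i' j)) (X j)

@[simp] lemma col_castSucc (m : Fin s → (Fin (N + 1) → A)) (j : Fin (N + 1)) (i : Fin s) :
    col m j i.castSucc = C (m i j) := by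
  simp [col]

@[simp] lemma col_last (m : Fin s → (Fin (N + 1) → A)) (j : Fin (N + 1)) :
    col m j (Fin.last s) = X j := by
  simp [col]

noncomputable def minor (m : Fin s → (Fin (N + 1) → A)) (c : Fin (s + 1) → Fin (N + 1)) :
    MvPolynomial (Fin (N + 1)) A :=
  (Matrix.of fun (i : Fin (s + 1)) (j : Fin (s + 1)) => col m (c j) i).det

lemma det_sum_expand (m : Fin s → (Fin (N + 1) → A))
    (W : Fin (s + 1) → Fin (N + 1) → MvPolynomial (Fin (N + 1)) A) :
    (Matrix.of fun (t : Fin (s + 1)) (i : Fin (s + 1)) => ∑ j, W t j * col m j i).det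
      = ∑ c : Fin (s + 1) → Fin (N + 1), (∏ t, W t (c t)) * minor m c := by
  have h1 : (Matrix.of fun (t : Fin (s + 1)) (i : Fin (s + 1)) => ∑ j, W t j * col m j i)
      = fun t => ∑ j, W t j • col m j := by
    ext t i
    simp [Finset.sum_apply]
  rw [h1]
  show (detRowAlternating : (Fin (s + 1) → MvPolynomial (Fin (N + 1)) A) [⋀^Fin (s + 1)]→ₗ[_] _)
    (fun t => ∑ j, W t j • col m j) = _
  rw [← AlternatingMap.coe_multilinearMap, MultilinearMap.map_sum]
  refine Finset.sum_congr rfl fun c _ => ?_
  rw [MultilinearMap.map_smul_univ, smul_eq_mul]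
  congr 1
  rw [minor, ← det_transpose]
  rfl

/-- a linear form vanishing on all `m i` lies in the ideal of minors, given a left inverse `L`. -/
lemma kappa_mem (m : Fin s → (Fin (N + 1) → A)) (L : Fin s → Fin (N + 1) → A)
    (hL : ∀ i i', ∑ j, L i j * m i' j = if i = i' then 1 else 0)
    (c' : Fin (N + 1) → A) (hc' : ∀ i, ∑ j, c' j * m i j = 0) :
    (∑ j, C (c' j) * X j : MvPolynomial (Fin (N + 1)) A) ∈ Ideal.span (Set.range (minor m)) := by
  classical
  -- weights
  set W : Fin (s + 1) → Fin (N + 1) → MvPolynomial (Fin (N + 1)) A :=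
    Fin.snoc (α := fun _ => Fin (N + 1) → MvPolynomial (Fin (N + 1)) A)
      (fun t : Fin s => fun j => C (L t j)) (fun j => C (c' j)) with hW
  have hWc : ∀ (t : Fin s) j, W t.castSucc j = C (L t j) := by
    intro t j; simp [hW]
  have hWl : ∀ j, W (Fin.last s) j = C (c' j) := by
    intro j; simp [hW]
  have hexp := det_sum_expand m W
  have hdet : (Matrix.of fun (t : Fin (s + 1)) (i : Fin (s + 1)) => ∑ j, W t j * col m j i).det
      = ∑ j, C (c' j) * X j := by
    rw [Matrix.det_of_isUpperTriangular]
    · rw [Fin.prod_univ_castSucc]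
      have h1 : ∀ t : Fin s, (Matrix.of fun (t : Fin (s + 1)) (i : Fin (s + 1)) =>
          ∑ j, W t j * col m j i) t.castSucc t.castSucc = 1 := by
        intro t
        simp only [Matrix.of_apply, hWc, col_castSucc, ← C_mul, ← map_sum, hL, if_true, C_1]
      simp only [h1, Finset.prod_const_one, one_mul]
      simp only [Matrix.of_apply, hWl, col_last]
    · intro t i hti
      simp only [id] at hti
      simp only [Matrix.of_apply]
      induction i using Fin.lastCases with
      | last => exact absurd hti (not_lt.2 (Fin.le_last t))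
      | cast i =>
        induction t using Fin.lastCases with
        | last =>
          simp only [hWl, col_castSucc, ← C_mul, ← map_sum, hc', C_0]
        | cast t =>
          have hne : t ≠ i := by
            intro h; subst h; exact lt_irrefl _ hti
          simp only [hWc, col_castSucc, ← C_mul, ← map_sum, hL, if_neg hne, C_0]
  rw [← hdet, hexp]
  refine Ideal.sum_mem _ fun c _ => Ideal.mul_mem_left _ _ (Ideal.subset_span ⟨c, rfl⟩)

/-- existence of a left inverse. -/
lemma exists_leftInverse (m : Fin s → (Fin (N + 1) → A)) (hli : LinearIndependent A m)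
    (hproj : Module.Projective A ((Fin (N + 1) → A) ⧸ Submodule.span A (Set.range m))) :
    ∃ L : Fin s → Fin (N + 1) → A,
      ∀ i i', ∑ j, L i j * m i' j = if i = i' then 1 else 0 := by
  classical
  set M := Submodule.span A (Set.range m) with hM
  obtain ⟨σ, hσ⟩ := Module.projective_lifting_property M.mkQ LinearMap.id
    (Submodule.mkQ_surjective M)
  -- g = id - σ ∘ π
  set g : (Fin (N + 1) → A) →ₗ[A] (Fin (N + 1) → A) := LinearMap.id - σ.comp M.mkQ with hg
  have hgM : ∀ w, g w ∈ M := by
    intro w
    rw [← Submodule.ker_mkQ M, LinearMap.mem_ker, hg]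
    simp only [LinearMap.sub_apply, LinearMap.id_apply, LinearMap.comp_apply, map_sub]
    have := LinearMap.congr_fun hσ (M.mkQ w)
    simp only [LinearMap.comp_apply, LinearMap.id_apply] at this
    rw [this, sub_self]
  have hgm : ∀ i, g (m i) = m i := by
    intro i
    have : M.mkQ (m i) = 0 := by
      rw [← LinearMap.mem_ker, Submodule.ker_mkQ]
      exact Submodule.subset_span ⟨i, rfl⟩
    simp [hg, this]
  -- f : A^s → A^{N+1}
  set f : (Fin s → A) →ₗ[A] (Fin (N + 1) → A) := Fintype.linearCombination A m with hf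
  have hfinj : Function.Injective f := linearIndependent_iff_injective_fintypeLinearCombination.1 hli
  have hfrange : LinearMap.range f = M := by
    rw [hf, Fintype.range_linearCombination]
  have hex : ∀ w, ∃ v, f v = g w := by
    intro w
    have := hgM w
    rw [← hfrange] at this
    exact this
  choose lam hlam using hex
  have hlam_m : ∀ i, lam (m i) = Pi.single i 1 := by
    intro i
    apply hfinj
    rw [hlam, hgm, hf, Fintype.linearCombination_apply_single, one_smul]
  have hlam_add : ∀ w w', lam (w + w') = lam w + lam w' := by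
    intro w w'
    apply hfinj
    rw [map_add, hlam, hlam, hlam, map_add]
  have hlam_smul : ∀ (a : A) w, lam (a • w) = a • lam w := by
    intro a w
    apply hfinj
    rw [map_smul, hlam, hlam, map_smul]
  let lamL : (Fin (N + 1) → A) →ₗ[A] (Fin s → A) :=
    { toFun := lam, map_add' := hlam_add, map_smul' := hlam_smul }
  refine ⟨fun i j => lamL (Pi.single j 1) i, fun i i' => ?_⟩
  have h1 : lamL (m i') = ∑ j, m i' j • lamL (Pi.single j 1) := by
    conv_lhs => rw [← Finset.univ_sum_single (m i')]
    rw [map_sum]
    refine Finset.sum_congr rfl fun j _ => ?_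
    rw [← map_smul]
    congr 1
    ext k
    simp [Pi.single_apply]
  have h2 : lamL (m i') = Pi.single i' 1 := hlam_m i'
  have h3 := congrFun (h1.symm.trans h2) i
  simp only [Finset.sum_apply, Pi.smul_apply, smul_eq_mul, Pi.single_apply] at h3
  rw [← h3]
  refine Finset.sum_congr rfl fun j _ => ?_
  ring

lemma minor_mem_ker (m : Fin s → (Fin (N + 1) → A)) (c : Fin (s + 1) → Fin (N + 1)) :
    (MvPolynomial.aeval (R := A) (S₁ := MvPolynomial (Fin s) A)
        (fun j : Fin (N + 1) => ∑ i : Fin s, C (m i j) * X i)) (minor m c) = 0 := by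
  classical
  rw [minor, AlgHom.map_det]
  set Φ := (MvPolynomial.aeval (R := A) (S₁ := MvPolynomial (Fin s) A)
        (fun j : Fin (N + 1) => ∑ i : Fin s, C (m i j) * X i)) with hΦ
  set M' := Φ.mapMatrix (Matrix.of fun (i : Fin (s + 1)) (j : Fin (s + 1)) => col m (c j) i) with hM'
  have hM'c : ∀ (i : Fin s) j, M' i.castSucc j = C (m i (c j)) := by
    intro i j
    simp [hM', hΦ]
  have hM'l : ∀ j, M' (Fin.last s) j = ∑ i : Fin s, C (m i (c j)) * X i := by
    intro j
    simp [hM', hΦ]
  set coef : Fin (s + 1) → MvPolynomial (Fin s) A :=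
    Fin.snoc (α := fun _ => MvPolynomial (Fin s) A) (fun i : Fin s => X i) 0 with hcoef
  have hupd : M' = M'.updateRow (Fin.last s) (∑ k, coef k • M' k) := by
    refine Matrix.ext fun i j => ?_
    induction i using Fin.lastCases with
    | last =>
      rw [Matrix.updateRow_self, hM'l, Fin.sum_univ_castSucc]
      simp only [Finset.sum_apply, Pi.add_apply, Pi.smul_apply, smul_eq_mul, hM'c, hcoef,
        Fin.snoc_castSucc, Fin.snoc_last, zero_mul, add_zero]
      exact Finset.sum_congr rfl fun i _ => mul_comm (C (m i (c j))) (X i)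
    | cast i =>
      rw [Matrix.updateRow_ne (Fin.castSucc_lt_last i).ne]
  rw [hupd, Matrix.det_updateRow_sum]
  simp [hcoef]

theorem main (m : Fin s → (Fin (N + 1) → A)) (hli : LinearIndependent A m)
    (hproj : Module.Projective A ((Fin (N + 1) → A) ⧸ Submodule.span A (Set.range m))) :
    RingHom.ker (MvPolynomial.aeval (R := A) (S₁ := MvPolynomial (Fin s) A)
        (fun j : Fin (N + 1) => ∑ i : Fin s, C (m i j) * X i))
      = Ideal.span (Set.range (minor m)) := by
  classical
  set Φ := (MvPolynomial.aeval (R := A) (S₁ := MvPolynomial (Fin s) A)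
        (fun j : Fin (N + 1) => ∑ i : Fin s, C (m i j) * X i)) with hΦ
  apply le_antisymm
  · intro P hP
    obtain ⟨L, hL⟩ := exists_leftInverse m hli hproj
    set I := Ideal.span (Set.range (minor m)) with hI
    let ψ : MvPolynomial (Fin s) A →ₐ[A] MvPolynomial (Fin (N + 1)) A :=
      MvPolynomial.aeval (fun i : Fin s => ∑ j' : Fin (N + 1), C (L i j') * X j')
    have key : (Ideal.Quotient.mkₐ A I).comp (ψ.comp Φ) = Ideal.Quotient.mkₐ A I := by
      apply MvPolynomial.algHom_ext
      intro j
      simp only [AlgHom.comp_apply, Ideal.Quotient.mkₐ_eq_mk]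
      rw [eq_comm, Ideal.Quotient.eq]
      have hΦX : Φ (X j) = ∑ i : Fin s, C (m i j) * X i := by simp [hΦ]
      have hψ : ψ (Φ (X j)) = ∑ i : Fin s, C (m i j) * ∑ j' : Fin (N + 1), C (L i j') * X j' := by
        rw [hΦX, map_sum]
        refine Finset.sum_congr rfl fun i _ => ?_
        rw [map_mul]
        simp [ψ]
      have heq : X j - ψ (Φ (X j))
          = ∑ j' : Fin (N + 1), C ((if j' = j then 1 else 0) - ∑ i, m i j * L i j') * X j' := by
        rw [hψ]
        simp only [C_sub, sub_mul, Finset.sum_sub_distrib, map_sum, C_mul, Finset.sum_mul,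
          Finset.mul_sum]
        congr 1
        · simp [apply_ite C, ite_mul]
        · rw [Finset.sum_comm]
          refine Finset.sum_congr rfl fun j' _ => Finset.sum_congr rfl fun i _ => ?_
          ring
      rw [heq]
      apply kappa_mem m L hL
      intro i'
      simp only [sub_mul, Finset.sum_sub_distrib, Finset.sum_mul]
      rw [sub_eq_zero]
      have h1 : ∑ j' : Fin (N + 1), (if j' = j then (1 : A) else 0) * m i' j' = m i' j := by
        simp [ite_mul]
      rw [h1, Finset.sum_comm]
      have h2 : ∀ i : Fin s, ∑ j' : Fin (N + 1), m i j * L i j' * m i' j'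
          = m i j * (if i = i' then 1 else 0) := by
        intro i
        rw [← hL i i', Finset.mul_sum]
        refine Finset.sum_congr rfl fun j' _ => ?_
        ring
      simp only [h2]
      simp
    have h0 := AlgHom.congr_fun key P
    simp only [AlgHom.comp_apply, Ideal.Quotient.mkₐ_eq_mk] at h0
    rw [RingHom.mem_ker] at hP
    rw [hP, map_zero, map_zero, eq_comm, Ideal.Quotient.eq_zero_iff_mem] at h0
    exact h0
  · rw [Ideal.span_le]
    rintro _ ⟨c, rfl⟩
    exact minor_mem_ker m c

end Groth.Agent.H73.SymKer
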