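import Mathlib
import Groth.Agent.H75.CanonIdeal

/-!
# Generic lemmas on relative lengths of lattices
-/

set_option autoImplicit false
set_option linter.unusedSectionVars false
set_option linter.unusedVariables false
set_option linter.style.haveILetI false

namespace Groth.Agent.H73.TFLat

open Groth.Agent.H75.Canon

section Rel

variable {R : Type*} [CommRing R] {M : Type*} [AddCommGroup M] [Module R M]

theorem relLength_eq_zero_iff {J I : Submodule R M} (h : J ≤ I) : relLength J I = 0 ↔ J = I := by
  unfold relLength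
  rw [Module.length_eq_zero_iff, Submodule.Quotient.subsingleton_iff,
    Submodule.comap_subtype_eq_top]
  exact ⟨fun h' => le_antisymm h h', fun h' => h' ▸ le_rfl⟩

theorem relLength_self (I : Submodule R M) : relLength I I = 0 :=
  (relLength_eq_zero_iff le_rfl).mpr rfl

theorem relLength_map {M' : Type*} [AddCommGroup M'] [Module R M'] (g : M →ₗ[R] M')
    (hg : Function.Injective g) (J I : Submodule R M) :
    relLength (J.map g) (I.map g) = relLength J I := by
  unfold relLength
  let f : ↥I ≃ₗ[R] ↥(I.map g) := Submodule.equivMapOfInjective g hg I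
  have hf : ∀ x : ↥I, ((f x : ↥(I.map g)) : M') = g (x : M) := fun x =>
    Submodule.coe_equivMapOfInjective_apply g hg I x
  refine (LinearEquiv.length_eq (Submodule.Quotient.equiv (J.comap I.subtype)
    ((J.map g).comap (I.map g).subtype) f ?_)).symm
  ext y
  constructor
  · rintro ⟨x, hx, rfl⟩
    exact ⟨x, hx, (hf x).symm⟩
  · intro hy
    obtain ⟨z, hz, hzy⟩ := hy
    refine ⟨f.symm y, ?_, f.apply_symm_apply y⟩
    show ((f.symm y : ↥I) : M) ∈ J
    have h1 : g ((f.symm y : ↥I) : M) = g z := by
      rw [hzy, ← hf, f.apply_symm_apply]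
      rfl
    rw [hg h1]
    exact hz

theorem relLength_mono {J J' I' I : Submodule R M} (h1 : J ≤ J') (h2 : J' ≤ I') (h3 : I' ≤ I) :
    relLength J' I' ≤ relLength J I := by
  rw [relLength_add J J' I h1 (h2.trans h3), relLength_add J' I' I h2 h3]
  calc relLength J' I' ≤ relLength J' I' + relLength I' I := le_self_add
    _ ≤ relLength J J' + (relLength J' I' + relLength I' I) := le_add_self

end Rel

section Two

variable {O B V : Type*} [CommRing O] [CommRing B] [Algebra O B] [AddCommGroup V] [Module B V]
  [Module O V] [IsScalarTower O B V]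

theorem covBy_restrictScalars
    (hsurj : ∀ 𝔫 : Ideal B, 𝔫.IsMaximal → ∀ b : B, ∃ o : O, b - algebraMap O B o ∈ 𝔫)
    {Z X : Submodule B V} (h : Z ⋖ X) : Z.restrictScalars O ⋖ X.restrictScalars O := by
  have hsimple := (covBy_iff_quot_is_simple h.le).mp h
  have hmax := IsSimpleModule.annihilator_isMaximal (R := B) (M := ↥X ⧸ Z.comap X.subtype)
  refine ⟨lt_of_le_of_ne (fun x hx => h.le hx)
    (fun he => h.lt.ne (Submodule.restrictScalars_injective O B V he)), ?_⟩
  intro W hZW hWX
  have hstab : ∀ (b : B) (w : V), w ∈ W → b • w ∈ W := by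
    intro b w hw
    obtain ⟨o, ho⟩ := hsurj _ hmax b
    have hwX : w ∈ X := hWX.le hw
    have h1 : (b - algebraMap O B o) • w ∈ Z := by
      have := Module.mem_annihilator.mp ho (Submodule.Quotient.mk ⟨w, hwX⟩)
      rw [← Submodule.Quotient.mk_smul, Submodule.Quotient.mk_eq_zero] at this
      exact this
    have h2 : b • w = o • w + (b - algebraMap O B o) • w := by
      rw [sub_smul, algebraMap_smul]; abel
    rw [h2]
    exact W.add_mem (W.smul_mem o hw) (hZW.le h1)
  let W' : Submodule B V :=
    { carrier := W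
      add_mem' := W.add_mem
      zero_mem' := W.zero_mem
      smul_mem' := fun b w hw => hstab b w hw }
  have hW' : W'.restrictScalars O = W := rfl
  have h1 : Z < W' := lt_of_le_of_ne (fun x hx => hZW.le hx)
    (fun he => hZW.ne (by rw [he, hW']))
  have h2 : W' < X := lt_of_le_of_ne (fun x hx => hWX.le hx)
    (fun he => hWX.ne (by rw [← he, hW']))
  exact h.2 h1 h2

theorem relLength_eq_one_of_covBy
    (hsurj : ∀ 𝔫 : Ideal B, 𝔫.IsMaximal → ∀ b : B, ∃ o : O, b - algebraMap O B o ∈ 𝔫)
    {Z X : Submodule B V} (h : Z ⋖ X) :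
    relLength (Z.restrictScalars O) (X.restrictScalars O) = 1 := by
  have h' := covBy_restrictScalars hsurj h
  unfold relLength
  exact Module.length_eq_one_iff.mpr ((covBy_iff_quot_is_simple h'.le).mp h')

/-- Intermediate `B`-lattices of every `O`-colength. -/
theorem exists_between
    (hsurj : ∀ 𝔫 : Ideal B, 𝔫.IsMaximal → ∀ b : B, ∃ o : O, b - algebraMap O B o ∈ 𝔫)
    (X₀ Y : Submodule B V) (h : X₀ ≤ Y)
    (hfin : relLength (X₀.restrictScalars O) (Y.restrictScalars O) ≠ ⊤) :
    ∀ j : ℕ, (j : ℕ∞) ≤ relLength (X₀.restrictScalars O) (Y.restrictScalars O) →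
      ∃ X : Submodule B V, X₀ ≤ X ∧ X ≤ Y ∧
        relLength (X.restrictScalars O) (Y.restrictScalars O) = j := by
  intro j
  induction j with
  | zero =>
    intro _
    exact ⟨Y, h, le_rfl, by rw [relLength_self]; rfl⟩
  | succ j ih =>
    intro hj
    have hj' : (j : ℕ∞) ≤ relLength (X₀.restrictScalars O) (Y.restrictScalars O) :=
      le_trans (by exact_mod_cast Nat.le_succ j) hj
    obtain ⟨X, hX0, hXY, hXj⟩ := ih hj'
    have hadd := relLength_add (X₀.restrictScalars O) (X.restrictScalars O)
      (Y.restrictScalars O) (fun x hx => hX0 hx) (fun x hx => hXY hx)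
    rw [hXj] at hadd
    have hne : X₀ ≠ X := by
      intro he
      subst he
      rw [relLength_self, zero_add] at hadd
      rw [hadd] at hj
      have : j + 1 ≤ j := by exact_mod_cast hj
      omega
    have hlt : X₀ < X := lt_of_le_of_ne hX0 hne
    have hfinX : relLength (X₀.restrictScalars O) (X.restrictScalars O) ≠ ⊤ := by
      intro htop
      rw [htop, top_add] at hadd
      exact hfin hadd
    -- choose `Z` with minimal relative length to `X`
    let ρ : Submodule B V → ℕ∞ := fun Z =>
      relLength (Z.restrictScalars O) (X.restrictScalars O)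
    let 𝒮 : Set (Submodule B V) := {Z | X₀ ≤ Z ∧ Z < X}
    have hne𝒮 : (ρ '' 𝒮).Nonempty := ⟨ρ X₀, X₀, ⟨le_rfl, hlt⟩, rfl⟩
    obtain ⟨m, ⟨Z, ⟨hZ0, hZX⟩, rfl⟩, hmin⟩ := (wellFounded_lt (α := ℕ∞)).has_min _ hne𝒮
    have hρZfin : ρ Z ≠ ⊤ := by
      intro htop
      have := relLength_mono (J := X₀.restrictScalars O) (J' := Z.restrictScalars O)
        (I' := X.restrictScalars O) (I := X.restrictScalars O) (fun x hx => hZ0 hx)
        (fun x hx => hZX.le hx) le_rfl
      rw [show relLength (Z.restrictScalars O) (X.restrictScalars O) = ⊤ from htop,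
        top_le_iff] at this
      exact hfinX this
    have hcov : Z ⋖ X := by
      refine ⟨hZX, ?_⟩
      intro W hZW hWX
      have hW𝒮 : W ∈ 𝒮 := ⟨hZ0.trans hZW.le, hWX⟩
      have hadd2 := relLength_add (Z.restrictScalars O) (W.restrictScalars O)
        (X.restrictScalars O) (fun x hx => hZW.le hx) (fun x hx => hWX.le hx)
      have hpos : relLength (Z.restrictScalars O) (W.restrictScalars O) ≠ 0 := by
        intro h0
        rw [relLength_eq_zero_iff (J := Z.restrictScalars O) (I := W.restrictScalars O)
          (fun x hx => hZW.le hx)] at h0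
        exact hZW.ne (Submodule.restrictScalars_injective O B V h0)
      apply hmin (ρ W) ⟨W, hW𝒮, rfl⟩
      show relLength (W.restrictScalars O) (X.restrictScalars O) <
        relLength (Z.restrictScalars O) (X.restrictScalars O)
      rw [hadd2]
      have hWfin : relLength (W.restrictScalars O) (X.restrictScalars O) ≠ ⊤ := by
        intro htop
        rw [htop, add_top] at hadd2
        exact hρZfin hadd2
      obtain ⟨a, ha⟩ := ENat.ne_top_iff_exists.mp hWfin
      rw [← ha]
      rcases eq_or_ne (relLength (Z.restrictScalars O) (W.restrictScalars O)) ⊤ with ht | ht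
      · rw [ht, top_add]
        exact ENat.coe_lt_top a
      · obtain ⟨c, hc⟩ := ENat.ne_top_iff_exists.mp ht
        rw [← hc] at hpos ⊢
        have hc0 : c ≠ 0 := by
          intro h0
          apply hpos
          rw [h0]
          rfl
        have : a < c + a := by omega
        exact_mod_cast this
    have h1 := relLength_eq_one_of_covBy hsurj hcov
    refine ⟨Z, hZ0, hZX.le.trans hXY, ?_⟩
    rw [relLength_add (Z.restrictScalars O) (X.restrictScalars O) (Y.restrictScalars O)
      (fun x hx => hZX.le hx) (fun x hx => hXY hx), h1, hXj]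
    push_cast
    exact add_comm _ _

end Two

end Groth.Agent.H73.TFLat
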