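import Mathlib
import Groth.Agent.H73.TFLatGen
import Groth.Agent.H73.LatticeDimOne
import Groth.Agent.H75.GorLattice
import Groth.Agent.H75.LatticeIso

/-!
# Lattices of prescribed colength over the conductor (one-dimensional Gorenstein case)
-/

set_option autoImplicit false
set_option linter.unusedSectionVars false
set_option linter.unusedVariables false
set_option linter.style.haveILetI false
set_option maxHeartbeats 800000
universe u

open TensorProduct

namespace Groth.Agent.H73.TFLat

open Groth.Agent.H75 Groth.Agent.H75.Canon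

section Setup

variable (O : Type u) [CommRing O] [IsDomain O] [IsNoetherianRing O] [IsLocalRing O]
  (K : Type u) [Field K] [Algebra O K] [IsFractionRing O K]

theorem residue_surj [IsAlgClosed (IsLocalRing.ResidueField O)] :
    ∀ 𝔫 : Ideal ↥(integralClosure O K), 𝔫.IsMaximal → ∀ b : ↥(integralClosure O K),
      ∃ o : O, b - algebraMap O ↥(integralClosure O K) o ∈ 𝔫 := by
  intro 𝔫 h𝔫 b
  letI : Field (↥(integralClosure O K) ⧸ 𝔫) := Ideal.Quotient.field 𝔫
  let ψ : O →+* (↥(integralClosure O K) ⧸ 𝔫) :=
    (Ideal.Quotient.mk 𝔫).comp (algebraMap O ↥(integralClosure O K))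
  have hψint : ψ.IsIntegral := by
    apply RingHom.IsIntegral.trans
    · exact algebraMap_isIntegral_iff.mpr inferInstance
    · exact RingHom.isIntegral_of_surjective _ Ideal.Quotient.mk_surjective
  haveI : IsLocalHom ψ := by
    constructor
    intro a ha
    by_contra hna
    have ham : a ∈ IsLocalRing.maximalIdeal O := (IsLocalRing.mem_maximalIdeal a).mpr hna
    have h0 : ψ a = 0 := by
      show Ideal.Quotient.mk 𝔫 (algebraMap O _ a) = 0
      rw [Ideal.Quotient.eq_zero_iff_mem]
      exact OneDim.maximalIdeal_le_comap O K 𝔫 h𝔫 a ham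
    rw [h0] at ha
    exact not_isUnit_zero ha
  let f := IsLocalRing.ResidueField.lift ψ
  have hf : f.IsIntegral := RingHom.IsIntegral.tower_top (IsLocalRing.residue O) f (by
    rw [IsLocalRing.ResidueField.lift_comp_residue]; exact hψint)
  have hbij := IsAlgClosed.ringHom_bijective_of_isIntegral f hf
  obtain ⟨y, hy⟩ := hbij.2 (Ideal.Quotient.mk 𝔫 b)
  obtain ⟨o, rfl⟩ := IsLocalRing.residue_surjective y
  refine ⟨o, ?_⟩
  rw [← Ideal.Quotient.eq, ← hy]
  exact IsLocalRing.ResidueField.lift_residue_apply ψ o

/-- `Õ^n` as a module over the integral closure. -/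
def lamB (n : ℕ) : Submodule ↥(integralClosure O K) (Fin n → K) where
  carrier := {x | ∀ i, x i ∈ integralClosure O K}
  add_mem' := fun {x y} hx hy i => Subalgebra.add_mem _ (hx i) (hy i)
  zero_mem' := fun i => Subalgebra.zero_mem _
  smul_mem' := fun b x hx i => by
    rw [Pi.smul_apply, Subalgebra.smul_def, smul_eq_mul]
    exact Subalgebra.mul_mem _ b.2 (hx i)

theorem mem_lamB (n : ℕ) (x : Fin n → K) :
    x ∈ lamB O K n ↔ ∀ i, x i ∈ integralClosure O K := Iff.rfl

theorem mem_PB (n : ℕ) (x : Fin n → K) :
    x ∈ Submodule.pi Set.univ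
      (fun _ : Fin n => Subalgebra.toSubmodule (integralClosure O K)) ↔
      ∀ i, x i ∈ integralClosure O K := by
  rw [Submodule.mem_pi]
  constructor
  · intro h i
    exact h i (Set.mem_univ i)
  · intro h i _
    exact h i

theorem lamB_restrictScalars (n : ℕ) : (lamB O K n).restrictScalars O =
    Submodule.pi Set.univ (fun _ : Fin n => Subalgebra.toSubmodule (integralClosure O K)) := by
  ext x
  rw [Submodule.restrictScalars_mem, mem_lamB, mem_PB]

theorem single_mem_lamB (n : ℕ) (i : Fin n) : (Pi.single i (1 : K) : Fin n → K) ∈ lamB O K n := by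
  intro j
  rw [Pi.single_apply]
  split_ifs
  · exact Subalgebra.one_mem _
  · exact Subalgebra.zero_mem _

theorem lamB_fg (n : ℕ) : (lamB O K n).FG := by
  classical
  refine ⟨Finset.univ.image (fun i : Fin n => (Pi.single i (1 : K) : Fin n → K)), ?_⟩
  apply le_antisymm
  · apply Submodule.span_le.mpr
    intro x hx
    rw [Finset.coe_image] at hx
    obtain ⟨i, -, rfl⟩ := hx
    exact single_mem_lamB O K n i
  · intro x hx
    have hx' : x = ∑ i, (⟨x i, hx i⟩ : ↥(integralClosure O K)) •
        (Pi.single i (1 : K) : Fin n → K) := by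
      funext j
      rw [Finset.sum_apply, Finset.sum_eq_single j]
      · rw [Pi.smul_apply, Pi.single_eq_same, Subalgebra.smul_def, smul_eq_mul, mul_one]
      · intro i _ hij
        rw [Pi.smul_apply, Pi.single_eq_of_ne (Ne.symm hij), smul_zero]
      · intro h
        exact absurd (Finset.mem_univ j) h
    rw [hx']
    refine Submodule.sum_mem _ (fun i _ => Submodule.smul_mem _ _ (Submodule.subset_span ?_))
    rw [Finset.coe_image]
    exact ⟨i, Finset.mem_coe.mpr (Finset.mem_univ i), rfl⟩

/-- conductor times closure lands in conductor -/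
theorem smul_mem_conductor_smul_one {c : O}
    (hc : c ∈ (1 : Submodule O K).colon (Subalgebra.toSubmodule (integralClosure O K)))
    {β : K} (hβ : β ∈ integralClosure O K) :
    c • β ∈ ((1 : Submodule O K).colon (Subalgebra.toSubmodule (integralClosure O K))) •
      (1 : Submodule O K) := by
  have h1 : c • β ∈ (1 : Submodule O K) := Submodule.mem_colon.mp hc β hβ
  obtain ⟨c', hc'⟩ := Submodule.mem_one.mp h1
  have hc'C : c' ∈ (1 : Submodule O K).colon (Subalgebra.toSubmodule (integralClosure O K)) := by
    rw [Submodule.mem_colon]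
    intro γ hγ
    have h2 : c' • γ = c • (β * γ) := by
      rw [Algebra.smul_def, hc', Algebra.smul_def, Algebra.smul_def, mul_assoc]
    rw [h2]
    exact Submodule.mem_colon.mp hc _ (Subalgebra.mul_mem _ hβ hγ)
  have h3 : c • β = c' • (1 : K) := by
    rw [← hc', Algebra.smul_def, mul_one]
  rw [h3]
  exact Submodule.smul_mem_smul hc'C (Submodule.one_le.mp le_rfl)

theorem exists_of_mem_conductor_smul_one {z : K}
    (hz : z ∈ ((1 : Submodule O K).colon (Subalgebra.toSubmodule (integralClosure O K))) •
      (1 : Submodule O K)) :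
    ∃ c ∈ (1 : Submodule O K).colon (Subalgebra.toSubmodule (integralClosure O K)),
      algebraMap O K c = z := by
  refine Submodule.smul_induction_on hz ?_ ?_
  · intro r hr u hu
    obtain ⟨s, rfl⟩ := Submodule.mem_one.mp hu
    refine ⟨r * s, Ideal.mul_mem_right _ _ hr, ?_⟩
    rw [map_mul, Algebra.smul_def]
  · rintro x y ⟨c, hc, rfl⟩ ⟨d, hd, rfl⟩
    exact ⟨c + d, Ideal.add_mem _ hc hd, map_add _ _ _⟩

theorem smul_mem_PC (n : ℕ) {c : O}
    (hc : c ∈ (1 : Submodule O K).colon (Subalgebra.toSubmodule (integralClosure O K)))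
    {x : Fin n → K} (hx : ∀ i, x i ∈ integralClosure O K) :
    c • x ∈ Submodule.pi Set.univ (fun _ : Fin n =>
      ((1 : Submodule O K).colon (Subalgebra.toSubmodule (integralClosure O K))) •
        (1 : Submodule O K)) := by
  rw [Submodule.mem_pi]
  intro i _
  rw [Pi.smul_apply]
  exact smul_mem_conductor_smul_one O K hc (hx i)

/-- the relative length of `C^n` in `O^n` -/
theorem relLength_PC_PO (n : ℕ) :
    relLength (Submodule.pi Set.univ (fun _ : Fin n =>
      ((1 : Submodule O K).colon (Subalgebra.toSubmodule (integralClosure O K))) •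
        (1 : Submodule O K)))
      (Submodule.pi Set.univ (fun _ : Fin n => (1 : Submodule O K))) =
    (n : ℕ∞) * Module.length O
      (O ⧸ ((1 : Submodule O K).colon (Subalgebra.toSubmodule (integralClosure O K)))) := by
  classical
  set C : Ideal O := (1 : Submodule O K).colon (Subalgebra.toSubmodule (integralClosure O K))
    with hC
  have hinjK : Function.Injective (algebraMap O K) := IsFractionRing.injective O K
  let ι : (Fin n → O) →ₗ[O] (Fin n → K) := (Algebra.linearMap O K).compLeft (Fin n)
  have hι : ∀ x i, ι x i = algebraMap O K (x i) := fun x i => rfl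
  have hιinj : Function.Injective ι := by
    intro x y hxy
    funext i
    apply hinjK
    rw [← hι, ← hι, hxy]
  have h1 : (⊤ : Submodule O (Fin n → O)).map ι =
      Submodule.pi Set.univ (fun _ : Fin n => (1 : Submodule O K)) := by
    ext w
    rw [Submodule.mem_map, Submodule.mem_pi]
    constructor
    · rintro ⟨x, -, rfl⟩ i _
      exact Submodule.mem_one.mpr ⟨x i, rfl⟩
    · intro hw
      choose a ha using fun i => Submodule.mem_one.mp (hw i (Set.mem_univ i))
      exact ⟨a, trivial, funext fun i => by rw [hι, ha]⟩
  have h2 : (Submodule.pi Set.univ (fun _ : Fin n => (C : Submodule O O))).map ι =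
      Submodule.pi Set.univ (fun _ : Fin n => C • (1 : Submodule O K)) := by
    ext w
    rw [Submodule.mem_map, Submodule.mem_pi]
    constructor
    · rintro ⟨x, hx, rfl⟩ i _
      rw [Submodule.mem_pi] at hx
      have : ι x i = (x i) • (1 : K) := by rw [hι, Algebra.smul_def, mul_one]
      rw [this]
      exact Submodule.smul_mem_smul (hx i (Set.mem_univ i)) (Submodule.one_le.mp le_rfl)
    · intro hw
      choose a haC ha using fun i =>
        exists_of_mem_conductor_smul_one O K (hw i (Set.mem_univ i))
      refine ⟨a, ?_, funext fun i => by rw [hι, ha]⟩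
      rw [Submodule.mem_pi]
      intro i _
      exact haC i
  rw [← h1, ← h2, relLength_map ι hιinj]
  unfold relLength
  let E1 : (↥(⊤ : Submodule O (Fin n → O)) ⧸
      (Submodule.pi Set.univ (fun _ : Fin n => (C : Submodule O O))).comap
        (⊤ : Submodule O (Fin n → O)).subtype) ≃ₗ[O]
      ((Fin n → O) ⧸ Submodule.pi Set.univ (fun _ : Fin n => (C : Submodule O O))) :=
    Submodule.Quotient.equiv _ _ Submodule.topEquiv (by
      ext x
      rw [Submodule.mem_map]
      constructor
      · rintro ⟨y, hy, rfl⟩
        exact hy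
      · intro hx
        exact ⟨⟨x, trivial⟩, hx, rfl⟩)
  rw [E1.length_eq, (Submodule.quotientPi (fun _ : Fin n => (C : Submodule O O))).length_eq,
    Module.length_pi_of_fintype, Finset.sum_const, Finset.card_univ, Fintype.card_fin,
    nsmul_eq_mul]

/-- A finitely generated lattice over the closure containing `Õ^n` is carried onto `Õ^n`
by a `K`-linear automorphism. -/
theorem exists_equiv_of_lattice (hdim : ringKrullDim O = 1)
    (hfin : Module.Finite O ↥(integralClosure O K)) (n : ℕ)
    (N : Submodule ↥(integralClosure O K) (Fin n → K)) (hNfg : N.FG)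
    (hsp : ⊤ ≤ Submodule.span K (N : Set (Fin n → K))) :
    ∃ g : (Fin n → K) ≃ₗ[K] (Fin n → K), ∀ y, y ∈ N ↔ g y ∈ lamB O K n := by
  classical
  have hPID : IsPrincipalIdealRing ↥(integralClosure O K) :=
    OneDim.isPrincipalIdealRing_closure O K hdim hfin
  have hFR : IsFractionRing ↥(integralClosure O K) K := OneDim.isFractionRing_closure O K
  have hNfin : Module.Finite ↥(integralClosure O K) N := Module.Finite.iff_fg.mpr hNfg
  have hNfree : Module.Free ↥(integralClosure O K) N := Module.free_of_finite_type_torsion_free'
  let b₀ := Module.finBasis ↥(integralClosure O K) N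
  have hspanK : ∀ (ι' : Type) (v : ι' → N),
      Submodule.span ↥(integralClosure O K) (Set.range v) = ⊤ →
      ⊤ ≤ Submodule.span K (Set.range fun t => ((v t : N) : Fin n → K)) := by
    intro ι' v hv
    have h2 : ∀ y : N, y ∈ Submodule.span ↥(integralClosure O K) (Set.range v) →
        (y : Fin n → K) ∈ Submodule.span K (Set.range fun t => ((v t : N) : Fin n → K)) := by
      intro y hy
      induction hy using Submodule.span_induction with
      | mem z hz =>
        obtain ⟨t, rfl⟩ := hz
        exact Submodule.subset_span ⟨t, rfl⟩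
      | zero => exact Submodule.zero_mem _
      | add y z _ _ hy hz => exact Submodule.add_mem _ hy hz
      | smul c y _ hy =>
        rw [Submodule.coe_smul, ← algebraMap_smul K c (y : Fin n → K)]
        exact Submodule.smul_mem _ _ hy
    refine hsp.trans (Submodule.span_le.mpr ?_)
    intro x hx
    exact h2 ⟨x, hx⟩ (by rw [hv]; trivial)
  have hb₀li : LinearIndependent K (fun t => ((b₀ t : N) : Fin n → K)) := by
    rw [← LinearIndependent.iff_fractionRing ↥(integralClosure O K) K]
    exact b₀.linearIndependent.map' N.subtype (Submodule.ker_subtype N)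
  have hrank : Module.finrank ↥(integralClosure O K) N = n := by
    let bK : Module.Basis _ K (Fin n → K) := Module.Basis.mk hb₀li (hspanK _ b₀ b₀.span_eq)
    have := Module.finrank_eq_card_basis bK
    rw [Module.finrank_fin_fun, Fintype.card_fin] at this
    exact this.symm
  let b : Module.Basis (Fin n) ↥(integralClosure O K) N := b₀.reindex (finCongr hrank)
  have hbK : LinearIndependent K (fun t => ((b t : N) : Fin n → K)) := by
    rw [← LinearIndependent.iff_fractionRing ↥(integralClosure O K) K]
    exact b.linearIndependent.map' N.subtype (Submodule.ker_subtype N)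
  let vK : Module.Basis (Fin n) K (Fin n → K) := Module.Basis.mk hbK (hspanK _ b b.span_eq)
  have hvKapp : ∀ t, vK t = ((b t : N) : Fin n → K) := fun t => by
    simp [vK]
  let g : (Fin n → K) ≃ₗ[K] (Fin n → K) := vK.equivFun
  have hg : ∀ t, g ((b t : N) : Fin n → K) = Pi.single t 1 := by
    intro t
    rw [← hvKapp t]
    funext j
    rw [Pi.single_apply]
    have := vK.equivFun_self t j
    rw [this]
    by_cases h : t = j
    · rw [if_pos h, if_pos h.symm]
    · rw [if_neg h, if_neg (Ne.symm h)]
  refine ⟨g, fun y => ⟨fun hy => ?_, fun hgy => ?_⟩⟩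
  · have h2 : ∀ z : N, z ∈ Submodule.span ↥(integralClosure O K) (Set.range b) →
        ∀ i, g (z : Fin n → K) i ∈ integralClosure O K := by
      intro z hz
      induction hz using Submodule.span_induction with
      | mem w hw =>
        obtain ⟨t, rfl⟩ := hw
        intro i
        rw [hg t, Pi.single_apply]
        split_ifs
        · exact Subalgebra.one_mem _
        · exact Subalgebra.zero_mem _
      | zero => intro i; simp
      | add y z _ _ hy hz =>
        intro i
        rw [Submodule.coe_add, map_add, Pi.add_apply]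
        exact Subalgebra.add_mem _ (hy i) (hz i)
      | smul c y _ hy =>
        intro i
        rw [Submodule.coe_smul, ← algebraMap_smul K c (y : Fin n → K), map_smul, Pi.smul_apply,
          smul_eq_mul]
        exact Subalgebra.mul_mem _ c.2 (hy i)
    exact h2 ⟨y, hy⟩ (by rw [b.span_eq]; trivial)
  · have h3 : y = ∑ t, (⟨g y t, hgy t⟩ : ↥(integralClosure O K)) • ((b t : N) : Fin n → K) := by
      have h4 := vK.sum_equivFun y
      calc y = ∑ t, vK.equivFun y t • vK t := h4.symm
        _ = _ := Finset.sum_congr rfl (fun t _ => by rw [hvKapp, Subalgebra.smul_def])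
    rw [h3]
    exact Submodule.sum_mem _ (fun t _ => Submodule.smul_mem _ _ (b t).2)

end Setup

end Groth.Agent.H73.TFLat
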