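import Mathlib
import Groth.Agent.H73.TFLatMain

/-!
# Main theorem: lattices of colength `n · length(O/C)` over the conductor
-/

set_option autoImplicit false
set_option linter.unusedSectionVars false
set_option linter.unusedVariables false
set_option linter.style.haveILetI false
set_option maxHeartbeats 1600000
universe u

open TensorProduct

namespace Groth.Agent.H73.TFLat

open Groth.Agent.H75 Groth.Agent.H75.Canon

theorem main (O : Type u) [CommRing O] [IsDomain O] [LocCoh.IsGorensteinLocalRing O]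
    (hdim : ringKrullDim O = 1) [IsAlgClosed (IsLocalRing.ResidueField O)] (K : Type u) [Field K]
    [Algebra O K] [IsFractionRing O K] (hfin : Module.Finite O ↥(integralClosure O K))
    (M : Type u) [AddCommGroup M] [Module O M] [Module.Finite O M] [NoZeroSMulDivisors O M]
    (n : ℕ) (hn : Module.finrank K (TensorProduct O K M) = n) :
    ∃ M' : Submodule O (Fin n → K),
      Submodule.pi Set.univ (fun _ : Fin n =>
        (((1 : Submodule O K).colon (Subalgebra.toSubmodule (integralClosure O K))) •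
          (1 : Submodule O K))) ≤ M' ∧
      M' ≤ Submodule.pi Set.univ
        (fun _ : Fin n => (Subalgebra.toSubmodule (integralClosure O K))) ∧
      Nonempty (M ≃ₗ[O] ↥M') ∧
      relLength (Submodule.pi Set.univ (fun _ : Fin n =>
        (((1 : Submodule O K).colon (Subalgebra.toSubmodule (integralClosure O K))) •
          (1 : Submodule O K)))) M' =
        (n : ℕ∞) * Module.length O
          (O ⧸ ((1 : Submodule O K).colon (Subalgebra.toSubmodule (integralClosure O K)))) := by
  classical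
  have hKD : Ring.KrullDimLE 1 O := Ring.krullDimLE_iff.mpr (by simp [hdim])
  set C : Ideal O := (1 : Submodule O K).colon (Subalgebra.toSubmodule (integralClosure O K))
    with hC
  set PO : Submodule O (Fin n → K) :=
    Submodule.pi Set.univ (fun _ : Fin n => (1 : Submodule O K)) with hPO
  set PC : Submodule O (Fin n → K) :=
    Submodule.pi Set.univ (fun _ : Fin n => C • (1 : Submodule O K)) with hPC
  set PB : Submodule O (Fin n → K) :=
    Submodule.pi Set.univ (fun _ : Fin n => Subalgebra.toSubmodule (integralClosure O K))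
    with hPB
  obtain ⟨M₁, h1lo, h1hi, ⟨e₁⟩⟩ := OneDim.exists_lattice O K hdim hfin M n hn
  obtain ⟨M₂, h2lo, h2hi, ⟨e₂⟩⟩ := GorLat.exists_lattice_gorenstein O hdim K hfin M n hn
  let φ : ↥M₁ ≃ₗ[O] ↥M₂ := e₁.symm.trans e₂
  have hPOPB : PO ≤ PB :=
    Submodule.pi_mono (fun i _ => Submodule.one_le.mpr (Subalgebra.one_mem _))
  -- a nonzero element of the conductor
  have hBfg : (Subalgebra.toSubmodule (integralClosure O K)).FG := by
    have : Module.Finite O ↥(Subalgebra.toSubmodule (integralClosure O K)) := hfin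
    exact Module.Finite.iff_fg.mp this
  obtain ⟨c₀, hc₀0, hc₀⟩ :=
    Canon.exists_denominator (Subalgebra.toSubmodule (integralClosure O K)) hBfg
  have hc₀C : c₀ ∈ C := by
    rw [hC, Submodule.mem_colon]
    intro x hx
    obtain ⟨r, hr⟩ := hc₀ x hx
    exact Submodule.mem_one.mpr ⟨r, hr⟩
  -- the K-linear extension
  obtain ⟨A, hA⟩ := lattice_map_matrix O K n M₁ M₂ h1lo (h2hi.trans hPOPB) φ.toLinearMap
  let h : (Fin n → K) →ₗ[K] (Fin n → K) :=
    Matrix.mulVecLin (A.map (algebraMap ↥(integralClosure O K) K))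
  have hφ : ∀ x : ↥M₁, ((φ x : ↥M₂) : Fin n → K) = h (x : Fin n → K) := fun x => hA x
  have hPOspan : Submodule.span K (PO : Set (Fin n → K)) = ⊤ := by
    rw [eq_top_iff, ← (Pi.basisFun K (Fin n)).span_eq]
    apply Submodule.span_mono
    rintro _ ⟨i, rfl⟩
    rw [Pi.basisFun_apply, SetLike.mem_coe, hPO, Submodule.mem_pi]
    intro j _
    rw [Pi.single_apply]
    split_ifs
    · exact Submodule.one_le.mp le_rfl
    · exact Submodule.zero_mem _
  have hinjh : Function.Injective h := by
    rw [injective_iff_map_eq_zero]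
    intro x hx
    obtain ⟨d, hd, hdx⟩ := LatticeDimOne.exists_smul_mem_of_span_eq_top (K := K) PO hPOspan x
    have hd0 : d ≠ 0 := nonZeroDivisors.ne_zero hd
    have hmem : d • x ∈ M₁ := h1lo hdx
    have h0 : φ ⟨d • x, hmem⟩ = 0 := by
      apply Subtype.ext
      rw [hφ]
      show h (d • x) = 0
      rw [← algebraMap_smul K d x, map_smul, hx, smul_zero]
    have h1 : (⟨d • x, hmem⟩ : ↥M₁) = 0 := φ.injective (by rw [h0, map_zero])
    have h2 : d • x = 0 := congrArg Subtype.val h1
    exact (smul_eq_zero.mp h2).resolve_left hd0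
  let hO : (Fin n → K) →ₗ[O] (Fin n → K) := h.restrictScalars O
  let hB : (Fin n → K) →ₗ[↥(integralClosure O K)] (Fin n → K) :=
    h.restrictScalars ↥(integralClosure O K)
  have hhO : ∀ x, hO x = h x := fun x => rfl
  have hhB : ∀ x, hB x = h x := fun x => rfl
  have hM₂ : M₁.map hO = M₂ := by
    ext y
    constructor
    · rintro ⟨x, hx, rfl⟩
      have := hφ ⟨x, hx⟩
      rw [hhO, ← this]
      exact (φ ⟨x, hx⟩).2
    · intro hy
      obtain ⟨x, hx⟩ := φ.surjective ⟨y, hy⟩
      refine ⟨x, x.2, ?_⟩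
      rw [hhO, ← hφ, hx]
  let P : Submodule ↥(integralClosure O K) (Fin n → K) := (lamB O K n).map hB
  have hPrs : P.restrictScalars O = PB.map hO := by
    ext y
    rw [Submodule.restrictScalars_mem, Submodule.mem_map, Submodule.mem_map]
    constructor
    · rintro ⟨x, hx, rfl⟩
      exact ⟨x, (mem_PB O K n x).mpr hx, rfl⟩
    · rintro ⟨x, hx, rfl⟩
      exact ⟨x, (mem_PB O K n x).mp hx, rfl⟩
  have hPle : P ≤ lamB O K n := by
    rintro _ ⟨x, hx, rfl⟩
    intro j
    rw [hhB]
    show (Matrix.mulVec (A.map (algebraMap ↥(integralClosure O K) K)) x) j ∈ integralClosure O K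
    rw [Matrix.mulVec, dotProduct]
    refine Subalgebra.sum_mem _ (fun i _ => Subalgebra.mul_mem _ ?_ (hx i))
    rw [Matrix.map_apply]
    exact (A j i).2
  have hlamrs : (lamB O K n).restrictScalars O = PB := lamB_restrictScalars O K n
  -- finiteness
  have hPBfg : PB.FG := Submodule.fg_pi (fun _ => hBfg)
  have hPCPB : PC ≤ PB := (h2lo.trans h2hi).trans hPOPB
  have hfinF : relLength PC PB ≠ ⊤ := by
    unfold relLength
    rw [Module.length_ne_top_iff]
    exact LatticeDimOne.isFiniteLength_quotient_of_smul_le hPBfg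
      (mem_nonZeroDivisors_of_ne_zero hc₀0)
      (fun x hx => smul_mem_PC O K n hc₀C ((mem_PB O K n x).mp hx))
  have hfin_of : ∀ {J I : Submodule O (Fin n → K)}, PC ≤ J → J ≤ I → I ≤ PB →
      relLength J I ≠ ⊤ := by
    intro J I h1 h2 h3 htop
    have := relLength_mono h1 h2 h3
    rw [htop, top_le_iff] at this
    exact hfinF this
  -- inclusions
  have hM₂P : M₂ ≤ P.restrictScalars O := by
    rw [hPrs, ← hM₂]
    exact Submodule.map_mono h1hi
  have hPPB : P.restrictScalars O ≤ PB := by
    rw [← hlamrs]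
    exact fun x hx => hPle hx
  -- the numbers
  obtain ⟨a, ha⟩ := ENat.ne_top_iff_exists.mp
    (hfin_of (J := PO) (I := M₁) (h2lo.trans h2hi) h1lo h1hi)
  obtain ⟨b, hb⟩ := ENat.ne_top_iff_exists.mp
    (hfin_of (J := M₁) (I := PB) ((h2lo.trans h2hi).trans h1lo) h1hi le_rfl)
  obtain ⟨j, hj⟩ := ENat.ne_top_iff_exists.mp
    (hfin_of (J := M₂) (I := PO) h2lo h2hi hPOPB)
  obtain ⟨N, hN⟩ := ENat.ne_top_iff_exists.mp
    (hfin_of (J := P.restrictScalars O) (I := PB) (h2lo.trans hM₂P) hPPB le_rfl)
  have hb' : relLength M₂ (P.restrictScalars O) = b := by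
    rw [hPrs, ← hM₂, relLength_map hO hinjh, ← hb]
  have eq1 : relLength PO PB = a + b := by
    rw [relLength_add PO M₁ PB h1lo h1hi, ← ha, ← hb]
  have eq2 : relLength M₂ PB = j + (a + b) := by
    rw [relLength_add M₂ PO PB h2hi hPOPB, ← hj, eq1]
  have eq3 : relLength M₂ PB = b + N := by
    rw [relLength_add M₂ (P.restrictScalars O) PB hM₂P hPPB, hb', ← hN]
  have hNja : N = j + a := by
    have : ((j + (a + b) : ℕ) : ℕ∞) = ((b + N : ℕ) : ℕ∞) := by
      push_cast
      rw [← eq2, ← eq3]
    have := ENat.coe_inj.mp this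
    omega
  -- the intermediate lattice
  have hfinP : relLength (P.restrictScalars O) ((lamB O K n).restrictScalars O) ≠ ⊤ := by
    rw [hlamrs, ← hN]
    exact ENat.coe_ne_top N
  obtain ⟨Λ, hPΛ, hΛle, hΛj⟩ := exists_between (O := O) (residue_surj O K) P (lamB O K n) hPle
    hfinP j (by rw [hlamrs, ← hN]; exact_mod_cast (by omega : j ≤ N))
  rw [hlamrs] at hΛj
  have hΛPB : Λ.restrictScalars O ≤ PB := by
    rw [← hlamrs]
    exact fun x hx => hΛle hx
  have hM₂Λ : M₂ ≤ Λ.restrictScalars O := hM₂P.trans (fun x hx => hPΛ hx)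
  obtain ⟨r, hr⟩ := ENat.ne_top_iff_exists.mp
    (hfin_of (J := M₂) (I := Λ.restrictScalars O) h2lo hM₂Λ hΛPB)
  have hrt : r = a + b := by
    have e4 : relLength M₂ PB = r + j := by
      rw [relLength_add M₂ (Λ.restrictScalars O) PB hM₂Λ hΛPB, ← hr, hΛj]
    have : ((r + j : ℕ) : ℕ∞) = ((j + (a + b) : ℕ) : ℕ∞) := by
      push_cast
      rw [← e4, ← eq2]
    have := ENat.coe_inj.mp this
    omega
  -- the automorphism
  have hIsNoeB : IsNoetherianRing ↥(integralClosure O K) :=
    (OneDim.isDedekindDomain_closure O K hdim hfin).toIsNoetherian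
  have hnoeth : IsNoetherian ↥(integralClosure O K) ↥(lamB O K n) :=
    isNoetherian_of_fg_of_noetherian _ (lamB_fg O K n)
  have hΛfg : Λ.FG := isNoetherian_submodule.mp hnoeth _ hΛle
  -- `Λ` spans
  have hΛsp : ⊤ ≤ Submodule.span K (Λ : Set (Fin n → K)) := by
    rw [← (Pi.basisFun K (Fin n)).span_eq]
    apply Submodule.span_le.mpr
    rintro _ ⟨i, rfl⟩
    rw [Pi.basisFun_apply]
    have hmem : c₀ • (Pi.single i (1 : K) : Fin n → K) ∈ Λ :=
      hM₂Λ (h2lo (smul_mem_PC O K n hc₀C (single_mem_lamB O K n i)))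
    have hcK : algebraMap O K c₀ ≠ 0 := by
      intro h0
      exact hc₀0 ((IsFractionRing.injective O K) (by rw [h0, map_zero]))
    have h3 : (Pi.single i (1 : K) : Fin n → K) =
        (algebraMap O K c₀)⁻¹ • (c₀ • (Pi.single i (1 : K) : Fin n → K)) := by
      rw [← algebraMap_smul K c₀, smul_smul, inv_mul_cancel₀ hcK, one_smul]
    rw [SetLike.mem_coe, h3]
    exact Submodule.smul_mem _ _ (Submodule.subset_span hmem)
  obtain ⟨g, hg⟩ := exists_equiv_of_lattice O K hdim hfin n Λ hΛfg hΛsp
  let gO : (Fin n → K) →ₗ[O] (Fin n → K) := g.toLinearMap.restrictScalars O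
  have hgO : ∀ x, gO x = g x := fun x => rfl
  have hginj : Function.Injective gO := g.injective
  have hΛmap : (Λ.restrictScalars O).map gO = PB := by
    ext w
    rw [Submodule.mem_map, ← hlamrs, Submodule.restrictScalars_mem]
    constructor
    · rintro ⟨y, hy, rfl⟩
      exact (hg y).mp hy
    · intro hw
      refine ⟨g.symm w, (hg _).mpr ?_, ?_⟩
      · rw [g.apply_symm_apply]; exact hw
      · rw [hgO, g.apply_symm_apply]
  let L : Submodule O (Fin n → K) := M₂.map gO
  have hLPB : L ≤ PB := by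
    rw [← hΛmap]
    exact Submodule.map_mono hM₂Λ
  have hPCL : PC ≤ L := by
    intro w hw
    have hw' : ∀ i, w i ∈ C • (1 : Submodule O K) := fun i =>
      (Submodule.mem_pi.mp hw) i (Set.mem_univ i)
    choose c hcC hc using fun i => exists_of_mem_conductor_smul_one O K (hw' i)
    have hwsum : w = ∑ i, c i • (Pi.single i (1 : K) : Fin n → K) := by
      funext j
      rw [Finset.sum_apply, Finset.sum_eq_single j]
      · rw [Pi.smul_apply, Pi.single_eq_same, Algebra.smul_def, mul_one, hc]
      · intro i _ hij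
        rw [Pi.smul_apply, Pi.single_eq_of_ne (Ne.symm hij), smul_zero]
      · intro h
        exact absurd (Finset.mem_univ j) h
    have hy : g.symm w ∈ M₂ := by
      apply h2lo
      rw [hwsum, map_sum]
      refine Submodule.sum_mem _ (fun i _ => ?_)
      have hbi : g.symm (Pi.single i (1 : K) : Fin n → K) ∈ Λ :=
        (hg _).mpr (by rw [g.apply_symm_apply]; exact single_mem_lamB O K n i)
      have h4 : g.symm (c i • (Pi.single i (1 : K) : Fin n → K)) =
          c i • g.symm (Pi.single i (1 : K) : Fin n → K) := by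
        rw [← algebraMap_smul K (c i), map_smul, algebraMap_smul]
      rw [h4]
      exact smul_mem_PC O K n (hcC i) ((mem_lamB O K n _).mp (hΛle hbi))
    exact ⟨g.symm w, hy, by rw [hgO, g.apply_symm_apply]⟩
  have hLt : relLength L PB = a + b := by
    rw [← hΛmap]
    show relLength (M₂.map gO) ((Λ.restrictScalars O).map gO) = _
    rw [relLength_map gO hginj, ← hr, hrt]
    push_cast
    rfl
  refine ⟨L, hPCL, hLPB, ⟨e₂.trans (Submodule.equivMapOfInjective gO hginj M₂)⟩, ?_⟩
  obtain ⟨s, hs⟩ := ENat.ne_top_iff_exists.mp (hfin_of (J := PC) (I := L) le_rfl hPCL hLPB)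
  obtain ⟨s', hs'⟩ := ENat.ne_top_iff_exists.mp
    (hfin_of (J := PC) (I := PO) le_rfl (h2lo.trans h2hi) hPOPB)
  have e5 : relLength PC PB = s + (a + b) := by
    rw [relLength_add PC L PB hPCL hLPB, ← hs, hLt]
  have e6 : relLength PC PB = s' + (a + b) := by
    rw [relLength_add PC PO PB (h2lo.trans h2hi) hPOPB, ← hs', eq1]
  have hss : s = s' := by
    have : ((s + (a + b) : ℕ) : ℕ∞) = ((s' + (a + b) : ℕ) : ℕ∞) := by
      push_cast
      rw [← e5, ← e6]
    have := ENat.coe_inj.mp this
    omega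
  rw [← hs, hss, hs']
  exact relLength_PC_PO O K n

end Groth.Agent.H73.TFLat
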