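import Mathlib
import Groth.Prelude.Def_QFDual
import Groth.Prelude.Def_EGA4b

/-!
helper73: traces of integral elements over a normal ring.

* `charpoly_dvd_pow`: over any commutative ring, if `P(M) = 0` then `charpoly M ∣ P ^ n`.
* `isIntegral_trace`: for a finite free algebra `L` over a commutative ring `K` (an `A`-algebra),
  the trace of an element integral over `A` is integral over `A`.
* `mem_range_of_isIntegral`: a normal ring is integrally closed in its total ring of fractions.
* `main`: S8961.
-/

set_option autoImplicit false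
set_option linter.style.haveILetI false
universe u

namespace Groth.Agent.H73.TraceNormal

open Polynomial

section Charpoly

variable {K : Type*} [CommRing K] {n : Type*} [Fintype n] [DecidableEq n]

/-- If `P(M) = 0` then the characteristic polynomial of `M` divides `P ^ n`. -/
theorem charpoly_dvd_pow (M : Matrix n n K) (P : K[X]) (hP : aeval M P = 0) :
    M.charpoly ∣ P ^ Fintype.card n := by
  -- in `K[X][Y]`, `C X - Y` divides `C P - P(Y)`
  have hdvd : (C (X : K[X]) - (X : K[X][X])) ∣ (C P - P.map (C : K →+* K[X])) := by
    have h := Polynomial.sub_dvd_eval_sub (C (X : K[X])) (X : K[X][X])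
      (P.map ((C : K[X] →+* K[X][X]).comp (C : K →+* K[X])))
    have e1 : (P.map ((C : K[X] →+* K[X][X]).comp (C : K →+* K[X]))).eval (C (X : K[X])) = C P := by
      rw [eval_map, ← Polynomial.hom_eval₂, Polynomial.eval₂_C_X]
    have e2 : (P.map ((C : K[X] →+* K[X][X]).comp (C : K →+* K[X]))).eval (X : K[X][X]) =
        P.map (C : K →+* K[X]) := by
      rw [← Polynomial.map_map, eval_map, Polynomial.eval₂_C_X]
    rwa [e1, e2] at h
  obtain ⟨E, hE⟩ := hdvd
  let N : Matrix n n K[X] := (C : K →+* K[X]).mapMatrix M
  have h1 : aeval N (C (X : K[X]) - (X : K[X][X])) = M.charmatrix := by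
    rw [map_sub, aeval_C, aeval_X, Matrix.charmatrix]
    rfl
  have h2 : aeval N (P.map (C : K →+* K[X])) = 0 := by
    have := Polynomial.map_aeval_eq_aeval_map (φ := (C : K →+* K[X]))
      (ψ := (C : K →+* K[X]).mapMatrix (m := n)) (by
        ext k i j
        simp [Matrix.algebraMap_matrix_apply, apply_ite]) P M
    rw [← this, hP, map_zero]
  have h3 : aeval N (C P - P.map (C : K →+* K[X])) = P • (1 : Matrix n n K[X]) := by
    rw [map_sub, h2, sub_zero, aeval_C, Algebra.algebraMap_eq_smul_one]
  rw [hE, map_mul, h1] at h3
  have h4 := congrArg Matrix.det h3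
  rw [Matrix.det_mul, Matrix.det_smul, Matrix.det_one, mul_one] at h4
  exact ⟨_, h4.symm⟩

end Charpoly

section Trace

variable (A K L : Type*) [CommRing A] [CommRing K] [CommRing L] [Algebra A K] [Algebra K L]
  [Algebra A L] [IsScalarTower A K L]

/-- The trace of an element integral over `A`, in a finite free `K`-algebra, is integral over
`A`. -/
theorem isIntegral_trace [Module.Free K L] [Module.Finite K L] (x : L) (hx : IsIntegral A x) :
    IsIntegral A (Algebra.trace K L x) := by
  classical
  let b := Module.Free.chooseBasis K L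
  haveI : Fintype (Module.Free.ChooseBasisIndex K L) := inferInstance
  rw [Algebra.trace_eq_matrix_trace b]
  rcases isEmpty_or_nonempty (Module.Free.ChooseBasisIndex K L) with he | hne
  · rw [Matrix.trace]
    simp [isIntegral_zero]
  obtain ⟨P, hPm, hPx⟩ := hx
  set M := Algebra.leftMulMatrix b x with hM
  have hPM : aeval M (P.map (algebraMap A K)) = 0 := by
    have h1 : aeval x (P.map (algebraMap A K)) = 0 := by
      rw [aeval_def, eval₂_map, ← IsScalarTower.algebraMap_eq]
      exact hPx
    rw [hM, Polynomial.aeval_algHom_apply, h1, map_zero]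
  have hdvd := charpoly_dvd_pow M _ hPM
  rw [← Polynomial.map_pow] at hdvd
  have hcoeff := Polynomial.isIntegral_coeff_of_dvd (P ^ Fintype.card (Module.Free.ChooseBasisIndex K L))
    M.charpoly (hPm.pow _) (Matrix.charpoly_monic M) hdvd
  rw [Matrix.trace_eq_neg_charpoly_coeff]
  exact (hcoeff _).neg

end Trace

section Normal

variable (A K : Type*) [CommRing A] [CommRing K] [Algebra A K]

/-- A ring all of whose localisations at primes are integrally closed domains is integrally closed
in its total ring of fractions. -/
theorem mem_range_of_isIntegral [IsFractionRing A K]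
    (hA : ∀ (p : Ideal A) [p.IsPrime],
      IsDomain (Localization.AtPrime p) ∧ IsIntegrallyClosed (Localization.AtPrime p))
    (t : K) (ht : IsIntegral A t) : t ∈ (algebraMap A K).range := by
  classical
  -- the denominator ideal
  let D : Ideal A :=
    { carrier := {a | algebraMap A K a * t ∈ (algebraMap A K).range}
      zero_mem' := by simp
      add_mem' := fun {a b} ha hb => by
        simp only [Set.mem_ofPred_eq, map_add, add_mul] at ha hb ⊢
        exact Subring.add_mem _ ha hb
      smul_mem' := fun c a ha => by
        simp only [Set.mem_ofPred_eq, smul_eq_mul, map_mul, mul_assoc] at ha ⊢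
        exact Subring.mul_mem _ ⟨c, rfl⟩ ha }
  suffices hD : D = ⊤ by
    have h1 : (1 : A) ∈ D := hD ▸ Submodule.mem_top
    have h2 : algebraMap A K 1 * t ∈ (algebraMap A K).range := h1
    simpa using h2
  by_contra hD
  obtain ⟨p, hpmax, hDp⟩ := Ideal.exists_le_maximal D hD
  haveI : p.IsPrime := hpmax.isPrime
  obtain ⟨hdom, hic⟩ := hA p
  let Ap := Localization.AtPrime p
  let F := FractionRing Ap
  -- the map `K → Frac(A_p)`
  have hunit : ∀ s : nonZeroDivisors A, IsUnit (algebraMap A F s) := by
    intro s
    have h1 : algebraMap A Ap s ∈ nonZeroDivisors Ap :=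
      IsLocalization.map_nonZeroDivisors_le p.primeCompl Ap ⟨s, s.2, rfl⟩
    have h2 : algebraMap A Ap s ≠ 0 := nonZeroDivisors.ne_zero h1
    rw [IsScalarTower.algebraMap_apply A Ap F]
    exact IsUnit.mk0 _ ((map_ne_zero_iff _ (IsFractionRing.injective Ap F)).mpr h2)
  let φ : K →ₐ[A] F := IsLocalization.liftAlgHom (M := nonZeroDivisors A)
    (f := Algebra.ofId A F) hunit
  have hφt : IsIntegral Ap (φ t) := (ht.map φ).tower_top
  obtain ⟨y, hy⟩ := IsIntegrallyClosed.isIntegral_iff.mp hφt
  obtain ⟨a, u, rfl⟩ := IsLocalization.exists_mk'_eq p.primeCompl y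
  obtain ⟨c, s, rfl⟩ := IsLocalization.exists_mk'_eq (nonZeroDivisors A) t
  -- compare in `F`
  have h3 : algebraMap A F (u * c) = algebraMap A F (a * s) := by
    have e1 : φ (IsLocalization.mk' K c s) * algebraMap A F s = algebraMap A F c := by
      have := congrArg φ (IsLocalization.mk'_spec K c s)
      rw [map_mul, AlgHom.commutes, AlgHom.commutes] at this
      exact this
    have e2 : algebraMap Ap F (IsLocalization.mk' Ap a u) * algebraMap A F u = algebraMap A F a := by
      have := congrArg (algebraMap Ap F) (IsLocalization.mk'_spec Ap a u)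
      rw [map_mul, ← IsScalarTower.algebraMap_apply, ← IsScalarTower.algebraMap_apply] at this
      exact this
    rw [map_mul, map_mul, ← e1, ← e2, hy]
    ring
  have h4 : algebraMap A Ap (u * c) = algebraMap A Ap (a * s) := by
    apply IsFractionRing.injective Ap F
    rw [← IsScalarTower.algebraMap_apply, ← IsScalarTower.algebraMap_apply]
    exact h3
  obtain ⟨w, hw⟩ := (IsLocalization.eq_iff_exists p.primeCompl Ap).mp h4
  -- `w * u ∈ D`
  have hmem : (w : A) * u ∈ D := by
    show algebraMap A K ((w : A) * u) * IsLocalization.mk' K c s ∈ (algebraMap A K).range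
    refine ⟨(w : A) * a, ?_⟩
    have hsu : IsUnit (algebraMap A K s) := IsLocalization.map_units K s
    apply hsu.mul_right_cancel
    rw [mul_assoc, IsLocalization.mk'_spec, ← map_mul, ← map_mul]
    congr 1
    calc (w : A) * a * s = w * (a * s) := by ring
      _ = w * (u * c) := hw.symm
      _ = w * u * c := by ring
  have : (w : A) * u ∈ p := hDp hmem
  rcases Ideal.IsPrime.mem_or_mem ‹p.IsPrime› this with h | h
  · exact w.2 h
  · exact u.2 h

end Normal

theorem main (A K B L : Type u) [CommRing A] [CommRing K] [CommRing B] [CommRing L] [Algebra A K]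
    [Algebra A B] [Algebra B L] [Algebra K L] [Algebra A L] [IsScalarTower A K L]
    [IsScalarTower A B L] (h : QFDual.IsDedekindDefined A K B L) (hA : EGA4.IsNormalRing A) :
    (1 : L) ∈ QFDual.complementary A K B L := by
  intro b
  rw [one_mul]
  haveI := h.isFractionRing
  haveI := h.finite
  haveI := h.free
  haveI := h.finiteKL
  have hb : IsIntegral A (algebraMap B L b) :=
    (Algebra.IsIntegral.isIntegral (R := A) b).algebraMap
  exact mem_range_of_isIntegral A K (fun p _ => hA p) _ (isIntegral_trace A K L _ hb)

end Groth.Agent.H73.TraceNormal
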