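import Mathlib.RingTheory.AdjoinRoot
import Mathlib.RingTheory.Nilpotent.Basic

set_option autoImplicit false
set_option linter.unusedSectionVars false

namespace Groth.Agent.H73
namespace TruncSubalg

variable {k : Type*} [Field k] [CharZero k] {R : Type*} [CommRing R] [Algebra k R]
  (u : R) (N : ℕ)

section

variable (hdecomp : ∀ x : R, ∃ (c : k) (y : R), x = algebraMap k R c + u * y)
  (σ : R →ₐ[k] R) (hσ : σ u * (1 + u) = u)

include hσ in
lemma sigma_u : σ u = u * (1 - σ u) := by linear_combination hσ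

include hσ in
lemma t_sub_one : (1 - σ u) - 1 = -(u * (1 - σ u)) := by linear_combination -hσ

include hσ in
lemma u_dvd_t_pow_sub_one (m : ℕ) : u ∣ (1 - σ u) ^ m - 1 := by
  have h1 : (1 - σ u) - 1 ∣ (1 - σ u) ^ m - 1 := by
    simpa using sub_dvd_pow_sub_pow (1 - σ u) 1 m
  refine dvd_trans ?_ h1
  rw [t_sub_one u σ hσ]
  exact (dvd_mul_right u _).neg_right

include hdecomp hσ in
lemma lemA (h : R) : u ∣ σ h - h := by
  obtain ⟨c, y, rfl⟩ := hdecomp h
  refine ⟨(1 - σ u) * σ y - y, ?_⟩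
  have := sigma_u u σ hσ
  simp only [map_add, map_mul, AlgHom.commutes]
  linear_combination (σ y) * this

include hdecomp hσ in
lemma lemB (m : ℕ) (x : R) (hx : u ^ m ∣ x) : u ^ (m + 1) ∣ σ x - x := by
  obtain ⟨h, rfl⟩ := hx
  obtain ⟨a, ha⟩ := u_dvd_t_pow_sub_one u σ hσ m
  obtain ⟨b, hb⟩ := lemA u hdecomp σ hσ h
  refine ⟨a * σ h + b, ?_⟩
  have hsu := sigma_u u σ hσ
  have e1 : σ (u ^ m * h) = u ^ m * (1 - σ u) ^ m * σ h := by
    rw [map_mul, map_pow, ← mul_pow, ← hsu]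
  rw [e1, pow_succ]
  linear_combination (u ^ m * σ h) * ha + (u ^ m) * hb

include hσ in
lemma lemC' (m : ℕ) : u ^ 2 ∣ (1 - σ u) ^ m - 1 + (m : R) * u := by
  induction m with
  | zero => simp
  | succ m ih =>
    obtain ⟨a, ha⟩ := ih
    refine ⟨(1 - σ u) * a + (1 - σ u) * (1 + (m : R)), ?_⟩
    have ht := t_sub_one u σ hσ
    push_cast
    rw [pow_succ]
    linear_combination (1 - σ u) * ha + (1 - ((m : R) + 1) * u) * ht

include hσ in
lemma lemC (m : ℕ) : u ^ (m + 2) ∣ σ (u ^ m) - u ^ m + (m : R) * u ^ (m + 1) := by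
  obtain ⟨a, ha⟩ := lemC' u σ hσ m
  refine ⟨a, ?_⟩
  have hsu := sigma_u u σ hσ
  have e1 : σ (u ^ m) = u ^ m * (1 - σ u) ^ m := by
    rw [map_pow, ← mul_pow, ← hsu]
  rw [e1, pow_add, pow_succ]
  linear_combination (u ^ m) * ha

end

section

variable (hu : u ^ (N + 1) = 0) (hN : u ^ N ≠ 0)

include hu hN in
lemma lemE (j : ℕ) (hj : j ≤ N) : ¬ u ^ (j + 1) ∣ u ^ j := by
  rintro ⟨g, hg⟩
  have hnil : IsNilpotent (u * g) := ⟨N + 1, by rw [mul_pow, hu, zero_mul]⟩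
  have hunit : IsUnit (1 - u * g) := hnil.isUnit_one_sub
  have h0 : u ^ j * (1 - u * g) = 0 := by
    rw [pow_succ] at hg
    linear_combination hg
  have hj0 : u ^ j = 0 := (hunit.mul_left_eq_zero).mp h0
  apply hN
  rw [← Nat.sub_add_cancel hj, pow_add, hj0, mul_zero]

variable (hdecomp : ∀ x : R, ∃ (c : k) (y : R), x = algebraMap k R c + u * y)
  (σ : R →ₐ[k] R) (hσ : σ u * (1 + u) = u)

include hu hN hdecomp hσ in
lemma lemD (m : ℕ) (hm1 : 1 ≤ m) (hmN : m + 1 ≤ N) (x : R) (hx : u ^ m ∣ x)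
    (hx' : ¬ u ^ (m + 1) ∣ x) : ¬ u ^ (m + 2) ∣ σ x - x := by
  obtain ⟨h, rfl⟩ := hx
  obtain ⟨c, y, rfl⟩ := hdecomp h
  have hc : c ≠ 0 := by
    rintro rfl
    apply hx'
    refine ⟨y, ?_⟩
    rw [map_zero, zero_add, pow_succ]
    ring
  intro hdiv
  have hB := lemB u hdecomp σ hσ (m + 1) (u ^ (m + 1) * y) (dvd_mul_right _ _)
  have hC := lemC u σ hσ m
  have hcm : c * (m : k) ≠ 0 :=
    mul_ne_zero hc (Nat.cast_ne_zero.mpr (by omega))
  apply lemE u N hu hN (m + 1) hmN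
  obtain ⟨a1, h1⟩ := hdiv
  obtain ⟨a2, h2⟩ := hB
  obtain ⟨a3, h3⟩ := hC
  refine ⟨algebraMap k R (c * (m : k))⁻¹ * (algebraMap k R c * a3 - a1 + a2), ?_⟩
  have hinv : algebraMap k R (c * (m : k))⁻¹ * (algebraMap k R c * (m : R)) = 1 := by
    rw [← map_natCast (algebraMap k R) m, ← map_mul, ← map_mul, inv_mul_cancel₀ hcm, map_one]
  have e : σ (u ^ m * (algebraMap k R c + u * y)) - u ^ m * (algebraMap k R c + u * y) =
      algebraMap k R c * (σ (u ^ m) - u ^ m) +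
        (σ (u ^ (m + 1) * y) - u ^ (m + 1) * y) := by
    simp only [map_add, map_mul, map_pow, AlgHom.commutes]
    ring
  rw [e] at h1
  have hsum : m + 1 + 1 = m + 2 := rfl
  rw [hsum] at h2 ⊢
  linear_combination (-(u ^ (m + 1))) * hinv +
    (algebraMap k R (c * (m : k))⁻¹) * (algebraMap k R c * h3 - h1 + h2)

include hdecomp in
lemma lemF (j : ℕ) (x z : R) (hx : u ^ j ∣ x) (hx' : ¬ u ^ (j + 1) ∣ x) (hz : u ^ j ∣ z) :
    ∃ d : k, u ^ (j + 1) ∣ z - algebraMap k R d * x := by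
  obtain ⟨h, rfl⟩ := hx
  obtain ⟨h', rfl⟩ := hz
  obtain ⟨c, y, rfl⟩ := hdecomp h
  obtain ⟨c', y', rfl⟩ := hdecomp h'
  have hc : c ≠ 0 := by
    rintro rfl
    apply hx'
    refine ⟨y, ?_⟩
    rw [map_zero, zero_add, pow_succ]
    ring
  refine ⟨c' / c, y' - algebraMap k R (c' / c) * y, ?_⟩
  have hdc : algebraMap k R (c' / c) * algebraMap k R c = algebraMap k R c' := by
    rw [← map_mul, div_mul_cancel₀ _ hc]
  rw [pow_succ]
  linear_combination (-(u ^ j)) * hdc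

/-- Membership predicate for `k ⊕ (u^n)`. -/
def Q (n : ℕ) (x : R) : Prop := ∃ c : k, u ^ n ∣ x - algebraMap k R c

lemma mem_iff (n : ℕ) (x : R) :
    x ∈ Submodule.span k {(1 : R)} ⊔ (Ideal.span {u ^ n}).restrictScalars k ↔ Q (k := k) u n x := by
  rw [Submodule.mem_sup]
  constructor
  · rintro ⟨y, hy, z, hz, rfl⟩
    obtain ⟨c, rfl⟩ := Submodule.mem_span_singleton.mp hy
    rw [Submodule.restrictScalars_mem, Ideal.mem_span_singleton] at hz
    refine ⟨c, ?_⟩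
    rw [Algebra.algebraMap_eq_smul_one]
    simpa using hz
  · rintro ⟨c, hc⟩
    refine ⟨algebraMap k R c, ?_, x - algebraMap k R c, ?_, by ring⟩
    · rw [Algebra.algebraMap_eq_smul_one]
      exact Submodule.smul_mem _ _ (Submodule.subset_span rfl)
    · rw [Submodule.restrictScalars_mem, Ideal.mem_span_singleton]
      exact hc

include hu hN hdecomp hσ in
theorem main (A : Subalgebra k R) (hA : ∀ x ∈ A, σ x ∈ A) :
    ∃ n : ℕ, 1 ≤ n ∧ n ≤ N + 1 ∧
      Subalgebra.toSubmodule A =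
        Submodule.span k {(1 : R)} ⊔ (Ideal.span {u ^ n}).restrictScalars k := by
  classical
  let P : ℕ → Prop := fun m => ∀ x ∈ A, Q (k := k) u m x
  have hP1 : P 1 := by
    intro x _
    obtain ⟨c, y, rfl⟩ := hdecomp x
    exact ⟨c, y, by ring⟩
  set n := Nat.findGreatest P (N + 1) with hn
  have hPn : P n := Nat.findGreatest_spec (P := P) (m := 1) (by omega) hP1
  have hn1 : 1 ≤ n := Nat.le_findGreatest (by omega) hP1
  have hnN : n ≤ N + 1 := Nat.findGreatest_le (N + 1)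
  refine ⟨n, hn1, hnN, ?_⟩
  suffices hsuff : ∀ z, u ^ n ∣ z → z ∈ A by
    ext x
    rw [mem_iff, Subalgebra.mem_toSubmodule]
    constructor
    · exact fun hx => hPn x hx
    · rintro ⟨c, hc⟩
      have := A.add_mem (hsuff _ hc) (A.algebraMap_mem c)
      simpa using this
  rcases Nat.lt_or_ge N n with hlt | hle
  · -- n = N + 1
    have : n = N + 1 := by omega
    intro z hz
    rw [this, hu, zero_dvd_iff] at hz
    rw [hz]
    exact A.zero_mem
  · -- n ≤ N
    have hnP : ¬ P (n + 1) :=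
      Nat.findGreatest_is_greatest (P := P) (n := N + 1) (k := n + 1) (by omega) (by omega)
    obtain ⟨f, hfA, hf⟩ : ∃ f ∈ A, ¬ Q (k := k) u (n + 1) f := by
      by_contra hcon
      push Not at hcon
      exact hnP hcon
    obtain ⟨c, hc⟩ := hPn f hfA
    have hgA : f - algebraMap k R c ∈ A := A.sub_mem hfA (A.algebraMap_mem c)
    have hg' : ¬ u ^ (n + 1) ∣ f - algebraMap k R c := fun h => hf ⟨c, h⟩
    have seq : ∀ j, n + j ≤ N → ∃ x ∈ A, u ^ (n + j) ∣ x ∧ ¬ u ^ (n + j + 1) ∣ x := by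
      intro j
      induction j with
      | zero => exact fun _ => ⟨_, hgA, hc, hg'⟩
      | succ j ih =>
        intro hj
        obtain ⟨x, hxA, hx, hx'⟩ := ih (by omega)
        refine ⟨σ x - x, A.sub_mem (hA x hxA) hxA, ?_, ?_⟩
        · exact lemB u hdecomp σ hσ (n + j) x hx
        · exact lemD u N hu hN hdecomp σ hσ (n + j) (by omega) (by omega) x hx hx'
    have desc : ∀ i, i ≤ N + 1 - n → ∀ z, u ^ (N + 1 - i) ∣ z → z ∈ A := by
      intro i
      induction i with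
      | zero =>
        intro _ z hz
        rw [Nat.sub_zero, hu, zero_dvd_iff] at hz
        rw [hz]
        exact A.zero_mem
      | succ i ih =>
        intro hi z hz
        obtain ⟨x, hxA, hx, hx'⟩ := seq (N - i - n) (by omega)
        have e1 : n + (N - i - n) = N + 1 - (i + 1) := by omega
        have e2 : N + 1 - (i + 1) + 1 = N + 1 - i := by omega
        rw [e1] at hx hx'
        obtain ⟨d, hd⟩ := lemF u hdecomp (N + 1 - (i + 1)) x z hx hx' hz
        rw [e2] at hd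
        have h1 : z - algebraMap k R d * x ∈ A := ih (by omega) _ hd
        have h2 : algebraMap k R d * x ∈ A := A.mul_mem (A.algebraMap_mem d) hxA
        have := A.add_mem h1 h2
        simpa using this
    intro z hz
    refine desc (N + 1 - n) le_rfl z ?_
    have : N + 1 - (N + 1 - n) = n := by omega
    rw [this]
    exact hz

end

section AdjoinRootInst

open Polynomial

variable (k : Type*) [Field k] (N : ℕ)

lemma root_pow : (AdjoinRoot.root ((X : k[X]) ^ (N + 1))) ^ (N + 1) = 0 := by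
  have h1 : AdjoinRoot.mk ((X : k[X]) ^ (N + 1)) ((X : k[X]) ^ (N + 1)) = 0 := AdjoinRoot.mk_self
  rw [map_pow, AdjoinRoot.mk_X] at h1
  exact h1

lemma root_pow_ne : (AdjoinRoot.root ((X : k[X]) ^ (N + 1))) ^ N ≠ 0 := by
  intro h0
  have h1 : AdjoinRoot.mk ((X : k[X]) ^ (N + 1)) (X ^ N) = 0 := by
    rw [map_pow, AdjoinRoot.mk_X]
    exact h0
  rw [AdjoinRoot.mk_eq_zero] at h1
  have h2 := Polynomial.natDegree_le_of_dvd h1 (pow_ne_zero N Polynomial.X_ne_zero)
  rw [Polynomial.natDegree_X_pow, Polynomial.natDegree_X_pow] at h2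
  omega

lemma root_decomp (x : AdjoinRoot ((X : k[X]) ^ (N + 1))) :
    ∃ (c : k) (y : AdjoinRoot ((X : k[X]) ^ (N + 1))),
      x = algebraMap k (AdjoinRoot ((X : k[X]) ^ (N + 1))) c +
        AdjoinRoot.root ((X : k[X]) ^ (N + 1)) * y := by
  obtain ⟨q, rfl⟩ := AdjoinRoot.mk_surjective x
  refine ⟨q.coeff 0, AdjoinRoot.mk _ q.divX, ?_⟩
  conv_lhs => rw [← Polynomial.divX_mul_X_add q]
  rw [map_add, map_mul, AdjoinRoot.mk_X, AdjoinRoot.mk_C, AdjoinRoot.algebraMap_eq]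
  ring

lemma exists_sigma : ∃ σ : AdjoinRoot ((X : k[X]) ^ (N + 1)) →ₐ[k] AdjoinRoot ((X : k[X]) ^ (N + 1)),
    σ (AdjoinRoot.root ((X : k[X]) ^ (N + 1))) * (1 + AdjoinRoot.root ((X : k[X]) ^ (N + 1))) =
      AdjoinRoot.root ((X : k[X]) ^ (N + 1)) := by
  have hu := root_pow k N
  have hnil : IsNilpotent (AdjoinRoot.root ((X : k[X]) ^ (N + 1))) := ⟨N + 1, hu⟩
  obtain ⟨w, hw⟩ := hnil.isUnit_one_add
  have hw' : ((w⁻¹ : (AdjoinRoot ((X : k[X]) ^ (N + 1)))ˣ) : AdjoinRoot ((X : k[X]) ^ (N + 1))) *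
      (1 + AdjoinRoot.root ((X : k[X]) ^ (N + 1))) = 1 := by
    rw [← hw]
    exact Units.inv_mul w
  refine ⟨AdjoinRoot.liftAlgHom _ (Algebra.ofId k _)
    (AdjoinRoot.root ((X : k[X]) ^ (N + 1)) * ((w⁻¹ : (AdjoinRoot ((X : k[X]) ^ (N + 1)))ˣ) :
      AdjoinRoot ((X : k[X]) ^ (N + 1)))) ?_, ?_⟩
  · rw [Polynomial.eval₂_pow, Polynomial.eval₂_X, mul_pow, hu, zero_mul]
  · rw [AdjoinRoot.liftAlgHom_root, mul_assoc, hw', mul_one]

end AdjoinRootInst

end TruncSubalg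
end Groth.Agent.H73
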