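import Groth.Agent.H73.QcClosed
import Groth.Agent.H73.ValSpec
import Groth.Prelude.Def_SGA1

set_option autoImplicit false

universe u

namespace Groth.Agent.H73

open CategoryTheory CategoryTheory.Limits AlgebraicGeometry IsLocalRing

theorem univSubmersive_iff_valuationRing {X Y : Scheme.{u}} (f : X ⟶ Y) [QuasiCompact f] :
    SGA1.UnivSubmersive f ↔
      ∀ (V : Type u) [CommRing V] [IsDomain V] [ValuationRing V] (g : Spec (CommRingCat.of V) ⟶ Y),
        Topology.IsQuotientMap (pullback.snd f g) := by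
  constructor
  · intro H V _ _ _ g
    exact H _ _ _ (IsPullback.of_hasPullback f g).flip
  · intro H X' Y' i₁ i₂ f' hsq
    show Topology.IsQuotientMap f'
    have hqc : QuasiCompact f' := MorphismProperty.of_isPullback hsq.flip inferInstance
    -- the comparison map
    have key : ∀ (V : Type u) [CommRing V] [IsDomain V] [ValuationRing V]
        (g₁ : Spec (CommRingCat.of V) ⟶ Y'),
        ∃ c : pullback f (g₁ ≫ i₂) ⟶ X', c ≫ f' = pullback.snd f (g₁ ≫ i₂) ≫ g₁ := by
      intro V _ _ _ g₁
      refine ⟨hsq.lift (pullback.snd f (g₁ ≫ i₂) ≫ g₁) (pullback.fst f (g₁ ≫ i₂)) ?_, ?_⟩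
      · rw [Category.assoc, pullback.condition]
      · exact hsq.lift_fst _ _ _
    -- surjectivity
    have hsurj : Function.Surjective f' := by
      intro y
      obtain ⟨c, hc⟩ := @key (Y'.residueField y) Field.toCommRing inferInstance inferInstance
        (Y'.fromSpecResidueField y)
      have hq := @H (Y'.residueField y) Field.toCommRing inferInstance inferInstance
        (Y'.fromSpecResidueField y ≫ i₂)
      obtain ⟨z, hz⟩ := hq.surjective (closedPoint (Y'.residueField y))
      refine ⟨c z, ?_⟩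
      rw [← Scheme.Hom.comp_apply, hc, Scheme.Hom.comp_apply, hz,
        Scheme.fromSpecResidueField_apply]
    refine Topology.isQuotientMap_iff_isClosed.mpr ⟨hsurj, fun Z =>
      ⟨fun h => h.preimage f'.continuous, fun h => ?_⟩⟩
    have hZ : f' '' (f' ⁻¹' Z) = Z := Set.image_preimage_eq Z hsurj
    rw [← hZ]
    refine isClosed_image_of_stableUnderSpecialization f' _ h ?_
    rw [hZ]
    intro z' z hzz' hz'
    obtain ⟨V, _, _, _, g₁, hg₁, hg₁'⟩ := exists_valuationRing_of_specializes hzz'
    obtain ⟨c, hc⟩ := key V g₁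
    have hq := H V (g₁ ≫ i₂)
    have hT : IsClosed (g₁ ⁻¹' Z) := by
      rw [← hq.isClosed_preimage]
      have : (pullback.snd f (g₁ ≫ i₂)) ⁻¹' (g₁ ⁻¹' Z) = c ⁻¹' (f' ⁻¹' Z) := by
        rw [← Set.preimage_comp, ← Set.preimage_comp, ← TopCat.coe_comp, ← TopCat.coe_comp,
          ← Scheme.Hom.comp_base, ← Scheme.Hom.comp_base, hc]
      rw [this]
      exact h.preimage c.continuous
    have hη : (⟨⊥, Ideal.isPrime_bot⟩ : PrimeSpectrum V) ∈ g₁ ⁻¹' Z := by
      show g₁ _ ∈ Z
      rw [hg₁']
      exact hz'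
    have hs : closedPoint V ∈ g₁ ⁻¹' Z :=
      (bot_specializes_closedPoint V).mem_closed hT hη
    have : g₁ (closedPoint V) ∈ Z := hs
    rwa [hg₁] at this

end Groth.Agent.H73
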